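import Cfsg.Prelude.Def_CaseTheorems
import Cfsg.Agent.Lib.Involutions.Dihedral
import Mathlib.GroupTheory.PGroup
import Mathlib.GroupTheory.Nilpotent
import Mathlib.GroupTheory.SpecificGroups.Cyclic

/-!
2-groups with an involution whose centralizer has order four: they have a cyclic subgroup of
index two and are dihedral or semidihedral.
-/

set_option autoImplicit false
set_option linter.style.haveILetI false

namespace Cfsg.Agent.CentFour

universe u

/-- Square roots of one modulo powers of two. -/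
theorem modEq_of_sq_modEq_one {m : ℕ} (hm : 2 ≤ m) {i : ℤ} (h : (2 : ℤ) ^ m ∣ i * i - 1) :
    (2 : ℤ) ^ (m - 1) ∣ i - 1 ∨ (2 : ℤ) ^ (m - 1) ∣ i + 1 := by
  have h2 : (2 : ℤ) ∣ i * i - 1 := (dvd_pow_self 2 (by omega)).trans h
  rcases Int.even_or_odd' i with ⟨k, hk | hk⟩
  · exfalso
    obtain ⟨c, hc⟩ := h2
    subst hk
    have e : (1 : ℤ) = 2 * (2 * (k * k) - c) := by linear_combination -hc
    have h3 : (2 : ℤ) ∣ 1 := ⟨_, e⟩
    omega
  · have hpow : (2 : ℤ) ^ m = 2 * (2 : ℤ) ^ (m - 1) := by
      rw [← pow_succ']; congr 1; omega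
    have he : i * i - 1 = 2 * (k * (2 * (k + 1))) := by rw [hk]; ring
    rw [hpow, he] at h
    have h' : (2 : ℤ) ^ (m - 1) ∣ k * (2 * (k + 1)) := (mul_dvd_mul_iff_left (by norm_num)).1 h
    rcases Int.even_or_odd k with hke | hko
    · left
      have hco : IsCoprime ((2 : ℤ) ^ (m - 1)) (k + 1) := by
        obtain ⟨l, hl⟩ := hke
        exact IsCoprime.pow_left ⟨-l, 1, by rw [hl]; ring⟩
      rw [← mul_assoc] at h'
      rw [show i - 1 = k * 2 by rw [hk]; ring]
      exact hco.dvd_of_dvd_mul_right h'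
    · right
      have hco : IsCoprime ((2 : ℤ) ^ (m - 1)) k := by
        obtain ⟨l, hl⟩ := hko
        exact IsCoprime.pow_left ⟨-l, 1, by rw [hl]; ring⟩
      rw [show i + 1 = 2 * (k + 1) by rw [hk]; ring]
      exact hco.dvd_of_dvd_mul_left h'

variable {S : Type u} [Group S] [Finite S]

theorem exists_central_involution (hS : IsPGroup 2 S) [Nontrivial S] :
    ∃ z ∈ Subgroup.center S, orderOf z = 2 := by
  haveI : Fact (Nat.Prime 2) := ⟨Nat.prime_two⟩
  haveI := hS.center_nontrivial
  obtain ⟨n, hn0, hn⟩ := (IsPGroup.nontrivial_iff_card (hS.to_subgroup (Subgroup.center S))).1 inferInstance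
  obtain ⟨c, hc⟩ := exists_prime_orderOf_dvd_card' (G := ↥(Subgroup.center S)) 2
    (hn ▸ dvd_pow_self 2 hn0.ne')
  exact ⟨c, c.2, by rw [Subgroup.orderOf_coe, hc]⟩

/-- The centralizer is `{1, x, z, xz}`. -/
theorem mem_centralizer_iff {x z : S} (hx : orderOf x = 2) (hz : z ∈ Subgroup.center S)
    (hzo : orderOf z = 2) (hne : x ≠ z)
    (hC : Nat.card ↥(Subgroup.centralizer ({x} : Set S)) = 4) (s : S) :
    s * x = x * s ↔ (s = 1 ∨ s = x ∨ s = z ∨ s = x * z) := by
  have hx1 : x ≠ 1 := fun h => by rw [h, orderOf_one] at hx; norm_num at hx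
  have hz1 : z ≠ 1 := fun h => by rw [h, orderOf_one] at hzo; norm_num at hzo
  have hxz : x * z ≠ 1 := fun h => hne (by
    rw [mul_eq_one_iff_eq_inv] at h
    rw [h, inv_eq_of_mul_eq_one_right (by rw [← pow_two, ← hzo, pow_orderOf_eq_one])])
  constructor
  · intro hs
    classical
    haveI := Fintype.ofFinite S
    let T : Finset S := {1, x, z, x * z}
    have hT : T.card = 4 := by
      simp [T, Finset.card_insert_of_notMem, hx1.symm, hz1.symm, hxz.symm, hne, hz1, hx1]
    have hsub : T ⊆ (Subgroup.centralizer ({x} : Set S) : Set S).toFinset := by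
      intro t ht
      simp only [T, Finset.mem_insert, Finset.mem_singleton] at ht
      rw [Set.mem_toFinset, SetLike.mem_coe, Subgroup.mem_centralizer_singleton_iff]
      rcases ht with rfl | rfl | rfl | rfl
      · simp
      · rfl
      · exact (Subgroup.mem_center_iff.1 hz x).symm
      · rw [mul_assoc, ← Subgroup.mem_center_iff.1 hz x]
    have heq := Finset.eq_of_subset_of_card_le hsub (by
      rw [hT, Set.toFinset_card, Fintype.card_eq_nat_card]; exact hC.le)
    have : s ∈ T := by
      rw [heq, Set.mem_toFinset, SetLike.mem_coe, Subgroup.mem_centralizer_singleton_iff]; exact hs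
    simpa [T] using this
  · rintro (rfl | rfl | rfl | rfl)
    · simp
    · rfl
    · exact (Subgroup.mem_center_iff.1 hz x).symm
    · rw [mul_assoc, ← Subgroup.mem_center_iff.1 hz x]

theorem not_mem_center {x : S} (hC : Nat.card ↥(Subgroup.centralizer ({x} : Set S)) = 4)
    (h8 : 8 ≤ Nat.card S) : x ∉ Subgroup.center S := by
  intro h
  have : Subgroup.centralizer ({x} : Set S) = ⊤ := by
    rw [eq_top_iff]; intro s _
    rw [Subgroup.mem_centralizer_singleton_iff]; exact Subgroup.mem_center_iff.1 h s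
  rw [this, Subgroup.card_top] at hC
  omega

/-- Main structural fact. -/
theorem exists_cyclic_index_two : ∀ (S : Type u) [Group S] [Finite S], IsPGroup 2 S →
    ∀ x : S, orderOf x = 2 → Nat.card ↥(Subgroup.centralizer ({x} : Set S)) = 4 →
      8 ≤ Nat.card S → ∃ a : S, (Subgroup.zpowers a).index = 2 := by
  intro S
  intro _ _
  induction hc : Nat.card S using Nat.strong_induction_on generalizing S with
  | _ N ih =>
  intro hS x hx hC h8
  haveI : Fact (Nat.Prime 2) := ⟨Nat.prime_two⟩
  haveI : Nontrivial S := Finite.one_lt_card_iff_nontrivial.1 (by omega)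
  obtain ⟨z, hz, hzo⟩ := exists_central_involution hS
  have hne : x ≠ z := fun h => not_mem_center hC (hc ▸ h8) (h ▸ hz)
  have hC' := mem_centralizer_iff hx hz hzo hne hC
  obtain ⟨k, hk⟩ := IsPGroup.iff_card.1 hS
  by_cases h16 : N = 8
  · -- a non-abelian group of order eight
    subst h16
    by_cases hexp : ∀ s : S, s * s = 1
    · exfalso
      refine not_mem_center hC (by omega) (Subgroup.mem_center_iff.2 fun g => ?_)
      calc g * x = g * (g * x * (g * x)) * x := by rw [hexp (g * x), mul_one]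
        _ = (g * g) * (x * g) * (x * x) := by group
        _ = x * g := by rw [hexp g, hexp x, one_mul, mul_one]
    · push Not at hexp
      obtain ⟨a, ha⟩ := hexp
      refine ⟨a, ?_⟩
      obtain ⟨j, hj, hja⟩ := (Nat.dvd_prime_pow Nat.prime_two).1
        (show orderOf a ∣ 2 ^ 3 by rw [show 2 ^ 3 = Nat.card S by rw [hc]; norm_num]; exact orderOf_dvd_natCard a)
      have hj2 : j = 2 := by
        interval_cases j
        · simp [orderOf_eq_one_iff.1 hja] at ha
        · exfalso; exact ha (by rw [← pow_two, show (2 : ℕ) = orderOf a by rw [hja, pow_one], pow_orderOf_eq_one])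
        · rfl
        · exfalso
          -- cyclic group: everything commutes with `x`
          have htop : Subgroup.zpowers a = ⊤ :=
            Subgroup.eq_top_of_card_eq _ (by rw [Nat.card_zpowers, hja, hc]; norm_num)
          refine not_mem_center hC (by omega) (Subgroup.mem_center_iff.2 fun g => ?_)
          obtain ⟨p, rfl⟩ := Subgroup.mem_zpowers_iff.1 (htop ▸ Subgroup.mem_top g)
          obtain ⟨q, rfl⟩ := Subgroup.mem_zpowers_iff.1 (htop ▸ Subgroup.mem_top x)
          rw [← zpow_add, ← zpow_add, add_comm]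
      have h1 := (Subgroup.zpowers a).card_mul_index
      rw [Nat.card_zpowers, hja, hj2, hc] at h1
      omega
  -- pass to the quotient by `z`
  set Z := Subgroup.zpowers z with hZ
  haveI hZn : Z.Normal := ⟨fun a ha s => by
    obtain ⟨j, rfl⟩ := Subgroup.mem_zpowers_iff.1 ha
    rw [← conj_zpow, Subgroup.mem_center_iff.1 hz s, mul_inv_cancel_right]; exact ha⟩
  have hzz : z * z = 1 := by rw [← pow_two, ← hzo, pow_orderOf_eq_one]
  have hxx : x * x = 1 := by rw [← pow_two, ← hx, pow_orderOf_eq_one]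
  have memZ : ∀ w, w ∈ Z ↔ w = 1 ∨ w = z := fun w => by
    classical
    rw [hZ, mem_zpowers_iff_mem_range_orderOf, hzo]
    simp [Finset.range_add_one, eq_comm, or_comm]
  set f := QuotientGroup.mk' Z with hf
  have hcardQ : Nat.card (S ⧸ Z) * 2 = Nat.card S := by
    rw [Z.card_eq_card_quotient_mul_card_subgroup, hZ, Nat.card_zpowers, hzo]
  have hk4 : 4 ≤ k := by
    rcases Nat.lt_or_ge k 4 with h | h
    · exfalso; rw [hc] at hk; interval_cases k <;> simp_all
    · exact h
  have hN16 : 16 ≤ N := by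
    rw [← hc, hk]; exact le_trans (by norm_num) (Nat.pow_le_pow_right two_pos hk4)
  -- centralizer of the image of `x`
  have hcom : ∀ s : S, f s * f x = f x * f s ↔ (s * x = x * s ∨ s * x = x * s * z) := by
    intro s
    rw [← map_mul, ← map_mul, eq_comm, hf, QuotientGroup.mk'_apply, QuotientGroup.mk'_apply,
      QuotientGroup.eq, memZ, inv_mul_eq_one, inv_mul_eq_iff_eq_mul, eq_comm (a := x * s)]
  have hCbar : Nat.card ↥(Subgroup.centralizer ({f x} : Set (S ⧸ Z))) = 4 := by
    set K := (Subgroup.centralizer ({f x} : Set (S ⧸ Z))).comap f with hK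
    have hKC : Subgroup.centralizer ({x} : Set S) ≤ K := fun s hs => by
      rw [hK, Subgroup.mem_comap, Subgroup.mem_centralizer_singleton_iff, hcom]
      exact Or.inl (Subgroup.mem_centralizer_singleton_iff.1 hs)
    have hlt : Subgroup.centralizer ({x} : Set S) ≠ K := by
      intro he
      haveI := hS.isNilpotent
      have htop : Subgroup.centralizer ({x} : Set S) < ⊤ := by
        rw [lt_top_iff_ne_top]; intro h; rw [h, Subgroup.card_top] at hC; omega
      obtain ⟨g, hg, hgC⟩ := SetLike.exists_of_lt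
        (Group.normalizerCondition_of_isNilpotent (G := S) _ htop)
      refine hgC (he.symm ▸ ?_)
      rw [hK, Subgroup.mem_comap, Subgroup.mem_centralizer_singleton_iff, hcom]
      have hxC : x ∈ Subgroup.centralizer ({x} : Set S) := Subgroup.mem_centralizer_singleton_iff.2 rfl
      have h1 := (Subgroup.mem_normalizer_iff.1 hg x).1 hxC
      rw [Subgroup.mem_centralizer_singleton_iff, hC'] at h1
      rcases h1 with h | h | h | h
      · exact absurd (conj_eq_one_iff.1 h) (fun e => by rw [e, orderOf_one] at hx; norm_num at hx)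
      · exact Or.inl (mul_inv_eq_iff_eq_mul.1 h)
      · refine absurd ?_ hne
        calc x = g⁻¹ * (g * x * g⁻¹) * g := by group
          _ = g⁻¹ * (z * g) := by rw [h]; group
          _ = z := by rw [← Subgroup.mem_center_iff.1 hz g, inv_mul_cancel_left]
      · exact Or.inr (by rw [mul_inv_eq_iff_eq_mul.1 h, mul_assoc, ← Subgroup.mem_center_iff.1 hz g, mul_assoc])
    have hle : Nat.card K ≤ 8 := by
      have hidx : ∀ s t : S, s ∈ K → s ∉ Subgroup.centralizer ({x} : Set S) → t ∈ K →
          t ∉ Subgroup.centralizer ({x} : Set S) → s⁻¹ * t ∈ Subgroup.centralizer ({x} : Set S) := by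
        intro s t hs hs' ht ht'
        rw [hK, Subgroup.mem_comap, Subgroup.mem_centralizer_singleton_iff, hcom] at hs ht
        rw [Subgroup.mem_centralizer_singleton_iff] at hs' ht' ⊢
        have e1 := hs.resolve_left hs'
        have e2 := ht.resolve_left ht'
        have e3 : s⁻¹ * x = x * (z * s⁻¹) := by
          rw [inv_mul_eq_iff_eq_mul, ← mul_assoc, e1]
          calc x = x * (z * z) := by rw [hzz, mul_one]
            _ = x * s * z * (z * s⁻¹) := by
              rw [mul_assoc (x * s), ← mul_assoc z z, hzz, one_mul, mul_inv_cancel_right, mul_one]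
        calc s⁻¹ * t * x = s⁻¹ * x * (t * z) := by rw [mul_assoc, e2]; group
          _ = x * (z * (s⁻¹ * t) * z) := by rw [e3]; group
          _ = x * (s⁻¹ * t) := by
            rw [← Subgroup.mem_center_iff.1 hz (s⁻¹ * t), mul_assoc _ z z, hzz, mul_one]
      have h2 : ((Subgroup.centralizer ({x} : Set S)).subgroupOf K).index ≤ 2 := by
        by_cases ht : (Subgroup.centralizer ({x} : Set S)).subgroupOf K = ⊤
        · rw [ht, Subgroup.index_top]; norm_num
        obtain ⟨⟨a, ha⟩, -, hna⟩ := SetLike.exists_of_lt (lt_top_iff_ne_top.2 ht)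
        refine le_of_eq (Subgroup.index_eq_two_iff'.2 ⟨⟨a, ha⟩, fun ⟨b, hb⟩ => ?_⟩)
        simp only [Subgroup.mem_subgroupOf, Subgroup.coe_mul] at hna ⊢
        by_cases hb' : b ∈ Subgroup.centralizer ({x} : Set S)
        · refine Or.inr ⟨hb', fun h => hna ?_⟩
          simpa using mul_mem h (inv_mem hb')
        · refine Or.inl ⟨?_, hb'⟩
          simpa using hidx a⁻¹ b (inv_mem ha) (fun h => hna (by simpa using inv_mem h)) hb hb'
      have h1 := ((Subgroup.centralizer ({x} : Set S)).subgroupOf K).card_mul_index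
      rw [Nat.card_congr (Subgroup.subgroupOfEquivOfLe hKC).toEquiv, hC] at h1
      omega
    have hgt : 4 < Nat.card K := by
      rw [← hC]
      exact lt_of_le_of_ne (Nat.card_le_card_of_injective _ (Subgroup.inclusion_injective hKC))
        (fun h => hlt (Subgroup.eq_of_le_of_card_ge hKC h.ge))
    have h8' : Nat.card K = 8 := by
      obtain ⟨j, hj⟩ := IsPGroup.iff_card.1 (hS.to_subgroup K)
      have : j = 3 := by
        have h1 : 2 ^ 2 < 2 ^ j := by rw [← hj]; simpa using hgt
        have h2 : 2 ^ j ≤ 2 ^ 3 := by rw [← hj]; simpa using hle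
        have := (Nat.pow_lt_pow_iff_right (by norm_num : 1 < 2)).1 h1
        have := (Nat.pow_le_pow_iff_right (by norm_num : 1 < 2)).1 h2
        omega
      rw [hj, this]; norm_num
    have h3 := K.card_mul_index
    rw [hK, Subgroup.index_comap_of_surjective _ (QuotientGroup.mk'_surjective Z)] at h3
    have h4 := (Subgroup.centralizer ({f x} : Set (S ⧸ Z))).card_mul_index
    rw [← hK, h8'] at h3
    refine Nat.eq_of_mul_eq_mul_right (m := (Subgroup.centralizer ({f x} : Set (S ⧸ Z))).index)
      (Nat.pos_of_ne_zero Subgroup.index_ne_zero_of_finite) ?_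
    rw [h4]; omega
  have hxbar : orderOf (f x) = 2 := by
    refine orderOf_eq_prime ?_ ?_
    · rw [← map_pow, pow_two, hxx, map_one]
    · rw [hf, Ne, QuotientGroup.mk'_apply, QuotientGroup.eq_one_iff, memZ]
      exact fun h => h.elim (fun e => by rw [e, orderOf_one] at hx; norm_num at hx) hne
  obtain ⟨abar, habar⟩ := ih (Nat.card (S ⧸ Z)) (by omega) (S ⧸ Z) rfl (hS.to_quotient Z) (f x)
    hxbar hCbar (by omega)
  obtain ⟨a, rfl⟩ := QuotientGroup.mk'_surjective Z abar
  set A := (Subgroup.zpowers (f a)).comap f with hA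
  have hAidx : A.index = 2 := by
    rw [hA, Subgroup.index_comap_of_surjective _ (QuotientGroup.mk'_surjective Z)]; exact habar
  have hAform : ∀ w ∈ A, ∃ j : ℤ, w = a ^ j ∨ w = a ^ j * z := by
    intro w hw
    obtain ⟨j, hj⟩ := Subgroup.mem_zpowers_iff.1 hw
    rw [← map_zpow, hf, QuotientGroup.mk'_apply, QuotientGroup.mk'_apply, QuotientGroup.eq, memZ,
      inv_mul_eq_one, inv_mul_eq_iff_eq_mul] at hj
    exact ⟨j, hj.elim (fun e => Or.inl e.symm) Or.inr⟩
  have haA : a ∈ A := Subgroup.mem_zpowers (f a)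
  have habel : ∀ v ∈ A, ∀ w ∈ A, v * w = w * v := by
    intro v hv w hw
    obtain ⟨j, hj⟩ := hAform v hv
    obtain ⟨l, hl⟩ := hAform w hw
    have hcz : Commute (a ^ j) z := Subgroup.mem_center_iff.1 hz _
    have hcz' : Commute (a ^ l) z := Subgroup.mem_center_iff.1 hz _
    have hcc : Commute (a ^ j) (a ^ l) := (Commute.refl a).zpow_zpow j l
    rcases hj with rfl | rfl <;> rcases hl with rfl | rfl
    · exact hcc
    · exact hcc.mul_right hcz
    · exact hcc.mul_left hcz'.symm
    · exact (hcc.mul_right hcz).mul_left (hcz'.symm.mul_right (Commute.refl z))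
  have hAcard : 8 ≤ Nat.card A := by
    have h1 := A.card_mul_index
    rw [hAidx, hc] at h1; omega
  have hxA : x ∉ A := fun hxA => by
    have hle : A ≤ Subgroup.centralizer ({x} : Set S) := fun v hv =>
      Subgroup.mem_centralizer_singleton_iff.2 (habel v hv x hxA)
    have := Nat.card_le_card_of_injective _ (Subgroup.inclusion_injective hle)
    omega
  haveI hAn : A.Normal := Subgroup.normal_of_index_eq_two hAidx
  obtain ⟨j, hj⟩ := hAform _ (hAn.conj_mem a haA x)
  obtain ⟨m, hm⟩ := hS a
  obtain ⟨e, -, hae⟩ := (Nat.dvd_prime_pow Nat.prime_two).1 (orderOf_dvd_of_pow_eq_one hm)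
  have hAle : Nat.card A ≤ 2 * 2 ^ e := by
    have h1 := (Subgroup.zpowers (f a)).card_mul_index
    have h2 := A.card_mul_index
    rw [Nat.card_zpowers, habar] at h1
    rw [hAidx] at h2
    have : orderOf (f a) ≤ 2 ^ e := hae ▸ Nat.le_of_dvd (orderOf_pos a) (orderOf_map_dvd f a)
    omega
  have he : 2 ≤ e := by
    by_contra h
    have : 2 ^ e ≤ 2 ^ 1 := Nat.pow_le_pow_right two_pos (by omega)
    omega
  have he1 : 2 ^ e = 2 ^ (e - 1) * 2 := by rw [← pow_succ]; congr 1; omega
  set w := a ^ (2 ^ (e - 1)) with hw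
  have hw1 : w ≠ 1 := fun h => by
    have := Nat.le_of_dvd (by positivity) (hae ▸ orderOf_dvd_of_pow_eq_one h)
    have : 0 < 2 ^ (e - 1) := by positivity
    omega
  have hww : w ^ (2 : ℕ) = 1 := by rw [hw, ← pow_mul, ← he1, ← hae, pow_orderOf_eq_one]
  have hfix : w * x = x * w := by
    have hex : x * w * x⁻¹ = (x * a * x⁻¹) ^ (2 ^ (e - 1)) := by rw [hw, conj_pow]
    have hzp : z ^ (2 ^ (e - 1)) = 1 := by
      rw [show 2 ^ (e - 1) = 2 * 2 ^ (e - 2) by rw [← pow_succ']; congr 1; omega, pow_mul, pow_two,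
        hzz, one_pow]
    have hxw : x * w * x⁻¹ = w ^ j := by
      rw [hex]
      rcases hj with h | h
      · rw [h, hw, ← zpow_natCast, ← zpow_natCast, ← zpow_mul, ← zpow_mul, mul_comm]
      · rw [h, (show Commute (a ^ j) z from Subgroup.mem_center_iff.1 hz _).mul_pow, hzp, mul_one, hw,
          ← zpow_natCast, ← zpow_natCast, ← zpow_mul, ← zpow_mul, mul_comm]
    have hne' : x * w * x⁻¹ ≠ 1 := fun h => hw1 (conj_eq_one_iff.1 h)
    rcases Int.even_or_odd' j with ⟨l, hl | hl⟩
    · exfalso
      refine hne' ?_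
      rw [hxw, hl, zpow_mul, show w ^ (2 : ℤ) = 1 by exact_mod_cast hww, one_zpow]
    · rw [hl, zpow_add, zpow_one, zpow_mul, show w ^ (2 : ℤ) = 1 by exact_mod_cast hww, one_zpow,
        one_mul, mul_inv_eq_iff_eq_mul] at hxw
      exact hxw.symm
  have hwA : w ∈ A := pow_mem haA _
  have hwz : w = z := by
    rcases (hC' w).1 hfix with h | h | h | h
    · exact absurd h hw1
    · exact absurd (h ▸ hwA) hxA
    · exact h
    · exfalso
      refine hxA ?_
      have hzA : z ∈ A := by
        have : f z = 1 := (QuotientGroup.eq_one_iff z).2 (Subgroup.mem_zpowers z)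
        rw [hA, Subgroup.mem_comap, this]
        exact one_mem _
      have := mul_mem (h ▸ hwA) hzA
      rwa [mul_assoc, hzz, mul_one] at this
  refine ⟨a, ?_⟩
  have : Subgroup.zpowers a = A := by
    refine le_antisymm (Subgroup.zpowers_le.2 haA) fun v hv => ?_
    have hzmem : z ∈ Subgroup.zpowers a := by
      rw [← hwz, hw]; exact pow_mem (Subgroup.mem_zpowers a) _
    obtain ⟨l, rfl | rfl⟩ := hAform v hv
    · exact zpow_mem (Subgroup.mem_zpowers a) l
    · exact mul_mem (zpow_mem (Subgroup.mem_zpowers a) l) hzmem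
  rw [this]; exact hAidx

/-- A 2-group with an involution whose centralizer has order 4 is dihedral or semidihedral, or
has order 4. -/
theorem dihedral_or_quasiDihedral (hS : IsPGroup 2 S) {x : S} (hx : orderOf x = 2)
    (hC : Nat.card ↥(Subgroup.centralizer ({x} : Set S)) = 4) :
    (∃ n : ℕ, Nonempty (S ≃* DihedralGroup n)) ∨ Cfsg.IsQuasiDihedral S ∨ Nat.card S = 4 := by
  haveI : Fact (Nat.Prime 2) := ⟨Nat.prime_two⟩
  obtain ⟨k, hk⟩ := IsPGroup.iff_card.1 hS
  have h4 : 4 ∣ Nat.card S := hC ▸ Subgroup.card_subgroup_dvd_card _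
  by_cases hS4 : Nat.card S = 4
  · exact Or.inr (Or.inr hS4)
  have h8 : 8 ≤ Nat.card S := by
    rcases Nat.lt_or_ge k 3 with h | h
    · exfalso; interval_cases k <;> simp_all
    · rw [hk]; exact le_trans (by norm_num) (Nat.pow_le_pow_right two_pos h)
  obtain ⟨a, ha⟩ := exists_cyclic_index_two S hS x hx hC h8
  set A := Subgroup.zpowers a with hA
  have hxx : x * x = 1 := by rw [← pow_two, ← hx, pow_orderOf_eq_one]
  obtain ⟨mm, hmm⟩ := hS a
  obtain ⟨m, -, hm⟩ := (Nat.dvd_prime_pow Nat.prime_two).1 (orderOf_dvd_of_pow_eq_one hmm)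
  have hcard : Nat.card S = 2 ^ (m + 1) := by
    rw [← A.card_mul_index, ha, hA, Nat.card_zpowers, hm, pow_succ]
  have hm2 : 2 ≤ m := by
    by_contra h
    have : 2 ^ (m + 1) ≤ 2 ^ 2 := Nat.pow_le_pow_right two_pos (by omega)
    omega
  have hbound : ∀ B : Subgroup S, B ≤ Subgroup.centralizer ({x} : Set S) → Nat.card B ≤ 4 := fun B hB =>
    hC ▸ Nat.card_le_card_of_injective _ (Subgroup.inclusion_injective hB)
  have hxA : x ∉ A := fun h => by
    have := hbound A (fun v hv => Subgroup.mem_centralizer_singleton_iff.2 (by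
      obtain ⟨p, rfl⟩ := Subgroup.mem_zpowers_iff.1 hv
      obtain ⟨q, rfl⟩ := Subgroup.mem_zpowers_iff.1 h
      rw [← zpow_add, ← zpow_add, add_comm]))
    rw [hA, Nat.card_zpowers, hm] at this
    have hm' : m = 2 := by
      by_contra hne
      have : 2 ^ 3 ≤ 2 ^ m := Nat.pow_le_pow_right two_pos (by omega)
      omega
    subst hm'
    have htop := hbound ⊤ (fun v _ => Subgroup.mem_centralizer_singleton_iff.2 ?_)
    · rw [Subgroup.card_top, hcard] at htop; norm_num at htop
    · -- `x` is the central involution of `A`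
      haveI hAn : A.Normal := Subgroup.normal_of_index_eq_two ha
      have hfix : v * x * v⁻¹ = x := by
        have hmem := hAn.conj_mem x h v
        have hord : orderOf (v * x * v⁻¹) = 2 := by rw [← MulAut.conj_apply, MulEquiv.orderOf_eq, hx]
        have uniq : ∀ y ∈ A, orderOf y = 2 → y = a ^ (2 : ℤ) := by
          intro y hy hyo
          obtain ⟨p, rfl⟩ := Subgroup.mem_zpowers_iff.1 hy
          have h1 : a ^ (p * 2) = 1 := by
            rw [zpow_mul, show (a ^ p) ^ (2 : ℤ) = (a ^ p) ^ (2 : ℕ) from zpow_natCast _ 2, ← hyo,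
              pow_orderOf_eq_one]
          rw [← orderOf_dvd_iff_zpow_eq_one, hm] at h1
          norm_num at h1
          have hp1 : ¬ (4 : ℤ) ∣ p := fun ⟨q, hq⟩ => by
            have : a ^ p = 1 := by
              rw [← orderOf_dvd_iff_zpow_eq_one, hm]; norm_num; exact ⟨q, hq⟩
            rw [this, orderOf_one] at hyo; norm_num at hyo
          have h3 : ((2 ^ 2 : ℕ) : ℤ) ∣ p - 2 := by norm_num; omega
          rw [← hm, orderOf_dvd_iff_zpow_eq_one, zpow_sub] at h3
          exact mul_inv_eq_one.1 h3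
        rw [uniq _ hmem hord, uniq _ h hx]
      exact mul_inv_eq_iff_eq_mul.1 hfix
  haveI hAn : A.Normal := Subgroup.normal_of_index_eq_two ha
  obtain ⟨i, hi⟩ := Subgroup.mem_zpowers_iff.1 (hAn.conj_mem a (Subgroup.mem_zpowers a) x)
  have hxi : x⁻¹ = x := inv_eq_of_mul_eq_one_right hxx
  have hsq : (2 : ℤ) ^ m ∣ i * i - 1 := by
    have h1 : a ^ (i * i) = a := by
      rw [zpow_mul, hi, conj_zpow, hi]
      calc x * (x * a * x⁻¹) * x⁻¹ = (x * x) * a * (x * x)⁻¹ := by group
        _ = a := by rw [hxx, inv_one, mul_one, one_mul]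
    have h2 : a ^ (i * i - 1) = 1 := by rw [zpow_sub, h1, zpow_one, mul_inv_cancel]
    rw [← orderOf_dvd_iff_zpow_eq_one, hm] at h2
    exact_mod_cast h2
  have hmz : ((2 : ℤ) ^ m) = 2 * (2 : ℤ) ^ (m - 1) := by rw [← pow_succ']; congr 1; omega
  have hzero : ∀ c : ℤ, (2 : ℤ) ^ m ∣ c → a ^ c = 1 := fun c hc => by
    rw [← orderOf_dvd_iff_zpow_eq_one, hm]; exact_mod_cast hc
  -- `a ^ 2` is not fixed
  have hnofix : (2 : ℤ) ^ (m - 1) ∣ i - 1 → a * x = x * a → False := by
    intro _ hc
    refine absurd (hbound ⊤ fun v _ => Subgroup.mem_centralizer_singleton_iff.2 ?_) (by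
      rw [Subgroup.card_top]; omega)
    by_cases hv : v ∈ A
    · obtain ⟨p, rfl⟩ := Subgroup.mem_zpowers_iff.1 hv
      exact (show Commute a x from hc).zpow_left p
    · have : v * x ∈ A := (Subgroup.mul_mem_iff_of_index_two ha).2 (iff_of_false hv hxA)
      obtain ⟨p, hp⟩ := Subgroup.mem_zpowers_iff.1 this
      have hv' : v = a ^ p * x := by rw [hp, mul_assoc, hxx, mul_one]
      rw [hv']
      exact ((show Commute a x from hc).zpow_left p).mul_left (Commute.refl x)
  have hdih : x * a * x⁻¹ = a⁻¹ → ∃ n : ℕ, Nonempty (S ≃* DihedralGroup n) := by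
    intro hinv
    have hy : orderOf (x * a) = 2 := by
      refine orderOf_eq_prime ?_ ?_
      · calc (x * a) ^ 2 = (x * a * x⁻¹) * (x * x) * a := by rw [pow_two]; group
          _ = 1 := by rw [hinv, hxx, mul_one, inv_mul_cancel]
      · intro h
        refine hxA ?_
        rw [mul_eq_one_iff_eq_inv] at h
        rw [h]; exact inv_mem (Subgroup.mem_zpowers a)
    have hne : x ≠ x * a := fun h => by
      rw [left_eq_mul] at h
      rw [h, orderOf_one] at hm
      have : 2 ^ 2 ≤ 2 ^ m := Nat.pow_le_pow_right two_pos hm2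
      omega
    refine ⟨_, ⟨(MulEquiv.ofBijective (Invol.dihHom hx hy) ⟨Invol.dihHom_injective hx hy hne, ?_⟩).symm⟩⟩
    rw [← MonoidHom.range_eq_top, Invol.dihHom_range, eq_top_iff]
    intro v _
    have hxm : x ∈ Subgroup.closure ({x, x * a} : Set S) := Subgroup.subset_closure (Set.mem_insert _ _)
    have ham : a ∈ Subgroup.closure ({x, x * a} : Set S) := by
      have := mul_mem hxm (Subgroup.subset_closure (Set.mem_insert_of_mem x (Set.mem_singleton (x * a))))
      rwa [← mul_assoc, hxx, one_mul] at this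
    by_cases hv : v ∈ A
    · exact Subgroup.zpowers_le.2 ham hv
    · have h1 : v * x ∈ A := (Subgroup.mul_mem_iff_of_index_two ha).2 (iff_of_false hv hxA)
      have := mul_mem (Subgroup.zpowers_le.2 ham h1) hxm
      rwa [mul_assoc, hxx, mul_one] at this
  rcases modEq_of_sq_modEq_one hm2 hsq with ⟨c, hc⟩ | ⟨c, hc⟩
  · rcases Int.even_or_odd' c with ⟨d, hd | hd⟩
    · exfalso
      refine hnofix ⟨c, hc⟩ ?_
      have : x * a * x⁻¹ = a := by
        rw [← hi, show i = 1 + 2 ^ m * d by rw [hmz]; linear_combination hc + 2 ^ (m - 1) * hd,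
          zpow_add, hzero _ (dvd_mul_right _ _), mul_one, zpow_one]
      exact (mul_inv_eq_iff_eq_mul.1 this).symm
    · -- `a ^ 2` centralized
      have h2fix : x * a ^ (2 : ℤ) * x⁻¹ = a ^ (2 : ℤ) := by
        rw [← conj_zpow, ← hi, ← zpow_mul, show i * 2 = 2 + 2 ^ m * (2 * d + 1) by
          rw [hmz]; linear_combination 2 * hc + 2 * 2 ^ (m - 1) * hd,
          zpow_add, hzero _ (dvd_mul_right _ _), mul_one]
      have hm3 : m = 2 := by
        by_contra hne
        have hle : Subgroup.closure ({x, a ^ (2 : ℤ)} : Set S) ≤ Subgroup.centralizer ({x} : Set S) := by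
          rw [Subgroup.closure_le]
          rintro v (rfl | rfl)
          · exact Subgroup.mem_centralizer_singleton_iff.2 rfl
          · exact Subgroup.mem_centralizer_singleton_iff.2 (mul_inv_eq_iff_eq_mul.1 h2fix).symm
        have hb := hbound _ hle
        have hlt : Subgroup.zpowers (a ^ 2) < Subgroup.closure ({x, a ^ (2 : ℤ)} : Set S) := by
          refine lt_of_le_of_ne (Subgroup.zpowers_le.2 (Subgroup.subset_closure (by simp))) fun h => hxA ?_
          have hx' : x ∈ Subgroup.closure ({x, a ^ (2 : ℤ)} : Set S) := Subgroup.subset_closure (by simp)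
          rw [← h] at hx'
          exact Subgroup.zpowers_le.2 (pow_mem (Subgroup.mem_zpowers a) 2) hx'
        have ho : Nat.card (Subgroup.zpowers (a ^ 2)) = 2 ^ (m - 1) := by
          rw [Nat.card_zpowers, orderOf_pow' a two_ne_zero, hm,
            Nat.gcd_eq_right (dvd_pow_self 2 (by omega))]
          rw [show 2 ^ m = 2 ^ (m - 1) * 2 by rw [← pow_succ]; congr 1; omega, Nat.mul_div_cancel _ two_pos]
        have : 2 ^ 2 ≤ 2 ^ (m - 1) := Nat.pow_le_pow_right two_pos (by omega)
        have hlt' : Nat.card (Subgroup.zpowers (a ^ 2)) < Nat.card ↥(Subgroup.closure ({x, a ^ (2 : ℤ)} : Set S)) :=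
          lt_of_le_of_ne (Nat.card_le_card_of_injective _ (Subgroup.inclusion_injective hlt.le))
            (fun e => hlt.ne (Subgroup.eq_of_le_of_card_ge hlt.le e.ge))
        omega
      subst hm3
      left; apply hdih
      rw [← hi, show i = -1 + 2 ^ 2 * (d + 1) by
        norm_num at hc ⊢; linear_combination hc + 2 * hd, zpow_add, hzero _ (dvd_mul_right _ _), mul_one, zpow_neg_one]
  · rcases Int.even_or_odd' c with ⟨d, hd | hd⟩
    · left; apply hdih
      rw [← hi, show i = -1 + 2 ^ m * d by rw [hmz]; linear_combination hc + 2 ^ (m - 1) * hd,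
        zpow_add, hzero _ (dvd_mul_right _ _), mul_one, zpow_neg_one]
    · rcases Nat.lt_or_ge m 3 with hlt | hge
      · -- m = 2: then `x a x = a`
        exfalso
        have hm' : m = 2 := by omega
        subst hm'
        refine hnofix (by norm_num at hc ⊢; exact ⟨2 * d, by linear_combination hc + 2 * hd⟩) ?_
        have : x * a * x⁻¹ = a := by
          rw [← hi, show i = 1 + 2 ^ 2 * d by norm_num at hc ⊢; linear_combination hc + 2 * hd,
            zpow_add, hzero _ (dvd_mul_right _ _), mul_one, zpow_one]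
        exact (mul_inv_eq_iff_eq_mul.1 this).symm
      · right; left
        refine ⟨m, hge, hcard, a, x, hm, hx, ?_⟩
        rw [← hi, show i = ((2 ^ (m - 1) - 1 : ℕ) : ℤ) + 2 ^ m * d by
          rw [Nat.cast_sub Nat.one_le_two_pow, hmz]; push_cast; linear_combination hc + 2 ^ (m - 1) * hd,
          zpow_add, hzero _ (dvd_mul_right _ _), mul_one, zpow_natCast]

end Cfsg.Agent.CentFour
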