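import Mathlib.GroupTheory.SpecificGroups.Dihedral
import Mathlib.GroupTheory.SpecificGroups.Quaternion
import Mathlib.GroupTheory.SpecificGroups.KleinFour
import Mathlib.Data.ZMod.Basic
import Mathlib.Algebra.Group.Conj
import Mathlib.SetTheory.Cardinal.Finite
import Mathlib.GroupTheory.Index
import Mathlib.Tactic.LinearCombination

/-!
Recognition of dihedral and generalized quaternion subgroups by generators and relations.
-/

set_option autoImplicit false

namespace Cfsg.Agent.TwoLift

variable {G : Type*} [Group G]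

/-- Powers of `a` indexed by `ZMod n`. -/
noncomputable def pw (n : ℕ) {a : G} (ha : a ^ n = 1) : ZMod n →+ Additive G :=
  ZMod.lift _ ⟨zmultiplesHom _ (Additive.ofMul a), by
    rw [zmultiplesHom_apply, natCast_zsmul, ← ofMul_pow, ha, ofMul_one]⟩

theorem pw_intCast (n : ℕ) {a : G} (ha : a ^ n = 1) (k : ℤ) :
    Additive.toMul (pw n ha (k : ZMod n)) = a ^ k := by
  simp [pw, zmultiplesHom_apply]

theorem swap {g a : G} (h : g * a * g⁻¹ = a⁻¹) (k : ℤ) : g * a ^ k = a ^ (-k) * g := by
  rw [← mul_inv_eq_iff_eq_mul, ← conj_zpow, h, inv_zpow']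

/-- The dihedral map. -/
noncomputable def dFun (n : ℕ) {a : G} (ha : a ^ n = 1) (g : G) : DihedralGroup n → G
  | .r i => Additive.toMul (pw n ha i)
  | .sr i => g * Additive.toMul (pw n ha i)

/-- The homomorphism from a dihedral group. -/
noncomputable def dHom (n : ℕ) {a g : G} (ha : a ^ n = 1) (hg : g * g = 1)
    (h : g * a * g⁻¹ = a⁻¹) : DihedralGroup n →* G :=
  MonoidHom.mk' (dFun n ha g) <| by
    intro x y
    rcases x with i | i <;> rcases y with j | j <;>
      obtain ⟨k, rfl⟩ := ZMod.intCast_surjective i <;> obtain ⟨l, rfl⟩ := ZMod.intCast_surjective j <;>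
      simp only [DihedralGroup.r_mul_r, DihedralGroup.r_mul_sr, DihedralGroup.sr_mul_r,
        DihedralGroup.sr_mul_sr, dFun, ← Int.cast_add, ← Int.cast_sub, pw_intCast]
    · rw [zpow_add]
    · rw [← mul_assoc, show a ^ k * g = g * a ^ (-k) by rw [swap h, neg_neg], mul_assoc, ← zpow_add]
      ring_nf
    · rw [zpow_add, mul_assoc]
    · rw [mul_assoc, ← mul_assoc (a ^ k) g, show a ^ k * g = g * a ^ (-k) by rw [swap h, neg_neg],
        mul_assoc, ← mul_assoc g, hg, one_mul, ← zpow_add]
      ring_nf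

theorem dHom_injective {n : ℕ} {a g : G} (ha : orderOf a = n) (hg : g * g = 1)
    (h : g * a * g⁻¹ = a⁻¹) (hmem : g ∉ Subgroup.zpowers a) :
    Function.Injective (dHom n (ha ▸ pow_orderOf_eq_one a) hg h) := by
  rw [injective_iff_map_eq_one]
  intro d hd
  rcases d with i | i <;> obtain ⟨k, rfl⟩ := ZMod.intCast_surjective i
  · change Additive.toMul (pw n _ (k : ZMod n)) = 1 at hd
    rw [pw_intCast, ← orderOf_dvd_iff_zpow_eq_one, ha] at hd
    rw [DihedralGroup.one_def]
    congr 1
    exact (ZMod.intCast_zmod_eq_zero_iff_dvd _ _).mpr hd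
  · change g * Additive.toMul (pw n _ (k : ZMod n)) = 1 at hd
    rw [pw_intCast, mul_eq_one_iff_eq_inv, ← zpow_neg] at hd
    exact absurd ⟨-k, hd.symm⟩ hmem

theorem dHom_range {n : ℕ} {a g : G} (ha : a ^ n = 1) (hg : g * g = 1) (h : g * a * g⁻¹ = a⁻¹) :
    (dHom n ha hg h).range = Subgroup.closure ({a, g} : Set G) := by
  refine le_antisymm ?_ ((Subgroup.closure_le _).mpr ?_)
  · rintro _ ⟨d, rfl⟩
    have haC : a ∈ Subgroup.closure ({a, g} : Set G) := Subgroup.subset_closure (by simp)
    have hgC : g ∈ Subgroup.closure ({a, g} : Set G) := Subgroup.subset_closure (by simp)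
    rcases d with i | i <;> obtain ⟨k, rfl⟩ := ZMod.intCast_surjective i
    · change Additive.toMul (pw n ha (k : ZMod n)) ∈ _
      rw [pw_intCast]; exact zpow_mem haC k
    · change g * Additive.toMul (pw n ha (k : ZMod n)) ∈ _
      rw [pw_intCast]; exact mul_mem hgC (zpow_mem haC k)
  · rintro z (rfl | rfl)
    · refine ⟨.r ((1 : ℤ) : ZMod n), ?_⟩
      change Additive.toMul (pw n ha _) = z
      rw [pw_intCast, zpow_one]
    · refine ⟨.sr ((0 : ℤ) : ZMod n), ?_⟩
      change z * Additive.toMul (pw n ha _) = z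
      rw [pw_intCast, zpow_zero, mul_one]

/-- A dihedral group of order `2n` from generators. -/
theorem dihedral_equiv {n : ℕ} {a g : G} (ha : orderOf a = n) (hg : g * g = 1)
    (h : g * a * g⁻¹ = a⁻¹) (hmem : g ∉ Subgroup.zpowers a) {H : Subgroup G}
    (hH : H = Subgroup.closure ({a, g} : Set G)) : Nonempty (H ≃* DihedralGroup n) := by
  subst hH
  rw [← dHom_range (ha ▸ pow_orderOf_eq_one a) hg h]
  exact ⟨(MonoidHom.ofInjective (dHom_injective ha hg h hmem)).symm⟩

/-- The quaternion map. -/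
noncomputable def qFun (k : ℕ) {a : G} (ha : a ^ (2 * k) = 1) (g : G) : QuaternionGroup k → G
  | .a i => Additive.toMul (pw (2 * k) ha i)
  | .xa i => g * Additive.toMul (pw (2 * k) ha i)

/-- The homomorphism from a generalized quaternion group. -/
noncomputable def qHom (k : ℕ) {a g : G} (ha : a ^ (2 * k) = 1) (hg : g * g = a ^ k)
    (h : g * a * g⁻¹ = a⁻¹) : QuaternionGroup k →* G :=
  MonoidHom.mk' (qFun k ha g) <| by
    intro x y
    rcases x with i | i <;> rcases y with j | j <;>
      obtain ⟨p, rfl⟩ := ZMod.intCast_surjective i <;> obtain ⟨l, rfl⟩ := ZMod.intCast_surjective j <;>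
      simp only [QuaternionGroup.a_mul_a, QuaternionGroup.a_mul_xa, QuaternionGroup.xa_mul_a,
        QuaternionGroup.xa_mul_xa, ← Int.cast_natCast (R := ZMod (2 * k)) k, qFun, ← Int.cast_add,
        ← Int.cast_sub, pw_intCast]
    · rw [zpow_add]
    · rw [← mul_assoc, show a ^ p * g = g * a ^ (-p) by rw [swap h, neg_neg], mul_assoc, ← zpow_add]
      ring_nf
    · rw [zpow_add, mul_assoc]
    · rw [mul_assoc, ← mul_assoc (a ^ p) g, show a ^ p * g = g * a ^ (-p) by rw [swap h, neg_neg],
        mul_assoc, ← mul_assoc g, hg, ← zpow_natCast, ← zpow_add, ← zpow_add]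
      ring_nf

theorem qHom_injective {k : ℕ} {a g : G} (ha : orderOf a = 2 * k) (hg : g * g = a ^ k)
    (h : g * a * g⁻¹ = a⁻¹) (hmem : g ∉ Subgroup.zpowers a) :
    Function.Injective (qHom k (ha ▸ pow_orderOf_eq_one a) hg h) := by
  rw [injective_iff_map_eq_one]
  intro d hd
  rcases d with i | i <;> obtain ⟨p, rfl⟩ := ZMod.intCast_surjective i
  · change Additive.toMul (pw (2 * k) _ (p : ZMod (2 * k))) = 1 at hd
    rw [pw_intCast, ← orderOf_dvd_iff_zpow_eq_one, ha] at hd
    rw [QuaternionGroup.one_def]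
    congr 1
    exact (ZMod.intCast_zmod_eq_zero_iff_dvd _ _).mpr hd
  · change g * Additive.toMul (pw (2 * k) _ (p : ZMod (2 * k))) = 1 at hd
    rw [pw_intCast, mul_eq_one_iff_eq_inv, ← zpow_neg] at hd
    exact absurd ⟨-p, hd.symm⟩ hmem

theorem qHom_range {k : ℕ} {a g : G} (ha : a ^ (2 * k) = 1) (hg : g * g = a ^ k)
    (h : g * a * g⁻¹ = a⁻¹) : (qHom k ha hg h).range = Subgroup.closure ({a, g} : Set G) := by
  refine le_antisymm ?_ ((Subgroup.closure_le _).mpr ?_)
  · rintro _ ⟨d, rfl⟩
    have haC : a ∈ Subgroup.closure ({a, g} : Set G) := Subgroup.subset_closure (by simp)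
    have hgC : g ∈ Subgroup.closure ({a, g} : Set G) := Subgroup.subset_closure (by simp)
    rcases d with i | i <;> obtain ⟨p, rfl⟩ := ZMod.intCast_surjective i
    · change Additive.toMul (pw (2 * k) ha (p : ZMod (2 * k))) ∈ _
      rw [pw_intCast]; exact zpow_mem haC p
    · change g * Additive.toMul (pw (2 * k) ha (p : ZMod (2 * k))) ∈ _
      rw [pw_intCast]; exact mul_mem hgC (zpow_mem haC p)
  · rintro z (rfl | rfl)
    · refine ⟨.a ((1 : ℤ) : ZMod (2 * k)), ?_⟩
      change Additive.toMul (pw (2 * k) ha _) = z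
      rw [pw_intCast, zpow_one]
    · refine ⟨.xa ((0 : ℤ) : ZMod (2 * k)), ?_⟩
      change z * Additive.toMul (pw (2 * k) ha _) = z
      rw [pw_intCast, zpow_zero, mul_one]

/-- A generalized quaternion group of order `4k` from generators. -/
theorem quaternion_equiv {k : ℕ} {a g : G} (ha : orderOf a = 2 * k) (hg : g * g = a ^ k)
    (h : g * a * g⁻¹ = a⁻¹) (hmem : g ∉ Subgroup.zpowers a) {H : Subgroup G}
    (hH : H = Subgroup.closure ({a, g} : Set G)) : Nonempty (H ≃* QuaternionGroup k) := by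
  subst hH
  rw [← qHom_range (ha ▸ pow_orderOf_eq_one a) hg h]
  exact ⟨(MonoidHom.ofInjective (qHom_injective ha hg h hmem)).symm⟩

/-- A central element of a generalized quaternion group squares to one. -/
theorem quaternion_center_sq {k : ℕ} (hk : 2 ≤ k) {c : QuaternionGroup k}
    (hc : ∀ d : QuaternionGroup k, c * d = d * c) : c * c = 1 := by
  rcases c with i | i
  · have h := hc (.xa 0)
    simp only [QuaternionGroup.a_mul_xa, QuaternionGroup.xa_mul_a, QuaternionGroup.xa.injEq,
      zero_sub, zero_add] at h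
    rw [QuaternionGroup.a_mul_a, QuaternionGroup.one_def]
    congr 1
    nth_rewrite 1 [← h]
    exact neg_add_cancel i
  · exfalso
    have h := hc (.a 1)
    simp only [QuaternionGroup.xa_mul_a, QuaternionGroup.a_mul_xa, QuaternionGroup.xa.injEq] at h
    have h2 : ((2 : ℕ) : ZMod (2 * k)) = 0 := by
      have := sub_eq_zero.mpr h
      push_cast
      linear_combination this
    rw [ZMod.natCast_eq_zero_iff] at h2
    have := Nat.le_of_dvd two_pos h2
    omega

/-- Classes of the elements satisfying `P`, given representatives. -/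
theorem card_classes {P : G → Prop} {ι : Type*} (f : ι → G) (hP : ∀ i, P (f i))
    (hne : ∀ i j, IsConj (f i) (f j) → i = j) (hall : ∀ t, P t → ∃ i, IsConj (f i) t) :
    Nat.card {C : ConjClasses G // ∃ t : G, P t ∧ ConjClasses.mk t = C} = Nat.card ι := by
  refine (Nat.card_eq_of_bijective (fun i => ⟨ConjClasses.mk (f i), f i, hP i, rfl⟩) ⟨?_, ?_⟩).symm
  · intro i j h
    exact hne i j (ConjClasses.mk_eq_mk_iff_isConj.mp (congrArg Subtype.val h))
  · rintro ⟨C, t, ht, rfl⟩
    obtain ⟨i, hi⟩ := hall t ht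
    exact ⟨i, Subtype.ext (ConjClasses.mk_eq_mk_iff_isConj.mpr hi)⟩

/-- Criterion for relative index two. -/
theorem relIndex_eq_two {H K : Subgroup G} {g : G} (hg : g ∈ K) (hgH : g ∉ H) (hHK : H ≤ K)
    (h : ∀ b ∈ K, b ∈ H ∨ g⁻¹ * b ∈ H) : H.relIndex K = 2 := by
  refine Subgroup.index_eq_two_iff'.2 ⟨⟨g⁻¹, inv_mem hg⟩, fun ⟨b, hb⟩ => ?_⟩
  simp only [Subgroup.mem_subgroupOf, Subgroup.coe_mul]
  rcases h b hb with h1 | h1
  · refine Or.inr ⟨h1, fun h2 => hgH ?_⟩
    have := mul_mem h1 (inv_mem h2)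
    simpa using this
  · refine Or.inl ⟨h1, fun h2 => hgH ?_⟩
    have := mul_mem h2 (inv_mem h1)
    simpa using this

end Cfsg.Agent.TwoLift
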