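import Cfsg.Prelude.Def_CaseTheorems
import Cfsg.Agent.Lib.TwoGroups.Lifts
import Mathlib.GroupTheory.PGroup
import Mathlib.GroupTheory.Nilpotent
import Mathlib.GroupTheory.Frattini
import Mathlib.GroupTheory.Abelianization.Defs
import Mathlib.GroupTheory.SpecificGroups.Cyclic
import Mathlib.Tactic.LinearCombination

/-!
Normal form for quasi-dihedral 2-groups: `x` of order `2 ^ n`, `y` of order two,
`y x y⁻¹ = x ^ (2 ^ (n - 1) - 1)`.
-/

set_option autoImplicit false

namespace Cfsg.Agent.QD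

open scoped commutatorElement

theorem q8_sq_central : ∀ a : QuaternionGroup 2, a * a = 1 → ∀ b : QuaternionGroup 2, a * b = b * a := by
  decide +kernel

theorem q8_pow_four : ∀ a : QuaternionGroup 2, a ^ 4 = 1 := by decide +kernel

theorem q8_noncomm : (QuaternionGroup.a 1 : QuaternionGroup 2) * .xa 0 ≠ .xa 0 * .a 1 := by
  decide +kernel

/-- A presentation of a quasi-dihedral group; `n = p + 3`. -/
structure Pres (S : Type*) [Group S] [Finite S] where
  p : ℕ
  x : S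
  y : S
  hx : orderOf x = 2 ^ (p + 3)
  hy : orderOf y = 2
  hconj : y * x * y⁻¹ = x ^ (2 ^ (p + 2) - 1)
  hcard : Nat.card S = 2 ^ (p + 4)

theorem exists_pres {S : Type*} [Group S] [Finite S] (hS : Cfsg.IsQuasiDihedral S) :
    ∃ _d : Pres S, True := by
  obtain ⟨n, hn, hc, x, y, hx, hy, h⟩ := hS
  obtain ⟨p, rfl⟩ : ∃ p, n = p + 3 := ⟨n - 3, by omega⟩
  exact ⟨⟨p, x, y, hx, hy, h, hc⟩, trivial⟩

theorem exists_pres_card {S : Type*} [Group S] [Finite S] (hS : Cfsg.IsQuasiDihedral S) {n : ℕ}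
    (hn : Nat.card S = 2 ^ (n + 1)) : ∃ d : Pres S, n = d.p + 3 := by
  obtain ⟨d, -⟩ := exists_pres hS
  refine ⟨d, ?_⟩
  have := Nat.pow_right_injective (le_refl 2) (hn.symm.trans d.hcard)
  omega

namespace Pres

variable {S : Type*} [Group S] [Finite S] (d : Pres S)

/-- The exponent `2 ^ p`. -/
def r : ℤ := 2 ^ d.p

theorem r_pos : 0 < d.r := by unfold r; positivity

theorem zpow_eq_one_iff (k : ℤ) : d.x ^ k = 1 ↔ 8 * d.r ∣ k := by
  rw [← orderOf_dvd_iff_zpow_eq_one, d.hx]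
  push_cast
  rw [pow_add, r]; ring_nf

theorem zpow_eq_iff (k l : ℤ) : d.x ^ k = d.x ^ l ↔ 8 * d.r ∣ k - l := by
  rw [← zpow_eq_one_iff, zpow_sub, mul_inv_eq_one]

theorem conj_x : d.y * d.x * d.y⁻¹ = d.x ^ (4 * d.r - 1) := by
  rw [d.hconj, ← zpow_natCast, Nat.cast_sub Nat.one_le_two_pow]
  congr 1
  push_cast
  rw [pow_add, r]; ring

theorem yy : d.y * d.y = 1 := by
  rw [← pow_two, ← d.hy, pow_orderOf_eq_one]

theorem inv_y : d.y⁻¹ = d.y := inv_eq_of_mul_eq_one_right d.yy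

theorem swap (k : ℤ) : d.y * d.x ^ k = d.x ^ ((4 * d.r - 1) * k) * d.y := by
  rw [← mul_inv_eq_iff_eq_mul, ← _root_.conj_zpow, d.conj_x, ← zpow_mul]

theorem pp (a b : ℤ) : d.x ^ a * d.x ^ b = d.x ^ (a + b) := (zpow_add _ _ _).symm

theorem pq (a b : ℤ) : d.x ^ a * (d.x ^ b * d.y) = d.x ^ (a + b) * d.y := by
  rw [← mul_assoc, pp]

theorem qp (a b : ℤ) : d.x ^ a * d.y * d.x ^ b = d.x ^ (a + (4 * d.r - 1) * b) * d.y := by
  rw [mul_assoc, d.swap, ← mul_assoc, pp]

theorem qq (a b : ℤ) : d.x ^ a * d.y * (d.x ^ b * d.y) = d.x ^ (a + (4 * d.r - 1) * b) := by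
  rw [← mul_assoc, qp, mul_assoc, d.yy, mul_one]

theorem y_not_mem : d.y ∉ Subgroup.zpowers d.x := by
  rintro ⟨k, hk⟩
  have hk' : d.x ^ k = d.y := hk
  have h := d.conj_x
  rw [← hk', (Commute.zpow_self d.x k).eq, mul_inv_cancel_right] at h
  nth_rewrite 1 [← zpow_one d.x] at h
  rw [zpow_eq_iff] at h
  have := d.r_pos
  have h2 : (8 : ℤ) ∣ 1 - (4 * d.r - 1) := (dvd_mul_right _ _).trans h
  omega

theorem index_zpowers : (Subgroup.zpowers d.x).index = 2 := by
  have h := (Subgroup.zpowers d.x).card_mul_index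
  rw [Nat.card_zpowers, d.hx, d.hcard, pow_succ 2 (d.p + 3)] at h
  exact Nat.eq_of_mul_eq_mul_left (by positivity) h

theorem cases (g : S) : (∃ i : ℤ, g = d.x ^ i) ∨ ∃ i : ℤ, g = d.x ^ i * d.y := by
  by_cases h : g ∈ Subgroup.zpowers d.x
  · obtain ⟨i, rfl⟩ := h
    exact Or.inl ⟨i, rfl⟩
  · have h2 := (Subgroup.mul_mem_iff_of_index_two d.index_zpowers (a := g) (b := d.y)).mpr
      (iff_of_false h d.y_not_mem)
    obtain ⟨i, hi⟩ := h2
    refine Or.inr ⟨i, ?_⟩
    rw [show d.x ^ i = g * d.y from hi, mul_assoc, d.yy, mul_one]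

theorem ne_form (a b : ℤ) : d.x ^ a ≠ d.x ^ b * d.y := fun h => d.y_not_mem ⟨-b + a, by
  show d.x ^ (-b + a) = d.y
  rw [← pp, h, ← mul_assoc, pp, neg_add_cancel, zpow_zero, one_mul]⟩

theorem form_eq_iff (a b : ℤ) : d.x ^ a * d.y = d.x ^ b * d.y ↔ 8 * d.r ∣ a - b := by
  rw [mul_left_inj, zpow_eq_iff]

theorem conj_x_form (j i : ℤ) :
    d.x ^ j * (d.x ^ i * d.y) * (d.x ^ j)⁻¹ = d.x ^ (i + 2 * j * (1 - 2 * d.r)) * d.y := by
  rw [← zpow_neg, pq, qp]; ring_nf

theorem conj_y_pow (i : ℤ) : d.y * d.x ^ i * d.y⁻¹ = d.x ^ ((4 * d.r - 1) * i) := by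
  rw [d.swap, mul_inv_cancel_right]

theorem conj_form_pow (j i : ℤ) :
    d.x ^ j * d.y * d.x ^ i * (d.x ^ j * d.y)⁻¹ = d.x ^ ((4 * d.r - 1) * i) := by
  rw [mul_inv_rev, ← zpow_neg]
  calc d.x ^ j * d.y * d.x ^ i * (d.y⁻¹ * d.x ^ (-j)) = d.x ^ j * (d.y * d.x ^ i * d.y⁻¹) * d.x ^ (-j) := by
        simp only [mul_assoc]
    _ = _ := by rw [conj_y_pow, pp, pp]; ring_nf

theorem conj_mem_zpowers (g : S) (i : ℤ) : g * d.x ^ i * g⁻¹ = d.x ^ i ∨
    g * d.x ^ i * g⁻¹ = d.x ^ ((4 * d.r - 1) * i) := by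
  rcases d.cases g with ⟨j, rfl⟩ | ⟨j, rfl⟩
  · left; rw [(Commute.zpow_zpow_self d.x j i).eq, mul_inv_cancel_right]
  · right; exact d.conj_form_pow j i

/-- Two elements outside `⟨x⟩` whose exponents have equal parity are conjugate by a power of `x`. -/
theorem conj_form (i i' : ℤ) (h : 2 ∣ i' - i) :
    ∃ j : ℤ, d.x ^ j * (d.x ^ i * d.y) * (d.x ^ j)⁻¹ = d.x ^ i' * d.y := by
  obtain ⟨e, he⟩ := h
  refine ⟨e * (1 + 2 * d.r), ?_⟩
  rw [conj_x_form, form_eq_iff]
  exact ⟨-(e * d.r), by linear_combination (-1 : ℤ) * he⟩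

theorem not_conj_form_pow (i k : ℤ) : ¬ IsConj (d.x ^ k) (d.x ^ i * d.y) := by
  rintro h
  obtain ⟨g, hg⟩ := isConj_iff.mp h
  rcases d.conj_mem_zpowers g k with h1 | h1 <;> exact d.ne_form _ _ (h1.symm.trans hg)

theorem form_sq (i : ℤ) : d.x ^ i * d.y * (d.x ^ i * d.y) = d.x ^ (4 * d.r * i) := by
  rw [qq]; ring_nf

theorem form_sq_eq_one_iff (i : ℤ) : d.x ^ i * d.y * (d.x ^ i * d.y) = 1 ↔ 2 ∣ i := by
  rw [form_sq, zpow_eq_one_iff, show 8 * d.r = 4 * d.r * 2 by ring,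
    mul_dvd_mul_iff_left (by linarith [d.r_pos])]

/-- The central involution. -/
def z : S := d.x ^ (4 * d.r)

theorem zz : d.z * d.z = 1 := by
  rw [z, pp, zpow_eq_one_iff]; exact ⟨1, by ring⟩

theorem z_ne_one : d.z ≠ 1 := fun h => by
  rw [z, zpow_eq_one_iff] at h
  have := Int.le_of_dvd (by linarith [d.r_pos]) h
  linarith [d.r_pos]

theorem z_central (g : S) : g * d.z = d.z * g := by
  rw [← mul_inv_eq_iff_eq_mul]
  rcases d.conj_mem_zpowers g (4 * d.r) with h | h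
  · exact h
  · rw [z, h, zpow_eq_iff]
    exact ⟨2 * d.r - 1, by ring⟩

theorem zpow_sq_eq_one_iff (k : ℤ) : d.x ^ k * d.x ^ k = 1 ↔ 4 * d.r ∣ k := by
  rw [pp, zpow_eq_one_iff, show k + k = 2 * k by ring, show 8 * d.r = 2 * (4 * d.r) by ring,
    mul_dvd_mul_iff_left two_ne_zero]

theorem sq_eq_one_cases {g : S} (h : g * g = 1) :
    g = 1 ∨ g = d.z ∨ ∃ i : ℤ, 2 ∣ i ∧ g = d.x ^ i * d.y := by
  rcases d.cases g with ⟨k, rfl⟩ | ⟨k, rfl⟩
  · obtain ⟨c, hc⟩ := (d.zpow_sq_eq_one_iff k).mp h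
    rcases Int.even_or_odd' c with ⟨e, he | he⟩
    · left; rw [zpow_eq_one_iff]; exact ⟨e, by rw [hc, he]; ring⟩
    · right; left; rw [z, zpow_eq_iff]; exact ⟨e, by rw [hc, he]; ring⟩
  · exact Or.inr (Or.inr ⟨k, (d.form_sq_eq_one_iff k).mp h, rfl⟩)

/-- The centralizer of an element outside `⟨x⟩` meets `⟨x⟩` in `⟨z⟩`. -/
theorem commute_form_pow (i k : ℤ) :
    d.x ^ i * d.y * d.x ^ k = d.x ^ k * (d.x ^ i * d.y) ↔ 4 * d.r ∣ k := by
  rw [qp, pq, form_eq_iff, show i + (4 * d.r - 1) * k - (k + i) = 2 * ((2 * d.r - 1) * k) by ring,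
    show 8 * d.r = 2 * (4 * d.r) by ring, mul_dvd_mul_iff_left two_ne_zero]
  refine ⟨fun h => ?_, fun h => h.mul_left _⟩
  have hco : IsCoprime (4 * d.r) (2 * d.r - 1) := by
    refine ⟨d.r, -(2 * d.r + 1), by ring⟩
  exact hco.dvd_of_dvd_mul_left h

theorem pow_of_dvd {k : ℤ} (h : 4 * d.r ∣ k) : d.x ^ k = 1 ∨ d.x ^ k = d.z := by
  obtain ⟨c, rfl⟩ := h
  rcases Int.even_or_odd' c with ⟨e, he | he⟩
  · left; rw [zpow_eq_one_iff]; exact ⟨e, by rw [he]; ring⟩
  · right; rw [z, zpow_eq_iff]; exact ⟨e, by rw [he]; ring⟩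

theorem commute_form_iff (i : ℤ) (g : S) :
    g * (d.x ^ i * d.y) = d.x ^ i * d.y * g ↔
      g = 1 ∨ g = d.z ∨ g = d.x ^ i * d.y ∨ g = d.z * (d.x ^ i * d.y) := by
  constructor
  · intro h
    rcases d.cases g with ⟨k, rfl⟩ | ⟨k, rfl⟩
    · rcases d.pow_of_dvd ((d.commute_form_pow i k).mp h.symm) with h1 | h1 <;> simp [h1]
    · have h2 : d.x ^ i * d.y * d.x ^ (k - i) = d.x ^ (k - i) * (d.x ^ i * d.y) := by
        rw [show d.x ^ k * d.y = d.x ^ (k - i) * (d.x ^ i * d.y) by rw [pq, sub_add_cancel]] at h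
        exact (mul_right_cancel (b := d.x ^ i * d.y) (by simpa only [mul_assoc] using h.symm))
      rcases d.pow_of_dvd ((d.commute_form_pow i (k - i)).mp h2) with h1 | h1
      · refine Or.inr (Or.inr (Or.inl ?_))
        rw [show k = (k - i) + i by ring, ← pp, h1, one_mul]
      · refine Or.inr (Or.inr (Or.inr ?_))
        rw [show k = (k - i) + i by ring, ← pp, h1, mul_assoc]
  · rintro (rfl | rfl | rfl | rfl)
    · rw [one_mul, mul_one]
    · exact (d.z_central _).symm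
    · rfl
    · rw [← mul_assoc (d.x ^ i * d.y) d.z, d.z_central, mul_assoc]

/-- The four-subgroup through an involution outside `⟨x⟩`. -/
def four (i : ℤ) : Subgroup S := Subgroup.centralizer ({d.x ^ i * d.y} : Set S)

theorem mem_four (i : ℤ) (g : S) :
    g ∈ d.four i ↔ g = 1 ∨ g = d.z ∨ g = d.x ^ i * d.y ∨ g = d.z * (d.x ^ i * d.y) := by
  rw [four, Subgroup.mem_centralizer_singleton_iff, commute_form_iff]

theorem card_four (i : ℤ) : Nat.card (d.four i) = 4 := by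
  classical
  rw [show Nat.card (d.four i) =
      Nat.card (({1, d.z, d.x ^ i * d.y, d.z * (d.x ^ i * d.y)} : Finset S) : Set S) from
    Nat.card_congr (Equiv.setCongr (by ext g; simp [d.mem_four i g]))]
  rw [Nat.card_coe_set_eq, Set.ncard_coe_finset]
  have h1 : ∀ b : ℤ, d.x ^ b * d.y ≠ 1 := fun b h => d.ne_form 0 b (by rw [zpow_zero, h])
  have h2 : d.z * (d.x ^ i * d.y) ≠ 1 := by rw [z, pq]; exact h1 _
  have h3 : d.z ≠ d.x ^ i * d.y := d.ne_form _ _
  have h4 : d.z ≠ d.z * (d.x ^ i * d.y) := fun h => h1 i (left_eq_mul.mp h)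
  have h5 : d.x ^ i * d.y ≠ d.z * (d.x ^ i * d.y) := fun h => d.z_ne_one (right_eq_mul.mp h)
  simp [d.z_ne_one.symm, (h1 i).symm, h2.symm, h3, h4, h5]

include d in
theorem four_eq {U : Subgroup S} (hU : IsKleinFour U) :
    ∃ i : ℤ, 2 ∣ i ∧ U = d.four i := by
  have hsq : ∀ a ∈ U, a * a = 1 := fun a ha => congrArg Subtype.val (IsKleinFour.mul_self (⟨a, ha⟩ : U))
  have hex : ∃ i : ℤ, 2 ∣ i ∧ d.x ^ i * d.y ∈ U := by
    by_contra hc
    push Not at hc
    have hsub : (U : Set S) ⊆ ({1, d.z} : Set S) := by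
      intro a ha
      rcases d.sq_eq_one_cases (hsq a ha) with h | h | ⟨i, hi, h⟩
      · simp [h]
      · simp [h]
      · exact absurd (h ▸ ha) (hc i hi)
    have h4 : Nat.card U = 4 := IsKleinFour.card_four
    have := Set.ncard_le_ncard hsub (Set.toFinite _)
    rw [← Nat.card_coe_set_eq, show Nat.card ((U : Set S) : Type _) = 4 from h4,
      Set.ncard_pair d.z_ne_one.symm] at this
    omega
  obtain ⟨i, hi, hiU⟩ := hex
  refine ⟨i, hi, Subgroup.eq_of_le_of_card_ge ?_ (by rw [d.card_four]; exact (IsKleinFour.card_four (G := U)).ge)⟩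
  intro a ha
  rw [four, Subgroup.mem_centralizer_singleton_iff]
  exact congrArg Subtype.val
    ((IsKleinFour.isMulCommutative (G := U)).is_comm.comm ⟨a, ha⟩ ⟨_, hiU⟩)

theorem map_four (g : S) (i i' : ℤ) (h : g * (d.x ^ i * d.y) * g⁻¹ = d.x ^ i' * d.y) :
    (d.four i).map (MulAut.conj g).toMonoidHom = d.four i' := by
  refine Subgroup.eq_of_le_of_card_ge ?_ ?_
  · rintro _ ⟨a, ha, rfl⟩
    rw [four, Subgroup.mem_centralizer_singleton_iff]
    rw [SetLike.mem_coe, four, Subgroup.mem_centralizer_singleton_iff] at ha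
    rw [← h]
    exact ((show Commute a (d.x ^ i * d.y) from ha).map (MulAut.conj g)).eq
  · rw [d.card_four, ← Nat.card_congr ((d.four i).equivMapOfInjective _ (MulAut.conj g).injective).toEquiv,
      d.card_four]

include d in
theorem klein_conj {U V : Subgroup S} (hU : IsKleinFour U) (hV : IsKleinFour V) :
    ∃ s : S, U.map (MulAut.conj s).toMonoidHom = V := by
  obtain ⟨i, hi, rfl⟩ := d.four_eq hU
  obtain ⟨i', hi', rfl⟩ := d.four_eq hV
  obtain ⟨j, hj⟩ := d.conj_form i i' (dvd_sub hi' hi)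
  exact ⟨d.x ^ j, d.map_four _ _ _ hj⟩

include d in
theorem klein_self_centralizing {T : Subgroup S} (hT : IsKleinFour T) :
    Subgroup.centralizer (T : Set S) = T := by
  obtain ⟨i, hi, rfl⟩ := d.four_eq hT
  refine le_antisymm (Subgroup.centralizer_le (Set.singleton_subset_iff.mpr ((d.mem_four i _).mpr (by simp)))) ?_
  intro a ha
  rw [Subgroup.mem_centralizer_iff]
  intro b hb
  exact congrArg Subtype.val
    ((IsKleinFour.isMulCommutative (G := d.four i)).is_comm.comm ⟨b, hb⟩ ⟨a, ha⟩)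

include d in
theorem klein_normalizer {T : Subgroup S} (hT : IsKleinFour T) :
    T.relIndex (Subgroup.normalizer (T : Set S)) = 2 := by
  obtain ⟨i, hi, rfl⟩ := d.four_eq hT
  have hq : d.x ^ (2 * d.r) * (d.x ^ i * d.y) * (d.x ^ (2 * d.r))⁻¹ = d.z * (d.x ^ i * d.y) := by
    rw [conj_x_form, z, pq, form_eq_iff]
    exact ⟨-d.r, by ring⟩
  refine TwoLift.relIndex_eq_two (g := d.x ^ (2 * d.r)) ?_ ?_ Subgroup.le_normalizer ?_
  · refine Subgroup.mem_normalizer_fintype fun a ha => ?_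
    rw [SetLike.mem_coe, mem_four] at ha ⊢
    rcases ha with rfl | rfl | rfl | rfl
    · left; rw [mul_one, mul_inv_cancel]
    · right; left; rw [d.z_central, mul_inv_cancel_right]
    · right; right; right; exact hq
    · right; right; left
      rw [show d.x ^ (2 * d.r) * (d.z * (d.x ^ i * d.y)) * (d.x ^ (2 * d.r))⁻¹ =
        (d.x ^ (2 * d.r) * d.z) * (d.x ^ i * d.y) * (d.x ^ (2 * d.r))⁻¹ by simp only [mul_assoc]]
      rw [d.z_central, show d.z * d.x ^ (2 * d.r) * (d.x ^ i * d.y) * (d.x ^ (2 * d.r))⁻¹ =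
        d.z * (d.x ^ (2 * d.r) * (d.x ^ i * d.y) * (d.x ^ (2 * d.r))⁻¹) by simp only [mul_assoc],
        hq, ← mul_assoc, d.zz, one_mul]
  · intro h
    rw [mem_four] at h
    rcases h with h | h | h | h
    · rw [zpow_eq_one_iff] at h
      have := Int.le_of_dvd (by linarith [d.r_pos]) h
      linarith [d.r_pos]
    · rw [z, zpow_eq_iff] at h
      have h2 := Int.le_of_dvd (by linarith [d.r_pos]) (dvd_sub_comm.mp h)
      linarith [d.r_pos]
    · exact d.ne_form _ _ h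
    · rw [z, pq] at h; exact d.ne_form _ _ h
  · intro b hb
    have hs : b * (d.x ^ i * d.y) * b⁻¹ ∈ d.four i :=
      (Subgroup.mem_normalizer_iff.mp hb _).mp ((d.mem_four i _).mpr (by simp))
    have hfix : ∀ c : S, c * (d.x ^ i * d.y) * c⁻¹ = d.x ^ i * d.y → c ∈ d.four i := fun c hc => by
      rw [four, Subgroup.mem_centralizer_singleton_iff]; exact mul_inv_eq_iff_eq_mul.mp hc
    rw [mem_four] at hs
    rcases hs with h | h | h | h
    · exact absurd (conj_eq_one_iff.mp h) (fun e => d.ne_form 0 i (by rw [zpow_zero, e]))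
    · exfalso
      refine d.ne_form (4 * d.r) i ?_
      show d.z = d.x ^ i * d.y
      calc d.z = b⁻¹ * (d.z * b) := by rw [← d.z_central, inv_mul_cancel_left]
        _ = b⁻¹ * (b * (d.x ^ i * d.y) * b⁻¹ * b) := by rw [h]
        _ = _ := by group
    · exact Or.inl (hfix b h)
    · refine Or.inr (hfix _ ?_)
      calc (d.x ^ (2 * d.r))⁻¹ * b * (d.x ^ i * d.y) * ((d.x ^ (2 * d.r))⁻¹ * b)⁻¹
          = (d.x ^ (2 * d.r))⁻¹ * (b * (d.x ^ i * d.y) * b⁻¹) * d.x ^ (2 * d.r) := by group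
        _ = (d.x ^ (2 * d.r))⁻¹ *
            (d.x ^ (2 * d.r) * (d.x ^ i * d.y) * (d.x ^ (2 * d.r))⁻¹) * d.x ^ (2 * d.r) := by rw [h, hq]
        _ = _ := by group

/-! ### quaternion subgroups -/

/-- The quaternion subgroup of order eight through `x ^ i * y`. -/
def quat (i : ℤ) : Subgroup S := Subgroup.closure ({d.x ^ (2 * d.r), d.x ^ i * d.y} : Set S)

theorem orderOf_q : orderOf (d.x ^ (2 * d.r)) = 4 := by
  have h := orderOf_eq_prime_pow (x := d.x ^ (2 * d.r)) (p := 2) (n := 1) (hp := ⟨Nat.prime_two⟩) ?_ ?_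
  · simpa using h
  · rw [pow_one, pow_two, pp, zpow_eq_one_iff]
    intro h
    have := Int.le_of_dvd (by linarith [d.r_pos]) h
    linarith [d.r_pos]
  · rw [← zpow_natCast, ← zpow_mul, zpow_eq_one_iff]
    exact ⟨1, by norm_num; ring⟩

theorem quat_mul_self (i : ℤ) (hi : ¬ 2 ∣ i) :
    d.x ^ i * d.y * (d.x ^ i * d.y) = (d.x ^ (2 * d.r)) ^ 2 := by
  rw [form_sq, pow_two, pp, zpow_eq_iff]
  obtain ⟨e, rfl⟩ : ∃ e, i = 2 * e + 1 := ⟨i / 2, by omega⟩
  exact ⟨e, by ring⟩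

theorem quat_conj (i : ℤ) :
    d.x ^ i * d.y * d.x ^ (2 * d.r) * (d.x ^ i * d.y)⁻¹ = (d.x ^ (2 * d.r))⁻¹ := by
  rw [conj_form_pow, ← zpow_neg, zpow_eq_iff]
  exact ⟨d.r, by ring⟩

theorem quat_equiv (i : ℤ) (hi : ¬ 2 ∣ i) : Nonempty (d.quat i ≃* QuaternionGroup 2) :=
  TwoLift.quaternion_equiv (k := 2) d.orderOf_q (d.quat_mul_self i hi) (d.quat_conj i)
    (fun ⟨k, hk⟩ => d.ne_form _ _ (show d.x ^ (2 * d.r * k) = d.x ^ i * d.y by rw [zpow_mul]; exact hk)) rfl

include d in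
theorem quat_eq {Q : Subgroup S} (hQ : Nonempty (Q ≃* QuaternionGroup 2)) :
    ∃ i : ℤ, ¬ 2 ∣ i ∧ Q = d.quat i := by
  obtain ⟨e⟩ := hQ
  haveI : NeZero 2 := ⟨two_ne_zero⟩
  have hc8 : Nat.card Q = 8 := by
    rw [Nat.card_congr e.toEquiv, Nat.card_eq_fintype_card, QuaternionGroup.card]
  have hf4 := q8_sq_central
  have hex := q8_pow_four
  have hnc : ∃ a b : Q, a * b ≠ b * a :=
    ⟨e.symm (.a 1), e.symm (.xa 0), fun h => by
      have h2 := congrArg e h
      simp only [map_mul, MulEquiv.apply_symm_apply] at h2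
      exact q8_noncomm h2⟩
  have hpow4 : ∀ a ∈ Q, a ^ 4 = 1 := fun a ha => by
    have : (⟨a, ha⟩ : Q) ^ 4 = 1 := e.injective (by rw [map_pow, map_one]; exact hex _)
    exact congrArg Subtype.val this
  obtain ⟨i, hiQ⟩ : ∃ i : ℤ, d.x ^ i * d.y ∈ Q := by
    by_contra hcon
    push Not at hcon
    obtain ⟨a, b, hab⟩ := hnc
    refine hab (Subtype.ext ?_)
    rcases d.cases (a : S) with ⟨u, hu⟩ | ⟨u, hu⟩
    · rcases d.cases (b : S) with ⟨v, hv⟩ | ⟨v, hv⟩
      · rw [Subgroup.coe_mul, Subgroup.coe_mul, hu, hv, pp, pp, add_comm]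
      · exact absurd (hv ▸ b.2) (hcon v)
    · exact absurd (hu ▸ a.2) (hcon u)
  have hi : ¬ 2 ∣ i := by
    intro hi
    have h1 : (⟨_, hiQ⟩ : Q) * ⟨_, hiQ⟩ = 1 := Subtype.ext ((d.form_sq_eq_one_iff i).mpr hi)
    have hcen : ∀ b : Q, ⟨_, hiQ⟩ * b = b * (⟨_, hiQ⟩ : Q) := fun b => e.injective (by
      rw [map_mul, map_mul]; exact hf4 _ (by rw [← map_mul, h1, map_one]) _)
    have hle : Q ≤ d.four i := fun a ha => Subgroup.mem_centralizer_singleton_iff.mpr
      (congrArg Subtype.val (hcen ⟨a, ha⟩)).symm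
    have := Subgroup.card_le_of_le hle
    rw [d.card_four, hc8] at this
    omega
  refine ⟨i, hi, Subgroup.eq_of_le_of_card_ge ?_ ?_⟩
  · intro a ha
    have hpow : ∀ k : ℤ, d.x ^ k ∈ Q → d.x ^ k ∈ d.quat i := by
      intro k hk
      have h4 := hpow4 _ hk
      rw [← zpow_natCast, ← zpow_mul, zpow_eq_one_iff, show k * ((4 : ℕ) : ℤ) = 4 * k by push_cast; ring,
        show 8 * d.r = 4 * (2 * d.r) by ring, mul_dvd_mul_iff_left (by norm_num)] at h4
      obtain ⟨c, rfl⟩ := h4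
      rw [zpow_mul]
      exact zpow_mem (Subgroup.subset_closure (by simp)) c
    rcases d.cases a with ⟨k, rfl⟩ | ⟨k, rfl⟩
    · exact hpow k ha
    · have h1 : d.x ^ (k - i) ∈ Q := by
        have := mul_mem ha (inv_mem hiQ)
        rwa [show d.x ^ k * d.y * (d.x ^ i * d.y)⁻¹ = d.x ^ (k - i) by rw [zpow_sub]; group] at this
      rw [show d.x ^ k * d.y = d.x ^ (k - i) * (d.x ^ i * d.y) by rw [pq, sub_add_cancel]]
      exact mul_mem (hpow _ h1) (Subgroup.subset_closure (by simp))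
  · obtain ⟨e'⟩ := d.quat_equiv i hi
    rw [Nat.card_congr e'.toEquiv, Nat.card_congr e.toEquiv]

theorem mem_quat_pow (i k : ℤ) (hi : ¬ 2 ∣ i) (h : d.x ^ k ∈ d.quat i) : 2 * d.r ∣ k := by
  obtain ⟨e⟩ := d.quat_equiv i hi
  have hex := q8_pow_four
  have h1 : (⟨_, h⟩ : d.quat i) ^ 4 = 1 := e.injective (by rw [map_pow, map_one]; exact hex _)
  have h4 : (d.x ^ k) ^ 4 = 1 := congrArg Subtype.val h1
  rw [← zpow_natCast, ← zpow_mul, zpow_eq_one_iff, show k * ((4 : ℕ) : ℤ) = 4 * k by push_cast; ring,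
    show 8 * d.r = 4 * (2 * d.r) by ring, mul_dvd_mul_iff_left (by norm_num)] at h4
  exact h4

theorem map_quat (j i i' : ℤ) (h : d.x ^ j * (d.x ^ i * d.y) * (d.x ^ j)⁻¹ = d.x ^ i' * d.y) :
    (d.quat i).map (MulAut.conj (d.x ^ j)).toMonoidHom = d.quat i' := by
  rw [quat, MonoidHom.map_closure, Set.image_pair]
  congr 2
  · show d.x ^ j * d.x ^ (2 * d.r) * (d.x ^ j)⁻¹ = d.x ^ (2 * d.r)
    rw [(Commute.zpow_zpow_self d.x j (2 * d.r)).eq, mul_inv_cancel_right]
  · show ({d.x ^ j * (d.x ^ i * d.y) * (d.x ^ j)⁻¹} : Set S) = {d.x ^ i' * d.y}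
    rw [h]

include d in
theorem quat_conj_all {Q R : Subgroup S} (hQ : Nonempty (Q ≃* QuaternionGroup 2))
    (hR : Nonempty (R ≃* QuaternionGroup 2)) : ∃ s : S, Q.map (MulAut.conj s).toMonoidHom = R := by
  obtain ⟨i, hi, rfl⟩ := d.quat_eq hQ
  obtain ⟨i', hi', rfl⟩ := d.quat_eq hR
  obtain ⟨j, hj⟩ := d.conj_form i i' (by omega)
  exact ⟨_, d.map_quat j i i' hj⟩

include d in
theorem quat_centralizer {Q : Subgroup S} (hQ : Nonempty (Q ≃* QuaternionGroup 2)) :
    Subgroup.centralizer (Q : Set S) = (Subgroup.center Q).map Q.subtype := by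
  obtain ⟨i, hi, rfl⟩ := d.quat_eq hQ
  have hmem : d.x ^ i * d.y ∈ d.quat i := Subgroup.subset_closure (by simp)
  have hq : d.x ^ (2 * d.r) ∈ d.quat i := Subgroup.subset_closure (by simp)
  refine le_antisymm ?_ ?_
  · intro a ha
    have h1 := (Subgroup.mem_centralizer_iff.mp ha _ hmem).symm
    rw [commute_form_iff] at h1
    have haQ : a ∈ d.quat i := by
      have hz : d.z ∈ d.quat i := by
        rw [z, show 4 * d.r = 2 * d.r + 2 * d.r by ring, ← pp]
        exact mul_mem hq hq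
      rcases h1 with rfl | rfl | rfl | rfl
      · exact one_mem _
      · exact hz
      · exact hmem
      · exact mul_mem hz hmem
    exact ⟨⟨a, haQ⟩, Subgroup.mem_center_iff.mpr fun b => Subtype.ext
      (Subgroup.mem_centralizer_iff.mp ha b b.2), rfl⟩
  · rintro _ ⟨a, ha, rfl⟩
    exact Subgroup.mem_centralizer_iff.mpr fun b hb =>
      congrArg Subtype.val (Subgroup.mem_center_iff.mp ha ⟨b, hb⟩)

include d in
theorem quat_normalizer {Q : Subgroup S} (hQ : Nonempty (Q ≃* QuaternionGroup 2)) :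
    Q.relIndex (Subgroup.normalizer (Q : Set S)) = 2 := by
  obtain ⟨i, hi, rfl⟩ := d.quat_eq hQ
  have hmem : d.x ^ i * d.y ∈ d.quat i := Subgroup.subset_closure (by simp)
  have hq : d.x ^ (2 * d.r) ∈ d.quat i := Subgroup.subset_closure (by simp)
  have hqm : ∀ c : ℤ, 2 * d.r ∣ c → d.x ^ c ∈ d.quat i := by
    rintro _ ⟨c, rfl⟩; rw [zpow_mul]; exact zpow_mem hq c
  refine TwoLift.relIndex_eq_two (g := d.x ^ d.r) ?_ ?_ Subgroup.le_normalizer ?_
  · refine Subgroup.mem_normalizer_iff_map_conj_eq.mpr ?_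
    show (d.quat i).map (MulAut.conj (d.x ^ d.r)).toMonoidHom = d.quat i
    have h := d.conj_x_form d.r i
    refine (d.map_quat d.r i _ h).trans (le_antisymm ?_ ?_) <;> rw [quat, Subgroup.closure_le] <;>
      rintro _ (rfl | rfl)
    · exact hq
    · rw [show d.x ^ (i + 2 * d.r * (1 - 2 * d.r)) * d.y =
        d.x ^ (2 * d.r * (1 - 2 * d.r)) * (d.x ^ i * d.y) by rw [pq, add_comm]]
      exact mul_mem (hqm _ (dvd_mul_right _ _)) hmem
    · exact Subgroup.subset_closure (by simp)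
    · rw [show d.x ^ i * d.y = (d.x ^ (2 * d.r)) ^ (-(1 - 2 * d.r)) *
        (d.x ^ (i + 2 * d.r * (1 - 2 * d.r)) * d.y) by rw [← zpow_mul, pq]; ring_nf]
      exact mul_mem (zpow_mem (Subgroup.subset_closure (by simp)) _) (Subgroup.subset_closure (by simp))
  · intro h
    have := Int.le_of_dvd d.r_pos (d.mem_quat_pow i _ hi h)
    linarith [d.r_pos]
  · intro b hb
    have key : ∀ j : ℤ, d.x ^ j ∈ Subgroup.normalizer (d.quat i : Set S) →
        d.x ^ j ∈ d.quat i ∨ (d.x ^ d.r)⁻¹ * d.x ^ j ∈ d.quat i := by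
      intro j hj
      have h1 := (Subgroup.mem_normalizer_iff.mp hj _).mp hmem
      rw [conj_x_form] at h1
      have h2 := mul_mem h1 (inv_mem hmem)
      rw [show d.x ^ (i + 2 * j * (1 - 2 * d.r)) * d.y * (d.x ^ i * d.y)⁻¹ =
        d.x ^ (2 * j * (1 - 2 * d.r)) by
          rw [mul_inv_rev, mul_assoc, mul_inv_cancel_left, ← zpow_neg, pp]; ring_nf] at h2
      have h3 := d.mem_quat_pow i _ hi h2
      rw [mul_assoc, mul_dvd_mul_iff_left two_ne_zero] at h3
      have h4 : d.r ∣ j := by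
        have hco : IsCoprime d.r (1 - 2 * d.r) := ⟨2, 1, by ring⟩
        exact hco.dvd_of_dvd_mul_right h3
      obtain ⟨c, rfl⟩ := h4
      rcases Int.even_or_odd' c with ⟨e, rfl | rfl⟩
      · exact Or.inl (hqm _ ⟨e, by ring⟩)
      · refine Or.inr ?_
        rw [← zpow_neg, pp]
        exact hqm _ ⟨e, by ring⟩
    rcases d.cases b with ⟨j, rfl⟩ | ⟨j, rfl⟩
    · exact key j hb
    · have hj : d.x ^ (j - i) ∈ Subgroup.normalizer (d.quat i : Set S) := by
        have := mul_mem hb (inv_mem (Subgroup.le_normalizer hmem))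
        rwa [show d.x ^ j * d.y * (d.x ^ i * d.y)⁻¹ = d.x ^ (j - i) by rw [zpow_sub]; group] at this
      have e : d.x ^ j * d.y = d.x ^ (j - i) * (d.x ^ i * d.y) := by rw [pq, sub_add_cancel]
      rcases key _ hj with h | h
      · exact Or.inl (e ▸ mul_mem h hmem)
      · refine Or.inr ?_
        rw [e, ← mul_assoc]
        exact mul_mem h hmem

/-! ### maximal subgroups -/

/-- The dihedral maximal subgroup. -/
def maxD : Subgroup S := Subgroup.closure ({d.x ^ (2 : ℤ), d.y} : Set S)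

/-- The quaternion maximal subgroup. -/
def maxQ : Subgroup S := Subgroup.closure ({d.x ^ (2 : ℤ), d.x * d.y} : Set S)

theorem orderOf_x2 : orderOf (d.x ^ (2 : ℤ)) = 2 ^ (d.p + 2) := by
  rw [show d.x ^ (2 : ℤ) = d.x ^ 2 from zpow_ofNat _ 2, orderOf_pow' _ two_ne_zero, d.hx,
    Nat.gcd_eq_right (dvd_pow_self 2 (by omega)), pow_succ 2 (d.p + 2), Nat.mul_div_cancel _ two_pos]

theorem y_conj_x2 : d.y * d.x ^ (2 : ℤ) * d.y⁻¹ = (d.x ^ (2 : ℤ))⁻¹ := by
  rw [conj_y_pow, ← zpow_neg, zpow_eq_iff]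
  exact ⟨1, by ring⟩

theorem maxD_equiv : Nonempty (d.maxD ≃* DihedralGroup (2 ^ (d.p + 2))) :=
  TwoLift.dihedral_equiv d.orderOf_x2 d.yy d.y_conj_x2
    (fun ⟨k, hk⟩ => d.y_not_mem ⟨2 * k, (zpow_mul d.x 2 k).trans hk⟩) rfl

theorem maxQ_equiv : Nonempty (d.maxQ ≃* QuaternionGroup (2 ^ (d.p + 1))) := by
  refine TwoLift.quaternion_equiv (d.orderOf_x2.trans (by rw [pow_succ']))
    ?_ ?_ ?_ rfl
  · nth_rewrite 1 2 [← zpow_one d.x]
    rw [form_sq, ← zpow_natCast, ← zpow_mul, zpow_eq_iff]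
    push_cast
    exact ⟨0, by rw [pow_succ, r]; ring⟩
  · nth_rewrite 1 3 [← zpow_one d.x]
    rw [conj_form_pow, ← zpow_neg, zpow_eq_iff]
    exact ⟨1, by ring⟩
  · rintro ⟨k, hk⟩
    refine d.ne_form (2 * k) 1 ?_
    rw [zpow_one, zpow_mul]; exact hk

theorem x2_mem_of_index_two {M : Subgroup S} (hM : M.index = 2) (g : S) : g * g ∈ M :=
  Subgroup.mul_self_mem_of_index_two hM g

theorem card_maxD : Nat.card d.maxD = 2 ^ (d.p + 3) := by
  obtain ⟨e⟩ := d.maxD_equiv
  rw [Nat.card_congr e.toEquiv, DihedralGroup.nat_card, pow_succ' 2 (d.p + 2)]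

theorem card_maxQ : Nat.card d.maxQ = 2 ^ (d.p + 3) := by
  obtain ⟨e⟩ := d.maxQ_equiv
  haveI : NeZero (2 ^ (d.p + 1)) := ⟨by positivity⟩
  rw [Nat.card_congr e.toEquiv, Nat.card_eq_fintype_card, QuaternionGroup.card]
  ring

theorem index_of_card {M : Subgroup S} (h : Nat.card M = 2 ^ (d.p + 3)) : M.index = 2 := by
  have h1 := M.card_mul_index
  rw [h, d.hcard, pow_succ 2 (d.p + 3)] at h1
  exact Nat.eq_of_mul_eq_mul_left (by positivity) h1

theorem coatom_of_index_two {M : Subgroup S} (hM : M.index = 2) : IsCoatom M := by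
  refine ⟨fun h => by rw [h, Subgroup.index_top] at hM; omega, fun K hK => ?_⟩
  have h1 := Subgroup.index_dvd_of_le hK.le
  rw [hM] at h1
  rcases (Nat.dvd_prime Nat.prime_two).mp h1 with h | h
  · exact Subgroup.index_eq_one.mp h
  · exfalso
    have h2 := Subgroup.relIndex_mul_index hK.le
    rw [hM, h] at h2
    exact absurd (Subgroup.relIndex_eq_one.mp (by omega)) hK.not_ge

include d in
theorem coatom_index {M : Subgroup S} (hM : IsCoatom M) : M.index = 2 := by
  haveI : Fact (Nat.Prime 2) := ⟨Nat.prime_two⟩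
  have hp : IsPGroup 2 S := IsPGroup.of_card d.hcard
  haveI := hp.isNilpotent
  haveI hn : M.Normal := Subgroup.NormalizerCondition.normal_of_coatom M Group.normalizerCondition_of_isNilpotent hM
  obtain ⟨k, hk⟩ := hp.index M
  rcases k with _ | _ | k
  · exact absurd (Subgroup.index_eq_one.mp (by simpa using hk)) hM.1
  · simpa using hk
  · exfalso
    obtain ⟨K, hK⟩ := Sylow.exists_subgroup_card_pow_prime 2 (G := S ⧸ M) (n := 1)
      (by rw [show Nat.card (S ⧸ M) = M.index from rfl, hk]; exact pow_dvd_pow 2 (by omega))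
    have hlt : M < K.comap (QuotientGroup.mk' M) := by
      refine lt_of_le_of_ne (fun a ha => ?_) fun he => ?_
      · show QuotientGroup.mk' M a ∈ K
        rw [QuotientGroup.mk'_apply, (QuotientGroup.eq_one_iff a).mpr ha]; exact one_mem K
      · have : K = ⊥ := by
          rw [eq_bot_iff]
          intro c hc
          obtain ⟨a, rfl⟩ := QuotientGroup.mk'_surjective M c
          have ha : a ∈ M := he ▸ hc
          exact (QuotientGroup.eq_one_iff a).mpr ha
        rw [this, Subgroup.card_bot] at hK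
        norm_num at hK
    have htop := hM.2 _ hlt
    have hKtop : K = ⊤ := Subgroup.comap_injective (QuotientGroup.mk'_surjective M)
      (htop.trans (Subgroup.comap_top _).symm)
    rw [hKtop, Subgroup.card_top, show Nat.card (S ⧸ M) = M.index from rfl, hk] at hK
    have := Nat.pow_right_injective (le_refl 2) hK
    omega

theorem index_two_cases {M : Subgroup S} (hM : M.index = 2) :
    M = Subgroup.zpowers d.x ∨ M = d.maxQ ∨ M = d.maxD := by
  have hx2 : d.x ^ (2 : ℤ) ∈ M := by rw [zpow_two]; exact x2_mem_of_index_two hM _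
  have hc : ∀ {N : Subgroup S}, Nat.card N = 2 ^ (d.p + 3) → N ≤ M → M = N := fun hN hle =>
    (Subgroup.eq_of_le_of_card_ge hle (by
      have h1 := M.card_mul_index
      rw [hM, d.hcard, pow_succ 2 (d.p + 3)] at h1
      rw [hN]; omega)).symm
  by_cases hx : d.x ∈ M
  · exact Or.inl (hc (by rw [Nat.card_zpowers, d.hx]) (Subgroup.zpowers_le.mpr hx))
  by_cases hy : d.y ∈ M
  · exact Or.inr (Or.inr (hc d.card_maxD ((Subgroup.closure_le _).mpr (by rintro _ (rfl | rfl) <;> assumption))))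
  · refine Or.inr (Or.inl (hc d.card_maxQ ((Subgroup.closure_le _).mpr ?_)))
    rintro _ (rfl | rfl)
    · exact hx2
    · exact (Subgroup.mul_mem_iff_of_index_two hM).mpr (iff_of_false hx hy)

theorem maxD_mem (a : S) :
    a ∈ d.maxD ↔ (∃ i : ℤ, 2 ∣ i ∧ (a = d.x ^ i ∨ a = d.x ^ i * d.y)) := by
  have hmem : ∀ c : ℤ, d.x ^ (2 * c) ∈ d.maxD := fun c => by
    rw [zpow_mul]; exact zpow_mem (Subgroup.subset_closure (by simp)) c
  constructor
  · intro ha
    have hodd : ∀ i : ℤ, ¬ 2 ∣ i → d.x ^ i ∉ d.maxD := by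
      intro i hi h
      obtain ⟨e, rfl⟩ : ∃ e, i = 2 * e + 1 := ⟨i / 2, by omega⟩
      have hx : d.x ∈ d.maxD := by
        have := mul_mem (inv_mem (hmem e)) h
        rwa [← zpow_neg, pp, neg_add_cancel_left, zpow_one] at this
      have hy : d.y ∈ d.maxD := Subgroup.subset_closure (by simp)
      have htop : d.maxD = ⊤ := eq_top_iff.mpr fun g _ => by
        rcases d.cases g with ⟨j, rfl⟩ | ⟨j, rfl⟩
        · exact zpow_mem hx j
        · exact mul_mem (zpow_mem hx j) hy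
      have := d.index_of_card d.card_maxD
      rw [htop, Subgroup.index_top] at this
      omega
    rcases d.cases a with ⟨i, rfl⟩ | ⟨i, rfl⟩
    · exact ⟨i, by_contra fun h => hodd i h ha, Or.inl rfl⟩
    · refine ⟨i, by_contra fun h => hodd i h ?_, Or.inr rfl⟩
      have := mul_mem ha (Subgroup.subset_closure (by simp) : d.y ∈ d.maxD)
      rwa [mul_assoc, d.yy, mul_one] at this
  · rintro ⟨_, ⟨c, rfl⟩, rfl | rfl⟩
    · exact hmem c
    · exact mul_mem (hmem c) (Subgroup.subset_closure (by simp))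

theorem maxD_ne_zpowers : d.maxD ≠ Subgroup.zpowers d.x := fun h =>
  d.y_not_mem (h ▸ Subgroup.subset_closure (by simp) : d.y ∈ Subgroup.zpowers d.x)

theorem maxQ_ne_zpowers : d.maxQ ≠ Subgroup.zpowers d.x := fun h =>
  d.y_not_mem (by
    have h1 : d.x * d.y ∈ Subgroup.zpowers d.x := h ▸ Subgroup.subset_closure (by simp)
    simpa using mul_mem (inv_mem (Subgroup.mem_zpowers d.x)) h1)

theorem maxQ_ne_maxD : d.maxQ ≠ d.maxD := fun h => by
  have h1 : d.x * d.y ∈ d.maxD := h ▸ Subgroup.subset_closure (by simp)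
  obtain ⟨i, hi, h2 | h2⟩ := (d.maxD_mem _).mp h1
  · exact d.ne_form i 1 (by rw [zpow_one]; exact h2.symm)
  · nth_rewrite 1 [← zpow_one d.x] at h2
    rw [form_eq_iff] at h2
    have := (Dvd.intro (4 * d.r) (by ring) : (2 : ℤ) ∣ 8 * d.r).trans h2
    omega

/-- The derived subgroup is generated by `x ^ 2`. -/
theorem commutator_eq : commutator S = Subgroup.zpowers (d.x ^ (2 : ℤ)) := by
  refine le_antisymm ?_ (Subgroup.zpowers_le.mpr ?_)
  · have hle : ∀ M : Subgroup S, M.index = 2 → commutator S ≤ M := by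
      intro M hM
      haveI := Subgroup.normal_of_index_eq_two hM
      rw [commutator_def, Subgroup.commutator_le]
      intro a _ b _
      simp only [commutatorElement_def, Subgroup.mul_mem_iff_of_index_two hM, inv_mem_iff]
      tauto
    intro a ha
    have h1 := hle _ d.index_zpowers ha
    have h2 := hle _ (d.index_of_card d.card_maxD) ha
    obtain ⟨k, rfl⟩ := h1
    obtain ⟨i, hi, h | h⟩ := (d.maxD_mem _).mp h2
    · have h' : d.x ^ k = d.x ^ i := h
      rw [zpow_eq_iff] at h'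
      have := (Dvd.intro (4 * d.r) (by ring) : (2 : ℤ) ∣ 8 * d.r).trans h'
      obtain ⟨c, rfl⟩ : (2 : ℤ) ∣ k := by omega
      exact ⟨c, (zpow_mul d.x 2 c).symm⟩
    · exact absurd h (d.ne_form k i)
  · have h : ⁅d.y, d.x⁆ ∈ commutator S :=
      Subgroup.commutator_mem_commutator (Subgroup.mem_top _) (Subgroup.mem_top _)
    rw [commutatorElement_def, d.conj_x] at h
    nth_rewrite 2 [← zpow_one d.x] at h
    rw [← zpow_neg, pp] at h
    have e : d.x ^ (2 : ℤ) = (d.x ^ (4 * d.r - 1 + -1)) ^ (-(1 + 2 * d.r)) := by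
      rw [← zpow_mul, zpow_eq_iff]
      exact ⟨d.r, by ring⟩
    rw [e]
    exact zpow_mem h _

theorem frattini_eq : frattini S = Subgroup.zpowers (d.x ^ (2 : ℤ)) := by
  refine le_antisymm ?_ (Subgroup.zpowers_le.mpr ?_)
  · intro a ha
    have h1 := frattini_le_coatom (coatom_of_index_two d.index_zpowers) ha
    have h2 := frattini_le_coatom (coatom_of_index_two (d.index_of_card d.card_maxD)) ha
    obtain ⟨k, rfl⟩ := h1
    obtain ⟨i, hi, h | h⟩ := (d.maxD_mem _).mp h2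
    · have h' : d.x ^ k = d.x ^ i := h
      rw [zpow_eq_iff] at h'
      have := (Dvd.intro (4 * d.r) (by ring) : (2 : ℤ) ∣ 8 * d.r).trans h'
      obtain ⟨c, rfl⟩ : (2 : ℤ) ∣ k := by omega
      exact ⟨c, (zpow_mul d.x 2 c).symm⟩
    · exact absurd h (d.ne_form k i)
  · rw [frattini, Order.radical]
    simp only [Subgroup.mem_iInf]
    intro M hM
    rw [zpow_two]; exact x2_mem_of_index_two (d.coatom_index hM) _

theorem center_eq : Subgroup.center S = Subgroup.zpowers d.z := by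
  refine le_antisymm ?_ (Subgroup.zpowers_le.mpr (Subgroup.mem_center_iff.mpr d.z_central))
  intro a ha
  have h1 := (Subgroup.mem_center_iff.mp ha d.y).symm
  nth_rewrite 1 2 [← one_mul d.y] at h1
  nth_rewrite 1 2 [← zpow_zero d.x] at h1
  rw [commute_form_iff] at h1
  have h2 := (Subgroup.mem_center_iff.mp ha d.x).symm
  have key : ∀ c : ℤ, d.x ^ c * d.y * d.x ≠ d.x * (d.x ^ c * d.y) := fun c h => by
    nth_rewrite 2 3 [← zpow_one d.x] at h
    rw [commute_form_pow] at h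
    have := Int.le_of_dvd one_pos h
    linarith [d.r_pos]
  rcases h1 with rfl | rfl | rfl | rfl
  · exact one_mem _
  · exact Subgroup.mem_zpowers _
  · exact absurd h2 (key 0)
  · rw [z, pq] at h2; exact absurd h2 (key _)

theorem closure_invol : Subgroup.closure {g : S | orderOf g = 2} = d.maxD := by
  refine le_antisymm ((Subgroup.closure_le _).mpr fun a ha => ?_) ((Subgroup.closure_le _).mpr ?_)
  · have ha' : a * a = 1 := by
      rw [← pow_two, ← (show orderOf a = 2 from ha)]; exact pow_orderOf_eq_one a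
    rw [SetLike.mem_coe, maxD_mem]
    rcases d.sq_eq_one_cases ha' with rfl | rfl | ⟨i, hi, rfl⟩
    · exact ⟨0, dvd_zero _, Or.inl (zpow_zero _).symm⟩
    · exact ⟨4 * d.r, ⟨2 * d.r, by ring⟩, Or.inl rfl⟩
    · exact ⟨i, hi, Or.inr rfl⟩
  · have hinv : ∀ i : ℤ, 2 ∣ i → d.x ^ i * d.y ∈ Subgroup.closure {g : S | orderOf g = 2} :=
      fun i hi => Subgroup.subset_closure (orderOf_eq_prime (by rw [pow_two]; exact (d.form_sq_eq_one_iff i).mpr hi)
        (fun e => d.ne_form 0 i (by rw [zpow_zero, e])))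
    rintro _ (rfl | rfl)
    · have := mul_mem (hinv 2 dvd_rfl) (inv_mem (hinv 0 (dvd_zero 2)))
      rwa [zpow_zero, one_mul, mul_inv_cancel_right] at this
    · simpa using hinv 0 (dvd_zero 2)

include d in
theorem normal_cases (N : Subgroup S) [N.Normal] (hN : N ≠ ⊤) :
    IsCoatom N ∨ (IsCyclic N ∧ N ≤ commutator S) := by
  by_cases hex : ∃ i : ℤ, d.x ^ i * d.y ∈ N
  · obtain ⟨i, hi⟩ := hex
    left
    have hx2 : d.x ^ (2 : ℤ) ∈ N := by
      have h1 := mul_mem ((inferInstance : N.Normal).conj_mem _ hi d.x) (inv_mem hi)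
      have h2 := d.conj_x_form 1 i
      rw [zpow_one] at h2
      rw [h2, mul_inv_rev, mul_assoc, mul_inv_cancel_left, ← zpow_neg, pp] at h1
      have e : d.x ^ (2 : ℤ) = (d.x ^ (i + 2 * 1 * (1 - 2 * d.r) + -i)) ^ (1 + 2 * d.r) := by
        rw [← zpow_mul, zpow_eq_iff]
        exact ⟨d.r, by ring⟩
      rw [e]; exact zpow_mem h1 _
    refine coatom_of_index_two ?_
    rcases Int.even_or_odd' i with ⟨c, rfl | rfl⟩
    · have hy : d.y ∈ N := by
        have := mul_mem (inv_mem (zpow_mem hx2 c)) hi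
        rwa [← zpow_mul, inv_mul_cancel_left] at this
      have hle : d.maxD ≤ N := (Subgroup.closure_le _).mpr (by rintro _ (rfl | rfl) <;> assumption)
      have h2 := Subgroup.index_dvd_of_le hle
      rw [d.index_of_card d.card_maxD] at h2
      exact ((Nat.dvd_prime Nat.prime_two).mp h2).resolve_left (fun e => hN (Subgroup.index_eq_one.mp e))
    · have hxy : d.x * d.y ∈ N := by
        have := mul_mem (inv_mem (zpow_mem hx2 c)) hi
        rwa [← zpow_mul, ← zpow_neg, ← mul_assoc, pp, neg_add_cancel_left, zpow_one] at this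
      have hle : d.maxQ ≤ N := (Subgroup.closure_le _).mpr (by rintro _ (rfl | rfl) <;> assumption)
      have h2 := Subgroup.index_dvd_of_le hle
      rw [d.index_of_card d.card_maxQ] at h2
      exact ((Nat.dvd_prime Nat.prime_two).mp h2).resolve_left (fun e => hN (Subgroup.index_eq_one.mp e))
  · push Not at hex
    have hle : N ≤ Subgroup.zpowers d.x := fun a ha => by
      rcases d.cases a with ⟨k, rfl⟩ | ⟨k, rfl⟩
      · exact ⟨k, rfl⟩
      · exact absurd ha (hex k)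
    by_cases hxN : N = Subgroup.zpowers d.x
    · exact Or.inl (hxN ▸ coatom_of_index_two d.index_zpowers)
    right
    refine ⟨Subgroup.isCyclic_of_le hle, fun a ha => ?_⟩
    rw [d.commutator_eq]
    obtain ⟨k, rfl⟩ := hle ha
    rcases Int.even_or_odd' k with ⟨c, rfl | rfl⟩
    · exact ⟨c, (zpow_mul d.x 2 c).symm⟩
    · exfalso
      refine hxN (le_antisymm hle (Subgroup.zpowers_le.mpr ?_))
      have hco : IsCoprime (2 * c + 1) (8 * d.r) := by
        have h : IsCoprime (2 * c + 1) 2 := ⟨1, -c, by ring⟩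
        rw [show 8 * d.r = 2 ^ (d.p + 3) by rw [r, pow_add]; ring]
        exact h.pow_right
      obtain ⟨u, v, huv⟩ := hco
      have : d.x = (d.x ^ (2 * c + 1)) ^ u := by
        nth_rewrite 1 [← zpow_one d.x]
        rw [← zpow_mul, zpow_eq_iff]
        exact ⟨v, by linear_combination -huv⟩
      rw [this]; exact zpow_mem ha u

end Pres

end Cfsg.Agent.QD
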