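import Cfsg.Agent.Lib.TwoGroups.OddAction
import Mathlib.GroupTheory.SpecificGroups.KleinFour
import Mathlib.GroupTheory.SpecificGroups.Quaternion
import Mathlib.GroupTheory.Perm.Fin
import Mathlib.Data.Fintype.Perm

/-!
The action of a normalizer on the three involutions of a four-group and on the three cyclic
subgroups of order four of a quaternion group.
-/

set_option autoImplicit false

namespace Cfsg.Agent.TwoFus

theorem perm_three_transitive : ∀ σ : Equiv.Perm (Fin 3), σ ^ 3 = 1 → σ ≠ 1 →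
    ∀ a b : Fin 3, ∃ k : Fin 3, (σ ^ (k : ℕ)) a = b := by decide +kernel

variable {G : Type*} [Group G] [Finite G]

omit [Finite G] in
theorem mem_of_odd_pow {H : Subgroup G} (hH : H.index = 2) (v : G) (k : ℕ) : (v * v) ^ k ∈ H :=
  pow_mem (Subgroup.mul_self_mem_of_index_two hH v) k

section generic

variable {X : Type*} [Finite X] {N : Subgroup G} (f : N →* Equiv.Perm X)

omit [Finite G] in
theorem range_dvd_six (hX : Nat.card X = 3) : Nat.card f.range ∣ 6 := by
  have h := Subgroup.card_subgroup_dvd_card f.range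
  rwa [Nat.card_perm, hX] at h

/-- If the image has order divisible by three, a square acts as a three-cycle. -/
theorem exists_square_transitive (hX : Nat.card X = 3) (h3 : 3 ∣ Nat.card f.range) (a b : X) :
    ∃ (v : N) (k : ℕ), f ((v * v) ^ k) a = b := by
  haveI : Fact (Nat.Prime 3) := ⟨by norm_num⟩
  obtain ⟨⟨σ, v, rfl⟩, hσ⟩ := exists_prime_orderOf_dvd_card' 3 h3
  have ho : orderOf (f v) = 3 := by rw [← hσ, ← Subgroup.orderOf_coe]
  set e : X ≃ Fin 3 := (Finite.equivFin X).trans (finCongr hX) with he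
  have h1 : (e.permCongrHom (f (v * v))) ^ 3 = 1 := by
    rw [← map_pow, map_mul, ← pow_two, ← pow_mul, show 2 * 3 = 3 * 2 from rfl, pow_mul,
      show f v ^ 3 = 1 by rw [← ho]; exact pow_orderOf_eq_one _, one_pow, map_one]
  have h2 : e.permCongrHom (f (v * v)) ≠ 1 := by
    rw [Ne, map_eq_one_iff _ e.permCongrHom.injective, map_mul, ← pow_two]
    exact pow_ne_one_of_lt_orderOf two_ne_zero (by omega)
  obtain ⟨k, hk⟩ := perm_three_transitive _ h1 h2 (e a) (e b)
  refine ⟨v, k, e.injective ?_⟩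
  rw [← hk, ← map_pow, map_pow f, Equiv.permCongrHom_coe, Equiv.permCongr_apply, Equiv.symm_apply_apply]

end generic

/-! ### four-groups -/

/-- The nonidentity elements of a subgroup, acted on by its normalizer. -/
def actNe (U : Subgroup G) :
    Subgroup.normalizer (U : Set G) →* Equiv.Perm {v : G // v ∈ U ∧ v ≠ 1} where
  toFun w := (MulAut.conj (w : G)).toEquiv.subtypeEquiv (fun v => by
    show _ ↔ (w : G) * v * (w : G)⁻¹ ∈ U ∧ (w : G) * v * (w : G)⁻¹ ≠ 1
    rw [← Subgroup.mem_normalizer_iff.mp w.2 v, ne_eq, ne_eq, conj_eq_one_iff])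
  map_one' := by ext; simp
  map_mul' a b := by ext; simp [mul_assoc]

omit [Finite G] in
theorem actNe_apply (U : Subgroup G) (w : Subgroup.normalizer (U : Set G))
    (v : {v : G // v ∈ U ∧ v ≠ 1}) : ((actNe U w v : {v : G // v ∈ U ∧ v ≠ 1}) : G) = w * v * (w : G)⁻¹ :=
  rfl

omit [Finite G] in
theorem actNe_ker (U : Subgroup G) :
    (actNe U).ker = (Subgroup.centralizer (U : Set G)).subgroupOf (Subgroup.normalizer (U : Set G)) := by
  ext w
  rw [MonoidHom.mem_ker, Subgroup.mem_subgroupOf, Subgroup.mem_centralizer_iff]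
  constructor
  · intro h v hv
    by_cases hv1 : v = 1
    · rw [hv1, one_mul, mul_one]
    · have := congrArg Subtype.val (Equiv.congr_fun h (⟨v, hv, hv1⟩ : {v : G // v ∈ U ∧ v ≠ 1}))
      rw [actNe_apply] at this
      exact (mul_inv_eq_iff_eq_mul.mp this).symm
  · intro h
    ext v
    rw [actNe_apply, Equiv.Perm.coe_one, id_eq, mul_inv_eq_iff_eq_mul]
    exact (h v v.2.1).symm

theorem card_ne_klein {U : Subgroup G} (hU : IsKleinFour U) : Nat.card {v : G // v ∈ U ∧ v ≠ 1} = 3 := by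
  classical
  letI := Fintype.ofFinite U
  rw [← Nat.card_congr (Equiv.subtypeSubtypeEquivSubtypeInter (fun v : G => v ∈ U) (fun v => v ≠ 1)),
    Nat.card_congr (Equiv.subtypeEquivRight (q := fun v : U => v ≠ 1) fun v => by simp),
    Nat.card_eq_fintype_card, Fintype.card_subtype_compl, Fintype.card_subtype_eq,
    ← Nat.card_eq_fintype_card, hU.card_four]

omit [Finite G] in
theorem klein_relIndex_eq (U : Subgroup G) :
    (Subgroup.centralizer (U : Set G)).relIndex (Subgroup.normalizer (U : Set G)) =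
      Nat.card (actNe U).range := by
  rw [← Subgroup.index_ker, actNe_ker]; rfl

theorem klein_relIndex_dvd {U : Subgroup G} (hU : IsKleinFour U) :
    (Subgroup.centralizer (U : Set G)).relIndex (Subgroup.normalizer (U : Set G)) ∣ 6 := by
  rw [klein_relIndex_eq]; exact range_dvd_six _ (card_ne_klein hU)

theorem klein_transitive {U : Subgroup G} (hU : IsKleinFour U)
    (h : 3 ∣ (Subgroup.centralizer (U : Set G)).relIndex (Subgroup.normalizer (U : Set G)))
    {a b : G} (ha : a ∈ U) (hb : b ∈ U) (ha1 : a ≠ 1) (hb1 : b ≠ 1) :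
    ∃ w ∈ Subgroup.normalizer (U : Set G), w * a * w⁻¹ = b ∧ ∀ H : Subgroup G, H.index = 2 → w ∈ H := by
  rw [klein_relIndex_eq] at h
  obtain ⟨v, k, hvk⟩ := exists_square_transitive (actNe U) (card_ne_klein hU) h ⟨a, ha, ha1⟩ ⟨b, hb, hb1⟩
  refine ⟨(((v * v) ^ k : Subgroup.normalizer (U : Set G)) : G), ((v * v) ^ k).2,
    congrArg Subtype.val hvk, fun H hH => ?_⟩
  rw [Subgroup.coe_pow, Subgroup.coe_mul]
  exact mem_of_odd_pow hH _ k

theorem klein_oddTrivial {U : Subgroup G}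
    (h : (Subgroup.centralizer (U : Set G)).relIndex (Subgroup.normalizer (U : Set G)) ∣ 2) :
    OddTrivial U := by
  intro w hw ho
  rw [klein_relIndex_eq] at h
  have h1 : orderOf (actNe U ⟨w, hw⟩) ∣ Nat.card (actNe U).range := by
    rw [← Subgroup.orderOf_mk (H := (actNe U).range) _ ⟨_, rfl⟩]; exact orderOf_dvd_natCard _
  have h2 : orderOf (actNe U ⟨w, hw⟩) ∣ orderOf w := by
    have := orderOf_map_dvd (actNe U) ⟨w, hw⟩
    rwa [Subgroup.orderOf_mk] at this
  have h3 := Nat.eq_one_of_dvd_coprimes (Nat.coprime_two_left.mpr ho) (h1.trans h) h2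
  rw [orderOf_eq_one_iff, ← MonoidHom.mem_ker, actNe_ker, Subgroup.mem_subgroupOf] at h3
  exact h3

theorem klein_two_dvd {U : Subgroup G} {s : G} (hsN : s ∈ Subgroup.normalizer (U : Set G))
    (hs : s ∉ Subgroup.centralizer (U : Set G)) {k : ℕ} (hk : orderOf s = 2 ^ k) :
    2 ∣ (Subgroup.centralizer (U : Set G)).relIndex (Subgroup.normalizer (U : Set G)) := by
  rw [klein_relIndex_eq]
  have hne : actNe U ⟨s, hsN⟩ ≠ 1 := by
    rw [ne_eq, ← MonoidHom.mem_ker, actNe_ker, Subgroup.mem_subgroupOf]; exact hs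
  have h2 : orderOf (actNe U ⟨s, hsN⟩) ∣ 2 ^ k := by
    have := orderOf_map_dvd (actNe U) ⟨s, hsN⟩
    rwa [Subgroup.orderOf_mk, hk] at this
  obtain ⟨j, -, hj⟩ := (Nat.dvd_prime_pow Nat.prime_two).mp h2
  have hj0 : j ≠ 0 := fun e => hne (orderOf_eq_one_iff.mp (by rw [hj, e, pow_zero]))
  have h1 : orderOf (actNe U ⟨s, hsN⟩) ∣ Nat.card (actNe U).range := by
    rw [← Subgroup.orderOf_mk (H := (actNe U).range) _ ⟨_, rfl⟩]; exact orderOf_dvd_natCard _
  rw [hj] at h1
  exact (dvd_pow_self 2 hj0).trans h1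

/-! ### quaternion groups of order eight -/

/-- Generators of a quaternion group of order eight inside `G`. -/
structure Q8Gens (Q : Subgroup G) (g h : G) : Prop where
  hg : g ∈ Q
  hh : h ∈ Q
  og : orderOf g = 4
  oh : orderOf h = 4
  ogh : orderOf (g * h) = 4
  sq : h * h = g * g
  inv : h * g * h⁻¹ = g⁻¹
  inv' : g * h * g⁻¹ = h⁻¹
  forms : ∀ v ∈ Q, v = 1 ∨ v = g * g ∨ v = g ∨ v = g⁻¹ ∨ v = h ∨ v = h⁻¹ ∨ v = g * h ∨ v = (g * h)⁻¹
  ne1 : h ∉ Subgroup.zpowers g
  ne2 : g * h ∉ Subgroup.zpowers g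
  ne3 : g * h ∉ Subgroup.zpowers h
  conj : ∀ v ∈ Q, ∀ a ∈ Q, v * a * v⁻¹ = a ∨ v * a * v⁻¹ = a⁻¹
  comm : ∀ v ∈ Q, v * g = g * v → v * h = h * v → v = 1 ∨ v = g * g

theorem q8_forms : ∀ v : QuaternionGroup 2, v = 1 ∨ v = .a 1 * .a 1 ∨ v = .a 1 ∨ v = (.a 1)⁻¹ ∨
    v = .xa 0 ∨ v = (.xa 0)⁻¹ ∨ v = .a 1 * .xa 0 ∨ v = (.a 1 * .xa 0)⁻¹ := by decide +kernel

theorem q8_conj : ∀ v a : QuaternionGroup 2, v * a * v⁻¹ = a ∨ v * a * v⁻¹ = a⁻¹ := by decide +kernel

theorem q8_comm : ∀ v : QuaternionGroup 2, v * .a 1 = .a 1 * v → v * .xa 0 = .xa 0 * v →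
    v = 1 ∨ v = .a 1 * .a 1 := by decide +kernel

theorem q8_rel : (QuaternionGroup.xa 0 * QuaternionGroup.xa 0 : QuaternionGroup 2) = .a 1 * .a 1 ∧
    (QuaternionGroup.xa 0 * .a 1 * (.xa 0)⁻¹ : QuaternionGroup 2) = (.a 1)⁻¹ ∧
    (QuaternionGroup.a 1 * .xa 0 * (.a 1)⁻¹ : QuaternionGroup 2) = (.xa 0)⁻¹ := by decide +kernel

theorem q8_ne : ∀ k : Fin 4, (QuaternionGroup.a 1 : QuaternionGroup 2) ^ (k : ℕ) ≠ .xa 0 ∧
    (QuaternionGroup.a 1 : QuaternionGroup 2) ^ (k : ℕ) ≠ .a 1 * .xa 0 ∧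
    (QuaternionGroup.xa 0 : QuaternionGroup 2) ^ (k : ℕ) ≠ .a 1 * .xa 0 := by decide +kernel

theorem q8_orders : (QuaternionGroup.a 1 : QuaternionGroup 2) ^ 2 ≠ 1 ∧
    (QuaternionGroup.xa 0 : QuaternionGroup 2) ^ 2 ≠ 1 ∧
    (QuaternionGroup.a 1 * .xa 0 : QuaternionGroup 2) ^ 2 ≠ 1 ∧
    ∀ v : QuaternionGroup 2, v ^ 4 = 1 := by decide +kernel

theorem exists_gens {Q : Subgroup G} (e : Q ≃* QuaternionGroup 2) : ∃ g h : G, Q8Gens Q g h := by
  set f : QuaternionGroup 2 →* G := Q.subtype.comp e.symm.toMonoidHom with hf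
  have inj : Function.Injective f := Subtype.val_injective.comp e.symm.injective
  have hmem : ∀ v, f v ∈ Q := fun v => (e.symm v).2
  have hrange : ∀ v ∈ Q, ∃ u, f u = v := fun v hv => ⟨e ⟨v, hv⟩, by simp [f]⟩
  have ord : ∀ v : QuaternionGroup 2, v ^ 2 ≠ 1 → orderOf (f v) = 4 := fun v hv => by
    rw [orderOf_injective f inj]
    exact orderOf_eq_prime_pow (p := 2) (n := 1) (hp := ⟨Nat.prime_two⟩) (by rwa [pow_one])
      (q8_orders.2.2.2 v)
  have pw : ∀ (u v : QuaternionGroup 2), (∀ k : Fin 4, u ^ (k : ℕ) ≠ v) →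
      f v ∉ Subgroup.zpowers (f u) := by
    intro u v h hm
    obtain ⟨k, hk⟩ := mem_powers_iff_mem_zpowers.mpr hm
    refine h ⟨k % 4, Nat.mod_lt _ (by norm_num)⟩ (inj ?_)
    rw [← show f u ^ k = f v from hk, map_pow]
    have h4 : f u ^ 4 = 1 := by rw [← map_pow, q8_orders.2.2.2, map_one]
    conv_rhs => rw [← Nat.mod_add_div k 4, pow_add, pow_mul, h4, one_pow, mul_one]
  refine ⟨f (.a 1), f (.xa 0), hmem _, hmem _, ord _ q8_orders.1, ord _ q8_orders.2.1, ?_, ?_, ?_, ?_,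
    ?_, pw _ _ fun k => (q8_ne k).1, ?_, ?_, ?_, ?_⟩
  · rw [← map_mul]; exact ord _ q8_orders.2.2.1
  · rw [← map_mul, q8_rel.1, map_mul]
  · rw [← map_inv, ← map_inv, ← map_mul, ← map_mul, q8_rel.2.1]
  · rw [← map_inv, ← map_inv, ← map_mul, ← map_mul, q8_rel.2.2]
  · intro v hv
    obtain ⟨u, rfl⟩ := hrange v hv
    rcases q8_forms u with r | r | r | r | r | r | r | r <;> subst r <;>
      simp only [map_one, map_mul, map_inv, true_or, or_true]
  · rw [← map_mul]; exact pw _ _ fun k => (q8_ne k).2.1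
  · rw [← map_mul]; exact pw _ _ fun k => (q8_ne k).2.2
  · intro v hv a ha
    obtain ⟨u, rfl⟩ := hrange v hv
    obtain ⟨t, rfl⟩ := hrange a ha
    rw [← map_inv, ← map_inv, ← map_mul, ← map_mul]
    exact (q8_conj u t).imp (congrArg f) (congrArg f)
  · intro v hv h1 h2
    obtain ⟨u, rfl⟩ := hrange v hv
    rw [← map_mul, ← map_mul] at h1 h2
    rcases q8_comm u (inj h1) (inj h2) with r | r
    · left; rw [r, map_one]
    · right; rw [r, map_mul]

/-- The three cyclic subgroups of order four. -/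
abbrev ThreeCyc (g h : G) : Type _ :=
  {A : Subgroup G // A = Subgroup.zpowers g ∨ A = Subgroup.zpowers h ∨ A = Subgroup.zpowers (g * h)}

theorem card_threeCyc {Q : Subgroup G} {g h : G} (d : Q8Gens Q g h) : Nat.card (ThreeCyc g h) = 3 := by
  let F : Fin 3 → ThreeCyc g h :=
    ![⟨_, Or.inl rfl⟩, ⟨_, Or.inr (Or.inl rfl)⟩, ⟨_, Or.inr (Or.inr rfl)⟩]
  have d1 : Subgroup.zpowers g ≠ Subgroup.zpowers h := fun e => d.ne1 (e ▸ Subgroup.mem_zpowers h)
  have d2 : Subgroup.zpowers g ≠ Subgroup.zpowers (g * h) := fun e => d.ne2 (e ▸ Subgroup.mem_zpowers _)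
  have d3 : Subgroup.zpowers h ≠ Subgroup.zpowers (g * h) := fun e => d.ne3 (e ▸ Subgroup.mem_zpowers _)
  refine (Nat.card_eq_of_bijective F ⟨?_, ?_⟩).symm.trans (Nat.card_fin 3)
  · intro i j e
    have e' := congrArg Subtype.val e
    fin_cases i <;> fin_cases j <;> simp [F] at e' ⊢ <;>
      first | exact absurd e' d1 | exact absurd e'.symm d1 | exact absurd e' d2 |
        exact absurd e'.symm d2 | exact absurd e' d3 | exact absurd e'.symm d3
  · rintro ⟨A, rfl | rfl | rfl⟩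
    · exact ⟨0, rfl⟩
    · exact ⟨1, rfl⟩
    · exact ⟨2, rfl⟩

theorem zpowers_mem_three {Q : Subgroup G} {g h : G} (d : Q8Gens Q g h) {a : G} (ha : a ∈ Q)
    (h4 : orderOf a = 4) :
    Subgroup.zpowers a = Subgroup.zpowers g ∨ Subgroup.zpowers a = Subgroup.zpowers h ∨
      Subgroup.zpowers a = Subgroup.zpowers (g * h) := by
  rcases d.forms a ha with r | r | r | r | r | r | r | r <;> subst r
  · simp at h4
  · exfalso
    have h2 : orderOf (g * g) = 2 := by rw [← pow_two, orderOf_pow' _ two_ne_zero, d.og]; rfl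
    omega
  · exact Or.inl rfl
  · exact Or.inl Subgroup.zpowers_inv
  · exact Or.inr (Or.inl rfl)
  · exact Or.inr (Or.inl Subgroup.zpowers_inv)
  · exact Or.inr (Or.inr rfl)
  · exact Or.inr (Or.inr Subgroup.zpowers_inv)

theorem map_three {Q : Subgroup G} {g h : G} (d : Q8Gens Q g h) {w : G}
    (hw : w ∈ Subgroup.normalizer (Q : Set G)) {A : Subgroup G}
    (hA : A = Subgroup.zpowers g ∨ A = Subgroup.zpowers h ∨ A = Subgroup.zpowers (g * h)) :
    A.map (MulAut.conj w).toMonoidHom = Subgroup.zpowers g ∨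
      A.map (MulAut.conj w).toMonoidHom = Subgroup.zpowers h ∨
      A.map (MulAut.conj w).toMonoidHom = Subgroup.zpowers (g * h) := by
  obtain ⟨a, ha, h4, rfl⟩ : ∃ a ∈ Q, orderOf a = 4 ∧ A = Subgroup.zpowers a := by
    rcases hA with r | r | r
    · exact ⟨g, d.hg, d.og, r⟩
    · exact ⟨h, d.hh, d.oh, r⟩
    · exact ⟨g * h, mul_mem d.hg d.hh, d.ogh, r⟩
  rw [MonoidHom.map_zpowers]
  exact zpowers_mem_three d ((Subgroup.mem_normalizer_iff.mp hw a).mp ha)
    (by rw [MulEquiv.coe_toMonoidHom, MulEquiv.orderOf_eq, h4])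

/-- The normalizer of `Q` permutes the three cyclic subgroups of order four. -/
def actThree {Q : Subgroup G} {g h : G} (d : Q8Gens Q g h) :
    Subgroup.normalizer (Q : Set G) →* Equiv.Perm (ThreeCyc g h) where
  toFun w :=
    { toFun := fun A => ⟨A.1.map (MulAut.conj (w : G)).toMonoidHom, map_three d w.2 A.2⟩
      invFun := fun A => ⟨A.1.map (MulAut.conj (w : G)⁻¹).toMonoidHom, map_three d (inv_mem w.2) A.2⟩
      left_inv := fun A => Subtype.ext (by
        simp only
        rw [Subgroup.map_map]; convert Subgroup.map_id A.1; ext x; simp [mul_assoc])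
      right_inv := fun A => Subtype.ext (by
        simp only
        rw [Subgroup.map_map]; convert Subgroup.map_id A.1; ext x; simp [mul_assoc]) }
  map_one' := Equiv.ext fun A => Subtype.ext (by
    show A.1.map (MulAut.conj (1 : G)).toMonoidHom = A.1
    convert Subgroup.map_id A.1; ext x; simp)
  map_mul' u v := Equiv.ext fun A => Subtype.ext (by
    show A.1.map (MulAut.conj ((u : G) * v)).toMonoidHom =
      (A.1.map (MulAut.conj (v : G)).toMonoidHom).map (MulAut.conj (u : G)).toMonoidHom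
    rw [Subgroup.map_map]; congr 1; ext x; simp [mul_assoc])

theorem eq_or_inv_of_zpowers {a b : G} (ha : orderOf a = 4) (hb : orderOf b = 4)
    (h : b ∈ Subgroup.zpowers a) : b = a ∨ b = a⁻¹ := by
  obtain ⟨i, rfl⟩ := h
  change orderOf (a ^ i) = 4 at hb
  show a ^ i = a ∨ a ^ i = a⁻¹
  rw [← zpow_mod_orderOf a i, ha] at hb ⊢
  have h0 := Int.emod_nonneg i (by norm_num : ((4 : ℕ) : ℤ) ≠ 0)
  have h4 := Int.emod_lt_of_pos i (by norm_num : (0 : ℤ) < ((4 : ℕ) : ℤ))
  push_cast at h0 h4 hb ⊢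
  interval_cases hr : i % 4
  · simp at hb
  · left; rw [zpow_one]
  · exfalso
    have h2 : orderOf (a ^ (2 : ℤ)) ∣ 2 := orderOf_dvd_of_pow_eq_one (by
      rw [← zpow_natCast, ← zpow_mul, ← orderOf_dvd_iff_zpow_eq_one, ha]; norm_num)
    rw [hb] at h2
    omega
  · right
    rw [eq_inv_iff_mul_eq_one]
    nth_rewrite 2 [← zpow_one a]
    rw [← zpow_add, ← orderOf_dvd_iff_zpow_eq_one, ha]
    norm_num

theorem actThree_fix {Q : Subgroup G} {g h : G} (d : Q8Gens Q g h)
    {w : Subgroup.normalizer (Q : Set G)} (hw : actThree d w = 1) {a : G}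
    (ha : a = g ∨ a = h) : (w : G) * a * (w : G)⁻¹ = a ∨ (w : G) * a * (w : G)⁻¹ = a⁻¹ := by
  have hA : Subgroup.zpowers a = Subgroup.zpowers g ∨ Subgroup.zpowers a = Subgroup.zpowers h ∨
      Subgroup.zpowers a = Subgroup.zpowers (g * h) := by rcases ha with rfl | rfl <;> simp
  have e : (Subgroup.zpowers a).map (MulAut.conj (w : G)).toMonoidHom = Subgroup.zpowers a :=
    congrArg Subtype.val (Equiv.congr_fun hw (⟨_, hA⟩ : ThreeCyc g h))
  have h4 : orderOf a = 4 := by rcases ha with rfl | rfl; exacts [d.og, d.oh]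
  exact eq_or_inv_of_zpowers h4 (by rw [← MulAut.conj_apply, MulEquiv.orderOf_eq, h4])
    (e ▸ ⟨a, Subgroup.mem_zpowers a, rfl⟩)

theorem actThree_ker {Q : Subgroup G} {g h : G} (d : Q8Gens Q g h) :
    (actThree d).ker = (Q ⊔ Subgroup.centralizer (Q : Set G)).subgroupOf (Subgroup.normalizer (Q : Set G)) := by
  refine le_antisymm (fun w hw => ?_) ?_
  · rw [MonoidHom.mem_ker] at hw
    rw [Subgroup.mem_subgroupOf]
    have hgen : ∀ c : G, c * g * c⁻¹ = g → c * h * c⁻¹ = h → c ∈ Subgroup.centralizer (Q : Set G) := by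
      intro c h1 h2
      have hg' : g * c = c * g := (mul_inv_eq_iff_eq_mul.mp h1).symm
      have hh' : h * c = c * h := (mul_inv_eq_iff_eq_mul.mp h2).symm
      have cg : Commute g c := hg'
      have ch : Commute h c := hh'
      rw [Subgroup.mem_centralizer_iff]
      intro v hv
      rcases d.forms v hv with r | r | r | r | r | r | r | r <;> subst r
      exacts [(Commute.one_left c).eq, (cg.mul_left cg).eq, cg.eq, cg.inv_left.eq, ch.eq, ch.inv_left.eq,
        (cg.mul_left ch).eq, (cg.mul_left ch).inv_left.eq]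
    have key : ∀ q ∈ Q, q * ((w : G) * g * (w : G)⁻¹) * q⁻¹ = g →
        q * ((w : G) * h * (w : G)⁻¹) * q⁻¹ = h → (w : G) ∈ Q ⊔ Subgroup.centralizer (Q : Set G) := by
      intro q hq h1 h2
      have := hgen (q * (w : G))
        (Eq.trans (by group) h1) (Eq.trans (by group) h2)
      rw [show (w : G) = q⁻¹ * (q * (w : G)) by group]
      exact mul_mem (Subgroup.mem_sup_left (inv_mem hq)) (Subgroup.mem_sup_right this)
    have gg : g * g⁻¹ * g⁻¹ = g⁻¹ := by group
    rcases actThree_fix d hw (Or.inl rfl) with e1 | e1 <;> rcases actThree_fix d hw (Or.inr rfl) with e2 | e2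
    · exact key 1 (one_mem _) (by rw [e1]; group) (by rw [e2]; group)
    · refine key g d.hg (by rw [e1]; group) ?_
      rw [e2, ← conj_inv, d.inv', inv_inv]
    · refine key h d.hh ?_ (by rw [e2]; group)
      rw [e1, ← conj_inv, d.inv, inv_inv]
    · refine key (g * h) (mul_mem d.hg d.hh) ?_ ?_
      · rw [e1, show g * h * g⁻¹ * (g * h)⁻¹ = g * (h * g * h⁻¹)⁻¹ * g⁻¹ by group, d.inv]; group
      · rw [e2, show g * h * h⁻¹ * (g * h)⁻¹ = (g * h * g⁻¹)⁻¹ by group, d.inv', inv_inv]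
  · have hle : Q ⊔ Subgroup.centralizer (Q : Set G) ≤
        ((actThree d).ker.map (Subgroup.normalizer (Q : Set G)).subtype) := by
      refine sup_le (fun v hv => ?_) (fun c hc => ?_)
      · refine ⟨⟨v, Subgroup.le_normalizer hv⟩, ?_, rfl⟩
        rw [SetLike.mem_coe, MonoidHom.mem_ker]
        refine Equiv.ext fun A => Subtype.ext ?_
        show A.1.map (MulAut.conj v).toMonoidHom = A.1
        obtain ⟨a, ha, hA⟩ : ∃ a ∈ Q, A.1 = Subgroup.zpowers a := by
          rcases A.2 with r | r | r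
          exacts [⟨g, d.hg, r⟩, ⟨h, d.hh, r⟩, ⟨g * h, mul_mem d.hg d.hh, r⟩]
        rw [hA, MonoidHom.map_zpowers]
        show Subgroup.zpowers (v * a * v⁻¹) = _
        rcases d.conj v hv a ha with r | r <;> rw [r]
        exact Subgroup.zpowers_inv
      · have hcN : c ∈ Subgroup.normalizer (Q : Set G) := by
          rw [Subgroup.mem_normalizer_iff]
          intro x
          constructor
          · intro hx
            rw [← Subgroup.mem_centralizer_iff.mp hc x hx, mul_inv_cancel_right]; exact hx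
          · intro hx
            have := Subgroup.mem_centralizer_iff.mp hc _ hx
            have e : c * x * c⁻¹ = x := by
              have e2 := congrArg (fun t => c⁻¹ * t) this
              simpa [mul_assoc] using e2.symm
            rwa [e] at hx
        refine ⟨⟨c, hcN⟩, ?_, rfl⟩
        rw [SetLike.mem_coe, MonoidHom.mem_ker]
        refine Equiv.ext fun A => Subtype.ext ?_
        show A.1.map (MulAut.conj c).toMonoidHom = A.1
        obtain ⟨a, ha, hA⟩ : ∃ a ∈ Q, A.1 = Subgroup.zpowers a := by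
          rcases A.2 with r | r | r
          exacts [⟨g, d.hg, r⟩, ⟨h, d.hh, r⟩, ⟨g * h, mul_mem d.hg d.hh, r⟩]
        rw [hA, MonoidHom.map_zpowers]
        show Subgroup.zpowers (c * a * c⁻¹) = _
        rw [← Subgroup.mem_centralizer_iff.mp hc a ha, mul_inv_cancel_right]
    intro w hw
    obtain ⟨u, hu, hu'⟩ := hle hw
    rwa [← Subtype.ext (show (u : G) = (w : G) from hu')]

theorem quat_relIndex_eq {Q : Subgroup G} {g h : G} (d : Q8Gens Q g h) :
    (Q ⊔ Subgroup.centralizer (Q : Set G)).relIndex (Subgroup.normalizer (Q : Set G)) =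
      Nat.card (actThree d).range := by
  rw [← Subgroup.index_ker, actThree_ker]; rfl

theorem quat_relIndex_dvd {Q : Subgroup G} (e : Q ≃* QuaternionGroup 2) :
    (Q ⊔ Subgroup.centralizer (Q : Set G)).relIndex (Subgroup.normalizer (Q : Set G)) ∣ 6 := by
  obtain ⟨g, h, d⟩ := exists_gens e
  rw [quat_relIndex_eq d]; exact range_dvd_six _ (card_threeCyc d)

theorem quat_transitive {Q : Subgroup G} (e : Q ≃* QuaternionGroup 2)
    (h6 : 3 ∣ (Q ⊔ Subgroup.centralizer (Q : Set G)).relIndex (Subgroup.normalizer (Q : Set G)))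
    {a b : G} (ha : a ∈ Q) (hb : b ∈ Q) (ha4 : orderOf a = 4) (hb4 : orderOf b = 4) :
    ∃ w ∈ Subgroup.normalizer (Q : Set G), (w * a * w⁻¹ = b ∨ w * a * w⁻¹ = b⁻¹) ∧
      ∀ H : Subgroup G, H.index = 2 → w ∈ H := by
  obtain ⟨g, h, d⟩ := exists_gens e
  rw [quat_relIndex_eq d] at h6
  obtain ⟨v, k, hvk⟩ := exists_square_transitive (actThree d) (card_threeCyc d) h6
    ⟨_, zpowers_mem_three d ha ha4⟩ ⟨_, zpowers_mem_three d hb hb4⟩
  refine ⟨(((v * v) ^ k : Subgroup.normalizer (Q : Set G)) : G), ((v * v) ^ k).2, ?_, fun H hH => ?_⟩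
  · have e' : (Subgroup.zpowers a).map
        (MulAut.conj (((v * v) ^ k : Subgroup.normalizer (Q : Set G)) : G)).toMonoidHom =
          Subgroup.zpowers b := congrArg Subtype.val hvk
    exact eq_or_inv_of_zpowers hb4 (by rw [← MulAut.conj_apply, MulEquiv.orderOf_eq, ha4])
      (e' ▸ ⟨a, Subgroup.mem_zpowers a, rfl⟩)
  · rw [Subgroup.coe_pow, Subgroup.coe_mul]
    exact mem_of_odd_pow hH _ k

theorem quat_oddTrivial {Q : Subgroup G} (e : Q ≃* QuaternionGroup 2)
    (h2 : (Q ⊔ Subgroup.centralizer (Q : Set G)).relIndex (Subgroup.normalizer (Q : Set G)) ∣ 2) :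
    OddTrivial Q := by
  obtain ⟨g, h, d⟩ := exists_gens e
  intro w hw ho
  rw [quat_relIndex_eq d] at h2
  have h1 : orderOf (actThree d ⟨w, hw⟩) ∣ Nat.card (actThree d).range := by
    rw [← Subgroup.orderOf_mk (H := (actThree d).range) _ ⟨_, rfl⟩]; exact orderOf_dvd_natCard _
  have h3 : orderOf (actThree d ⟨w, hw⟩) ∣ orderOf w := by
    have := orderOf_map_dvd (actThree d) ⟨w, hw⟩
    rwa [Subgroup.orderOf_mk] at this
  have h4 := Nat.eq_one_of_dvd_coprimes (Nat.coprime_two_left.mpr ho) (h1.trans h2) h3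
  rw [orderOf_eq_one_iff] at h4
  have hfix : ∀ a, a = g ∨ a = h → w * a * w⁻¹ = a := fun a ha => by
    refine conj_eq_of_odd (k := 2) (by rcases ha with rfl | rfl; exacts [d.og, d.oh]) ho ?_
    rcases actThree_fix d h4 ha with r | r
    · exact r.symm ▸ Subgroup.mem_zpowers a
    · exact r.symm ▸ inv_mem (Subgroup.mem_zpowers a)
  have cg : Commute g w := (mul_inv_eq_iff_eq_mul.mp (hfix g (Or.inl rfl))).symm
  have ch : Commute h w := (mul_inv_eq_iff_eq_mul.mp (hfix h (Or.inr rfl))).symm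
  rw [Subgroup.mem_centralizer_iff]
  intro v hv
  rcases d.forms v hv with r | r | r | r | r | r | r | r <;> subst r
  exacts [(Commute.one_left w).eq, (cg.mul_left cg).eq, cg.eq, cg.inv_left.eq, ch.eq, ch.inv_left.eq,
    (cg.mul_left ch).eq, (cg.mul_left ch).inv_left.eq]

theorem quat_two_dvd {Q : Subgroup G} (e : Q ≃* QuaternionGroup 2) {s : G}
    (hsN : s ∈ Subgroup.normalizer (Q : Set G))
    (hs : s ∉ Q ⊔ Subgroup.centralizer (Q : Set G)) {k : ℕ} (hk : orderOf s = 2 ^ k) :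
    2 ∣ (Q ⊔ Subgroup.centralizer (Q : Set G)).relIndex (Subgroup.normalizer (Q : Set G)) := by
  obtain ⟨g, h, d⟩ := exists_gens e
  rw [quat_relIndex_eq d]
  have hne : actThree d ⟨s, hsN⟩ ≠ 1 := by
    rw [ne_eq, ← MonoidHom.mem_ker, actThree_ker, Subgroup.mem_subgroupOf]; exact hs
  have h2 : orderOf (actThree d ⟨s, hsN⟩) ∣ 2 ^ k := by
    have := orderOf_map_dvd (actThree d) ⟨s, hsN⟩
    rwa [Subgroup.orderOf_mk, hk] at this
  obtain ⟨j, -, hj⟩ := (Nat.dvd_prime_pow Nat.prime_two).mp h2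
  have hj0 : j ≠ 0 := fun e => hne (orderOf_eq_one_iff.mp (by rw [hj, e, pow_zero]))
  have h1 : orderOf (actThree d ⟨s, hsN⟩) ∣ Nat.card (actThree d).range := by
    rw [← Subgroup.orderOf_mk (H := (actThree d).range) _ ⟨_, rfl⟩]; exact orderOf_dvd_natCard _
  rw [hj] at h1
  exact (dvd_pow_self 2 hj0).trans h1

end Cfsg.Agent.TwoFus
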