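import Cfsg.Agent.Lib.TwoGroups.CyclicMax
import Cfsg.Agent.Lib.TwoGroups.ThreeAction
import Cfsg.Agent.Lib.TwoGroups.QuasiDihedral

/-!
Dihedral and quasi-dihedral Sylow 2-subgroups as data inside the ambient group, and conjugation
invariance of the local indices.
-/

set_option autoImplicit false

namespace Cfsg.Agent.TwoFus

variable {G : Type*} [Group G]

theorem subgroupOf_klein {S U : Subgroup G} (hU : IsKleinFour U) (hle : U ≤ S) :
    IsKleinFour (U.subgroupOf S) :=
  ⟨by rw [Nat.card_congr (Subgroup.subgroupOfEquivOfLe hle).toEquiv]; exact hU.card_four,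
    by rw [Monoid.exponent_eq_of_mulEquiv (Subgroup.subgroupOfEquivOfLe hle)]; exact hU.exponent_two⟩

theorem map_klein {S : Subgroup G} {U : Subgroup S} (hU : IsKleinFour U) :
    IsKleinFour (U.map S.subtype) := by
  have e := U.equivMapOfInjective S.subtype S.subtype_injective
  exact ⟨by rw [← Nat.card_congr e.toEquiv]; exact hU.card_four,
    by rw [← Monoid.exponent_eq_of_mulEquiv e]; exact hU.exponent_two⟩

theorem klein_map_conj {U : Subgroup G} (hU : IsKleinFour U) (k : G) :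
    IsKleinFour (U.map (MulAut.conj k).toMonoidHom) := by
  have e := U.equivMapOfInjective (MulAut.conj k).toMonoidHom (MulAut.conj k).injective
  exact ⟨by rw [← Nat.card_congr e.toEquiv]; exact hU.card_four,
    by rw [← Monoid.exponent_eq_of_mulEquiv e]; exact hU.exponent_two⟩

theorem map_conj_centralizer (U : Subgroup G) (k : G) :
    (Subgroup.centralizer (U : Set G)).map (MulAut.conj k).toMonoidHom =
      Subgroup.centralizer ((U.map (MulAut.conj k).toMonoidHom : Subgroup G) : Set G) := by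
  ext g
  simp only [Subgroup.mem_map_equiv, MulAut.conj_symm_apply, Subgroup.mem_centralizer_iff,
    SetLike.mem_coe]
  constructor
  · intro h v hv
    have := h _ hv
    calc v * g = k * (k⁻¹ * v * k * (k⁻¹ * g * k)) * k⁻¹ := by group
      _ = k * (k⁻¹ * g * k * (k⁻¹ * v * k)) * k⁻¹ := by rw [this]
      _ = g * v := by group
  · intro h v hv
    have := h (k * v * k⁻¹) (by convert hv using 1; group)
    calc v * (k⁻¹ * g * k) = k⁻¹ * (k * v * k⁻¹ * g) * k := by group
      _ = k⁻¹ * (g * (k * v * k⁻¹)) * k := by rw [this]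
      _ = k⁻¹ * g * k * v := by group

theorem relIndex_centralizer_conj (U : Subgroup G) (k : G) :
    (Subgroup.centralizer ((U.map (MulAut.conj k).toMonoidHom : Subgroup G) : Set G)).relIndex
      (Subgroup.normalizer ((U.map (MulAut.conj k).toMonoidHom : Subgroup G) : Set G)) =
    (Subgroup.centralizer (U : Set G)).relIndex (Subgroup.normalizer (U : Set G)) := by
  rw [← map_conj_centralizer, ← Subgroup.map_equiv_normalizer_eq U (MulAut.conj k),
    Subgroup.relIndex_map_map_of_injective _ _ (MulAut.conj k).injective]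

theorem relIndex_sup_conj (U : Subgroup G) (k : G) :
    (U.map (MulAut.conj k).toMonoidHom ⊔
      Subgroup.centralizer ((U.map (MulAut.conj k).toMonoidHom : Subgroup G) : Set G)).relIndex
      (Subgroup.normalizer ((U.map (MulAut.conj k).toMonoidHom : Subgroup G) : Set G)) =
    (U ⊔ Subgroup.centralizer (U : Set G)).relIndex (Subgroup.normalizer (U : Set G)) := by
  rw [← map_conj_centralizer, ← Subgroup.map_equiv_normalizer_eq U (MulAut.conj k), ← Subgroup.map_sup,
    Subgroup.relIndex_map_map_of_injective _ _ (MulAut.conj k).injective]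

theorem map_subtype_conj {S : Subgroup G} (U : Subgroup S) (s : S) :
    (U.map (MulAut.conj s).toMonoidHom).map S.subtype =
      (U.map S.subtype).map (MulAut.conj (s : G)).toMonoidHom := by
  rw [Subgroup.map_map, Subgroup.map_map]
  congr 1

variable [Finite G]

/-- Elements of order a power of two are conjugate into a given Sylow 2-subgroup. -/
theorem exists_conj_mem (P : Sylow 2 G) {a : G} {k : ℕ} (ha : orderOf a = 2 ^ k) :
    ∃ g : G, g * a * g⁻¹ ∈ (P : Subgroup G) := by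
  haveI : Fact (Nat.Prime 2) := ⟨Nat.prime_two⟩
  obtain ⟨R, hR⟩ := (IsPGroup.of_card (n := k) (by rw [Nat.card_zpowers, ha]) :
    IsPGroup 2 (Subgroup.zpowers a)).exists_le_sylow
  obtain ⟨g, rfl⟩ := MulAction.exists_smul_eq G R P
  refine ⟨g, ?_⟩
  rw [Sylow.smul_def, Sylow.pointwise_smul_def, Subgroup.mem_pointwise_smul_iff_inv_smul_mem,
    ← map_inv, MulAut.smul_def, MulAut.conj_apply, inv_inv,
    show g⁻¹ * (g * a * g⁻¹) * g = a by group]
  exact hR (Subgroup.mem_zpowers a)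

theorem exists_klein_conj_le (P : Sylow 2 G) {U : Subgroup G} (hU : IsKleinFour U) :
    ∃ g : G, U.map (MulAut.conj g).toMonoidHom ≤ (P : Subgroup G) := by
  haveI : Fact (Nat.Prime 2) := ⟨Nat.prime_two⟩
  obtain ⟨R, hR⟩ := (IsPGroup.of_card (n := 2) (by rw [hU.card_four]; norm_num) :
    IsPGroup 2 U).exists_le_sylow
  obtain ⟨g, rfl⟩ := MulAction.exists_smul_eq G R P
  exact ⟨g, Subgroup.map_mono hR⟩

/-- No quaternion subgroup if all elements outside the cyclic maximal subgroup are involutions. -/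
theorem no_quat {S : Subgroup G} {c : G} (hS : ∀ a ∈ S, a ∉ Subgroup.zpowers c → a * a = 1)
    {E : Subgroup G} (hE : E ≤ S) : ¬ Nonempty (E ≃* QuaternionGroup 2) := by
  rintro ⟨e⟩
  obtain ⟨g, h, d⟩ := exists_gens e
  have key : ∀ v ∈ E, orderOf v = 4 → v ∈ Subgroup.zpowers c := fun v hv h4 => by
    by_contra hno
    have := orderOf_dvd_of_pow_eq_one (x := v) (n := 2) (by rw [pow_two, hS v (hE hv) hno])
    rw [h4] at this
    omega
  obtain ⟨i, rfl⟩ := key g d.hg d.og
  obtain ⟨j, rfl⟩ := key h d.hh d.oh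
  have hinv := d.inv
  simp only [] at hinv
  rw [(Commute.zpow_zpow_self c j i).eq, mul_inv_cancel_right, eq_inv_iff_mul_eq_one, ← pow_two] at hinv
  have := orderOf_dvd_of_pow_eq_one hinv
  have h4 : orderOf (c ^ i) = 4 := d.og
  rw [h4] at this
  omega

/-- Dihedral data inside the ambient group. -/
structure Dih (S : Subgroup G) where
  m : ℕ
  x : G
  y : G
  even : 2 ∣ m
  two_le : 2 ≤ m
  hm : orderOf x = m
  hx : x ∈ S
  hy : y ∈ S
  yy : y * y = 1
  inv : y * x * y⁻¹ = x⁻¹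
  ynot : y ∉ Subgroup.zpowers x
  card : Nat.card S = 2 * m
  cases : ∀ a ∈ S, (∃ i : ℤ, a = x ^ i) ∨ ∃ i : ℤ, a = x ^ i * y

theorem exists_dih (S : Sylow 2 G) {m : ℕ} (hm : 2 ≤ m) (eS : (S : Subgroup G) ≃* DihedralGroup m) :
    ∃ d : Dih (S : Subgroup G), d.m = m := by
  haveI : Fact (Nat.Prime 2) := ⟨Nat.prime_two⟩
  set f : DihedralGroup m →* G := (S : Subgroup G).subtype.comp eS.symm.toMonoidHom with hf
  have inj : Function.Injective f := Subtype.val_injective.comp eS.symm.injective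
  have hcard : Nat.card (S : Subgroup G) = 2 * m := by
    rw [Nat.card_congr eS.toEquiv, DihedralGroup.nat_card]
  have heven : 2 ∣ m := by
    obtain ⟨k, hk⟩ := IsPGroup.iff_card.mp S.isPGroup'
    rw [hcard] at hk
    rcases k with _ | _ | k
    · omega
    · omega
    · exact ⟨2 ^ k, by rw [pow_succ', pow_succ'] at hk; omega⟩
  refine ⟨⟨m, f (.r 1), f (.sr 0), heven, hm, ?_, (eS.symm _).2, (eS.symm _).2, ?_, ?_, ?_, hcard, ?_⟩, rfl⟩
  · rw [orderOf_injective f inj, DihedralGroup.orderOf_r_one]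
  · rw [← map_mul, DihedralGroup.sr_mul_sr, sub_self, ← DihedralGroup.one_def, map_one]
  · rw [← map_inv, ← map_inv, ← map_mul, ← map_mul]
    congr 1
    simp
  · intro h
    obtain ⟨i, hi⟩ := h
    have h' : f ((DihedralGroup.r 1) ^ i) = f (.sr 0) := (map_zpow f _ i).trans hi
    have h2 := inj h'
    obtain ⟨n, hn⟩ : ∃ n : ℕ, (DihedralGroup.r 1 : DihedralGroup m) ^ i = (.r 1) ^ n := by
      haveI : NeZero m := ⟨by omega⟩
      obtain ⟨n, hn⟩ := mem_powers_iff_mem_zpowers.mpr (⟨i, rfl⟩ :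
        (DihedralGroup.r 1 : DihedralGroup m) ^ i ∈ Subgroup.zpowers (DihedralGroup.r 1))
      exact ⟨n, hn.symm⟩
    rw [hn, DihedralGroup.r_one_pow] at h2
    exact absurd h2 (by simp)
  · intro a ha
    have he : a = f (eS ⟨a, ha⟩) := by simp [f]
    rcases hq : eS ⟨a, ha⟩ with i | i
    · refine Or.inl ⟨(i.val : ℤ), ?_⟩
      haveI : NeZero m := ⟨by omega⟩
      rw [he, hq, zpow_natCast, ← map_pow, DihedralGroup.r_one_pow, ZMod.natCast_zmod_val]
    · refine Or.inr ⟨((-i).val : ℤ), ?_⟩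
      haveI : NeZero m := ⟨by omega⟩
      rw [he, hq, zpow_natCast, ← map_pow, ← map_mul, DihedralGroup.r_one_pow, ZMod.natCast_zmod_val,
        DihedralGroup.r_mul_sr, zero_sub, neg_neg]

namespace Dih

variable {S : Subgroup G} (d : Dih S)

theorem swap (i : ℤ) : d.y * d.x ^ i = d.x ^ (-i) * d.y := TwoLift.swap d.inv i

theorem form_sq (i : ℤ) : d.x ^ i * d.y * (d.x ^ i * d.y) = 1 := by
  calc d.x ^ i * d.y * (d.x ^ i * d.y) = d.x ^ i * (d.y * d.x ^ i) * d.y := by simp only [mul_assoc]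
    _ = d.x ^ i * d.x ^ (-i) * (d.y * d.y) := by rw [d.swap]; simp only [mul_assoc]
    _ = 1 := by rw [d.yy, mul_one, ← zpow_add, add_neg_cancel, zpow_zero]

theorem form_not_mem (i : ℤ) : d.x ^ i * d.y ∉ Subgroup.zpowers d.x := fun h =>
  d.ynot ((Subgroup.mul_mem_cancel_left _ (zpow_mem (Subgroup.mem_zpowers d.x) i)).mp h)

theorem out_sq (a : G) (ha : a ∈ S) (hax : a ∉ Subgroup.zpowers d.x) : a * a = 1 := by
  rcases d.cases a ha with ⟨i, rfl⟩ | ⟨i, rfl⟩
  · exact absurd (zpow_mem (Subgroup.mem_zpowers d.x) i) hax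
  · exact d.form_sq i

theorem idx (a : G) (ha : a ∈ S) (b : G) (hb : b ∈ S) (h1 : a ∉ Subgroup.zpowers d.x)
    (h2 : b ∉ Subgroup.zpowers d.x) : a⁻¹ * b ∈ Subgroup.zpowers d.x := by
  rcases d.cases a ha with ⟨i, rfl⟩ | ⟨i, rfl⟩
  · exact absurd (zpow_mem (Subgroup.mem_zpowers d.x) i) h1
  rcases d.cases b hb with ⟨j, rfl⟩ | ⟨j, rfl⟩
  · exact absurd (zpow_mem (Subgroup.mem_zpowers d.x) j) h2
  refine ⟨-(-i + j), ?_⟩
  show d.x ^ (-(-i + j)) = _
  calc d.x ^ (-(-i + j)) = d.x ^ (-(-i + j)) * (d.y * d.y) := by rw [d.yy, mul_one]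
    _ = d.y * d.x ^ (-i + j) * d.y := by rw [d.swap, mul_assoc]
    _ = (d.x ^ i * d.y)⁻¹ * (d.x ^ j * d.y) := by
      rw [mul_inv_rev, inv_eq_of_mul_eq_one_right d.yy, ← zpow_neg, zpow_add]
      simp only [mul_assoc]

theorem zpow_eq_one (i : ℤ) : d.x ^ i = 1 ↔ (d.m : ℤ) ∣ i := by
  rw [← orderOf_dvd_iff_zpow_eq_one, d.hm]

/-- The central involution. -/
def z : G := d.x ^ ((d.m : ℤ) / 2)

theorem z_mem : d.z ∈ Subgroup.zpowers d.x := zpow_mem (Subgroup.mem_zpowers d.x) _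

theorem z_ne : d.z ≠ 1 := fun h => by
  rw [z, zpow_eq_one] at h
  obtain ⟨k, hk⟩ := d.even
  have h2 := d.two_le
  have := Int.le_of_dvd (by omega) h
  omega

theorem zz : d.z * d.z = 1 := by
  rw [z, ← zpow_add, zpow_eq_one]
  obtain ⟨k, hk⟩ := d.even
  exact ⟨1, by omega⟩

theorem sq_cases {a : G} (ha : a ∈ Subgroup.zpowers d.x) (h : a * a = 1) : a = 1 ∨ a = d.z := by
  obtain ⟨i, rfl⟩ := ha
  change d.x ^ i * d.x ^ i = 1 at h
  show d.x ^ i = 1 ∨ d.x ^ i = d.z
  obtain ⟨k, hk⟩ := d.even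
  rw [← zpow_add, zpow_eq_one] at h
  obtain ⟨j, hj⟩ := h
  rcases Int.even_or_odd' j with ⟨e, rfl | rfl⟩
  · left; rw [zpow_eq_one]; exact ⟨e, by rw [hk] at hj ⊢; push_cast at hj ⊢; linarith⟩
  · right
    rw [z, ← mul_inv_eq_one, ← zpow_neg, ← zpow_add, zpow_eq_one]
    refine ⟨e, ?_⟩
    rw [hk] at hj ⊢
    push_cast at hj ⊢
    rw [Int.mul_ediv_cancel_left _ two_ne_zero]
    linarith

theorem z_comm {a : G} (ha : a ∈ S) : a * d.z = d.z * a := by
  rcases d.cases a ha with ⟨i, rfl⟩ | ⟨i, rfl⟩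
  · exact (Commute.zpow_zpow_self d.x i _).eq
  · have e : d.y * d.z = d.z * d.y := by
      rw [z, d.swap, mul_left_inj, ← mul_inv_eq_one, ← zpow_neg, ← zpow_add, zpow_eq_one]
      obtain ⟨k, hk⟩ := d.even
      exact ⟨-1, by omega⟩
    rw [mul_assoc, e, ← mul_assoc, z, (Commute.zpow_zpow_self d.x i _).eq, mul_assoc]

theorem klein_z_mem {U : Subgroup G} (hU : IsKleinFour U) (hUS : U ≤ S) :
    d.z ∈ U ∧ ∃ u ∈ U, u ∉ Subgroup.zpowers d.x := by
  have hsq : ∀ v ∈ U, v * v = 1 := fun v hv =>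
    congrArg Subtype.val (IsKleinFour.mul_self (⟨v, hv⟩ : U))
  obtain ⟨u, hu, hux⟩ : ∃ u ∈ U, u ∉ Subgroup.zpowers d.x := by
    by_contra hno
    push Not at hno
    classical
    have h3 : Nat.card U ≤ 2 := by
      refine (Nat.card_le_card_of_injective (fun v : U => decide ((v : G) = 1)) ?_).trans (by simp)
      rintro ⟨v, hv⟩ ⟨w, hw⟩ e
      simp only [decide_eq_decide] at e
      apply Subtype.ext
      show v = w
      rcases d.sq_cases (hno v hv) (hsq v hv) with r | r <;>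
        rcases d.sq_cases (hno w hw) (hsq w hw) with r' | r'
      · rw [r, r']
      · rw [r, e.mp r]
      · rw [e.mpr r', r']
      · rw [r, r']
    rw [hU.card_four] at h3
    omega
  refine ⟨?_, u, hu, hux⟩
  obtain ⟨v, hv, hv1, hvu⟩ : ∃ v ∈ U, v ≠ 1 ∧ v ≠ u := by
    by_contra hno
    push Not at hno
    classical
    have h3 : Nat.card U ≤ 2 := by
      refine (Nat.card_le_card_of_injective (fun v : U => decide ((v : G) = 1)) ?_).trans (by simp)
      rintro ⟨v, hv⟩ ⟨w, hw⟩ e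
      simp only [decide_eq_decide] at e
      apply Subtype.ext
      show v = w
      by_cases h1 : v = 1
      · rw [h1, e.mp h1]
      · rw [hno v hv h1, hno w hw (fun h2 => h1 (e.mpr h2))]
    rw [hU.card_four] at h3
    omega
  by_cases hvx : v ∈ Subgroup.zpowers d.x
  · exact (d.sq_cases hvx (hsq v hv)).resolve_left hv1 ▸ hv
  · have hm := d.idx u (hUS hu) v (hUS hv) hux hvx
    have hne : u⁻¹ * v ≠ 1 := fun e => hvu (inv_mul_eq_one.mp e).symm
    exact (d.sq_cases hm (hsq _ (mul_mem (inv_mem hu) hv))).resolve_left hne ▸ mul_mem (inv_mem hu) hv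

theorem cycMax (hS : IsPGroup 2 S) : CycMax S d.x := by
  refine ⟨hS, d.hx, d.idx, fun a ha hax => ?_, ?_⟩
  · rw [show 4 = 2 * 2 from rfl, pow_mul, pow_two a, d.out_sq a ha hax, one_pow]
  intro U hUS hU a ha hcomm
  obtain ⟨hz, u, hu, hux⟩ := d.klein_z_mem hU hUS
  have key : ∀ v ∈ Subgroup.zpowers d.x, v * u = u * v → v ∈ U := by
    rintro _ ⟨j, rfl⟩ h
    change d.x ^ j * u = u * d.x ^ j at h
    show d.x ^ j ∈ U
    rcases d.cases u (hUS hu) with ⟨i, rfl⟩ | ⟨i, rfl⟩
    · exact absurd (zpow_mem (Subgroup.mem_zpowers d.x) i) hux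
    have h2 : d.x ^ j * d.x ^ j = 1 := by
      rw [mul_assoc (d.x ^ i), d.swap, ← mul_assoc, ← mul_assoc, mul_left_inj, ← zpow_add, ← zpow_add,
        ← mul_inv_eq_one, ← zpow_neg, ← zpow_add] at h
      rw [← zpow_add, ← h]; ring_nf
    rcases d.sq_cases (zpow_mem (Subgroup.mem_zpowers d.x) j) h2 with r | r <;> rw [r]
    · exact one_mem _
    · exact hz
  by_cases hax : a ∈ Subgroup.zpowers d.x
  · exact key a hax (hcomm u hu)
  · have hm := d.idx a ha u (hUS hu) hax hux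
    have h2 : a⁻¹ * u ∈ U := key _ hm (by
      have h : Commute a u := hcomm u hu
      exact (h.inv_left.mul_left (Commute.refl u)).eq)
    have := mul_mem hu (inv_mem h2)
    rwa [mul_inv_rev, inv_inv, mul_inv_cancel_left] at this

end Dih

/-! ### quasi-dihedral groups -/

theorem qd_cycMax {S : Subgroup G} (d : QD.Pres S) (hS : IsPGroup 2 S) : CycMax S (d.x : G) := by
  have hiff : ∀ (a : S), (a : G) ∈ Subgroup.zpowers (d.x : G) ↔ a ∈ Subgroup.zpowers d.x := fun a => by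
    rw [show Subgroup.zpowers (d.x : G) = (Subgroup.zpowers d.x).map S.subtype from
      (MonoidHom.map_zpowers S.subtype d.x).symm]
    exact Subgroup.mem_map_iff_mem S.subtype_injective
  refine ⟨hS, d.x.2, fun a ha b hb h1 h2 => ?_, fun a ha h1 => ?_, fun U hUS hU a ha hcomm => ?_⟩
  · refine (hiff (⟨a, ha⟩⁻¹ * ⟨b, hb⟩)).mpr ?_
    refine (Subgroup.mul_mem_iff_of_index_two d.index_zpowers).mpr (iff_of_false ?_ ?_)
    · rw [inv_mem_iff]; exact fun h => h1 ((hiff ⟨a, ha⟩).mpr h)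
    · exact fun h => h2 ((hiff ⟨b, hb⟩).mpr h)
  · rcases d.cases ⟨a, ha⟩ with ⟨i, hi⟩ | ⟨i, hi⟩
    · exact absurd ((hiff ⟨a, ha⟩).mpr ⟨i, hi.symm⟩) h1
    · have : (⟨a, ha⟩ : S) ^ 4 = 1 := by
        rw [hi, show 4 = 2 * 2 from rfl, pow_mul, pow_two, pow_two, d.form_sq, d.pp, d.zpow_eq_one_iff]
        exact ⟨i, by ring⟩
      exact congrArg Subtype.val this
  · have h := d.klein_self_centralizing (subgroupOf_klein hU hUS)
    have hm : (⟨a, ha⟩ : S) ∈ Subgroup.centralizer ((U.subgroupOf S : Subgroup S) : Set S) :=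
      Subgroup.mem_centralizer_iff.mpr fun v hv => Subtype.ext (hcomm v hv).symm
    rw [h] at hm
    exact hm

end Cfsg.Agent.TwoFus
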