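import Cfsg.Agent.Lib.TwoGroups.WreathedFusion
import Cfsg.Agent.Lib.Small.Burnside

/-!
Centralizers of involutions in groups with quasi-dihedral or wreathed Sylow 2-subgroups and no
subgroup of index two.
-/

set_option autoImplicit false

open scoped Pointwise

namespace Cfsg.Agent.InvCent

open Cfsg.Agent.TwoFus

variable {G : Type*} [Group G] [Finite G]

/-- A normal complement to a nontrivial Sylow 2-subgroup gives a subgroup of index two. -/
theorem exists_index_two_of_complement (h : Cfsg.HasNormalPComplement 2 G) (hG : 2 ∣ Nat.card G) :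
    ∃ H : Subgroup G, H.index = 2 := by
  haveI : Fact (Nat.Prime 2) := ⟨Nat.prime_two⟩
  obtain ⟨P, N, hN, hc⟩ := h
  haveI := hN
  have hcard : Nat.card (G ⧸ N) = Nat.card (P : Subgroup G) := by
    rw [← Subgroup.index_eq_card]; exact hc.symm.index_eq_card
  obtain ⟨k, hk⟩ := IsPGroup.iff_card.mp P.isPGroup'
  obtain ⟨K, hK⟩ := Small.exists_index_eq_prime (IsPGroup.of_card (hcard.trans hk) : IsPGroup 2 (G ⧸ N))
    (hcard ▸ Small.one_lt_card_sylow hG P)
  exact ⟨K.comap (QuotientGroup.mk' N),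
    (K.index_comap_of_surjective (QuotientGroup.mk'_surjective N)).trans hK⟩

omit [Finite G] in
theorem relIndex_descend (C : Subgroup G) (X : Subgroup C)
    (h : Subgroup.normalizer ((X.map C.subtype : Subgroup G) : Set G) ≤ C) :
    (X ⊔ Subgroup.centralizer (X : Set C)).relIndex (Subgroup.normalizer (X : Set C)) =
      (X.map C.subtype ⊔ Subgroup.centralizer ((X.map C.subtype : Subgroup G) : Set G)).relIndex
        (Subgroup.normalizer ((X.map C.subtype : Subgroup G) : Set G)) := by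
  set X' := X.map C.subtype with hX'
  have hcent : (Subgroup.centralizer (X : Set C)).map C.subtype = Subgroup.centralizer (X' : Set G) := by
    refine le_antisymm ?_ fun g hg => ?_
    · rintro _ ⟨c, hc, rfl⟩
      rw [Subgroup.mem_centralizer_iff]
      rintro _ ⟨v, hv, rfl⟩
      exact congrArg Subtype.val (Subgroup.mem_centralizer_iff.mp hc v hv)
    · refine ⟨⟨g, h (WrFus.centralizer_le_normalizer X' hg)⟩, ?_, rfl⟩
      rw [SetLike.mem_coe, Subgroup.mem_centralizer_iff]
      intro v hv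
      exact Subtype.ext (Subgroup.mem_centralizer_iff.mp hg _ ⟨v, hv, rfl⟩)
  have hnorm : (Subgroup.normalizer (X : Set C)).map C.subtype = Subgroup.normalizer (X' : Set G) := by
    have key : ∀ c : C, c ∈ Subgroup.normalizer (X : Set C) ↔
        (c : G) ∈ Subgroup.normalizer (X' : Set G) := by
      intro c
      rw [Subgroup.mem_normalizer_iff_map_conj_eq, Subgroup.mem_normalizer_iff_map_conj_eq, hX']
      constructor
      · intro e
        exact (map_subtype_conj X c).symm.trans (congrArg _ e)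
      · intro e
        exact Subgroup.map_injective C.subtype_injective ((map_subtype_conj X c).trans e)
    refine le_antisymm ?_ fun g hg => ⟨⟨g, h hg⟩, (key _).mpr hg, rfl⟩
    rintro _ ⟨c, hc, rfl⟩
    exact (key c).mp hc
  rw [← hcent, ← hnorm, hX', ← Subgroup.map_sup, Subgroup.relIndex_map_map_of_injective _ _ C.subtype_injective]

/-- A Sylow 2-subgroup of a group can be moved to centralize a given conjugate of `z`. -/
theorem exists_sylow_centralizing (S : Sylow 2 G) {z x : G}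
    (hz : ∀ s ∈ (S : Subgroup G), s * z = z * s) (hzS : z ∈ (S : Subgroup G)) (hc : IsConj z x) :
    ∃ T : Sylow 2 G, x ∈ (T : Subgroup G) ∧ (T : Subgroup G) ≤ Subgroup.centralizer ({x} : Set G) ∧
      Nonempty ((S : Subgroup G) ≃* (T : Subgroup G)) := by
  haveI : Fact (Nat.Prime 2) := ⟨Nat.prime_two⟩
  obtain ⟨g, hg⟩ := isConj_iff.mp hc
  refine ⟨g • S, ?_, ?_, ⟨S.equiv (g • S)⟩⟩
  · rw [Sylow.coe_subgroup_smul, Subgroup.mem_pointwise_smul_iff_inv_smul_mem, ← map_inv,
      MulAut.smul_def, MulAut.conj_apply, inv_inv, ← hg, show g⁻¹ * (g * z * g⁻¹) * g = z by group]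
    exact hzS
  · intro v hv
    rw [Sylow.coe_subgroup_smul, Subgroup.mem_pointwise_smul_iff_inv_smul_mem, ← map_inv,
      MulAut.smul_def, MulAut.conj_apply, inv_inv] at hv
    rw [Subgroup.mem_centralizer_singleton_iff, ← hg]
    have := hz _ hv
    calc v * (g * z * g⁻¹) = g * (g⁻¹ * v * g * z) * g⁻¹ := by group
      _ = g * (z * (g⁻¹ * v * g)) * g⁻¹ := by rw [this]
      _ = g * z * g⁻¹ * v := by group

omit [Finite G] in
theorem invol_eq_sq {Q : Subgroup G} {g h : G} (dd : Q8Gens Q g h) {w : G} (hw : w ∈ Q)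
    (h1 : w * w = 1) (h2 : w ≠ 1) : w = g * g := by
  rcases dd.forms w hw with r | r | r | r | r | r | r | r
  · exact absurd r h2
  · exact r
  all_goals
    exfalso
    have h4 : orderOf w = 4 := by
      rw [r]; first | exact dd.og | exact dd.oh | exact dd.ogh | rw [orderOf_inv, dd.og] |
        rw [orderOf_inv, dd.oh] | rw [orderOf_inv, dd.ogh]
    have := orderOf_dvd_of_pow_eq_one (x := w) (n := 2) (by rw [pow_two, h1])
    rw [h4] at this
    omega

theorem qd_full (S : Sylow 2 G) (d : QD.Pres (S : Subgroup G)) (hG : ∀ H : Subgroup G, H.index ≠ 2) :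
    QDFus.FourFull S ∧ QDFus.QuatFull S := by
  haveI : Fact (Nat.Prime 2) := ⟨Nat.prime_two⟩
  obtain ⟨hl1, hl2⟩ := QDFus.local_indices S d
  have hU := map_klein (S := (S : Subgroup G)) (QDFus.four_klein d 0 (dvd_zero 2))
  have hUS := Subgroup.map_subtype_le (d.four 0)
  obtain ⟨e⟩ := d.quat_equiv 1 (by norm_num)
  have eQ : (d.quat 1).map (S : Subgroup G).subtype ≃* QuaternionGroup 2 :=
    ((d.quat 1).equivMapOfInjective _ (S : Subgroup G).subtype_injective).symm.trans e
  have hQS := Subgroup.map_subtype_le (d.quat 1)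
  rcases hl1 _ hU hUS with h1 | h1 <;> rcases hl2 _ hQS ⟨eQ⟩ with h2 | h2
  · obtain ⟨H, hH⟩ := exists_index_two_of_complement
      (QDFus.has_complement S d (QDFus.fourTrivial S d hU hUS h1) (QDFus.quatTrivial S d hQS eQ h2))
      ((dvd_pow_self 2 (by omega : d.p + 4 ≠ 0)).trans
        (d.hcard ▸ Subgroup.card_subgroup_dvd_card (S : Subgroup G)))
    exact absurd hH (hG H)
  · obtain ⟨K, -, hK, -⟩ := QDFus.quaternion_K S d (QDFus.fourTrivial S d hU hUS h1)
      (QDFus.quatFull S d hQS eQ h2)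
    exact absurd hK (hG K)
  · obtain ⟨K, -, hK, -⟩ := QDFus.dihedral_K S d (QDFus.fourFull S d hU hUS h1)
      (QDFus.quatTrivial S d hQS eQ h2)
    exact absurd hK (hG K)
  · exact ⟨QDFus.fourFull S d hU hUS h1, QDFus.quatFull S d hQS eQ h2⟩

theorem wr_full (S : Sylow 2 G) (d : Wreath.Pres (S : Subgroup G)) (hG : ∀ H : Subgroup G, H.index ≠ 2) :
    WrFus.idxU S d = 6 ∧ ∀ f, WrFus.idxV S d f = 6 := by
  haveI : Fact (Nat.Prime 2) := ⟨Nat.prime_two⟩
  rcases WrFus.idxU_cases S d with h1 | h1 <;> rcases WrFus.idxV_cases S d 0 with h2 | h2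
  · obtain ⟨H, hH⟩ := exists_index_two_of_complement
      (WrFus.has_complement S d h1 fun f => (WrFus.idxV_eq S d f 0).trans h2)
      ((dvd_pow_self 2 (by omega : 2 * d.p + 5 ≠ 0)).trans
        (d.hcard ▸ Subgroup.card_subgroup_dvd_card (S : Subgroup G)))
    exact absurd hH (hG H)
  · obtain ⟨K, hKn, hK, -⟩ := WrFus.exists_K_V S d h1 fun f => (WrFus.idxV_eq S d f 0).trans h2
    exfalso
    obtain ⟨M, hM⟩ := Small.exists_index_eq_prime (p := 2) (P := G ⧸ K)
      (IsPGroup.of_card (n := d.p + 2) (by rw [← Subgroup.index_eq_card, hK]))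
      (by rw [← Subgroup.index_eq_card, hK]; exact Nat.one_lt_pow (by omega) one_lt_two)
    exact hG _ ((M.index_comap_of_surjective (QuotientGroup.mk'_surjective K)).trans hM)
  · obtain ⟨K, -, hK, -⟩ := WrFus.exists_K_U S d h1 fun f => (WrFus.idxV_eq S d f 0).trans h2
    exact absurd hK (hG K)
  · exact ⟨h1, fun f => (WrFus.idxV_eq S d f 0).trans h2⟩

theorem qd_one_class (S : Sylow 2 G) (d : QD.Pres (S : Subgroup G)) (h : QDFus.FourFull S) {t : G}
    (ht : orderOf t = 2) : IsConj (d.z : G) t := by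
  rcases QDFus.invol_classes S d ht with e | e
  · exact e
  · exact (QDFus.z_conj_y S d h).trans e

theorem wr_one_class (S : Sylow 2 G) (d : Wreath.Pres (S : Subgroup G))
    (hU : WrFus.idxU S d = 6) (hV : ∀ f, WrFus.idxV S d f = 6) {t : G} (ht : orderOf t = 2) :
    IsConj (WrFus.zz S d) t := by
  rcases WrFus.invol_classes S d ht with e | e | e
  · exact e
  · exact (WrFus.zz_conj_tt S d hU).trans e
  · exact ((WrFus.zz_conj_tt S d hU).trans (WrFus.ss_conj_tt S d hV).symm).trans e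

/-- The quasi-dihedral case: structure of a subgroup `C` centralizing the central involution. -/
theorem qd_centralizer (S : Sylow 2 G) (d : QD.Pres (S : Subgroup G)) {x : G} (hx : orderOf x = 2)
    (hQ : QDFus.QuatFull S) (hxS : x ∈ (S : Subgroup G))
    (hSC : (S : Subgroup G) ≤ Subgroup.centralizer ({x} : Set G))
    {C : Subgroup G} (hC : C = Subgroup.centralizer ({x} : Set G))
    (R : Sylow 2 C)
    (hR : (R : Subgroup C).map C.subtype = (S : Subgroup G))
    (d' : QD.Pres (R : Subgroup C)) :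
    QDFus.FourTrivial R ∧ QDFus.QuatFull R := by
  haveI : Fact (Nat.Prime 2) := ⟨Nat.prime_two⟩
  have hCmem : ∀ g : C, (g : G) ∈ Subgroup.centralizer ({x} : Set G) := fun g => hC ▸ g.2
  have hzx : x = (d.z : G) := by
    have hcen : (⟨x, hxS⟩ : (S : Subgroup G)) ∈ Subgroup.center (S : Subgroup G) :=
      Subgroup.mem_center_iff.mpr fun g =>
        Subtype.ext (Subgroup.mem_centralizer_singleton_iff.mp (hSC g.2))
    rw [d.center_eq] at hcen
    obtain ⟨k, hk⟩ := hcen
    have hk' : d.z ^ k = ⟨x, hxS⟩ := hk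
    rcases Int.even_or_odd' k with ⟨i, rfl | rfl⟩
    · exfalso
      rw [zpow_mul, zpow_two, d.zz, one_zpow] at hk'
      rw [← show ((1 : (S : Subgroup G)) : G) = x from congrArg Subtype.val hk'] at hx
      simp at hx
    · rw [zpow_add_one, zpow_mul, zpow_two, d.zz, one_zpow, one_mul] at hk'
      exact (congrArg Subtype.val hk').symm
  refine ⟨fun E hE hES => ?_, fun E hE hES => ?_⟩
  · rcases (QDFus.local_indices R d').1 E hE hES with h | h
    · exact klein_oddTrivial (by rw [h])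
    exfalso
    obtain ⟨c, hc⟩ := isConj_iff.mp (QDFus.z_conj_y R d' (QDFus.fourFull R d' hE hES h))
    have hxC : x ∈ C := hC ▸ Subgroup.mem_centralizer_singleton_iff.mpr rfl
    have hxR : (⟨x, hxC⟩ : C) ∈ (R : Subgroup C) := by
      obtain ⟨v, hv, hvx⟩ : x ∈ (R : Subgroup C).map C.subtype := hR.symm ▸ hxS
      rwa [show (⟨x, hxC⟩ : C) = v from Subtype.ext hvx.symm]
    have hcen : (⟨⟨x, hxC⟩, hxR⟩ : (R : Subgroup C)) ∈ Subgroup.center (R : Subgroup C) :=
      Subgroup.mem_center_iff.mpr fun g => Subtype.ext (Subtype.ext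
        (Subgroup.mem_centralizer_singleton_iff.mp (hCmem g.1)))
    rw [d'.center_eq] at hcen
    obtain ⟨k, hk⟩ := hcen
    have hk' : d'.z ^ k = ⟨⟨x, hxC⟩, hxR⟩ := hk
    rcases Int.even_or_odd' k with ⟨i, rfl | rfl⟩
    · rw [zpow_mul, zpow_two, d'.zz, one_zpow] at hk'
      rw [← show (((1 : (R : Subgroup C)) : C) : G) = x from
        congrArg (fun v : (R : Subgroup C) => ((v : C) : G)) hk'] at hx
      simp at hx
    · rw [zpow_add_one, zpow_mul, zpow_two, d'.zz, one_zpow, one_mul] at hk'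
      have e1 : c * (d'.z : C) * c⁻¹ = (d'.z : C) := by
        rw [mul_inv_eq_iff_eq_mul]
        refine Subtype.ext ?_
        rw [Subgroup.coe_mul, Subgroup.coe_mul, hk']
        exact Subgroup.mem_centralizer_singleton_iff.mp (hCmem c)
      rw [e1] at hc
      exact d'.ne_form (4 * d'.r) 0 (by rw [zpow_zero, one_mul]; exact Subtype.ext hc)
  · obtain ⟨eE⟩ := hE
    set E' := E.map C.subtype with hE'
    have eE' : E' ≃* QuaternionGroup 2 := (E.equivMapOfInjective _ C.subtype_injective).symm.trans eE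
    have hE'S : E' ≤ (S : Subgroup G) := hR ▸ Subgroup.map_mono hES
    obtain ⟨g, h, dd⟩ := exists_gens eE'
    have hxE : x ∈ E' := hzx ▸ (QDFus.map_quat_le d eE' hE'S).2
    have hx2 : x * x = 1 := by
      have := pow_orderOf_eq_one x; rwa [hx, pow_two] at this
    have hx1 : x ≠ 1 := fun e => by rw [e, orderOf_one] at hx; omega
    have hN : Subgroup.normalizer (E' : Set G) ≤ C := by
      intro w hw
      rw [hC, Subgroup.mem_centralizer_singleton_iff]
      refine mul_inv_eq_iff_eq_mul.mp ?_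
      rw [invol_eq_sq dd ((Subgroup.mem_normalizer_iff.mp hw x).mp hxE)
        (by rw [show w * x * w⁻¹ * (w * x * w⁻¹) = w * (x * x) * w⁻¹ by group, hx2]; group)
        (by rw [ne_eq, conj_eq_one_iff]; exact hx1), invol_eq_sq dd hxE hx2 hx1]
    rw [relIndex_descend C E hN]
    exact hQ E' ⟨eE'⟩ hE'S

/-- The wreathed case. -/
theorem wr_centralizer (S : Sylow 2 G) (d : Wreath.Pres (S : Subgroup G)) {x : G} (hx : orderOf x = 2)
    (hV : ∀ f, WrFus.idxV S d f = 6) (hxS : x ∈ (S : Subgroup G))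
    {C : Subgroup G} (hC : C = Subgroup.centralizer ({x} : Set G))
    (R : Sylow 2 C)
    (hR : (R : Subgroup C).map C.subtype = (S : Subgroup G))
    (d' : Wreath.Pres (R : Subgroup C)) :
    WrFus.idxU R d' = 2 ∧ ∀ f, WrFus.idxV R d' f = 6 := by
  haveI : Fact (Nat.Prime 2) := ⟨Nat.prime_two⟩
  have hCmem : ∀ g : C, (g : G) ∈ Subgroup.centralizer ({x} : Set G) := fun g => hC ▸ g.2
  have hxC : x ∈ C := hC ▸ Subgroup.mem_centralizer_singleton_iff.mpr rfl
  have hxR : (⟨x, hxC⟩ : C) ∈ (R : Subgroup C) := by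
    obtain ⟨v, hv, hvx⟩ : x ∈ (R : Subgroup C).map C.subtype := hR.symm ▸ hxS
    rwa [show (⟨x, hxC⟩ : C) = v from Subtype.ext hvx.symm]
  set xR : (R : Subgroup C) := ⟨⟨x, hxC⟩, hxR⟩ with hxRdef
  have hxx : xR * xR = 1 := by
    refine Subtype.ext (Subtype.ext ?_)
    show x * x = 1
    have := pow_orderOf_eq_one x; rwa [hx, pow_two] at this
  have hx1 : xR ≠ 1 := fun e => by
    have : x = 1 := congrArg (fun v : (R : Subgroup C) => ((v : C) : G)) e
    rw [this, orderOf_one] at hx; omega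
  have hcen : xR ∈ Subgroup.center (R : Subgroup C) :=
    Subgroup.mem_center_iff.mpr fun g => Subtype.ext (Subtype.ext
      (Subgroup.mem_centralizer_singleton_iff.mp (hCmem g.1)))
  have hxz : xR = d'.u d'.h d'.h := by
    obtain ⟨a, b, hab⟩ := d'.mem_U.mp (d'.center_le_U hcen)
    rw [hab] at hcen hxx hx1 ⊢
    have hd := (d'.center_mem).mp hcen
    obtain ⟨⟨i, hi⟩, -⟩ := (d'.u_sq_eq_one a b).mp hxx
    obtain ⟨k, hk⟩ := hd
    rcases Int.even_or_odd' i with ⟨j, rfl | rfl⟩
    · exact absurd ((d'.u_eq_one a b).mpr ⟨⟨j, by rw [hi]; ring⟩, ⟨j - k, by linarith⟩⟩) hx1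
    · rw [d'.u_eq_iff]
      exact ⟨⟨j, by rw [hi]; ring⟩, ⟨j - k, by linarith⟩⟩
  refine ⟨(WrFus.idxU_cases R d').resolve_right fun h => ?_, fun f => ?_⟩
  · obtain ⟨c, hc⟩ := isConj_iff.mp (WrFus.zz_conj_tt R d' h)
    have e1 : c * WrFus.zz R d' * c⁻¹ = WrFus.zz R d' := by
      rw [mul_inv_eq_iff_eq_mul, WrFus.zz, ← hxz]
      refine Subtype.ext ?_
      exact Subgroup.mem_centralizer_singleton_iff.mp (hCmem c)
    rw [e1] at hc
    exact d'.not_dvd_h (Wreath.dvd_congr ((d'.u_eq_iff _ _ _ _).mp (Subtype.ext hc)).2 (by ring))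
  · obtain ⟨eQ⟩ := WrFus.QG_equiv R d' f
    set Q' := (WrFus.QG R d' f).map C.subtype with hQ'
    have hQ'S : Q' ≤ (S : Subgroup G) := hR ▸ Subgroup.map_mono (Subgroup.map_subtype_le _)
    obtain ⟨f', hf'⟩ := WrFus.quat_VG S d hQ'S
      (((WrFus.QG R d' f).equivMapOfInjective _ C.subtype_injective).symm.trans eQ)
    set V' := (WrFus.VG R d' f).map C.subtype with hV'
    have hZ : (WrFus.ZG R).map C.subtype = WrFus.ZG S := by
      ext v
      constructor
      · rintro ⟨_, ⟨c, hc, rfl⟩, rfl⟩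
        have hcS : ((c : C) : G) ∈ (S : Subgroup G) := hR ▸ ⟨_, c.2, rfl⟩
        refine ⟨⟨_, hcS⟩, Subgroup.mem_center_iff.mpr fun g => Subtype.ext ?_, rfl⟩
        obtain ⟨w, hw, hwg⟩ : (g : G) ∈ (R : Subgroup C).map C.subtype := hR.symm ▸ g.2
        have := congrArg (fun v : (R : Subgroup C) => ((v : C) : G))
          (Subgroup.mem_center_iff.mp hc ⟨w, hw⟩)
        show (g : G) * ((c : C) : G) = ((c : C) : G) * (g : G)
        rw [← hwg]; exact this
      · rintro ⟨c, hc, rfl⟩
        obtain ⟨w, hw, hwc⟩ : (c : G) ∈ (R : Subgroup C).map C.subtype := hR.symm ▸ c.2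
        refine ⟨w, ⟨⟨w, hw⟩, Subgroup.mem_center_iff.mpr fun g => Subtype.ext (Subtype.ext ?_), rfl⟩, hwc⟩
        have hgS : ((g : C) : G) ∈ (S : Subgroup G) := hR ▸ ⟨_, g.2, rfl⟩
        have := congrArg Subtype.val (Subgroup.mem_center_iff.mp hc ⟨_, hgS⟩)
        show ((g : C) : G) * (w : G) = (w : G) * ((g : C) : G)
        rw [show (w : G) = (c : G) from hwc]; exact this
    have hVV : V' = WrFus.VG S d f' := by
      rw [hV', WrFus.VG_eq, Subgroup.map_sup, hZ, ← hf']
    have hxZ : x ∈ WrFus.ZG S := hZ ▸ ⟨_, ⟨xR, hcen, rfl⟩, rfl⟩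
    have hN : Subgroup.normalizer (V' : Set G) ≤ C := by
      intro w hw
      rw [hC, Subgroup.mem_centralizer_singleton_iff]
      rw [hVV] at hw
      exact mul_inv_eq_iff_eq_mul.mp (WrFus.V_central S d hw hxZ)
    rw [WrFus.idxV, relIndex_descend C _ hN, ← hV', hVV]
    exact hV f'

end Cfsg.Agent.InvCent
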