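import Cfsg.Agent.Lib.OddOrder.Nilpotent
import Cfsg.Agent.Lib.TwoGroups.CentFour
import Mathlib.GroupTheory.SpecificGroups.Cyclic
import Mathlib.GroupTheory.Sylow
import Mathlib.GroupTheory.GroupAction.ConjAct

/-!
A 2-group with an elementary abelian subgroup of order eight has a normal four-subgroup.
-/

set_option autoImplicit false
set_option linter.style.haveILetI false

namespace Cfsg.Agent.NormalFour

variable {S : Type*} [Group S] [Finite S]

/-- An abelian 2-group with at most two square roots of one is cyclic. -/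
theorem isCyclic_of_sqrt_le_two {A : Type*} [CommGroup A] [Finite A] (hA : IsPGroup 2 A)
    (h : Nat.card (powMonoidHom 2 : A →* A).ker ≤ 2) : IsCyclic A := by
  haveI : Fact (Nat.Prime 2) := ⟨Nat.prime_two⟩
  have hK : ∀ j : ℕ, Nat.card (powMonoidHom (2 ^ j) : A →* A).ker ≤ 2 ^ j := by
    intro j
    induction j with
    | zero =>
      have : (powMonoidHom (2 ^ 0) : A →* A).ker = ⊥ := by ext a; simp
      rw [this]; simp
    | succ j ih =>
      set K := (powMonoidHom (2 ^ (j + 1)) : A →* A).ker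
      set f := (powMonoidHom 2 : A →* A).comp K.subtype
      have h1 := f.ker.card_mul_index
      rw [Subgroup.index_ker] at h1
      have h2 : Nat.card f.ker ≤ 2 := by
        refine le_trans (Nat.card_le_card_of_injective
          (fun a : f.ker => (⟨((a : K) : A), a.2⟩ : (powMonoidHom 2 : A →* A).ker)) ?_) h
        intro a b hab
        exact Subtype.ext (Subtype.ext (Subtype.mk.inj hab))
      have h3 : f.range ≤ (powMonoidHom (2 ^ j) : A →* A).ker := by
        rintro _ ⟨a, rfl⟩
        have ha : ((a : A)) ^ 2 ^ (j + 1) = 1 := a.2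
        show ((a : A) ^ 2) ^ 2 ^ j = 1
        rw [← pow_mul, ← pow_succ']; exact ha
      have h4 := (Subgroup.card_le_of_le h3).trans ih
      rw [← h1, pow_succ']
      exact Nat.mul_le_mul h2 h4
  obtain ⟨m, hm⟩ := IsPGroup.iff_card.1 hA
  have hex : ∃ a : A, orderOf a = 2 ^ m := by
    by_contra hc
    push Not at hc
    rcases Nat.eq_zero_or_pos m with rfl | hm0
    · exact hc 1 (by simp)
    have htop : (powMonoidHom (2 ^ (m - 1)) : A →* A).ker = ⊤ := by
      rw [eq_top_iff]
      intro a _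
      obtain ⟨i, hi, hia⟩ := (Nat.dvd_prime_pow Nat.prime_two).1 (hm ▸ orderOf_dvd_natCard a)
      have : i ≠ m := fun e => hc a (e ▸ hia)
      show a ^ 2 ^ (m - 1) = 1
      exact orderOf_dvd_iff_pow_eq_one.1 (hia ▸ pow_dvd_pow 2 (by omega))
    have := hK (m - 1)
    rw [htop, Subgroup.card_top, hm] at this
    have : 2 ^ (m - 1) < 2 ^ m := Nat.pow_lt_pow_right (by norm_num) (by omega)
    omega
  obtain ⟨a, ha⟩ := hex
  exact isCyclic_of_orderOf_eq_card a (by rw [ha, hm])

/-- A nontrivial normal subgroup of a 2-group contains a central involution. -/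
theorem exists_central_mem (hS : IsPGroup 2 S) {N : Subgroup S} [N.Normal] (hN : N ≠ ⊥) :
    ∃ z ∈ N, orderOf z = 2 ∧ z ∈ Subgroup.center S := by
  haveI : Fact (Nat.Prime 2) := ⟨Nat.prime_two⟩
  obtain ⟨k, hk⟩ := IsPGroup.iff_card.1 (hS.to_subgroup N)
  have hk0 : k ≠ 0 := fun e => hN (Subgroup.eq_bot_of_card_eq _ (by rw [hk, e, pow_zero]))
  letI act : MulAction S N := MulAction.compHom N (MulAut.conjNormal (H := N))
  have h2 : 2 ∣ Nat.card N := hk ▸ dvd_pow_self 2 hk0
  obtain ⟨b, hb, hb1⟩ := IsPGroup.exists_fixed_point_of_prime_dvd_card_of_fixed_point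
    hS (α := N) h2
    (show (1 : N) ∈ MulAction.fixedPoints S N from fun g => map_one (MulAut.conjNormal g))
  have hbc : (b : S) ∈ Subgroup.center S := by
    rw [Subgroup.mem_center_iff]
    intro g
    have h := congrArg Subtype.val (hb g)
    change g * (b : S) * g⁻¹ = (b : S) at h
    exact mul_inv_eq_iff_eq_mul.1 h
  obtain ⟨j, hj⟩ : 2 ∣ orderOf (b : S) := by
    obtain ⟨i, hi⟩ := IsPGroup.iff_orderOf.1 hS (b : S)
    rw [hi]
    refine dvd_pow_self 2 fun e => hb1 ?_
    rw [e, pow_zero, orderOf_eq_one_iff] at hi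
    exact (Subtype.ext hi).symm
  refine ⟨(b : S) ^ j, pow_mem b.2 j, ?_, pow_mem hbc j⟩
  have hj0 : j ≠ 0 := fun e => by have := orderOf_pos (b : S); rw [hj, e, mul_zero] at this; omega
  rw [orderOf_pow' _ hj0, hj, Nat.gcd_eq_right (dvd_mul_left j 2), Nat.mul_div_cancel _ (Nat.pos_of_ne_zero hj0)]

/-- A normal subgroup of exponent two and order at least four contains a normal subgroup of order
four. -/
theorem exists_normal_four_le (hS : IsPGroup 2 S) {N : Subgroup S} [N.Normal]
    (h2 : ∀ a ∈ N, a * a = 1) (h4 : 4 ≤ Nat.card N) :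
    ∃ V : Subgroup S, V.Normal ∧ V ≤ N ∧ Nat.card V = 4 := by
  haveI : Fact (Nat.Prime 2) := ⟨Nat.prime_two⟩
  have hN : N ≠ ⊥ := fun e => by rw [e, Subgroup.card_bot] at h4; omega
  obtain ⟨z, hzN, hz, hzc⟩ := exists_central_mem hS hN
  haveI hZn : (Subgroup.zpowers z).Normal := ⟨fun a ha g => by
    have hac : a ∈ Subgroup.center S := Subgroup.zpowers_le.2 hzc ha
    rw [Subgroup.mem_center_iff.1 hac g, mul_inv_cancel_right]; exact ha⟩
  set π := QuotientGroup.mk' (Subgroup.zpowers z)
  haveI : (N.map π).Normal := Subgroup.Normal.map inferInstance π (QuotientGroup.mk'_surjective _)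
  have hne : N.map π ≠ ⊥ := by
    intro e
    rw [Subgroup.map_eq_bot_iff, QuotientGroup.ker_mk'] at e
    have := Subgroup.card_le_of_le e
    rw [Nat.card_zpowers, hz] at this
    omega
  obtain ⟨w, hw, hwo, hwc⟩ := exists_central_mem (hS.to_quotient _) hne
  set V := (Subgroup.zpowers w).comap π with hV
  have hVle : V ≤ N := by
    intro v hv
    have hv' : π v ∈ N.map π := Subgroup.zpowers_le.2 hw hv
    obtain ⟨n, hn, hnv⟩ := hv'
    rw [QuotientGroup.mk'_apply, QuotientGroup.mk'_apply, QuotientGroup.eq] at hnv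
    have := mul_mem hn (Subgroup.zpowers_le.2 hzN hnv)
    simpa using this
  refine ⟨V, ?_, hVle, ?_⟩
  · haveI : (Subgroup.zpowers w).Normal := ⟨fun a ha g => by
      have hac : a ∈ Subgroup.center _ := Subgroup.zpowers_le.2 hwc ha
      rw [Subgroup.mem_center_iff.1 hac g, mul_inv_cancel_right]; exact ha⟩
    exact Subgroup.Normal.comap this π
  · have h := V.card_mul_index
    rw [hV, Subgroup.index_comap_of_surjective _ (QuotientGroup.mk'_surjective _)] at h
    have h' := (Subgroup.zpowers w).card_mul_index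
    rw [Nat.card_zpowers, hwo] at h'
    have h'' := Subgroup.card_eq_card_quotient_mul_card_subgroup (Subgroup.zpowers z)
    rw [Nat.card_zpowers, hz] at h''
    rw [h'', ← h'] at h
    refine Nat.eq_of_mul_eq_mul_right (Nat.pos_of_ne_zero Subgroup.index_ne_zero_of_finite
      (n := (Subgroup.zpowers w).index)) ?_
    rw [h]; ring

/-- A 2-group with an elementary abelian subgroup of order eight has a normal four-subgroup. -/
theorem exists_normal_four (hS : IsPGroup 2 S) {E : Subgroup S} (hE : Nat.card E = 8)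
    (hE2 : ∀ e ∈ E, e * e = 1) :
    ∃ V : Subgroup S, V.Normal ∧ Nat.card V = 4 ∧ ∀ v ∈ V, v * v = 1 := by
  classical
  haveI : Fact (Nat.Prime 2) := ⟨Nat.prime_two⟩
  haveI := hS.isNilpotent
  obtain ⟨A, hAn, hAc, hCA⟩ := OddOrder.Nilp.exists_normal_abelian_self_centralizing (G := S)
  haveI := hAn; haveI := hAc
  letI : CommGroup A := { (inferInstance : Group A) with mul_comm := hAc.is_comm.comm }
  set Ω := ((powMonoidHom 2 : A →* A).ker).map A.subtype with hΩ
  have hΩ2 : ∀ a ∈ Ω, a * a = 1 := by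
    rintro _ ⟨a, ha, rfl⟩
    have : a ^ 2 = 1 := ha
    rw [pow_two] at this
    exact congrArg Subtype.val this
  by_cases hbig : 3 ≤ Nat.card (powMonoidHom 2 : A →* A).ker
  · haveI : Ω.Normal := ⟨by
      rintro _ ⟨a, ha, rfl⟩ g
      refine ⟨⟨g * a * g⁻¹, hAn.conj_mem _ a.2 g⟩, ?_, rfl⟩
      show (⟨g * a * g⁻¹, _⟩ : A) ^ 2 = 1
      refine Subtype.ext ?_
      show (g * (a : S) * g⁻¹) ^ 2 = 1
      have : a ^ 2 = 1 := ha
      rw [conj_pow, show (a : S) ^ 2 = 1 from congrArg Subtype.val this, mul_one, mul_inv_cancel]⟩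
    obtain ⟨k, hk⟩ := IsPGroup.iff_card.1 ((hS.to_subgroup A).to_subgroup (powMonoidHom 2 : A →* A).ker)
    have h4 : 4 ≤ Nat.card (powMonoidHom 2 : A →* A).ker := by
      rw [hk] at hbig ⊢
      rcases k with _ | _ | k
      · norm_num at hbig
      · norm_num at hbig
      · calc 4 = 2 ^ 2 := by norm_num
          _ ≤ _ := Nat.pow_le_pow_right two_pos (by omega)
    obtain ⟨V, hVn, hVle, hV⟩ := exists_normal_four_le hS (N := Ω) hΩ2
      (by rwa [hΩ, ← Nat.card_congr (Subgroup.equivMapOfInjective _ _ A.subtype_injective).toEquiv])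
    exact ⟨V, hVn, hV, fun v hv => hΩ2 v (hVle hv)⟩
  haveI := isCyclic_of_sqrt_le_two (hS.to_subgroup A) (by omega)
  obtain ⟨⟨a, haA⟩, hgen⟩ := IsCyclic.exists_generator (α := A)
  have hgen' : ∀ c ∈ A, ∃ i : ℤ, a ^ i = c := fun c hc => by
    obtain ⟨i, hi⟩ := hgen ⟨c, hc⟩
    exact ⟨i, congrArg Subtype.val hi⟩
  obtain ⟨n, hn⟩ := IsPGroup.iff_orderOf.1 hS a
  have hzero : ∀ c : ℤ, (2 : ℤ) ^ n ∣ c → a ^ c = 1 := fun c hc => by
    rw [← orderOf_dvd_iff_zpow_eq_one, hn]; exact_mod_cast hc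
  have hzero' : ∀ c : ℤ, a ^ c = 1 → (2 : ℤ) ^ n ∣ c := fun c hc => by
    rw [← orderOf_dvd_iff_zpow_eq_one, hn] at hc; exact_mod_cast hc
  have hinA : ∀ g : S, g * a = a * g → g ∈ A := by
    intro g hg
    rw [← hCA, Subgroup.mem_centralizer_iff]
    intro c hc
    obtain ⟨i, rfl⟩ := hgen' c hc
    exact ((show Commute g a from hg).zpow_right i).eq.symm
  set w := a ^ ((2 : ℤ) ^ (n - 1)) with hw
  -- values of conjugates of `a` by elements of `E`
  have hval : ∀ e : S, e * e = 1 → e * a * e⁻¹ = a ∨ e * a * e⁻¹ = a * w ∨ e * a * e⁻¹ = a⁻¹ ∨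
      e * a * e⁻¹ = a⁻¹ * w := by
    intro e he
    obtain ⟨i, hi⟩ := hgen' _ (hAn.conj_mem a haA e)
    rw [← hi]
    rcases Nat.lt_or_ge n 2 with hn2 | hn2
    · rcases Int.even_or_odd' i with ⟨k, hk | hk⟩
      · left
        have h1 : a ^ i = 1 := hzero _ (by
          rw [hk]; interval_cases n
          · simp
          · simp)
        rw [hi, conj_eq_one_iff] at h1
        rw [h1, one_zpow]
      · left
        rw [hk, zpow_add, zpow_one, hzero (2 * k) (by interval_cases n <;> simp), one_mul]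
    have hsq : (2 : ℤ) ^ n ∣ i * i - 1 := by
      refine hzero' _ ?_
      have h1 : a ^ (i * i) = a := by
        rw [zpow_mul, hi, conj_zpow, hi]
        calc e * (e * a * e⁻¹) * e⁻¹ = (e * e) * a * (e * e)⁻¹ := by group
          _ = a := by rw [he, inv_one, mul_one, one_mul]
      rw [zpow_sub, h1, zpow_one, mul_inv_cancel]
    have hmz : ((2 : ℤ) ^ n) = 2 * (2 : ℤ) ^ (n - 1) := by rw [← pow_succ']; congr 1; omega
    rcases CentFour.modEq_of_sq_modEq_one hn2 hsq with ⟨c, hc⟩ | ⟨c, hc⟩ <;>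
      rcases Int.even_or_odd' c with ⟨d, hd | hd⟩
    · left
      rw [show i = 1 + 2 ^ n * d by rw [hmz]; linear_combination hc + 2 ^ (n - 1) * hd,
        zpow_add, hzero _ (dvd_mul_right _ _), mul_one, zpow_one]
    · right; left
      rw [show i = 1 + (2 : ℤ) ^ (n - 1) + 2 ^ n * d by rw [hmz]; linear_combination hc + 2 ^ (n - 1) * hd,
        zpow_add, hzero _ (dvd_mul_right _ _), mul_one, zpow_add, zpow_one]
    · right; right; left
      rw [show i = -1 + 2 ^ n * d by rw [hmz]; linear_combination hc + 2 ^ (n - 1) * hd,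
        zpow_add, hzero _ (dvd_mul_right _ _), mul_one, zpow_neg_one]
    · right; right; right
      rw [show i = -1 + (2 : ℤ) ^ (n - 1) + 2 ^ n * d by rw [hmz]; linear_combination hc + 2 ^ (n - 1) * hd,
        zpow_add, hzero _ (dvd_mul_right _ _), mul_one, zpow_add, zpow_neg_one]
  -- `E ⊓ A` has order at most two, so the four values are distinct and all taken
  have hEA : Nat.card (E ⊓ A : Subgroup S) ≤ 2 := by
    refine le_trans (Nat.card_le_card_of_injective
      (fun x : (E ⊓ A : Subgroup S) => (⟨⟨(x : S), x.2.2⟩, Subtype.ext (by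
        show (x : S) ^ 2 = 1; rw [pow_two]; exact hE2 _ x.2.1)⟩ : (powMonoidHom 2 : A →* A).ker)) ?_)
      (by omega)
    intro x y hxy
    exact Subtype.ext (congrArg (fun t => ((t.1 : A) : S)) hxy)
  letI := Fintype.ofFinite E
  set img := (Finset.univ : Finset E).image (fun e : E => (e : S) * a * (e : S)⁻¹)
  have himg : 4 ≤ img.card := by
    have hfib : ∀ v ∈ img, ((Finset.univ : Finset E).filter (fun e : E => (e : S) * a * (e : S)⁻¹ = v)).card ≤ 2 := by
      intro v hv
      obtain ⟨e₀, -, he₀⟩ := Finset.mem_image.1 hv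
      rw [← Fintype.card_subtype, ← Nat.card_eq_fintype_card]
      refine le_trans (Nat.card_le_card_of_injective
        (fun e => (⟨(e₀ : S)⁻¹ * (e.1 : S), Subgroup.mem_inf.2 ⟨mul_mem (inv_mem (show (e₀ : S) ∈ E from e₀.2)) (show (e.1 : S) ∈ E from e.1.2), hinA _ ?_⟩⟩ : (E ⊓ A : Subgroup S))) ?_) hEA
      · have h := e.2.trans he₀.symm
        calc (e₀ : S)⁻¹ * (e.1 : S) * a = (e₀ : S)⁻¹ * ((e.1 : S) * a * (e.1 : S)⁻¹) * (e.1 : S) := by group
          _ = (e₀ : S)⁻¹ * ((e₀ : S) * a * (e₀ : S)⁻¹) * (e.1 : S) := by rw [h]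
          _ = _ := by group
      · intro x y hxy
        exact Subtype.ext (Subtype.ext (mul_left_cancel (congrArg Subtype.val hxy)))
    have h8 : (Finset.univ : Finset E).card ≤ 2 * img.card :=
      Finset.card_le_mul_card_image _ 2 hfib
    rw [Finset.card_univ, ← Nat.card_eq_fintype_card, hE] at h8
    omega
  have hsub : img ⊆ {a, a * w, a⁻¹, a⁻¹ * w} := by
    intro v hv
    obtain ⟨e, -, rfl⟩ := Finset.mem_image.1 hv
    simp only [Finset.mem_insert, Finset.mem_singleton]
    exact hval e (hE2 e e.2)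
  have hcard4 : ({a, a * w, a⁻¹, a⁻¹ * w} : Finset S).card ≤ 4 := Finset.card_le_four
  have heq := Finset.eq_of_subset_of_card_le hsub (hcard4.trans himg)
  have haw : a * w ∈ img := by rw [heq]; simp
  obtain ⟨⟨e, heE⟩, -, he⟩ := Finset.mem_image.1 haw
  simp only at he
  have hn3 : 3 ≤ n := by
    by_contra hlt
    have h3 : ({a, a * w, a⁻¹, a⁻¹ * w} : Finset S).card ≤ 3 := by
      have haa : a * w = a⁻¹ ∨ a * w = a ∨ a⁻¹ = a := by
        interval_cases n
        · exact Or.inr (Or.inl (by rw [hw, hzero _ (by simp), mul_one]))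
        · refine Or.inr (Or.inr (inv_eq_of_mul_eq_one_right ?_))
          rw [← pow_two, ← pow_one 2, ← hn, pow_orderOf_eq_one]
        · refine Or.inl ?_
          rw [hw, eq_inv_iff_mul_eq_one]
          norm_num
          have h := pow_orderOf_eq_one a
          rw [hn] at h
          norm_num at h
          calc a * a ^ (2 : ℕ) * a = a ^ (4 : ℕ) := by group
            _ = 1 := h
      rcases haa with h | h | h
      rotate_left 2
      · rw [h]
        refine le_trans (Finset.card_le_card (t := {a, a * w}) ?_) (Finset.card_le_two.trans (by omega))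
        intro x hx; simp only [Finset.mem_insert, Finset.mem_singleton] at hx ⊢; tauto
      · rw [h]
        refine le_trans (Finset.card_le_card (t := {a, a⁻¹, a⁻¹ * w}) ?_) Finset.card_le_three
        intro x hx; simp only [Finset.mem_insert, Finset.mem_singleton] at hx ⊢; tauto
      · rw [h]
        refine le_trans (Finset.card_le_card (t := {a, a⁻¹, a⁻¹ * w}) ?_) Finset.card_le_three
        intro x hx; simp only [Finset.mem_insert, Finset.mem_singleton] at hx ⊢; tauto
    have := himg.trans (Finset.card_le_card hsub)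
    omega
  have hee : e * e = 1 := hE2 e heE
  have hwA : w ∈ A := zpow_mem haA _
  have hpow1 : (2 : ℤ) ^ n = 2 * 2 ^ (n - 1) := by rw [← pow_succ']; congr 1; omega
  have hpow2 : (2 : ℤ) ^ (n - 1) = 2 * 2 ^ (n - 2) := by rw [← pow_succ']; congr 1; omega
  have hww : w * w = 1 := by
    rw [hw, ← zpow_add]; exact hzero _ ⟨1, by rw [hpow1]; ring⟩
  have hw1 : w ≠ 1 := fun h => by
    have h1 := hzero' _ h
    have h2 : (2 : ℤ) ^ (n - 1) < 2 ^ n := by
      rw [hpow1]; have : (0 : ℤ) < 2 ^ (n - 1) := by positivity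
      linarith
    exact absurd (Int.le_of_dvd (by positivity) h1) (by linarith)
  have hinv : ∀ c ∈ A, c * c = 1 → c = 1 ∨ c = w := by
    intro c hc hcc
    obtain ⟨k, rfl⟩ := hgen' c hc
    rw [← zpow_add] at hcc
    obtain ⟨q, hq⟩ := hzero' _ hcc
    have hk : k = 2 ^ (n - 1) * q := by rw [hpow1] at hq; linarith
    rcases Int.even_or_odd' q with ⟨d, hd | hd⟩
    · left; exact hzero _ ⟨d, by rw [hk, hd, hpow1]; ring⟩
    · right
      rw [hk, hd, show (2 : ℤ) ^ (n - 1) * (2 * d + 1) = 2 ^ n * d + 2 ^ (n - 1) by rw [hpow1]; ring,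
        zpow_add, hzero _ (dvd_mul_right _ _), one_mul]
  have hwc : ∀ g : S, g * w = w * g := by
    intro g
    have h1 := hinv (g * w * g⁻¹) (hAn.conj_mem w hwA g) (by
      calc g * w * g⁻¹ * (g * w * g⁻¹) = g * (w * w) * g⁻¹ := by group
        _ = 1 := by rw [hww]; group)
    rcases h1 with h1 | h1
    · exact absurd (conj_eq_one_iff.1 h1) hw1
    · exact mul_inv_eq_iff_eq_mul.1 h1
  have hconj : ∀ g : S, g * e * g⁻¹ = e ∨ g * e * g⁻¹ = w * e := by
    intro g
    obtain ⟨i, hi⟩ := hgen' _ (hAn.conj_mem a haA g⁻¹)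
    rw [inv_inv] at hi
    set c := g * e * g⁻¹ * e with hc
    have hsame : g * e * g⁻¹ * a * (g * e * g⁻¹)⁻¹ = e * a * e⁻¹ := by
      have h1 : e * (g⁻¹ * a * g) * e⁻¹ = g⁻¹ * (a * w) * g := by
        rw [← hi, ← conj_zpow, he, (show Commute a w from (Commute.refl a).zpow_right _).mul_zpow]
        have hwi : w ^ i = w := by
          have hw2 : w ^ (2 : ℤ) = 1 := by rw [zpow_two]; exact hww
          rcases Int.even_or_odd' i with ⟨d, hd | hd⟩
          · exfalso
            have h0 : (a ^ i) ^ ((2 : ℤ) ^ (n - 1)) = 1 := by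
              rw [← zpow_mul]; exact hzero _ ⟨d, by rw [hd, hpow1]; ring⟩
            rw [hi] at h0
            rw [show g⁻¹ * a * g = g⁻¹ * a * (g⁻¹)⁻¹ by rw [inv_inv], conj_zpow] at h0
            exact hw1 (conj_eq_one_iff.1 h0)
          · rw [hd, zpow_add, zpow_mul, hw2, one_zpow, one_mul, zpow_one]
        rw [hi, hwi]
        calc g⁻¹ * a * g * w = g⁻¹ * a * (g * w) := by group
          _ = g⁻¹ * a * (w * g) := by rw [hwc g]
          _ = _ := by group
      calc g * e * g⁻¹ * a * (g * e * g⁻¹)⁻¹ = g * (e * (g⁻¹ * a * g) * e⁻¹) * g⁻¹ := by group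
        _ = e * a * e⁻¹ := by rw [h1, he]; group
    have hei : e⁻¹ = e := inv_eq_of_mul_eq_one_right hee
    have hcA : c ∈ A := hinA c (by
      rw [← mul_inv_eq_iff_eq_mul]
      calc c * a * c⁻¹ = g * e * g⁻¹ * (e * a * e⁻¹) * (g * e * g⁻¹)⁻¹ := by rw [hc]; group
        _ = g * e * g⁻¹ * ((g * e * g⁻¹) * a * (g * e * g⁻¹)⁻¹) * (g * e * g⁻¹)⁻¹ := by rw [hsame]
        _ = (g * (e * e) * g⁻¹) * a * (g * (e * e) * g⁻¹)⁻¹ := by group
        _ = a := by rw [hee]; group)
    obtain ⟨k, hk⟩ := hgen' c hcA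
    have hce : g * e * g⁻¹ = c * e := by rw [hc, mul_assoc (g * e * g⁻¹), hee, mul_one]
    have hcc : c * (e * c * e⁻¹) = 1 := by
      calc c * (e * c * e⁻¹) = (c * e) * (c * e) := by rw [hei]; group
        _ = g * (e * e) * g⁻¹ := by rw [← hce]; group
        _ = 1 := by rw [hee]; group
    rw [← hk, ← conj_zpow, he, (show Commute a w from (Commute.refl a).zpow_right _).mul_zpow, hw,
      ← zpow_mul, ← zpow_add, ← zpow_add] at hcc
    obtain ⟨q, hq⟩ := hzero' _ hcc
    have h1 : k * (1 + 2 ^ (n - 2)) = 2 ^ (n - 1) * q := by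
      rw [hpow1, hpow2] at hq; rw [hpow2]
      linarith
    have hco : IsCoprime ((2 : ℤ) ^ (n - 1)) (1 + 2 ^ (n - 2)) := by
      refine IsCoprime.pow_left ⟨-2 ^ (n - 3), 1, ?_⟩
      rw [show (2 : ℤ) ^ (n - 2) = 2 * 2 ^ (n - 3) by rw [← pow_succ']; congr 1; omega]
      ring
    obtain ⟨q', hq'⟩ := hco.dvd_of_dvd_mul_right ⟨q, h1⟩
    have hc2 : c * c = 1 := by
      rw [← hk, ← zpow_add]; exact hzero _ ⟨q', by rw [hq', hpow1]; ring⟩
    rcases hinv c hcA hc2 with h | h
    · exact Or.inl (by rw [hce, h, one_mul])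
    · exact Or.inr (by rw [hce, h])
  have hwe : e * w = w * e := hwc e
  let V : Subgroup S :=
    { carrier := {x | x = 1 ∨ x = w ∨ x = e ∨ x = w * e}
      one_mem' := Or.inl rfl
      mul_mem' := by
        have e1 : e * (w * e) = w := by rw [← mul_assoc, hwe, mul_assoc, hee, mul_one]
        have e2 : w * e * w = e := by rw [mul_assoc, hwe, ← mul_assoc, hww, one_mul]
        have e3 : w * e * e = w := by rw [mul_assoc, hee, mul_one]
        have e4 : w * (w * e) = e := by rw [← mul_assoc, hww, one_mul]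
        have e5 : w * e * (w * e) = 1 := by rw [← mul_assoc, e2, hee]
        rintro x y (rfl | rfl | rfl | rfl) (rfl | rfl | rfl | rfl) <;>
          simp [hww, hee, hwe, e1, e2, e3, e4, e5]
      inv_mem' := by
        rintro x (rfl | rfl | rfl | rfl)
        · simp
        · exact Or.inr (Or.inl (inv_eq_of_mul_eq_one_right hww))
        · exact Or.inr (Or.inr (Or.inl (inv_eq_of_mul_eq_one_right hee)))
        · refine Or.inr (Or.inr (Or.inr (inv_eq_of_mul_eq_one_right ?_)))
          rw [mul_assoc, ← mul_assoc e, hwe, mul_assoc w e e, hee, mul_one, hww] }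
  refine ⟨V, ⟨fun x hx g => ?_⟩, ?_, ?_⟩
  · rcases hx with rfl | rfl | rfl | rfl
    · exact Or.inl (by group)
    · exact Or.inr (Or.inl (by rw [hwc g, mul_inv_cancel_right]))
    · rcases hconj g with h | h
      · exact Or.inr (Or.inr (Or.inl h))
      · exact Or.inr (Or.inr (Or.inr h))
    · have h0 : g * (w * e) * g⁻¹ = w * (g * e * g⁻¹) := by rw [← mul_assoc, hwc g]; group
      rcases hconj g with h | h
      · exact Or.inr (Or.inr (Or.inr (by rw [h0, h])))
      · exact Or.inr (Or.inr (Or.inl (by rw [h0, h, ← mul_assoc, hww, one_mul])))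
  · have hne : e ∉ A := fun h => by
      have : e * a * e⁻¹ = a := by
        rw [show e * a = a * e from congrArg Subtype.val (mul_comm (⟨e, h⟩ : A) ⟨a, haA⟩),
          mul_inv_cancel_right]
      rw [he] at this
      exact hw1 (mul_eq_left.1 this)
    have e1 : e ≠ 1 := fun h => hne (h ▸ one_mem A)
    have e2 : e ≠ w := fun h => hne (h ▸ hwA)
    have e3 : w * e ≠ 1 := fun h => hne (by
      rw [mul_eq_one_iff_eq_inv'] at h; rw [h]; exact inv_mem hwA)
    have e4 : w * e ≠ w := fun h => e1 (mul_eq_left.1 h)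
    have e5 : w * e ≠ e := fun h => hw1 (mul_eq_right.1 h)
    rw [show Nat.card V = Nat.card (({1, w, e, w * e} : Finset S) : Set S) from
      Nat.card_congr (Equiv.setCongr (by ext x; simp [V]))]
    rw [Nat.card_coe_set_eq, Set.ncard_coe_finset]
    simp [hw1.symm, e1.symm, e2.symm, e3.symm, e4.symm, e5.symm]
  · rintro v (rfl | rfl | rfl | rfl)
    · exact one_mul 1
    · exact hww
    · exact hee
    · rw [mul_assoc, ← mul_assoc e, hwe, mul_assoc w e e, hee, mul_one, hww]

end Cfsg.Agent.NormalFour
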