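import Cfsg.Agent.Lib.TwoGroups.OddAction
import Cfsg.Agent.Lib.TwoGroups.Lifts
import Mathlib.GroupTheory.SpecificGroups.KleinFour

/-!
2-groups with a cyclic maximal subgroup (dihedral, quasi-dihedral): which subgroups admit
automizers of odd order, and how normalizers act on four-subgroups and quaternion subgroups.
-/

set_option autoImplicit false

namespace Cfsg.Agent.TwoFus

variable {G : Type*} [Group G] [Finite G]

/-- `⟨c⟩` has index at most two in `S`, elements outside have order at most four and
four-subgroups are self-centralizing. -/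
structure CycMax (S : Subgroup G) (c : G) : Prop where
  isP : IsPGroup 2 S
  mem : c ∈ S
  idx : ∀ a ∈ S, ∀ b ∈ S, a ∉ Subgroup.zpowers c → b ∉ Subgroup.zpowers c →
    a⁻¹ * b ∈ Subgroup.zpowers c
  out : ∀ a ∈ S, a ∉ Subgroup.zpowers c → a ^ 4 = 1
  self : ∀ U : Subgroup G, U ≤ S → IsKleinFour U → ∀ a ∈ S, (∀ u ∈ U, a * u = u * a) → a ∈ U

theorem isKleinFour_of_pair {c t : G} (hc : c * c = 1) (ht : t * t = 1) (hcomm : t * c = c * t)
    (hc1 : c ≠ 1) (hmem : t ∉ Subgroup.zpowers c) :
    IsKleinFour (Subgroup.closure ({c, t} : Set G)) := by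
  obtain ⟨e⟩ := TwoLift.dihedral_equiv (n := 2) (a := c) (g := t)
    (orderOf_eq_prime (by rw [pow_two, hc]) hc1) ht
    (by rw [hcomm, mul_inv_cancel_right, inv_eq_of_mul_eq_one_right hc]) hmem rfl
  exact ⟨by rw [Nat.card_congr e.toEquiv, DihedralGroup.nat_card],
    by rw [Monoid.exponent_eq_of_mulEquiv e, DihedralGroup.exponent]; rfl⟩

theorem order_four_cases {g v : G} (hg : orderOf g = 4) (hv : v ∈ Subgroup.zpowers g) :
    v = 1 ∨ v = g ∨ v = g * g ∨ v = g⁻¹ := by
  obtain ⟨i, rfl⟩ := hv
  show g ^ i = 1 ∨ g ^ i = g ∨ g ^ i = g * g ∨ g ^ i = g⁻¹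
  rw [← zpow_mod_orderOf g i, hg]
  have h0 := Int.emod_nonneg i (by norm_num : ((4 : ℕ) : ℤ) ≠ 0)
  have h4 := Int.emod_lt_of_pos i (by norm_num : (0 : ℤ) < ((4 : ℕ) : ℤ))
  push_cast at h0 h4 ⊢
  interval_cases hr : i % 4
  · left; simp
  · right; left; simp
  · right; right; left; exact zpow_two g
  · right; right; right
    rw [eq_inv_iff_mul_eq_one]
    nth_rewrite 2 [← zpow_one g]
    rw [← zpow_add, ← orderOf_dvd_iff_zpow_eq_one, hg]
    norm_num

theorem exists_inter_gen (E : Subgroup G) (c : G) :
    ∃ g : G, Subgroup.zpowers g = E ⊓ Subgroup.zpowers c := by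
  haveI : IsCyclic (E ⊓ Subgroup.zpowers c : Subgroup G) :=
    Subgroup.isCyclic_of_le (inf_le_right : E ⊓ Subgroup.zpowers c ≤ Subgroup.zpowers c)
  obtain ⟨g, hg⟩ := IsCyclic.exists_generator (α := (E ⊓ Subgroup.zpowers c : Subgroup G))
  refine ⟨(g : G), le_antisymm (Subgroup.zpowers_le.mpr g.2) fun v hv => ?_⟩
  obtain ⟨i, hi⟩ := hg ⟨v, hv⟩
  exact ⟨i, congrArg Subtype.val hi⟩

/-- Only four-subgroups and quaternion subgroups of order eight admit odd automizers. -/
theorem CycMax.oddTrivial {S : Subgroup G} {c : G} (hS : CycMax S c) {E : Subgroup G} (hE : E ≤ S) :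
    OddTrivial E ∨ IsKleinFour E ∨ Nonempty (E ≃* QuaternionGroup 2) := by
  haveI : Fact (Nat.Prime 2) := ⟨Nat.prime_two⟩
  have hEp : IsPGroup 2 E := hS.isP.to_le hE
  obtain ⟨g, hg⟩ := exists_inter_gen E c
  have hgE : g ∈ E := (hg.le (Subgroup.mem_zpowers g)).1
  have hgc : g ∈ Subgroup.zpowers c := (hg.le (Subgroup.mem_zpowers g)).2
  have hEg : ∀ v ∈ E, v ∈ Subgroup.zpowers c → v ∈ Subgroup.zpowers g := fun v h1 h2 => hg.ge ⟨h1, h2⟩
  have hgC : Subgroup.zpowers g ≤ Subgroup.zpowers c := hg.le.trans inf_le_right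
  have hout : ∀ v ∈ E, v ∉ Subgroup.zpowers g → v ∉ Subgroup.zpowers c := fun v hv h1 h2 =>
    h1 (hEg v hv h2)
  have hidxE : ∀ a ∈ E, ∀ b ∈ E, a ∉ Subgroup.zpowers g → b ∉ Subgroup.zpowers g →
      a⁻¹ * b ∈ Subgroup.zpowers g := fun a ha b hb h1 h2 =>
    hEg _ (mul_mem (inv_mem ha) hb) (hS.idx a (hE ha) b (hE hb) (hout a ha h1) (hout b hb h2))
  have hfix : (∀ w ∈ Subgroup.normalizer (E : Set G), Odd (orderOf w) → w * g * w⁻¹ ∈ Subgroup.zpowers g) →
      OddTrivial E := fun h w hw ho => mem_centralizer_of_invariant hEp hgE hidxE hw ho (h w hw ho)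
  obtain ⟨k, hk⟩ := IsPGroup.iff_orderOf.mp hEp ⟨g, hgE⟩
  rw [Subgroup.orderOf_mk] at hk
  by_cases hsub : ∀ v ∈ E, v ∈ Subgroup.zpowers g
  · exact Or.inl (hfix fun w hw _ => hsub _ ((Subgroup.mem_normalizer_iff.mp hw g).mp hgE))
  push Not at hsub
  obtain ⟨u, huE, hu⟩ := hsub
  have huc := hout u huE hu
  have hform : ∀ v ∈ E, v ∈ Subgroup.zpowers g ∨ u⁻¹ * v ∈ Subgroup.zpowers g := fun v hv =>
    or_iff_not_imp_left.mpr fun h => hidxE u huE v hv hu h
  -- conjugation by elements outside the cyclic part preserves it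
  have hnorm : ∀ t ∈ E, t * g * t⁻¹ ∈ Subgroup.zpowers g := by
    intro t ht
    by_contra hno
    have h1 := mul_mem (mul_mem ht hgE) (inv_mem ht)
    by_cases htg : t ∈ Subgroup.zpowers g
    · exact hno (mul_mem (mul_mem htg (Subgroup.mem_zpowers g)) (inv_mem htg))
    · have h2 := hidxE t ht _ h1 htg hno
      rw [← mul_assoc, inv_mul_cancel_left] at h2
      exact htg (inv_mem_iff.mp ((Subgroup.mul_mem_cancel_left _ (Subgroup.mem_zpowers g)).mp h2))
  by_cases h8 : 3 ≤ k
  · refine Or.inl (hfix fun w hw _ => ?_)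
    have hm := (Subgroup.mem_normalizer_iff.mp hw g).mp hgE
    by_contra hno
    have h4 := hS.out _ (hE hm) (hout _ hm hno)
    have h5 := orderOf_dvd_of_pow_eq_one h4
    rw [← MulAut.conj_apply, MulEquiv.orderOf_eq, hk] at h5
    have := Nat.le_of_dvd (by norm_num) h5
    have : 2 ^ 3 ≤ 2 ^ k := Nat.pow_le_pow_right two_pos h8
    omega
  interval_cases k
  · -- trivial cyclic part
    rw [pow_zero, orderOf_eq_one_iff] at hk
    subst hk
    left
    have huO : ∀ v ∈ E, v = 1 ∨ v = u := fun v hv => by
      rcases hform v hv with h | h <;> rw [Subgroup.zpowers_one_eq_bot, Subgroup.mem_bot] at h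
      · exact Or.inl h
      · exact Or.inr (inv_mul_eq_one.mp h).symm
    intro w hw _
    rw [Subgroup.mem_centralizer_iff]
    intro v hv
    suffices w * v * w⁻¹ = v from (mul_inv_eq_iff_eq_mul.mp this).symm
    rcases huO v hv with rfl | rfl
    · rw [mul_one, mul_inv_cancel]
    · rcases huO _ ((Subgroup.mem_normalizer_iff.mp hw v).mp hv) with e | e
      · exfalso
        exact hu (by rw [conj_eq_one_iff.mp e]; exact one_mem _)
      · exact e
  · -- cyclic part of order two
    rw [pow_one] at hk
    have hgg : g * g = 1 := by rw [← pow_two, ← hk]; exact pow_orderOf_eq_one g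
    have hg1 : g ≠ 1 := fun e => by rw [e, orderOf_one] at hk; omega
    have hz : ∀ v ∈ Subgroup.zpowers g, v = 1 ∨ v = g := by
      rintro _ ⟨i, rfl⟩
      show g ^ i = 1 ∨ g ^ i = g
      rcases Int.even_or_odd' i with ⟨j, rfl | rfl⟩
      · left; rw [zpow_mul, zpow_two, hgg, one_zpow]
      · right; rw [zpow_add, zpow_mul, zpow_two, hgg, one_zpow, one_mul, zpow_one]
    have hcomm : u * g = g * u := by
      rcases hz _ (hnorm u huE) with e | e
      · exact absurd (conj_eq_one_iff.mp e) hg1
      · exact mul_inv_eq_iff_eq_mul.mp e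
    by_cases huu : u * u = 1
    · right; left
      have hU : IsKleinFour (Subgroup.closure ({g, u} : Set G)) :=
        isKleinFour_of_pair hgg huu hcomm hg1 hu
      have hUE : E = Subgroup.closure ({g, u} : Set G) := by
        refine le_antisymm (fun v hv => ?_) ((Subgroup.closure_le _).mpr ?_)
        · rcases hform v hv with h | h
          · exact (Subgroup.zpowers_le.mpr (Subgroup.subset_closure (by simp))) h
          · rw [← mul_inv_cancel_left u v]
            exact mul_mem (Subgroup.subset_closure (by simp))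
              ((Subgroup.zpowers_le.mpr (Subgroup.subset_closure (by simp))) h)
        · rintro _ (rfl | rfl) <;> assumption
      exact hUE ▸ hU
    · left
      have h2 : u * u = g := by
        have hm : u * u ∈ Subgroup.zpowers g := by
          by_contra hno
          have h3 := hidxE u huE _ (mul_mem huE huE) hu hno
          rw [inv_mul_cancel_left] at h3
          exact hu h3
        exact (hz _ hm).resolve_left huu
      have hall : ∀ v ∈ E, v ∈ Subgroup.zpowers u := fun v hv => by
        have hgu : Subgroup.zpowers g ≤ Subgroup.zpowers u :=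
          Subgroup.zpowers_le.mpr (h2 ▸ mul_mem (Subgroup.mem_zpowers u) (Subgroup.mem_zpowers u))
        rcases hform v hv with h | h
        · exact hgu h
        · rw [← mul_inv_cancel_left u v]
          exact mul_mem (Subgroup.mem_zpowers u) (hgu h)
      intro w hw ho
      exact mem_centralizer_of_invariant hEp huE (fun a ha _ _ h1 _ => absurd (hall a ha) h1) hw ho
        (hall _ ((Subgroup.mem_normalizer_iff.mp hw u).mp huE))
  · -- cyclic part of order four
    have hg4 : orderOf g = 4 := by rw [hk]; norm_num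
    have hz1 : g * g ≠ 1 := by rw [← pow_two]; exact pow_ne_one_of_lt_orderOf two_ne_zero (by omega)
    have hz2 : g * g * (g * g) = 1 := by
      rw [← pow_two, ← pow_two, ← pow_mul]
      show g ^ 4 = 1
      rw [← hg4]; exact pow_orderOf_eq_one g
    have hcentral : ∀ t ∈ E, t * (g * g) = g * g * t := fun t ht => by
      rw [← mul_inv_eq_iff_eq_mul]
      calc t * (g * g) * t⁻¹ = t * g * t⁻¹ * (t * g * t⁻¹) := by group
        _ = g * g := by
          rcases order_four_cases hg4 (hnorm t ht) with e | e | e | e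
          · exfalso
            rw [conj_eq_one_iff.mp e, orderOf_one] at hg4; omega
          · rw [e]
          · exfalso
            have h5 : orderOf (t * g * t⁻¹) = 4 := by rw [← MulAut.conj_apply, MulEquiv.orderOf_eq, hg4]
            have h6 : orderOf (g * g) ∣ 2 := orderOf_dvd_of_pow_eq_one (by rw [pow_two, hz2])
            rw [e] at h5
            rw [h5] at h6
            omega
          · rw [e, ← mul_inv_rev]; exact inv_eq_of_mul_eq_one_right hz2
    -- an involution outside inverts `g`
    have hinv : ∀ t ∈ E, t ∉ Subgroup.zpowers g → t * t = 1 → t * g * t⁻¹ = g⁻¹ := by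
      intro t ht htg htt
      have hmemz : t ∉ Subgroup.zpowers (g * g) := fun hm =>
        htg (Subgroup.zpowers_le.mpr (mul_mem (Subgroup.mem_zpowers g) (Subgroup.mem_zpowers g)) hm)
      have hU := isKleinFour_of_pair hz2 htt (hcentral t ht) hz1 hmemz
      rcases order_four_cases hg4 (hnorm t ht) with e | e | e | e
      · exfalso; rw [conj_eq_one_iff.mp e, orderOf_one] at hg4; omega
      · exfalso
        have hUS : Subgroup.closure ({g * g, t} : Set G) ≤ S := (Subgroup.closure_le _).mpr
          (by rintro _ (rfl | rfl) <;> first | exact hE ht | exact hE (mul_mem hgE hgE))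
        have hgU := hS.self _ hUS hU g (hE hgE) (fun v hv => by
          have : Subgroup.closure ({g * g, t} : Set G) ≤ Subgroup.centralizer ({g} : Set G) :=
            (Subgroup.closure_le _).mpr (by
              rintro _ (rfl | rfl)
              · exact Subgroup.mem_centralizer_singleton_iff.mpr (mul_assoc g g g)
              · exact Subgroup.mem_centralizer_singleton_iff.mpr (mul_inv_eq_iff_eq_mul.mp e))
          exact (Subgroup.mem_centralizer_singleton_iff.mp (this hv)).symm)
        exact hz1 (congrArg Subtype.val (IsKleinFour.mul_self (⟨g, hgU⟩ : (Subgroup.closure ({g * g, t} : Set G) : Subgroup G))))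
      · exfalso
        have h5 : orderOf (t * g * t⁻¹) = 4 := by rw [← MulAut.conj_apply, MulEquiv.orderOf_eq, hg4]
        have h6 : orderOf (g * g) ∣ 2 := orderOf_dvd_of_pow_eq_one (by rw [pow_two, hz2])
        rw [e] at h5
        rw [h5] at h6
        omega
      · exact e
    by_cases huu : u * u = 1
    · refine Or.inl (hfix fun w hw _ => ?_)
      have hm := (Subgroup.mem_normalizer_iff.mp hw g).mp hgE
      by_contra hno
      have h5 : orderOf (w * g * w⁻¹) = 4 := by rw [← MulAut.conj_apply, MulEquiv.orderOf_eq, hg4]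
      have hi := hinv u huE hu huu
      have hd : u⁻¹ * (w * g * w⁻¹) ∈ Subgroup.zpowers g := hidxE u huE _ hm hu hno
      obtain ⟨j, hj⟩ := hd
      have hj' : g ^ j = u⁻¹ * (w * g * w⁻¹) := hj
      have hsq : (w * g * w⁻¹) * (w * g * w⁻¹) = 1 := by
        rw [show w * g * w⁻¹ = u * g ^ j by rw [hj', mul_inv_cancel_left]]
        have hsw : u * g ^ j = g ^ (-j) * u := TwoLift.swap hi j
        calc u * g ^ j * (u * g ^ j) = g ^ (-j) * u * (u * g ^ j) := by rw [hsw]
          _ = g ^ (-j) * (u * u) * g ^ j := by simp only [mul_assoc]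
          _ = 1 := by rw [huu, mul_one, ← zpow_add, neg_add_cancel, zpow_zero]
      have := orderOf_dvd_of_pow_eq_one (x := w * g * w⁻¹) (n := 2) (by rw [pow_two, hsq])
      rw [h5] at this
      omega
    · right; right
      have h2 : u * u = g * g := by
        have hm : u * u ∈ Subgroup.zpowers g := by
          by_contra hno
          have h3 := hidxE u huE _ (mul_mem huE huE) hu hno
          rw [inv_mul_cancel_left] at h3
          exact hu h3
        have h4 : u * u * (u * u) = 1 := by
          rw [← pow_two, ← pow_two, ← pow_mul]; exact hS.out u (hE huE) huc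
        rcases order_four_cases hg4 hm with e | e | e | e
        · exact absurd e huu
        · exfalso; rw [e] at h4; exact hz1 h4
        · exact e
        · exfalso; rw [e, ← mul_inv_rev, inv_eq_one] at h4; exact hz1 h4
      have hi : u * g * u⁻¹ = g⁻¹ := by
        rcases order_four_cases hg4 (hnorm u huE) with e | e | e | e
        · exfalso; rw [conj_eq_one_iff.mp e, orderOf_one] at hg4; omega
        · exfalso
          have hc : Commute u g := mul_inv_eq_iff_eq_mul.mp e
          have hv : u * g⁻¹ ∉ Subgroup.zpowers g := fun hm =>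
            hu ((Subgroup.mul_mem_cancel_right _ (inv_mem (Subgroup.mem_zpowers g))).mp hm)
          have hvv : u * g⁻¹ * (u * g⁻¹) = 1 := by
            calc u * g⁻¹ * (u * g⁻¹) = u * (g⁻¹ * u) * g⁻¹ := by simp only [mul_assoc]
              _ = u * u * (g⁻¹ * g⁻¹) := by rw [hc.inv_right.eq.symm]; simp only [mul_assoc]
              _ = 1 := by rw [h2, ← mul_inv_rev, mul_inv_cancel]
          have := hinv _ (mul_mem huE (inv_mem hgE)) hv hvv
          rw [(hc.mul_left (Commute.inv_left (Commute.refl g))).eq, mul_inv_cancel_right] at this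
          exact hz1 (eq_inv_iff_mul_eq_one.mp this)
        · exfalso
          have h5 : orderOf (u * g * u⁻¹) = 4 := by rw [← MulAut.conj_apply, MulEquiv.orderOf_eq, hg4]
          have h6 : orderOf (g * g) ∣ 2 := orderOf_dvd_of_pow_eq_one (by rw [pow_two, hz2])
          rw [e] at h5
          rw [h5] at h6
          omega
        · exact e
      have hgen : E = Subgroup.closure ({g, u} : Set G) := by
        refine le_antisymm (fun v hv => ?_) ((Subgroup.closure_le _).mpr ?_)
        · rcases hform v hv with h | h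
          · exact (Subgroup.zpowers_le.mpr (Subgroup.subset_closure (by simp))) h
          · rw [← mul_inv_cancel_left u v]
            exact mul_mem (Subgroup.subset_closure (by simp))
              ((Subgroup.zpowers_le.mpr (Subgroup.subset_closure (by simp))) h)
        · rintro _ (rfl | rfl) <;> assumption
      exact TwoLift.quaternion_equiv (k := 2) (a := g) (g := u) hg4 (by rw [h2, pow_two]) hi hu hgen

end Cfsg.Agent.TwoFus
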