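import Cfsg.Agent.Lib.TwoGroups.FusionData
import Cfsg.Prelude.Def_TwoFusion

/-!
Fusion in groups with dihedral Sylow 2-subgroups.
-/

set_option autoImplicit false

namespace Cfsg.Agent.TwoFus

variable {G : Type*} [Group G] [Finite G]

theorem klein_two_dvd_of_cycMax (P : Sylow 2 G) {c : G} (hP : CycMax (P : Subgroup G) c)
    (h4 : 4 < Nat.card (P : Subgroup G)) {U : Subgroup G} (hUP : U ≤ (P : Subgroup G))
    (hU : IsKleinFour U) :
    2 ∣ (Subgroup.centralizer (U : Set G)).relIndex (Subgroup.normalizer (U : Set G)) := by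
  haveI : Fact (Nat.Prime 2) := ⟨Nat.prime_two⟩
  have hlt : U < (P : Subgroup G) := lt_of_le_of_ne hUP fun e => by
    rw [← e, hU.card_four] at h4; omega
  obtain ⟨s, ⟨hsP, hsN⟩, hsU⟩ := SetLike.exists_of_lt (Fusion.lt_inf_normalizer (Fusion.sylow_isNilpotent P) hlt)
  obtain ⟨k, hk⟩ := IsPGroup.iff_orderOf.mp P.isPGroup' ⟨s, hsP⟩
  rw [Subgroup.orderOf_mk] at hk
  refine klein_two_dvd hsN (fun hC => hsU ?_) hk
  exact hP.self U hUP hU s hsP fun u hu => (Subgroup.mem_centralizer_iff.mp hC u hu).symm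

theorem klein_index_cases (P : Sylow 2 G) {c : G} (hP : CycMax (P : Subgroup G) c)
    (h4 : 4 < Nat.card (P : Subgroup G)) {U : Subgroup G} (hUP : U ≤ (P : Subgroup G))
    (hU : IsKleinFour U) :
    (Subgroup.centralizer (U : Set G)).relIndex (Subgroup.normalizer (U : Set G)) = 2 ∨
      (Subgroup.centralizer (U : Set G)).relIndex (Subgroup.normalizer (U : Set G)) = 6 := by
  have h2 := klein_two_dvd_of_cycMax P hP h4 hUP hU
  have h6 := klein_relIndex_dvd hU
  have hle := Nat.le_of_dvd (by norm_num) h6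
  generalize (Subgroup.centralizer (U : Set G)).relIndex (Subgroup.normalizer (U : Set G)) = r at *
  interval_cases r <;> omega

theorem klein_index_cases_four (P : Sylow 2 G) (hU : IsKleinFour (P : Subgroup G)) :
    (Subgroup.centralizer ((P : Subgroup G) : Set G)).relIndex
        (Subgroup.normalizer ((P : Subgroup G) : Set G)) = 1 ∨
      (Subgroup.centralizer ((P : Subgroup G) : Set G)).relIndex
        (Subgroup.normalizer ((P : Subgroup G) : Set G)) = 3 := by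
  haveI : Fact (Nat.Prime 2) := ⟨Nat.prime_two⟩
  set C := Subgroup.centralizer ((P : Subgroup G) : Set G) with hC
  have hPC : (P : Subgroup G) ≤ C := fun a ha => Subgroup.mem_centralizer_iff.mpr fun b hb =>
    congrArg Subtype.val ((IsKleinFour.isMulCommutative (G := (P : Subgroup G))).is_comm.comm ⟨b, hb⟩ ⟨a, ha⟩)
  have hodd : ¬ 2 ∣ C.relIndex (Subgroup.normalizer ((P : Subgroup G) : Set G)) := fun h => by
    by_cases hle : C ≤ Subgroup.normalizer ((P : Subgroup G) : Set G)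
    · exact P.not_dvd_index (h.trans ((Subgroup.relIndex_dvd_index_of_le hle).trans
        (Subgroup.index_dvd_of_le hPC)))
    · apply hle
      intro g hg
      rw [Subgroup.mem_normalizer_iff_map_conj_eq]
      refine Subgroup.eq_of_le_of_card_ge ?_
        (by rw [Subgroup.card_map_of_injective (MulAut.conj g).injective])
      rintro _ ⟨v, hv, rfl⟩
      show g * v * g⁻¹ ∈ _
      rw [← Subgroup.mem_centralizer_iff.mp hg v hv, mul_inv_cancel_right]
      exact hv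
  have h6 := klein_relIndex_dvd hU
  have hle := Nat.le_of_dvd (by norm_num) h6
  generalize C.relIndex (Subgroup.normalizer ((P : Subgroup G) : Set G)) = r at *
  interval_cases r <;> omega

theorem conj_mem_iff_of_index_two {S M : Subgroup G} (hidx : M.relIndex S = 2) {s a : G}
    (hs : s ∈ S) (ha : a ∈ S) : s * a * s⁻¹ ∈ M ↔ a ∈ M := by
  have h1 : (⟨s, hs⟩ * ⟨a, ha⟩ * ⟨s, hs⟩⁻¹ : S) ∈ M.subgroupOf S ↔ (⟨a, ha⟩ : S) ∈ M.subgroupOf S := by
    haveI := Subgroup.normal_of_index_eq_two hidx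
    refine ⟨fun h => ?_, fun h => (inferInstance : (M.subgroupOf S).Normal).conj_mem _ h _⟩
    have := (inferInstance : (M.subgroupOf S).Normal).conj_mem _ h (⟨s, hs⟩⁻¹ : S)
    rwa [show (⟨s, hs⟩ : S)⁻¹ * (⟨s, hs⟩ * ⟨a, ha⟩ * ⟨s, hs⟩⁻¹) * (⟨s, hs⟩⁻¹)⁻¹ = ⟨a, ha⟩ by group] at this
  exact h1

namespace Dih

variable {S : Subgroup G} (d : Dih S)

theorem form_eq {i j : ℤ} (h : (d.m : ℤ) ∣ i - j) : d.x ^ i = d.x ^ j := by
  rw [← mul_inv_eq_one, ← zpow_neg, ← zpow_add, zpow_eq_one]; exact h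

theorem parity {i j : ℤ} (h : d.x ^ i = d.x ^ j) : 2 ∣ i - j := by
  rw [← mul_inv_eq_one, ← zpow_neg, ← zpow_add, zpow_eq_one] at h
  exact (Int.natCast_dvd_natCast.mpr d.even).trans h

theorem parity_form {i j : ℤ} (h : d.x ^ i * d.y = d.x ^ j * d.y) : 2 ∣ i - j :=
  d.parity (mul_right_cancel h)

/-- The two non-cyclic maximal subgroups. -/
def half (r : ℤ) : Subgroup G where
  carrier := {a | ∃ i : ℤ, 2 ∣ i ∧ (a = d.x ^ i ∨ a = d.x ^ (i + r) * d.y)}
  one_mem' := ⟨0, dvd_zero 2, Or.inl (zpow_zero _).symm⟩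
  mul_mem' := by
    rintro _ _ ⟨i, hi, rfl | rfl⟩ ⟨j, hj, rfl | rfl⟩
    · exact ⟨i + j, dvd_add hi hj, Or.inl (zpow_add _ _ _).symm⟩
    · refine ⟨i + j, dvd_add hi hj, Or.inr ?_⟩
      rw [← mul_assoc, ← zpow_add, add_assoc]
    · refine ⟨i - j, dvd_sub hi hj, Or.inr ?_⟩
      rw [mul_assoc, d.swap, ← mul_assoc, ← zpow_add]; ring_nf
    · refine ⟨i - j, dvd_sub hi hj, Or.inl ?_⟩
      rw [mul_assoc, ← mul_assoc d.y, d.swap, mul_assoc, d.yy, mul_one, ← zpow_add]; ring_nf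
  inv_mem' := by
    rintro _ ⟨i, hi, rfl | rfl⟩
    · exact ⟨-i, hi.neg_right, Or.inl (zpow_neg _ _).symm⟩
    · exact ⟨i, hi, Or.inr (inv_eq_of_mul_eq_one_right (d.form_sq (i + r)))⟩

theorem mem_half {r : ℤ} {a : G} :
    a ∈ d.half r ↔ ∃ i : ℤ, 2 ∣ i ∧ (a = d.x ^ i ∨ a = d.x ^ (i + r) * d.y) := Iff.rfl

theorem form_mem_half {r i : ℤ} : d.x ^ i * d.y ∈ d.half r ↔ 2 ∣ i - r := by
  constructor
  · rintro ⟨j, hj, h | h⟩
    · exact absurd (h ▸ zpow_mem (Subgroup.mem_zpowers d.x) j : d.x ^ i * d.y ∈ Subgroup.zpowers d.x)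
        (d.form_not_mem i)
    · have := d.parity_form h
      rw [show i - r = (i - (j + r)) + j by ring]
      exact dvd_add this hj
  · intro h
    exact ⟨i - r, h, Or.inr (by rw [sub_add_cancel])⟩

theorem x_not_mem_half (r : ℤ) : d.x ∉ d.half r := by
  rintro ⟨i, hi, h | h⟩
  · have := d.parity (show d.x ^ (1 : ℤ) = d.x ^ i by rw [zpow_one]; exact h)
    omega
  · exact d.form_not_mem (i + r) (h ▸ Subgroup.mem_zpowers d.x)

theorem half_le (r : ℤ) : d.half r ≤ S := by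
  rintro _ ⟨i, _, rfl | rfl⟩
  · exact zpow_mem d.hx i
  · exact mul_mem (zpow_mem d.hx _) d.hy

theorem half_index (r : ℤ) : (d.half r).relIndex S = 2 := by
  refine TwoLift.relIndex_eq_two (g := d.x) d.hx (d.x_not_mem_half r) (d.half_le r) fun b hb => ?_
  rcases d.cases b hb with ⟨i, rfl⟩ | ⟨i, rfl⟩
  · by_cases h : 2 ∣ i
    · exact Or.inl ⟨i, h, Or.inl rfl⟩
    · exact Or.inr ⟨i - 1, by omega, Or.inl (by
        nth_rewrite 1 [← zpow_one d.x]; rw [← zpow_neg, ← zpow_add]; ring_nf)⟩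
  · by_cases h : 2 ∣ i - r
    · exact Or.inl (d.form_mem_half.mpr h)
    · refine Or.inr ?_
      rw [show d.x⁻¹ * (d.x ^ i * d.y) = d.x ^ (i - 1) * d.y by
        rw [← mul_assoc, ← zpow_neg_one, ← zpow_add]; ring_nf]
      exact d.form_mem_half.mpr (by omega)

theorem four_dvd (hS : IsPGroup 2 S) (h4 : 4 < Nat.card S) : 4 ∣ d.m := by
  haveI : Fact (Nat.Prime 2) := ⟨Nat.prime_two⟩
  obtain ⟨k, hk⟩ := IsPGroup.iff_card.mp hS
  rw [hk] at h4
  obtain ⟨j, rfl⟩ : ∃ j, k = j + 3 := by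
    refine ⟨k - 3, ?_⟩
    by_contra hlt
    have : k ≤ 2 := by omega
    interval_cases k <;> omega
  rw [d.card, pow_add] at hk
  exact ⟨2 ^ j, by omega⟩

theorem z_even (h4 : 4 ∣ d.m) : 2 ∣ (d.m : ℤ) / 2 := by
  obtain ⟨k, hk⟩ := h4
  exact ⟨k, by omega⟩

/-- The elements of a four-subgroup of `S`. -/
theorem klein_elems {U : Subgroup G} (hU : IsKleinFour U) (hUS : U ≤ S) {i : ℤ}
    (hi : d.x ^ i * d.y ∈ U) {v : G} (hv : v ∈ U) :
    v = 1 ∨ v = d.z ∨ v = d.x ^ i * d.y ∨ v = d.x ^ i * d.y * d.z := by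
  have hsq : ∀ v ∈ U, v * v = 1 := fun v hv =>
    congrArg Subtype.val (IsKleinFour.mul_self (⟨v, hv⟩ : U))
  by_cases hvx : v ∈ Subgroup.zpowers d.x
  · rcases d.sq_cases hvx (hsq v hv) with r | r
    · exact Or.inl r
    · exact Or.inr (Or.inl r)
  · have hm := d.idx _ (hUS hi) v (hUS hv) (d.form_not_mem i) hvx
    rcases d.sq_cases hm (hsq _ (mul_mem (inv_mem hi) hv)) with r | r
    · exact Or.inr (Or.inr (Or.inl (inv_mul_eq_one.mp r).symm))
    · exact Or.inr (Or.inr (Or.inr (by rw [← r, mul_inv_cancel_left])))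

theorem klein_le_half (h4 : 4 ∣ d.m) {U : Subgroup G} (hU : IsKleinFour U) (hUS : U ≤ S) {i r : ℤ}
    (hi : d.x ^ i * d.y ∈ U) (hr : 2 ∣ i - r) : U ≤ d.half r := by
  intro v hv
  have hu : d.x ^ i * d.y ∈ d.half r := d.form_mem_half.mpr hr
  have hz : d.z ∈ d.half r := ⟨_, d.z_even h4, Or.inl rfl⟩
  rcases d.klein_elems hU hUS hi hv with e | e | e | e <;> rw [e]
  exacts [one_mem _, hz, hu, mul_mem hu hz]

theorem klein_exists_form {U : Subgroup G} (hU : IsKleinFour U) (hUS : U ≤ S) :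
    d.z ∈ U ∧ ∃ i : ℤ, d.x ^ i * d.y ∈ U := by
  obtain ⟨hz, u, hu, hux⟩ := d.klein_z_mem hU hUS
  rcases d.cases u (hUS hu) with ⟨i, rfl⟩ | ⟨i, rfl⟩
  · exact absurd (zpow_mem (Subgroup.mem_zpowers d.x) i) hux
  · exact ⟨hz, i, hu⟩

theorem klein_conj {U V : Subgroup G} (hU : IsKleinFour U) (hV : IsKleinFour V) (hUS : U ≤ S)
    (hVS : V ≤ S) {i j : ℤ} (hi : d.x ^ i * d.y ∈ U) (hj : d.x ^ j * d.y ∈ V) (hp : 2 ∣ j - i) :
    ∃ s ∈ S, U.map (MulAut.conj s).toMonoidHom = V := by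
  obtain ⟨e, he⟩ := hp
  refine ⟨d.x ^ e, zpow_mem d.hx e, ?_⟩
  refine Subgroup.eq_of_le_of_card_ge ?_
    (by rw [Subgroup.card_map_of_injective (MulAut.conj (d.x ^ e)).injective, hU.card_four, hV.card_four])
  rintro _ ⟨v, hv, rfl⟩
  show d.x ^ e * v * (d.x ^ e)⁻¹ ∈ V
  have hz : d.z ∈ V := (d.klein_exists_form hV hVS).1
  have hcz : d.x ^ e * d.z * (d.x ^ e)⁻¹ = d.z := by
    rw [d.z_comm (zpow_mem d.hx e), mul_inv_cancel_right]
  have hcu : d.x ^ e * (d.x ^ i * d.y) * (d.x ^ e)⁻¹ = d.x ^ j * d.y := by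
    rw [← zpow_neg, mul_assoc, mul_assoc (d.x ^ i), d.swap, ← mul_assoc, ← mul_assoc, ← zpow_add,
      ← zpow_add, show e + i + - -e = j by linarith]
  rcases d.klein_elems hU hUS hi hv with r | r | r | r <;> rw [r]
  · rw [mul_one, mul_inv_cancel]; exact one_mem _
  · rw [hcz]; exact hz
  · rw [hcu]; exact hj
  · rw [show d.x ^ e * (d.x ^ i * d.y * d.z) * (d.x ^ e)⁻¹ =
        d.x ^ e * (d.x ^ i * d.y) * (d.x ^ e)⁻¹ * (d.x ^ e * d.z * (d.x ^ e)⁻¹) by group, hcu, hcz]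
    exact mul_mem hj hz

theorem exists_klein (i : ℤ) :
    ∃ U : Subgroup G, U ≤ S ∧ IsKleinFour U ∧ d.z ∈ U ∧ d.x ^ i * d.y ∈ U := by
  have hzS : d.z ∈ S := zpow_mem d.hx _
  have hu : d.x ^ i * d.y ∈ S := mul_mem (zpow_mem d.hx i) d.hy
  refine ⟨Subgroup.closure {d.z, d.x ^ i * d.y}, (Subgroup.closure_le _).mpr ?_,
    isKleinFour_of_pair d.zz (d.form_sq i) (d.z_comm hu) d.z_ne ?_,
    Subgroup.subset_closure (by simp), Subgroup.subset_closure (by simp)⟩
  · rintro _ (rfl | rfl) <;> assumption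
  · exact fun h => d.form_not_mem i (Subgroup.zpowers_le.mpr d.z_mem h)

end Dih

/-- Two four-subgroups of a dihedral Sylow subgroup conjugate in `G` have the same type. -/
theorem dih_klein_type (P : Sylow 2 G) (d : Dih (P : Subgroup G)) (h4 : 4 ∣ d.m) {U V : Subgroup G}
    (hU : IsKleinFour U) (hUP : U ≤ (P : Subgroup G)) (hVP : V ≤ (P : Subgroup G)) {g : G}
    (hg : U.map (MulAut.conj g).toMonoidHom = V) (r : ℤ) (hUr : U ≤ d.half r) : V ≤ d.half r := by
  let lab : Set G → Prop := fun A => ∃ W : Subgroup G, (W : Set G) = A ∧ IsKleinFour W ∧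
    W ≤ d.half r
  have hcj : ∀ (s : G) (W : Subgroup G),
      Alperin.cjs s (W : Set G) = ((W.map (MulAut.conj s⁻¹).toMonoidHom : Subgroup G) : Set G) := by
    intro s W
    rw [Subgroup.coe_map]
    exact Set.image_congr fun a _ => by simp [mul_assoc]
  have hback : ∀ (s : G) (A : Set G), Alperin.cjs s⁻¹ (Alperin.cjs s A) = A := fun s A => by
    rw [Alperin.cjs_mul, mul_inv_cancel, Alperin.cjs_one]
  have hS : ∀ s ∈ (P : Subgroup G), ∀ A : Set G, lab A → lab (Alperin.cjs s A) := by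
    rintro s hs _ ⟨W, rfl, hW, hWr⟩
    refine ⟨_, (hcj s W).symm, klein_map_conj hW _, ?_⟩
    rintro _ ⟨v, hv, rfl⟩
    exact (conj_mem_iff_of_index_two (d.half_index r) (inv_mem hs) (d.half_le r (hWr hv))).mpr (hWr hv)
  have hP : CycMax (P : Subgroup G) d.x := d.cycMax P.isPGroup'
  have hlab := label_eq P lab
    (fun s hs A _ => propext ⟨fun h => hback s A ▸ hS s⁻¹ (inv_mem hs) _ h, hS s hs A⟩)
    (fun E hE => ?_) (A := (U : Set G)) (g := g⁻¹) hUP (by
      rw [hcj, inv_inv, hg]; exact hVP)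
  · obtain ⟨W, hW, -, hWr⟩ := Eq.mpr hlab (⟨U, rfl, hU, hUr⟩ : lab (U : Set G))
    rw [hcj, inv_inv, hg] at hW
    exact (SetLike.coe_injective hW) ▸ hWr
  · rcases hP.oddTrivial hE with h | h | h
    · exact Or.inl h
    · refine Or.inr fun x hx A hA => ?_
      have key : ∀ B : Set G, B ⊆ (E : Set G) → ∀ y ∈ Subgroup.normalizer (E : Set G),
          lab B → lab (Alperin.cjs y B) := by
        rintro _ hB y hy ⟨W, rfl, hW, hWr⟩
        have hWE : W = E := Subgroup.eq_of_le_of_card_ge hB (by rw [hW.card_four, h.card_four])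
        subst hWE
        refine ⟨W, ?_, hW, hWr⟩
        have e : W.map (MulAut.conj y⁻¹).toMonoidHom = W :=
          Subgroup.mem_normalizer_iff_map_conj_eq.mp (inv_mem hy)
        rw [hcj, e]
      refine propext ⟨fun hh => ?_, key A hA x hx⟩
      have hsub : Alperin.cjs x A ⊆ (E : Set G) := by
        rintro _ ⟨a, ha, rfl⟩
        have := (Subgroup.mem_normalizer_iff.mp (inv_mem hx) a).mp (hA ha)
        rwa [inv_inv] at this
      exact hback x A ▸ key _ hsub x⁻¹ (inv_mem hx) hh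
    · exact absurd h (no_quat (fun a ha => d.out_sq a ha) hE)

/-- A four-subgroup with small automizer gives a subgroup of index two. -/
theorem dih_index_two (P : Sylow 2 G) (d : Dih (P : Subgroup G)) (r : ℤ)
    (h : ∀ E : Subgroup G, E ≤ (P : Subgroup G) → IsKleinFour E → OddTrivial E ∨ E ≤ d.half r) :
    ∃ K : Subgroup G, K.Normal ∧ K.index = 2 := by
  have hP : CycMax (P : Subgroup G) d.x := d.cycMax P.isPGroup'
  obtain ⟨K, h1, h2, -⟩ := exists_index_two P (d.half_le r) (d.half_index r) fun a g ha hga => by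
    refine iff_of_eq (label_elem P (fun a => a ∈ d.half r)
      (fun s hs a ha => propext (conj_mem_iff_of_index_two (d.half_index r) hs ha)) (fun E hE => ?_) ha hga)
    rcases hP.oddTrivial hE with h0 | h0 | h0
    · exact Or.inl h0
    · refine (h E hE h0).imp id fun hle x hx a ha => propext (iff_of_true ?_ (hle ha))
      exact hle ((Subgroup.mem_normalizer_iff.mp hx a).mp ha)
    · exact absurd h0 (no_quat (fun a ha => d.out_sq a ha) hE)
  exact ⟨K, h1, h2⟩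

/-- Full automizers on all four-subgroups fuse all involutions. -/
theorem dih_one_class (P : Sylow 2 G) (d : Dih (P : Subgroup G))
    (h : ∀ U : Subgroup G, U ≤ (P : Subgroup G) → IsKleinFour U →
      3 ∣ (Subgroup.centralizer (U : Set G)).relIndex (Subgroup.normalizer (U : Set G)))
    (a b : G) (ha : orderOf a = 2) (hb : orderOf b = 2) : IsConj a b := by
  suffices key : ∀ a : G, orderOf a = 2 → IsConj a d.z from (key a ha).trans (key b hb).symm
  intro a ha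
  obtain ⟨g, hg⟩ := exists_conj_mem P (k := 1) (a := a) (by rw [ha, pow_one])
  refine (isConj_iff.mpr ⟨g, rfl⟩ : IsConj a (g * a * g⁻¹)).trans ?_
  set v := g * a * g⁻¹ with hv
  have hv2 : orderOf v = 2 := by rw [hv, ← MulAut.conj_apply, MulEquiv.orderOf_eq, ha]
  have hvv : v * v = 1 := by rw [← pow_two, ← hv2]; exact pow_orderOf_eq_one v
  have hv1 : v ≠ 1 := fun e => by rw [e, orderOf_one] at hv2; omega
  rcases d.cases v hg with ⟨i, hi⟩ | ⟨i, hi⟩
  · have hm : v ∈ Subgroup.zpowers d.x := hi ▸ zpow_mem (Subgroup.mem_zpowers d.x) i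
    rw [(d.sq_cases hm hvv).resolve_left hv1]
  · obtain ⟨U, hUP, hU, hzU, huU⟩ := d.exists_klein i
    rw [← hi] at huU
    obtain ⟨w, -, hw, -⟩ := klein_transitive hU (h U hUP hU) huU hzU hv1 d.z_ne
    exact isConj_iff.mpr ⟨w, hw⟩

theorem dih_no_index_two (P : Sylow 2 G) (d : Dih (P : Subgroup G))
    (h : ∀ a b : G, orderOf a = 2 → orderOf b = 2 → IsConj a b) (H : Subgroup G) : H.index ≠ 2 := by
  intro hH
  haveI := Subgroup.normal_of_index_eq_two hH
  obtain ⟨U, hUP, hU, hzU, huU⟩ := d.exists_klein 0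
  have ho : ∀ v : G, v * v = 1 → v ≠ 1 → orderOf v = 2 := fun v h1 h2 =>
    orderOf_eq_prime (by rw [pow_two]; exact h1) h2
  have hne : ∀ i : ℤ, d.x ^ i * d.y ≠ 1 := fun i e => d.form_not_mem i (e ▸ one_mem _)
  obtain ⟨t, htH, ht⟩ : ∃ t ∈ H, orderOf t = 2 := by
    by_cases h1 : d.z ∈ H
    · exact ⟨_, h1, ho _ d.zz d.z_ne⟩
    by_cases h2 : d.x ^ (0 : ℤ) * d.y ∈ H
    · exact ⟨_, h2, ho _ (d.form_sq 0) (hne 0)⟩
    · refine ⟨d.z * (d.x ^ (0 : ℤ) * d.y), (Subgroup.mul_mem_iff_of_index_two hH).mpr (iff_of_false h1 h2), ?_⟩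
      refine ho _ (congrArg Subtype.val (IsKleinFour.mul_self (⟨_, mul_mem hzU huU⟩ : U))) fun e => ?_
      exact d.form_not_mem 0 (by rw [eq_inv_of_mul_eq_one_right e]; exact inv_mem d.z_mem)
  have hall : ∀ i : ℤ, d.x ^ i * d.y ∈ H := fun i => by
    obtain ⟨c, hc⟩ := isConj_iff.mp (h t (d.x ^ i * d.y) ht (ho _ (d.form_sq i) (hne i)))
    exact hc ▸ (inferInstance : H.Normal).conj_mem t htH c
  have hy : d.y ∈ H := by simpa using hall 0
  have hx : d.x ∈ H := (H.mul_mem_cancel_right hy).mp (by simpa using hall 1)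
  refine not_le_of_index_two P hH fun a ha => ?_
  rcases d.cases a ha with ⟨i, rfl⟩ | ⟨i, rfl⟩
  · exact zpow_mem hx i
  · exact mul_mem (zpow_mem hx i) hy

theorem dih_no_isolated (P : Sylow 2 G) (d : Dih (P : Subgroup G))
    (h : ∀ a b : G, orderOf a = 2 → orderOf b = 2 → IsConj a b) (z : G) :
    ¬ Cfsg.IsIsolatedInvolution z := by
  intro hz
  have hu : d.x ^ (0 : ℤ) * d.y ∈ (P : Subgroup G) := mul_mem (zpow_mem d.hx 0) d.hy
  have ho : orderOf d.z = 2 := orderOf_eq_prime (by rw [pow_two]; exact d.zz) d.z_ne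
  have ho' : orderOf (d.x ^ (0 : ℤ) * d.y) = 2 := orderOf_eq_prime (by rw [pow_two]; exact d.form_sq 0)
    (fun e => d.form_not_mem 0 (e ▸ one_mem _))
  obtain ⟨g, hg⟩ := isConj_iff.mp (h d.z z ho hz.1)
  set b := g * (d.x ^ (0 : ℤ) * d.y) * g⁻¹ with hb
  obtain ⟨k, hk⟩ := isConj_iff.mp (h z b hz.1 (by rw [hb, ← MulAut.conj_apply, MulEquiv.orderOf_eq, ho']))
  have hc : Commute z b := by
    rw [← hg, hb]
    exact ((show Commute (d.x ^ (0 : ℤ) * d.y) d.z from d.z_comm hu).symm.map (MulAut.conj g).toMonoidHom)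
  have e := hz.2 k (hk.symm ▸ hc)
  rw [hk, ← hg, hb, mul_left_inj, mul_right_inj] at e
  exact d.form_not_mem 0 (e ▸ d.z_mem)

end Cfsg.Agent.TwoFus
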