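import Cfsg.Agent.Lib.Transfer.Alperin
import Cfsg.Agent.Lib.Small.TransferHom
import Mathlib.GroupTheory.SpecificGroups.Cyclic
import Mathlib.Data.ZMod.Basic

/-!
Odd-order elements normalizing 2-subgroups, fusion steps, and subgroups of index two.
-/

set_option autoImplicit false

namespace Cfsg.Agent.TwoFus

variable {G : Type*} [Group G] [Finite G]

/-- Every element of odd order normalizing `E` centralizes it. -/
def OddTrivial (E : Subgroup G) : Prop :=
  ∀ w ∈ Subgroup.normalizer (E : Set G), Odd (orderOf w) → w ∈ Subgroup.centralizer (E : Set G)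

theorem zmod_two_sq : ∀ c : Multiplicative (ZMod 2), c ^ 2 = 1 := by decide

theorem zmod_two_add : (1 : Multiplicative (ZMod 2)) =
    Multiplicative.ofAdd 1 * Multiplicative.ofAdd 1 := by decide

theorem eq_one_of_odd_pow {p : ℕ} {a : G} (ha : orderOf a ∣ 2 ^ p) {n : ℕ} (hn : Odd n)
    (h : a ^ n = 1) : a = 1 := by
  rw [← orderOf_eq_one_iff]
  exact Nat.eq_one_of_dvd_coprimes ((Nat.coprime_two_left.mpr hn).pow_left p) ha
    (orderOf_dvd_of_pow_eq_one h)

/-- An element of odd order normalizing a cyclic 2-group centralizes it. -/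
theorem conj_eq_of_odd {w c : G} {k : ℕ} (hc : orderOf c = 2 ^ k) (hw : Odd (orderOf w))
    (h : w * c * w⁻¹ ∈ Subgroup.zpowers c) : w * c * w⁻¹ = c := by
  have hwN : w ∈ Subgroup.normalizer (Subgroup.zpowers c : Set G) := by
    rw [Subgroup.mem_normalizer_iff_map_conj_eq]
    refine Subgroup.eq_of_le_of_card_ge ?_ (by rw [Subgroup.card_map_of_injective (MulAut.conj w).injective])
    rw [MonoidHom.map_zpowers, Subgroup.zpowers_le]
    exact h
  set f := (Subgroup.zpowers c).normalizerMonoidHom with hf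
  have h1 : orderOf (f ⟨w, hwN⟩) ∣ orderOf w := by
    have := orderOf_map_dvd f ⟨w, hwN⟩
    rwa [Subgroup.orderOf_mk] at this
  have h2 : orderOf (f ⟨w, hwN⟩) ∣ Nat.card (MulAut (Subgroup.zpowers c)) := orderOf_dvd_natCard _
  rw [IsCyclic.card_mulAut, Nat.card_zpowers, hc] at h2
  have h3 : orderOf (f ⟨w, hwN⟩) = 1 := by
    rcases Nat.eq_zero_or_pos k with rfl | hk
    · simpa using h2
    · rw [Nat.totient_prime_pow Nat.prime_two hk, show (2 : ℕ) - 1 = 1 from rfl, mul_one] at h2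
      exact Nat.eq_one_of_dvd_coprimes ((Nat.coprime_two_left.mpr hw).pow_left (k - 1)) h2 h1
  rw [orderOf_eq_one_iff, ← MonoidHom.mem_ker, Subgroup.normalizerMonoidHom_ker] at h3
  exact mul_inv_eq_iff_eq_mul.mpr (Subgroup.mem_centralizer_iff.mp h3 c (Subgroup.mem_zpowers c)).symm

/-- If an element of odd order in `N(E)` keeps a cyclic subgroup of index at most two, it
centralizes `E`. -/
theorem mem_centralizer_of_invariant {E : Subgroup G} (hE : IsPGroup 2 E) {c : G} (hc : c ∈ E)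
    (hidx : ∀ a ∈ E, ∀ b ∈ E, a ∉ Subgroup.zpowers c → b ∉ Subgroup.zpowers c →
      a⁻¹ * b ∈ Subgroup.zpowers c)
    {w : G} (hwN : w ∈ Subgroup.normalizer (E : Set G)) (hw : Odd (orderOf w))
    (h : w * c * w⁻¹ ∈ Subgroup.zpowers c) : w ∈ Subgroup.centralizer (E : Set G) := by
  obtain ⟨k, hk⟩ := IsPGroup.iff_orderOf.mp hE ⟨c, hc⟩
  rw [Subgroup.orderOf_mk] at hk
  have hwc : w * c * w⁻¹ = c := conj_eq_of_odd hk hw h
  have hcomm : Commute w c := mul_inv_eq_iff_eq_mul.mp hwc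
  rw [Subgroup.mem_centralizer_iff]
  intro e he
  suffices w * e * w⁻¹ = e from (mul_inv_eq_iff_eq_mul.mp this).symm
  by_cases hec : e ∈ Subgroup.zpowers c
  · obtain ⟨i, rfl⟩ := hec
    show w * c ^ i * w⁻¹ = c ^ i
    rw [← conj_zpow, hwc]
  · have he' : w * e * w⁻¹ ∈ E := (Subgroup.mem_normalizer_iff.mp hwN e).mp he
    have hec' : w * e * w⁻¹ ∉ Subgroup.zpowers c := by
      rintro ⟨i, hi⟩
      refine hec ⟨i, ?_⟩
      have hi' : c ^ i = w * e * w⁻¹ := hi
      show c ^ i = e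
      calc c ^ i = w⁻¹ * (w * c ^ i) := by group
        _ = w⁻¹ * (c ^ i * w) := by rw [(hcomm.zpow_right i).eq]
        _ = e := by rw [hi']; group
    obtain ⟨i, hi⟩ := hidx e he _ he' hec hec'
    set d := e⁻¹ * (w * e * w⁻¹) with hd
    have hi' : c ^ i = d := hi
    have hwd : Commute w d := hi' ▸ hcomm.zpow_right i
    have hiter : ∀ j : ℕ, w ^ j * e * (w ^ j)⁻¹ = e * d ^ j := by
      intro j
      induction j with
      | zero => simp
      | succ j ih =>
        calc w ^ (j + 1) * e * (w ^ (j + 1))⁻¹ = w * (w ^ j * e * (w ^ j)⁻¹) * w⁻¹ := by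
              rw [pow_succ', mul_inv_rev]; group
          _ = w * e * d ^ j * w⁻¹ := by rw [ih, ← mul_assoc w e]
          _ = w * e * w⁻¹ * d ^ j := by
              rw [mul_assoc (w * e), ((hwd.inv_left).pow_right j).symm.eq]
              simp only [mul_assoc]
          _ = e * d ^ (j + 1) := by
              rw [pow_succ', ← mul_assoc e d, show e * d = w * e * w⁻¹ by rw [hd, mul_inv_cancel_left]]
    have h1 := hiter (orderOf w)
    rw [pow_orderOf_eq_one, one_mul, inv_one, mul_one, left_eq_mul] at h1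
    have h2 : orderOf d ∣ 2 ^ k := by
      rw [← hi', ← hk]
      exact orderOf_dvd_of_pow_eq_one (by
        rw [← zpow_natCast, ← zpow_mul, mul_comm, zpow_mul, zpow_natCast, pow_orderOf_eq_one, one_zpow])
    have h3 := eq_one_of_odd_pow h2 hw h1
    rw [hd, inv_mul_eq_one] at h3
    exact h3.symm

theorem oddTrivial_of_sq_mem {E : Subgroup G}
    (h : ∀ w ∈ Subgroup.normalizer (E : Set G), w * w ∈ Subgroup.centralizer (E : Set G)) :
    OddTrivial E := by
  intro w hw ho
  obtain ⟨m, hm⟩ := ho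
  have e : w = ((w * w) ^ (m + 1)) := by
    rw [← pow_two, ← pow_mul, show 2 * (m + 1) = orderOf w + 1 by omega, pow_succ, pow_orderOf_eq_one,
      one_mul]
  rw [e]
  exact pow_mem (h w hw) _

/-- A fusion step inside a subgroup with no odd automizer is induced by the Sylow subgroup. -/
theorem exists_sylow_step (P : Sylow 2 G) {E : Subgroup G}
    (hfull : ¬ 2 ∣ ((P : Subgroup G) ⊓ Subgroup.normalizer (E : Set G)).relIndex
      (Subgroup.normalizer (E : Set G)))
    (htriv : OddTrivial E) {x : G} (hx : x ∈ Subgroup.normalizer (E : Set G)) :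
    ∃ s ∈ (P : Subgroup G), ∀ a ∈ E, x⁻¹ * a * x = s⁻¹ * a * s := by
  haveI : Fact (Nat.Prime 2) := ⟨Nat.prime_two⟩
  set N := Subgroup.normalizer (E : Set G) with hN
  set f := E.normalizerMonoidHom.rangeRestrict with hf
  have hR : IsPGroup 2 E.normalizerMonoidHom.range := by
    rintro ⟨_, ⟨w, rfl⟩⟩
    obtain ⟨a, m, hm, ho⟩ : ∃ a m, ¬ 2 ∣ m ∧ orderOf (w : G) = 2 ^ a * m :=
      Nat.exists_eq_pow_mul_and_not_dvd (orderOf_pos (w : G)).ne' 2 (by norm_num)
    refine ⟨a, Subtype.ext ?_⟩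
    show E.normalizerMonoidHom w ^ 2 ^ a = 1
    rw [← map_pow, ← MonoidHom.mem_ker, Subgroup.normalizerMonoidHom_ker, Subgroup.mem_subgroupOf]
    refine htriv _ (w ^ 2 ^ a).2 ?_
    rw [Subgroup.coe_pow, orderOf_pow' _ (by positivity), ho, Nat.gcd_eq_right (dvd_mul_right _ _),
      Nat.mul_div_cancel_left _ (by positivity)]
    exact Nat.odd_iff.mpr (Nat.two_dvd_ne_zero.mp hm)
  set L := (((P : Subgroup G) ⊓ N).subgroupOf N).map f with hL
  have hd : L.index ∣ (((P : Subgroup G) ⊓ N).subgroupOf N).index :=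
    Subgroup.index_map_dvd _ E.normalizerMonoidHom.rangeRestrict_surjective
  obtain ⟨j, hj⟩ := hR.index L
  rw [hj] at hd
  have hj0 : j = 0 := by
    by_contra hj0
    exact hfull ((dvd_pow_self 2 hj0).trans hd)
  rw [hj0, pow_zero, Subgroup.index_eq_one] at hj
  obtain ⟨⟨t, htN⟩, ⟨ht, -⟩, hft⟩ : f ⟨x, hx⟩ ∈ L := hj ▸ Subgroup.mem_top _
  refine ⟨t, ht, fun a ha => ?_⟩
  have h1 : E.normalizerMonoidHom ((⟨t, htN⟩ : N) * ⟨x, hx⟩⁻¹) = 1 := by
    rw [map_mul, map_inv, mul_inv_eq_one]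
    exact congrArg Subtype.val hft
  rw [← MonoidHom.mem_ker, Subgroup.normalizerMonoidHom_ker, Subgroup.mem_subgroupOf] at h1
  have ha' : x⁻¹ * a * x ∈ E := by
    have := (Subgroup.mem_normalizer_iff.mp (inv_mem hx) a).mp ha
    rwa [inv_inv] at this
  have h2 : x⁻¹ * a * x * (t * x⁻¹) = t * x⁻¹ * (x⁻¹ * a * x) :=
    Subgroup.mem_centralizer_iff.mp h1 _ ha'
  have h3 : a * (t * x⁻¹) = t * x⁻¹ * a :=
    Subgroup.mem_centralizer_iff.mp h1 _ ha
  calc x⁻¹ * a * x = t⁻¹ * (t * x⁻¹ * a) * x := by group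
    _ = t⁻¹ * (a * (t * x⁻¹)) * x := by rw [h3]
    _ = t⁻¹ * a * t := by group

/-- A label constant on every fusion step is constant on fusion classes. -/
theorem label_eq {α : Sort*} (P : Sylow 2 G) (lab : Set G → α)
    (hS : ∀ s ∈ (P : Subgroup G), ∀ A : Set G, A ⊆ ((P : Subgroup G) : Set G) →
      lab (Alperin.cjs s A) = lab A)
    (hstep : ∀ E : Subgroup G, E ≤ (P : Subgroup G) →
      OddTrivial E ∨ ∀ x ∈ Subgroup.normalizer (E : Set G), ∀ A : Set G, A ⊆ (E : Set G) →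
        lab (Alperin.cjs x A) = lab A)
    {A : Set G} {g : G} (hA : A ⊆ ((P : Subgroup G) : Set G))
    (hAg : Alperin.cjs g A ⊆ ((P : Subgroup G) : Set G)) : lab (Alperin.cjs g A) = lab A := by
  haveI : Fact (Nat.Prime 2) := ⟨Nat.prime_two⟩
  have h := Alperin.chain_of_conj P A g hA hAg
  clear hA hAg
  induction h with
  | nil => rw [Alperin.cjs_one]
  | @cons A x g Q hQ hx hA _ ih =>
    rw [← Alperin.cjs_mul, ih]
    set E := (P : Subgroup G) ⊓ (Q : Subgroup G) with hE
    have hAP : A ⊆ ((P : Subgroup G) : Set G) := fun a ha => (hA ha).1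
    rcases hstep E inf_le_left with htriv | hlab
    · obtain ⟨s, hs, hsa⟩ := exists_sylow_step P hQ.1 htriv hx
      rw [show Alperin.cjs x A = Alperin.cjs s A from Set.image_congr fun a ha => hsa a (hA ha)]
      exact hS s hs A hAP
    · exact hlab x hx A hA

/-- A label on elements, constant on every fusion step. -/
theorem label_elem {α : Sort*} (P : Sylow 2 G) (lab : G → α)
    (hS : ∀ s ∈ (P : Subgroup G), ∀ a ∈ (P : Subgroup G), lab (s * a * s⁻¹) = lab a)
    (hstep : ∀ E : Subgroup G, E ≤ (P : Subgroup G) →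
      OddTrivial E ∨ ∀ x ∈ Subgroup.normalizer (E : Set G), ∀ a ∈ E, lab (x * a * x⁻¹) = lab a)
    {a g : G} (ha : a ∈ (P : Subgroup G)) (hga : g * a * g⁻¹ ∈ (P : Subgroup G)) :
    lab (g * a * g⁻¹) = lab a := by
  have hsing : ∀ (g a : G), Alperin.cjs g {a} = {g⁻¹ * a * g} := fun g a => Set.image_singleton
  have key : ∀ (b : G), (∃ h : G, {b} = ({h} : Set G) ∧ lab h = lab a) ↔ lab b = lab a := fun b =>
    ⟨fun ⟨h, hb, hh⟩ => (Set.singleton_eq_singleton_iff.mp hb).symm ▸ hh, fun hb => ⟨b, rfl, hb⟩⟩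
  let L : Set G → Prop := fun A => ∃ h : G, A = {h} ∧ lab h = lab a
  have hL : ∀ (x : G) (A : Set G), (∀ b, A = {b} → lab (x⁻¹ * b * x) = lab b) →
      L (Alperin.cjs x A) = L A := by
    intro x A hb
    refine propext ⟨?_, ?_⟩
    · rintro ⟨h, hA, hh⟩
      have hA' : A = {x * h * x⁻¹} := by
        have := congrArg (Alperin.cjs x⁻¹) hA
        rwa [Alperin.cjs_mul, mul_inv_cancel, Alperin.cjs_one, hsing, inv_inv] at this
      refine ⟨_, hA', ?_⟩
      rw [← hb _ hA', show x⁻¹ * (x * h * x⁻¹) * x = h by group]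
      exact hh
    · rintro ⟨h, rfl, hh⟩
      exact ⟨_, hsing x h, (hb h rfl).trans hh⟩
  have h := label_eq P L (fun s hs A hA => hL s A fun b hb => ?_)
    (fun E hE => (hstep E hE).imp id fun hl x hx A hA => hL x A fun b hb => ?_)
    (A := {a}) (g := g⁻¹) (Set.singleton_subset_iff.mpr ha)
    (by rw [hsing, inv_inv]; exact Set.singleton_subset_iff.mpr hga)
  · have h2 : L (Alperin.cjs g⁻¹ {a}) := h ▸ ⟨a, rfl, rfl⟩
    rw [hsing, inv_inv] at h2
    exact (key _).mp h2
  · have := hS s⁻¹ (inv_mem hs) b (hA (by rw [hb]; rfl))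
    rwa [inv_inv] at this
  · have := hl x⁻¹ (inv_mem hx) b (hA (by rw [hb]; rfl))
    rwa [inv_inv] at this

/-- Without odd automizers the Sylow 2-subgroup controls fusion. -/
theorem hasNormalPComplement_of_oddTrivial (P : Sylow 2 G)
    (h : ∀ E : Subgroup G, E ≤ (P : Subgroup G) → OddTrivial E) : Cfsg.HasNormalPComplement 2 G := by
  haveI : Fact (Nat.Prime 2) := ⟨Nat.prime_two⟩
  refine Fusion.hasNormalPComplement_of_controlsFusion P fun x hx g hg => ?_
  have hiff : ∀ (t a : G), t ∈ (P : Subgroup G) → ((∃ v ∈ (P : Subgroup G), v * x * v⁻¹ = t * a * t⁻¹) ↔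
      ∃ v ∈ (P : Subgroup G), v * x * v⁻¹ = a) := by
    intro t a ht
    constructor
    · rintro ⟨v, hv, e⟩
      refine ⟨t⁻¹ * v, mul_mem (inv_mem ht) hv, ?_⟩
      calc t⁻¹ * v * x * (t⁻¹ * v)⁻¹ = t⁻¹ * (v * x * v⁻¹) * t := by group
        _ = a := by rw [e]; group
    · rintro ⟨v, hv, e⟩
      refine ⟨t * v, mul_mem ht hv, ?_⟩
      calc t * v * x * (t * v)⁻¹ = t * (v * x * v⁻¹) * t⁻¹ := by group
        _ = t * a * t⁻¹ := by rw [e]
  have h1 := label_elem P (fun a => ∃ v ∈ (P : Subgroup G), v * x * v⁻¹ = a)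
    (fun s hs a _ => propext (hiff s a hs)) (fun E hE => Or.inl (h E hE)) hx hg
  exact h1 ▸ ⟨1, one_mem _, by group⟩

/-- A fusion invariant maximal subgroup of the Sylow subgroup comes from a normal subgroup of index
two. -/
theorem exists_index_two (P : Sylow 2 G) {M : Subgroup G} (hMP : M ≤ (P : Subgroup G))
    (hidx : M.relIndex (P : Subgroup G) = 2)
    (hinv : ∀ a g : G, a ∈ (P : Subgroup G) → g * a * g⁻¹ ∈ (P : Subgroup G) →
      (g * a * g⁻¹ ∈ M ↔ a ∈ M)) :
    ∃ K : Subgroup G, K.Normal ∧ K.index = 2 ∧ K ⊓ (P : Subgroup G) = M := by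
  haveI : Fact (Nat.Prime 2) := ⟨Nat.prime_two⟩
  classical
  set M' := M.subgroupOf (P : Subgroup G) with hM'
  have hi : M'.index = 2 := hidx
  let φ : (P : Subgroup G) →* Multiplicative (ZMod 2) :=
    MonoidHom.mk' (fun v => if v ∈ M' then 1 else Multiplicative.ofAdd 1) (by
      intro u v
      by_cases hu : u ∈ M' <;> by_cases hv : v ∈ M' <;>
        simp [hu, hv, Subgroup.mul_mem_iff_of_index_two hi]
      exact zmod_two_add)
  have hφ : ∀ v, φ v = 1 ↔ v ∈ M' := fun v => by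
    by_cases hv : v ∈ M' <;> simp [φ, hv]
  have key : ∀ g ∈ (P : Subgroup G), ∀ (k : ℕ) (a : G) (hk : a⁻¹ * g ^ k * a ∈ (P : Subgroup G))
      (hp : g ^ k ∈ (P : Subgroup G)), φ ⟨_, hk⟩ = φ ⟨g ^ k, hp⟩ := by
    intro g hg k a hk hp
    have hA := hinv (g ^ k) a⁻¹ hp (by rwa [inv_inv])
    rw [inv_inv] at hA
    have hiff : (⟨_, hk⟩ : (P : Subgroup G)) ∈ M' ↔ (⟨g ^ k, hp⟩ : (P : Subgroup G)) ∈ M' := hA
    simp only [φ, MonoidHom.mk'_apply, hiff]
  have hV : ∀ g (hg : g ∈ (P : Subgroup G)), φ.transfer g = φ ⟨g, hg⟩ := fun g hg => by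
    rw [Small.transfer_eq_pow_of_control φ hg fun k a hk => key g hg k a hk _]
    obtain ⟨m, hm⟩ : Odd (P : Subgroup G).index :=
      Nat.odd_iff.mpr (Nat.two_dvd_ne_zero.mp P.not_dvd_index)
    have h2 := zmod_two_sq
    rw [hm, pow_succ, pow_mul, h2, one_pow, one_mul]
  refine ⟨φ.transfer.ker, inferInstance, ?_, ?_⟩
  · obtain ⟨v, hv⟩ : ∃ v : (P : Subgroup G), v ∉ M' := by
      by_contra hno
      push Not at hno
      rw [(Subgroup.eq_top_iff' M').mpr hno, Subgroup.index_top] at hi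
      omega
    have hne : φ.transfer (v : G) ≠ 1 := by rw [hV _ v.2]; exact fun e => hv ((hφ v).mp e)
    rw [Subgroup.index_ker]
    have h1 : Nat.card φ.transfer.range ∣ 2 := by
      have h0 := Subgroup.card_subgroup_dvd_card φ.transfer.range
      rwa [show Nat.card (Multiplicative (ZMod 2)) = 2 by
        rw [Nat.card_congr Multiplicative.toAdd, Nat.card_zmod]] at h0
    refine ((Nat.dvd_prime Nat.prime_two).mp h1).resolve_left fun e => hne ?_
    exact Subgroup.mem_bot.mp (Subgroup.card_eq_one.mp e ▸ MonoidHom.mem_range.mpr ⟨_, rfl⟩)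
  · ext a
    rw [Subgroup.mem_inf, MonoidHom.mem_ker]
    constructor
    · rintro ⟨h1, ha⟩
      rw [hV a ha, hφ] at h1
      exact h1
    · intro ha
      exact ⟨by rw [hV a (hMP ha), hφ]; exact ha, hMP ha⟩

/-- Normal subgroups of index two contain all squares. -/
theorem mul_self_mem {H : Subgroup G} (hH : H.index = 2) (a : G) : a * a ∈ H :=
  Subgroup.mul_self_mem_of_index_two hH a

/-- A Sylow subgroup cannot lie in a subgroup of even index. -/
theorem not_le_of_index_two (P : Sylow 2 G) {H : Subgroup G} (hH : H.index = 2) :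
    ¬ (P : Subgroup G) ≤ H := fun h => by
  haveI : Fact (Nat.Prime 2) := ⟨Nat.prime_two⟩
  refine P.not_dvd_index ?_
  have h2 := Subgroup.index_dvd_of_le h
  rwa [hH] at h2

end Cfsg.Agent.TwoFus
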