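import Cfsg.Agent.Lib.TwoGroups.WreathedSubgroups
import Cfsg.Agent.Lib.TwoGroups.OddAction

/-!
Self-centralizing subgroups of a wreathed group with an automorphism of odd order.
-/

set_option autoImplicit false

namespace Cfsg.Agent.Wreath

open Cfsg.Agent.TwoFus

theorem dvd_congr {k x y : ℤ} (h : k ∣ x) (e : y = x) : k ∣ y := e ▸ h

section autos

variable {X : Type*} [Group X] [Finite X]

omit [Finite X] in
theorem pow_apply_of_fixed (φ : MulAut X) {v c : X} (h : φ v = v * c) (hc : φ c = c) :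
    ∀ k : ℕ, (φ ^ k) v = v * c ^ k := by
  intro k
  induction k with
  | zero => simp
  | succ k ih => rw [pow_succ', MulAut.mul_apply, ih, map_mul, map_pow, h, hc, pow_succ', ← mul_assoc]

theorem fixed_of_translate (hX : IsPGroup 2 X) (φ : MulAut X) (ho : Odd (orderOf φ)) {v c : X}
    (h : φ v = v * c) (hc : φ c = c) : φ v = v := by
  have h1 := pow_apply_of_fixed φ h hc (orderOf φ)
  rw [pow_orderOf_eq_one, MulAut.one_apply, left_eq_mul] at h1
  obtain ⟨k, hk⟩ := IsPGroup.iff_orderOf.mp hX c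
  rw [h, eq_one_of_odd_pow (dvd_of_eq hk) ho h1, mul_one]

theorem mem_zpowers_of_orderOf_eq {w c c' : X} (hc : c ∈ Subgroup.zpowers w)
    (hc' : c' ∈ Subgroup.zpowers w) (h : orderOf c' = orderOf c) : c' ∈ Subgroup.zpowers c := by
  classical
  haveI := Fintype.ofFinite X
  have hle := IsCyclic.card_pow_eq_one_le (α := Subgroup.zpowers w) (orderOf_pos c)
  have hsub : (Subgroup.zpowers (⟨c, hc⟩ : Subgroup.zpowers w) : Set (Subgroup.zpowers w)).toFinset =
      (Finset.univ.filter fun g : Subgroup.zpowers w => g ^ orderOf c = 1) := by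
    refine Finset.eq_of_subset_of_card_le (fun g hg => ?_) (hle.trans ?_)
    · obtain ⟨i, rfl⟩ := (Set.mem_toFinset.mp hg)
      refine Finset.mem_filter.mpr ⟨Finset.mem_univ _, ?_⟩
      rw [← Subgroup.orderOf_mk c hc]
      show ((⟨c, hc⟩ : Subgroup.zpowers w) ^ i) ^ _ = 1
      rw [← zpow_natCast, ← zpow_mul, mul_comm, zpow_mul, zpow_natCast, pow_orderOf_eq_one, one_zpow]
    · rw [Set.toFinset_card, ← Nat.card_eq_fintype_card]
      show _ ≤ Nat.card (Subgroup.zpowers (⟨c, hc⟩ : Subgroup.zpowers w))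
      rw [Nat.card_zpowers, Subgroup.orderOf_mk]
  have hmem : (⟨c', hc'⟩ : Subgroup.zpowers w) ∈
      (Finset.univ.filter fun g : Subgroup.zpowers w => g ^ orderOf c = 1) := by
    refine Finset.mem_filter.mpr ⟨Finset.mem_univ _, ?_⟩
    rw [← h, ← Subgroup.orderOf_mk c' hc']
    exact pow_orderOf_eq_one _
  rw [← hsub, Set.mem_toFinset] at hmem
  obtain ⟨i, hi⟩ := hmem
  exact ⟨i, congrArg Subtype.val hi⟩

/-- An automorphism of odd order fixes an element whose cyclic group it preserves. -/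
theorem fixed_of_zpowers (hX : IsPGroup 2 X) (φ : MulAut X) (ho : Odd (orderOf φ)) (c : X)
    (h : φ c ∈ Subgroup.zpowers c) : φ c = c := by
  obtain ⟨r, hr⟩ := IsPGroup.iff_orderOf.mp hX c
  induction r generalizing c with
  | zero =>
    rw [pow_zero, orderOf_eq_one_iff] at hr
    rw [hr, map_one]
  | succ r ih =>
    obtain ⟨i, hi⟩ := h
    have hi' : c ^ i = φ c := hi
    have hsq : φ (c ^ 2) = c ^ 2 := by
      refine ih (c ^ 2) ⟨i, ?_⟩ ?_
      · show (c ^ 2) ^ i = φ (c ^ 2)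
        rw [map_pow, ← hi', ← zpow_natCast, ← zpow_natCast, ← zpow_mul, ← zpow_mul, mul_comm]
      · rw [orderOf_pow' _ two_ne_zero, hr, Nat.gcd_eq_right (dvd_pow_self 2 r.succ_ne_zero),
          pow_succ, Nat.mul_div_cancel _ two_pos]
    set d := c⁻¹ * φ c with hd
    have hd2 : d * d = 1 := by
      rw [hd, ← hi', ← zpow_neg_one, ← zpow_add, ← zpow_add]
      rw [map_pow, ← hi', ← zpow_natCast, ← zpow_natCast, ← zpow_mul] at hsq
      calc c ^ (-1 + i + (-1 + i)) = c ^ (i * ((2 : ℕ) : ℤ)) * (c ^ ((2 : ℕ) : ℤ))⁻¹ := by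
            rw [← zpow_neg, ← zpow_add]; congr 1; push_cast; ring
        _ = 1 := by rw [hsq, mul_inv_cancel]
    have hdc : φ c = c * d := by rw [hd, mul_inv_cancel_left]
    rcases Nat.eq_zero_or_pos r with rfl | hr0
    · rw [zero_add, pow_one] at hr
      rcases Int.even_or_odd' i with ⟨j, rfl | rfl⟩
      · exfalso
        rw [zpow_mul, zpow_two, ← pow_two, ← hr, pow_orderOf_eq_one, one_zpow] at hi'
        rw [← φ.orderOf_eq, ← hi', orderOf_one] at hr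
        omega
      · rw [zpow_add_one, zpow_mul, zpow_two, ← pow_two, ← hr, pow_orderOf_eq_one, one_zpow,
          one_mul] at hi'
        exact hi'.symm
    · refine fixed_of_translate hX φ ho hdc ?_
      have hdmem : d ∈ Subgroup.zpowers c := ⟨-1 + i, by
        show c ^ (-1 + i) = d
        rw [hd, ← hi', zpow_add, zpow_neg_one]⟩
      by_cases hd1 : d = 1
      · rw [hd1, map_one]
      set e := c ^ 2 ^ r with he
      have heo : orderOf e = 2 := by
        rw [he, orderOf_pow' _ (by positivity), hr, Nat.gcd_eq_right (pow_dvd_pow 2 r.le_succ),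
          pow_succ, Nat.mul_div_cancel_left _ (by positivity)]
      have hdo : orderOf d = 2 := orderOf_eq_prime (by rw [pow_two, hd2]) hd1
      obtain ⟨j, hj⟩ := mem_zpowers_of_orderOf_eq (Subgroup.pow_mem _ (Subgroup.mem_zpowers c) _) hdmem
        (hdo.trans heo.symm)
      have hj' : e ^ j = d := hj
      obtain ⟨r', rfl⟩ : ∃ r', r = r' + 1 := ⟨r - 1, by omega⟩
      rw [← hj', map_zpow, he, pow_succ', pow_mul, map_pow, hsq]

/-- An automorphism of odd order fixes an element if both lie in one cyclic subgroup. -/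
theorem fixed_of_mem_cyclic (hX : IsPGroup 2 X) (φ : MulAut X) (ho : Odd (orderOf φ)) {w c : X}
    (hc : c ∈ Subgroup.zpowers w) (hc' : φ c ∈ Subgroup.zpowers w) : φ c = c :=
  fixed_of_zpowers hX φ ho c (mem_zpowers_of_orderOf_eq hc hc' (φ.orderOf_eq c))

end autos

namespace Pres

variable {S : Type*} [Group S] [Finite S] (d : Pres S)

include d in
theorem isPGroup : IsPGroup 2 S := IsPGroup.of_card d.hcard

theorem conj_us (a b c c' : ℤ) :
    d.u a b * d.s * d.u c c' * (d.u a b * d.s)⁻¹ = d.u c' c := by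
  rw [mul_inv_eq_iff_eq_mul, d.us_mul_u, d.u_mul_us, add_comm a, add_comm b]

theorem h_eq : d.h = 2 * 2 ^ d.p := pow_succ' _ _

theorem center_mem {a b : ℤ} : d.u a b ∈ Subgroup.center S ↔ 2 * d.h ∣ a - b := by
  refine ⟨fun h => ?_, d.u_diag_central⟩
  have h1 := Subgroup.mem_center_iff.mp h (d.u 0 0 * d.s)
  exact (d.commute_us a b 0 0).mp h1

theorem center_zpowers {g : S} (hg : g ∈ Subgroup.center S) : g ∈ Subgroup.zpowers (d.u 1 1) := by
  rwa [← d.center_eq]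

theorem u_one_one_central : d.u 1 1 ∈ Subgroup.center S := d.u_diag_central (by simp)

theorem center_le_U {g : S} (hg : g ∈ Subgroup.center S) : g ∈ d.U := by
  obtain ⟨k, rfl⟩ := d.center_zpowers hg
  exact zpow_mem (d.u_mem_U 1 1) k

/-- The subgroup `Q Z(S)` containing the elements `u(a,b) s` with `a - b ≡ e`. -/
def Ve (e : ℤ) : Subgroup S where
  carrier := {g | (∃ a b : ℤ, g = d.u a b ∧ d.h ∣ a - b) ∨
    (2 ∣ e ∧ ∃ a b : ℤ, g = d.u a b * d.s ∧ d.h ∣ a - b - e)}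
  one_mem' := Or.inl ⟨0, 0, d.u_zero.symm, by simp⟩
  mul_mem' := by
    rintro _ _ (⟨a, b, rfl, h1⟩ | ⟨he, a, b, rfl, h1⟩) (⟨c, c', rfl, h2⟩ | ⟨he', c, c', rfl, h2⟩)
    · exact Or.inl ⟨a + c, b + c', d.uu a b c c', dvd_congr (dvd_add h1 h2) (by ring)⟩
    · exact Or.inr ⟨he', a + c, b + c', d.u_mul_us a b c c', dvd_congr (dvd_add h1 h2) (by ring)⟩
    · exact Or.inr ⟨he, a + c', b + c, d.us_mul_u a b c c', dvd_congr (dvd_sub h1 h2) (by ring)⟩
    · exact Or.inl ⟨a + c', b + c, d.us_mul_us a b c c', dvd_congr (dvd_sub h1 h2) (by ring)⟩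
  inv_mem' := by
    rintro _ (⟨a, b, rfl, h⟩ | ⟨he, a, b, rfl, h⟩)
    · exact Or.inl ⟨-a, -b, d.u_inv a b, dvd_congr (h.neg_right) (by ring)⟩
    · exact Or.inr ⟨he, -b, -a, d.us_inv a b, dvd_congr (h) (by ring)⟩

theorem mem_Ve_u {e a b : ℤ} : d.u a b ∈ d.Ve e ↔ d.h ∣ a - b := by
  constructor
  · rintro (⟨c, c', he, h⟩ | ⟨-, c, c', he, -⟩)
    · obtain ⟨h1, h2⟩ := (d.u_eq_iff a b c c').mp he
      have h3 : d.h ∣ a - c := (dvd_mul_left _ _).trans h1
      have h4 : d.h ∣ b - c' := (dvd_mul_left _ _).trans h2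
      exact dvd_congr (dvd_add (dvd_sub h3 h4) h) (by ring)
    · exact absurd he (d.u_ne_us a b c c')
  · exact fun h => Or.inl ⟨a, b, rfl, h⟩

theorem mem_Ve_us {e a b : ℤ} (he : 2 ∣ e) : d.u a b * d.s ∈ d.Ve e ↔ d.h ∣ a - b - e := by
  constructor
  · rintro (⟨c, c', hh, -⟩ | ⟨-, c, c', hh, h⟩)
    · exact absurd hh.symm (d.u_ne_us c c' a b)
    · obtain ⟨h1, h2⟩ := (d.u_eq_iff a b c c').mp (mul_right_cancel hh)
      have h3 : d.h ∣ a - c := (dvd_mul_left _ _).trans h1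
      have h4 : d.h ∣ b - c' := (dvd_mul_left _ _).trans h2
      exact dvd_congr (dvd_add (dvd_sub h3 h4) h) (by ring)
  · exact fun h => Or.inr ⟨he, a, b, rfl, h⟩

theorem center_le_Ve (e : ℤ) : Subgroup.center S ≤ d.Ve e := by
  rw [d.center_eq, Subgroup.zpowers_le]
  exact d.mem_Ve_u.mpr (by simp)

theorem Ve_noncomm {e : ℤ} (he : 2 ∣ e) : ¬ IsMulCommutative (d.Ve e) := by
  intro hc
  have h1 : d.u d.h 0 ∈ d.Ve e := d.mem_Ve_u.mpr (by simp)
  have h2 : d.u e 0 * d.s ∈ d.Ve e := (d.mem_Ve_us he).mpr (by simp)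
  have h3 := (d.commute_us d.h 0 e 0).mp
    (congrArg Subtype.val (mul_comm' (⟨_, h2⟩ : d.Ve e) ⟨_, h1⟩))
  rw [sub_zero] at h3
  exact d.not_dvd_h h3

section classify

variable {X : Subgroup S} (φ : MulAut X) (hodd : Odd (orderOf φ))

include d hodd in
theorem trivial_of_invariant {a b : ℤ} (ht : d.u a b * d.s ∈ X)
    (hZ : ∀ v : X, (v : S) ∈ Subgroup.center S → φ v = v)
    (h0 : ∀ v : X, (v : S) ∈ d.U → (φ v : S) ∈ d.U) : φ = 1 := by
  have hX : IsPGroup 2 X := d.isPGroup.to_subgroup X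
  set t : X := ⟨d.u a b * d.s, ht⟩ with htdef
  have htU : (t : S) ∉ d.U := d.us_not_mem a b
  have hmul : ∀ v w : X, (v : S) ∉ d.U → (w : S) ∉ d.U → ((v⁻¹ * w : X) : S) ∈ d.U := fun v w hv hw => by
    rw [Subgroup.coe_mul, Subgroup.coe_inv, Subgroup.mul_mem_iff_of_index_two d.index_U, inv_mem_iff]
    exact iff_of_false hv hw
  have hUinv : ∀ v : X, (φ v : S) ∈ d.U → (v : S) ∈ d.U := by
    intro v hv
    have hk : ∀ k : ℕ, 1 ≤ k → ((φ ^ k) v : S) ∈ d.U := by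
      intro k hk
      induction k with
      | zero => omega
      | succ k ih =>
        rcases Nat.eq_zero_or_pos k with rfl | hk0
        · simpa using hv
        · rw [pow_succ', MulAut.mul_apply]; exact h0 _ (ih hk0)
    have := hk (orderOf φ) (orderOf_pos φ)
    rwa [pow_orderOf_eq_one, MulAut.one_apply] at this
  have hcomm : ∀ v w : X, (v : S) ∈ d.U → (w : S) ∈ d.U → v * w = w * v := fun v w hv hw => by
    haveI := d.U_comm
    exact Subtype.ext (congrArg Subtype.val (mul_comm' (⟨_, hv⟩ : d.U) ⟨_, hw⟩) :)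
  have hcyc : IsCyclic ((Subgroup.zpowers (d.u 1 (-1))).subgroupOf X) :=
    isCyclic_of_injective (((X.subtype).comp ((Subgroup.zpowers (d.u 1 (-1))).subgroupOf X).subtype).codRestrict
      (Subgroup.zpowers (d.u 1 (-1))) fun g => g.2) fun g g' e => by
        exact Subtype.ext (Subtype.ext (congrArg Subtype.val e :))
  obtain ⟨⟨w, hw⟩, hwgen⟩ := hcyc.exists_generator
  have hw' : ∀ c : X, (c : S) ∈ Subgroup.zpowers (d.u 1 (-1)) → c ∈ Subgroup.zpowers w := by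
    intro c hc
    obtain ⟨i, hi⟩ := hwgen ⟨c, hc⟩
    exact ⟨i, congrArg Subtype.val hi⟩
  have hδ : ∀ v : X, (v : S) ∈ d.U → ((t * v * t⁻¹ * v⁻¹ : X) : S) ∈ Subgroup.zpowers (d.u 1 (-1)) := by
    intro v hv
    obtain ⟨c, c', hvc⟩ := d.mem_U.mp hv
    simp only [Subgroup.coe_mul, Subgroup.coe_inv, htdef, hvc]
    rw [d.conj_us, d.u_inv, d.uu]
    exact d.antidiag_mem (by simp)
  have hfixU : ∀ v : X, (v : S) ∈ d.U → φ v = v := by
    intro v hv
    have hφv := h0 v hv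
    have hw2 := hmul t (φ t) htU fun h => htU (hUinv t h)
    have e : φ (t * v * t⁻¹ * v⁻¹) = t * φ v * t⁻¹ * (φ v)⁻¹ := by
      have hc := hcomm (t⁻¹ * φ t) (φ v) hw2 hφv
      rw [map_mul, map_mul, map_mul, map_inv, map_inv]
      congr 1
      calc φ t * φ v * (φ t)⁻¹ = t * (t⁻¹ * φ t * φ v) * (φ t)⁻¹ := by group
        _ = t * φ v * t⁻¹ := by rw [hc]; group
    have h1 := fixed_of_mem_cyclic hX φ hodd (hw' _ (hδ v hv)) (e ▸ hw' _ (hδ (φ v) hφv))
    rw [e] at h1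
    set c := v⁻¹ * φ v with hc
    have hcU : (c : S) ∈ d.U := by
      rw [hc, Subgroup.coe_mul, Subgroup.coe_inv]; exact mul_mem (inv_mem hv) hφv
    have hcZ : (c : S) ∈ Subgroup.center S := by
      obtain ⟨i, i', hci⟩ := d.mem_U.mp hcU
      rw [hci]
      refine d.u_diag_central ((d.commute_us i i' a b).mp ?_)
      have h2 : t * c = c * t := by
        have hv' : φ v = v * c := by rw [hc, mul_inv_cancel_left]
        rw [hv'] at h1
        have hvc := hcomm v c hv hcU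
        calc t * c = t * v⁻¹ * t⁻¹ * (t * (v * c) * t⁻¹ * (v * c)⁻¹) * (v * c) * t := by group
          _ = t * v⁻¹ * t⁻¹ * (t * v * t⁻¹ * v⁻¹) * (v * c) * t := by rw [h1]
          _ = c * t := by group
      rw [← hci]
      exact congrArg Subtype.val h2
    exact fixed_of_translate hX φ hodd (show φ v = v * c by rw [hc, mul_inv_cancel_left]) (hZ c hcZ)
  have htfix : φ t = t := by
    refine fixed_of_translate hX φ hodd (c := t⁻¹ * φ t) (by rw [mul_inv_cancel_left]) (hfixU _ ?_)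
    exact hmul t (φ t) htU fun h => htU (hUinv t h)
  refine MulEquiv.ext fun v => ?_
  rw [MulAut.one_apply]
  by_cases hv : (v : S) ∈ d.U
  · exact hfixU v hv
  · have h := hfixU _ (hmul t v htU hv)
    rw [map_mul, map_inv, htfix] at h
    exact mul_left_cancel h

include d hodd in
theorem trivial_of_comm (hX' : IsMulCommutative X) {a b : ℤ} (ht : d.u a b * d.s ∈ X)
    (hC : Subgroup.centralizer (X : Set S) ≤ X) : φ = 1 := by
  have hX : IsPGroup 2 X := d.isPGroup.to_subgroup X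
  haveI := hX'
  have hUZ : ∀ v : X, (v : S) ∈ d.U → (v : S) ∈ Subgroup.center S := by
    intro v hv
    obtain ⟨c, c', hvc⟩ := d.mem_U.mp hv
    rw [hvc]
    refine d.u_diag_central ((d.commute_us c c' a b).mp ?_)
    rw [← hvc]
    exact congrArg Subtype.val (mul_comm' (⟨_, ht⟩ : X) v)
  have hsq : ∀ v : X, ((v * v : X) : S) ∈ Subgroup.center S := fun v =>
    hUZ _ (by rw [Subgroup.coe_mul]; exact Subgroup.mul_self_mem_of_index_two d.index_U _)
  have h11 : d.u 1 1 ∈ X := hC (Subgroup.center_le_centralizer _ d.u_one_one_central)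
  have hzp : ∀ v : X, (v : S) ∈ Subgroup.center S → v ∈ Subgroup.zpowers (⟨_, h11⟩ : X) := fun v hv => by
    obtain ⟨k, hk⟩ := d.center_zpowers hv
    exact ⟨k, Subtype.ext hk⟩
  have hfix : ∀ v : X, φ (v * v) = v * v := fun v =>
    fixed_of_mem_cyclic hX φ hodd (hzp _ (hsq v)) (hzp _ (by rw [map_mul]; exact hsq (φ v)))
  set z : X := ⟨d.u 1 1, h11⟩ ^ d.h with hz
  have hzfix : φ z = z := by
    have e : z = (⟨d.u 1 1, h11⟩ : X) ^ ((2 : ℤ) ^ d.p) * (⟨d.u 1 1, h11⟩ : X) ^ ((2 : ℤ) ^ d.p) := by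
      rw [hz, h_eq, ← zpow_add]; ring_nf
    rw [e]; exact hfix _
  have hinv : ∀ ω : X, ω * ω = 1 → (ω : S) ∈ Subgroup.center S → φ ω = ω := by
    intro ω hω hωZ
    obtain ⟨k, hk⟩ := hzp ω hωZ
    have hk' : (⟨d.u 1 1, h11⟩ : X) ^ k = ω := hk
    have h2 : d.u (k + k) (k + k) = 1 := by
      have := congrArg Subtype.val hω
      rw [← hk', Subgroup.coe_mul, Subgroup.coe_zpow, d.u_zpow, d.uu] at this
      simpa using this
    obtain ⟨i, hi⟩ := ((d.u_eq_one _ _).mp h2).1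
    have hki : k = d.h * i := by linarith
    rw [← hk', hki, zpow_mul, map_zpow, ← hz, hzfix]
  have hcm2 : ∀ a b : X, a * b * (a * b) = a * a * (b * b) := fun a b =>
    Commute.mul_mul_mul_comm (mul_comm' b a) a b
  have hω : ∀ ω : X, ω * ω = 1 → φ (φ ω) = ω := by
    intro ω hω
    by_cases h1 : (ω : S) ∈ Subgroup.center S
    · rw [hinv ω hω h1, hinv ω hω h1]
    have h2 : φ ω * φ ω = 1 := by rw [← map_mul, hω, map_one]
    by_cases h3 : (φ ω : S) ∈ Subgroup.center S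
    · have h4 : φ (φ ω) = φ ω := hinv _ h2 h3
      rw [φ.injective h4] at h3
      exact absurd h3 h1
    have hU : ((ω⁻¹ * φ ω : X) : S) ∈ d.U := by
      rw [Subgroup.coe_mul, Subgroup.coe_inv, Subgroup.mul_mem_iff_of_index_two d.index_U, inv_mem_iff]
      exact iff_of_false (fun h => h1 (hUZ _ h)) fun h => h3 (hUZ _ h)
    set c := ω⁻¹ * φ ω with hc
    have hcc : c * c = 1 := by
      rw [hc, show ω⁻¹ * φ ω * (ω⁻¹ * φ ω) = (ω * ω)⁻¹ * (φ ω * φ ω) by
        rw [mul_inv_rev, ← hcm2], hω, h2, inv_one, one_mul]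
    have hcfix := hinv c hcc (hUZ _ hU)
    have e : φ ω = ω * c := by rw [hc, mul_inv_cancel_left]
    rw [e, map_mul, hcfix, e, mul_assoc, hcc, mul_one]
  refine orderOf_eq_one_iff.mp ?_
  have h4 : φ ^ 4 = 1 := MulEquiv.ext fun v => by
    show φ (φ (φ (φ v))) = v
    set ω := v⁻¹ * φ v with hωdef
    have hsq1 : ω * ω = 1 := by
      rw [hωdef, show v⁻¹ * φ v * (v⁻¹ * φ v) = (v * v)⁻¹ * (φ v * φ v) by
        rw [mul_inv_rev, ← hcm2], ← map_mul, hfix, inv_mul_cancel]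
    set c := ω * φ ω with hc
    have hcfix : φ c = c := by rw [hc, map_mul, hω ω hsq1, mul_comm']
    have hcc : c * c = 1 := by
      rw [hc, hcm2, hsq1, ← map_mul, hsq1, map_one, one_mul]
    have e : φ v = v * ω := by rw [hωdef, mul_inv_cancel_left]
    have e2 : φ (φ v) = v * c := by rw [e, map_mul, e, mul_assoc, ← hc]
    rw [e2, map_mul, hcfix, map_mul, hcfix, e2, mul_assoc, hcc, mul_one]
  exact Nat.eq_one_of_dvd_coprimes ((Nat.coprime_two_left.mpr hodd).pow_left 2) (by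
    rw [show 2 ^ 2 = 4 from rfl]; exact orderOf_dvd_of_pow_eq_one h4) dvd_rfl

include d hodd in
/-- The only self-centralizing subgroups with an automorphism of odd order are `U` and the `Ve e`. -/
theorem classify (hC : Subgroup.centralizer (X : Set S) ≤ X) (hφ : φ ≠ 1) :
    X = d.U ∨ ∃ e : ℤ, 2 ∣ e ∧ X = d.Ve e := by
  have hX : IsPGroup 2 X := d.isPGroup.to_subgroup X
  by_cases hout : X ≤ d.U
  · left
    refine le_antisymm hout ((fun g hg => hC (Subgroup.mem_centralizer_iff.mpr fun v hv => ?_)))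
    haveI := d.U_comm
    exact congrArg Subtype.val (mul_comm' (⟨v, hout hv⟩ : d.U) ⟨g, hg⟩)
  obtain ⟨t', htX, htU⟩ := SetLike.not_le_iff_exists.mp hout
  obtain ⟨a, b, rfl⟩ : ∃ a b : ℤ, t' = d.u a b * d.s :=
    (d.cases t').resolve_left fun ⟨a, b, e⟩ => htU (e ▸ d.u_mem_U a b)
  have hnc : ¬ IsMulCommutative X := fun h => hφ (d.trivial_of_comm φ hodd h htX hC)
  have h11 : d.u 1 1 ∈ X := hC (Subgroup.center_le_centralizer _ d.u_one_one_central)
  have hzp : ∀ v : X, (v : S) ∈ Subgroup.center S → v ∈ Subgroup.zpowers (⟨_, h11⟩ : X) := fun v hv => by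
    obtain ⟨k, hk⟩ := d.center_zpowers hv
    exact ⟨k, Subtype.ext hk⟩
  have hZc : ∀ v : X, (v : S) ∈ Subgroup.center S → v ∈ Subgroup.center X := fun v hv =>
    Subgroup.mem_center_iff.mpr fun g => Subtype.ext (Subgroup.mem_center_iff.mp hv g)
  have hZ : ∀ v : X, (v : S) ∈ Subgroup.center S → φ v = v := by
    intro v hv
    refine fixed_of_mem_cyclic hX φ hodd (hzp v hv) (hzp _ (d.center_le_of_noncomm hnc ⟨φ v, ?_, rfl⟩))
    refine Subgroup.mem_center_iff.mpr fun g => ?_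
    obtain ⟨g, rfl⟩ := φ.surjective g
    rw [← map_mul, ← map_mul, Subgroup.mem_center_iff.mp (hZc v hv) g]
  have hd : ∀ c c' : ℤ, d.u c c' ∈ X → d.h ∣ c - c' := by
    by_contra hno
    push Not at hno
    obtain ⟨c, c', hcX, hcd⟩ := hno
    refine hφ (d.trivial_of_invariant φ hodd htX hZ ?_)
    have hbig : ∀ v : X, ((v * v : X) : S) ∉ Subgroup.center S → (φ v : S) ∈ d.U := by
      intro v hv
      by_contra hvU
      obtain ⟨i, i', hi⟩ : ∃ i i' : ℤ, (φ v : S) = d.u i i' * d.s :=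
        (d.cases _).resolve_left fun ⟨i, i', e⟩ => hvU (e ▸ d.u_mem_U i i')
      have h1 : ((φ (v * v) : X) : S) ∈ Subgroup.center S := by
        rw [map_mul, Subgroup.coe_mul, hi, d.us_sq]; exact d.u_diag_central (by simp)
      exact hv (φ.injective (hZ _ h1) ▸ h1)
    have hbig' : ∀ i i' : ℤ, ∀ hi : d.u i i' ∈ X, ¬ d.h ∣ i - i' →
        (((⟨_, hi⟩ : X) * ⟨_, hi⟩ : X) : S) ∉ Subgroup.center S := by
      intro i i' hi hid h
      rw [Subgroup.coe_mul, d.uu, d.center_mem, show i + i - (i' + i') = 2 * (i - i') by ring,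
        mul_dvd_mul_iff_left two_ne_zero] at h
      exact hid h
    intro v hv
    obtain ⟨i, i', hi⟩ := d.mem_U.mp hv
    have hiX : d.u i i' ∈ X := hi ▸ v.2
    have hve : v = ⟨_, hiX⟩ := Subtype.ext hi
    by_cases hid : d.h ∣ i - i'
    · have hvc : d.u (c + i) (c' + i') ∈ X := by rw [← d.uu]; exact mul_mem hcX hiX
      have h1 := hbig _ (hbig' _ _ hvc fun h => hcd (dvd_congr (dvd_sub h hid) (by ring)))
      have h2 := hbig _ (hbig' _ _ hcX hcd)
      have e : v = (⟨_, hcX⟩ : X)⁻¹ * ⟨_, hvc⟩ := by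
        rw [eq_inv_mul_iff_mul_eq]; exact Subtype.ext (by rw [Subgroup.coe_mul, hi, d.uu])
      rw [e, map_mul, map_inv, Subgroup.coe_mul, Subgroup.coe_inv]
      exact mul_mem (inv_mem h2) h1
    · exact hve ▸ hbig _ (hbig' _ _ hiX hid)
  obtain ⟨c, c', hcX, hcd⟩ : ∃ c c' : ℤ, d.u c c' ∈ X ∧ ¬ 2 * d.h ∣ c - c' := by
    by_contra hno
    push Not at hno
    refine hnc ⟨⟨fun v w => Subtype.ext ?_⟩⟩
    have key : ∀ v : X, (v : S) ∈ d.U → (v : S) ∈ Subgroup.center S := fun v hv => by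
      obtain ⟨i, i', hi⟩ := d.mem_U.mp hv
      rw [hi]; exact d.u_diag_central (hno i i' (hi ▸ v.2))
    show (v : S) * w = w * v
    by_cases hv : (v : S) ∈ d.U
    · exact (Subgroup.mem_center_iff.mp (key v hv) w).symm
    by_cases hw : (w : S) ∈ d.U
    · exact Subgroup.mem_center_iff.mp (key w hw) v
    have hvw : ((v⁻¹ * w : X) : S) ∈ d.U := by
      rw [Subgroup.coe_mul, Subgroup.coe_inv, Subgroup.mul_mem_iff_of_index_two d.index_U, inv_mem_iff]
      exact iff_of_false hv hw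
    have h := Subgroup.mem_center_iff.mp (key _ hvw) v
    rw [Subgroup.coe_mul, Subgroup.coe_inv, ← mul_assoc, mul_inv_cancel, one_mul] at h
    calc (v : S) * w = v * ((v : S)⁻¹ * w * v) := by rw [← h]
      _ = w * v := by group
  have hh0 : d.u d.h 0 ∈ X := by
    obtain ⟨j, hj⟩ := hd c c' hcX
    obtain ⟨i, rfl⟩ : ∃ i, j = 2 * i + 1 := by
      rcases Int.even_or_odd' j with ⟨i, rfl | rfl⟩
      · exact absurd ⟨i, by rw [hj]; ring⟩ hcd
      · exact ⟨i, rfl⟩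
    have := mul_mem hcX (zpow_mem h11 (-c'))
    rw [d.u_zpow, d.uu] at this
    rw [show d.u d.h 0 = d.u (c + 1 * -c') (c' + 1 * -c') from
      (d.u_eq_iff _ _ _ _).mpr ⟨⟨-i, by linarith⟩, ⟨0, by ring⟩⟩]
    exact this
  have hUX : ∀ i i' : ℤ, d.h ∣ i - i' → d.u i i' ∈ X := by
    rintro i i' ⟨j, hj⟩
    rw [show d.u i i' = d.u 1 1 ^ i' * d.u d.h 0 ^ j by
      rw [d.u_zpow, d.u_zpow, d.uu, ← hj]; congr 1 <;> ring]
    exact mul_mem (zpow_mem h11 _) (zpow_mem hh0 _)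
  have hmem : ∀ g : S, g ∈ X ↔ (∃ i i', g = d.u i i' ∧ d.h ∣ i - i') ∨
      ∃ i i', g = d.u i i' * d.s ∧ d.h ∣ i - i' - (a - b) := by
    intro g
    constructor
    · intro hg
      rcases d.cases g with ⟨i, i', rfl⟩ | ⟨i, i', rfl⟩
      · exact Or.inl ⟨i, i', rfl, hd i i' hg⟩
      · refine Or.inr ⟨i, i', rfl, ?_⟩
        have := mul_mem hg (inv_mem htX)
        rw [d.us_inv, d.us_mul_us] at this
        exact dvd_congr (hd _ _ this) (by ring)
    · rintro (⟨i, i', rfl, h⟩ | ⟨i, i', rfl, h⟩)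
      · exact hUX i i' h
      · have := mul_mem (hUX (i - a) (i' - b) (dvd_congr (h) (by ring))) htX
        rwa [d.u_mul_us, sub_add_cancel, sub_add_cancel] at this
  have he : 2 ∣ a - b := by
    by_contra hodd'
    refine hφ (d.trivial_of_invariant φ hodd htX hZ fun v hv => ?_)
    by_contra hvU
    obtain ⟨i, i', hi, hii⟩ : ∃ i i', (φ v : S) = d.u i i' * d.s ∧ d.h ∣ i - i' - (a - b) :=
      ((hmem _).mp (φ v).2).resolve_left fun ⟨i, i', e, _⟩ => hvU (e ▸ d.u_mem_U i i')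
    obtain ⟨c₁, c₂, hc⟩ := d.mem_U.mp hv
    obtain ⟨m, hm⟩ : ∃ m : ℕ, (m : ℤ) = d.h := ⟨2 ^ (d.p + 1), by simp [h]⟩
    have h1 : (v ^ (2 * m) : X) = 1 := by
      refine Subtype.ext ?_
      rw [Subgroup.coe_pow, hc, ← zpow_natCast, d.u_zpow, Subgroup.coe_one, d.u_eq_one]
      push_cast
      rw [hm]
      exact ⟨dvd_mul_left _ _, dvd_mul_left _ _⟩
    have h2 := congrArg Subtype.val (congrArg φ h1)
    rw [map_pow, map_one, Subgroup.coe_pow, hi, pow_mul, pow_two, d.us_sq, ← zpow_natCast, d.u_zpow,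
      Subgroup.coe_one, d.u_eq_one, hm] at h2
    have h4 : 2 ∣ i + i' := (mul_dvd_mul_iff_left d.h_pos.ne').mp
      (show d.h * 2 ∣ d.h * (i + i') by rw [mul_comm _ (2 : ℤ)]; exact dvd_congr h2.1 (by ring))
    have h3 : 2 ∣ i - i' - (a - b) := (d.two_dvd_h).trans hii
    omega
  refine Or.inr ⟨a - b, he, SetLike.ext fun g => ?_⟩
  rw [hmem]
  exact ⟨fun h => h.imp id fun h' => ⟨he, h'⟩, fun h => h.imp id fun h' => h'.2⟩

end classify

/-- Conjugating by `u(c,0)` shifts the parameter by `2c`. -/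
theorem Ve_conj {e e' c : ℤ} (he : 2 ∣ e) (he' : 2 ∣ e') (h : e' = e + 2 * c) :
    (d.Ve e).map (MulAut.conj (d.u c 0)).toMonoidHom = d.Ve e' := by
  ext g
  rw [Subgroup.mem_map_equiv]
  show (d.u c 0)⁻¹ * g * d.u c 0 ∈ d.Ve e ↔ g ∈ d.Ve e'
  rcases d.cases g with ⟨i, i', rfl⟩ | ⟨i, i', rfl⟩
  · rw [d.u_inv, d.uu, d.uu, d.mem_Ve_u, d.mem_Ve_u]
    ring_nf
  · rw [d.u_inv, d.u_mul_us, d.us_mul_u, d.mem_Ve_us he, d.mem_Ve_us he', h]
    ring_nf

theorem Ve_conj_all {e e' : ℤ} (he : 2 ∣ e) (he' : 2 ∣ e') :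
    ∃ g : S, (d.Ve e).map (MulAut.conj g).toMonoidHom = d.Ve e' := by
  obtain ⟨c, hc⟩ := dvd_sub he' he
  exact ⟨_, d.Ve_conj he he' (by linarith : e' = e + 2 * c)⟩

/-- The element `u(c,c')` normalizes every `Ve e` when `2^p ∣ c - c'`. -/
theorem u_mem_normalizer {e c c' : ℤ} (he : 2 ∣ e) (hc : (2 : ℤ) ^ d.p ∣ c - c') :
    d.u c c' ∈ Subgroup.normalizer (d.Ve e : Set S) := by
  have h2 : d.h ∣ 2 * (c - c') := d.h_eq ▸ mul_dvd_mul_left 2 hc
  rw [Subgroup.mem_normalizer_iff]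
  intro g
  rcases d.cases g with ⟨i, i', rfl⟩ | ⟨i, i', rfl⟩
  · rw [d.u_inv, d.uu, d.uu, d.mem_Ve_u, d.mem_Ve_u]
    ring_nf
  · rw [d.u_inv, d.u_mul_us, d.us_mul_u, d.mem_Ve_us he, d.mem_Ve_us he]
    conv_rhs => rw [show c + i + -c' - (c' + i' + -c) - e = i - i' - e + 2 * (c - c') by ring,
      dvd_add_left h2]

theorem half_not_dvd : ¬ d.h ∣ (2 : ℤ) ^ d.p := fun h => by
  have := Int.le_of_dvd (by positivity) h
  have hp : (0 : ℤ) < 2 ^ d.p := by positivity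
  rw [d.h_eq] at this
  linarith

theorem normalizer_cases {e : ℤ} (he : 2 ∣ e) {g : S}
    (hg : g ∈ Subgroup.normalizer (d.Ve e : Set S)) :
    g * d.u (2 ^ d.p) 0 ∈ d.Ve e ∨ g ∈ d.Ve e := by
  have key : ∀ x : ℤ, d.h ∣ 2 * x → d.h ∣ x ∨ d.h ∣ x + 2 ^ d.p := by
    intro x hx
    rw [d.h_eq, mul_dvd_mul_iff_left two_ne_zero] at hx
    obtain ⟨j, rfl⟩ := hx
    rcases Int.even_or_odd' j with ⟨i, rfl | rfl⟩
    · exact Or.inl ⟨i, by rw [d.h_eq]; ring⟩
    · exact Or.inr ⟨i + 1, by rw [d.h_eq]; ring⟩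
  have hte : d.u e 0 * d.s ∈ d.Ve e := (d.mem_Ve_us he).mpr (by simp)
  have h1 := (Subgroup.mem_normalizer_iff.mp hg _).mp hte
  rcases d.cases g with ⟨i, i', rfl⟩ | ⟨i, i', rfl⟩
  · rw [d.u_inv, d.u_mul_us, d.us_mul_u, d.mem_Ve_us he,
      show i + e + -i' - (i' + 0 + -i) - e = 2 * (i - i') by ring] at h1
    rw [d.uu, d.mem_Ve_u, d.mem_Ve_u]
    rcases key _ h1 with h | h
    · exact Or.inr h
    · exact Or.inl (dvd_congr (h) (by ring))
  · rw [d.us_inv, d.us_mul_us, d.u_mul_us, d.mem_Ve_us he,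
      show i + 0 + -i' - (i' + e + -i) - e = 2 * (i - i' - e) by ring] at h1
    rw [d.us_mul_u, d.mem_Ve_us he, d.mem_Ve_us he]
    rcases key _ h1 with h | h
    · exact Or.inr h
    · refine Or.inl ?_
      rw [show i + 0 - (i' + 2 ^ d.p) - e = i - i' - e + 2 ^ d.p - 2 * 2 ^ d.p by ring]
      exact dvd_sub h (d.h_eq ▸ dvd_rfl)

theorem Ve_relIndex {e : ℤ} (he : 2 ∣ e) :
    (d.Ve e).relIndex (Subgroup.normalizer (d.Ve e : Set S)) = 2 := by
  have hnot : d.u (2 ^ d.p) 0 ∉ d.Ve e := fun h => d.half_not_dvd (by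
    have := d.mem_Ve_u.mp h; rwa [sub_zero] at this)
  exact Subgroup.relIndex_eq_two_iff_exists_notMem_and.mpr
    ⟨_, d.u_mem_normalizer he (by simp), hnot, fun g hg => d.normalizer_cases he hg⟩

theorem U_relIndex : d.U.relIndex (Subgroup.normalizer (d.U : Set S)) = 2 := by
  haveI := Subgroup.normal_of_index_eq_two d.index_U
  rw [Subgroup.normalizer_eq_top, Subgroup.relIndex_top_right, d.index_U]

/-- A quaternion subgroup of order eight together with the centre is some `Ve e`. -/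
theorem quat_sup_center {Q : Subgroup S} (eQ : Q ≃* QuaternionGroup 2) :
    ∃ e : ℤ, 2 ∣ e ∧ Q ⊔ Subgroup.center S = d.Ve e := by
  set g : Q := eQ.symm (.a 1) with hg
  set w : Q := eQ.symm (.xa 0) with hw
  have h4 : ∀ v : QuaternionGroup 2, v = .a 1 ∨ v = .xa 0 ∨ v = .a 1 * .xa 0 → v * v ≠ 1 ∧ v ^ 4 = 1 := by
    decide +kernel
  have hinv : ∀ v v' : QuaternionGroup 2, (v = .a 1 ∧ v' = .xa 0) ∨ (v = .xa 0 ∧ v' = .a 1 * .xa 0) ∨
      (v = .a 1 * .xa 0 ∧ v' = .a 1) → v' * v * v'⁻¹ = v⁻¹ ∧ v' * v' = v * v := by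
    decide +kernel
  obtain ⟨v, v', hv4, hgen, hrel, hvU, hv'U⟩ : ∃ v v' : Q, ((v * v ≠ 1 ∧ v ^ 4 = 1)) ∧
      (∀ x : Q, ∃ i j : ℕ, x = v ^ i * v' ^ j) ∧ (v' * v * v'⁻¹ = v⁻¹ ∧ v' * v' = v * v) ∧
      ((v : S) ∈ d.U) ∧ (v' : S) ∉ d.U := by
    have hgen : ∀ v v' : QuaternionGroup 2, (v = .a 1 ∧ v' = .xa 0) ∨ (v = .xa 0 ∧ v' = .a 1 * .xa 0) ∨
        (v = .a 1 * .xa 0 ∧ v' = .a 1) → ∀ x, ∃ i : Fin 4, ∃ j : Fin 2, x = v ^ (i : ℕ) * v' ^ (j : ℕ) := by
      decide +kernel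
    have mk : ∀ v v' : QuaternionGroup 2, ((v = .a 1 ∧ v' = .xa 0) ∨ (v = .xa 0 ∧ v' = .a 1 * .xa 0) ∨
        (v = .a 1 * .xa 0 ∧ v' = .a 1)) → ((eQ.symm v : Q) : S) ∈ d.U → ((eQ.symm v' : Q) : S) ∉ d.U →
        ∃ v v' : Q, ((v * v ≠ 1 ∧ v ^ 4 = 1)) ∧
          (∀ x : Q, ∃ i j : ℕ, x = v ^ i * v' ^ j) ∧ (v' * v * v'⁻¹ = v⁻¹ ∧ v' * v' = v * v) ∧
          ((v : S) ∈ d.U) ∧ (v' : S) ∉ d.U := by
      intro v v' hc h1 h2
      refine ⟨eQ.symm v, eQ.symm v', ⟨?_, ?_⟩, fun x => ?_, ⟨?_, ?_⟩, h1, h2⟩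
      · rw [← map_mul, ne_eq, map_eq_one_iff _ eQ.symm.injective]
        exact (h4 v (by rcases hc with h | h | h <;> simp [h.1])).1
      · rw [← map_pow, map_eq_one_iff _ eQ.symm.injective]
        exact (h4 v (by rcases hc with h | h | h <;> simp [h.1])).2
      · obtain ⟨i, j, hij⟩ := hgen v v' hc (eQ x)
        exact ⟨i, j, by rw [← map_pow, ← map_pow, ← map_mul, ← hij, MulEquiv.symm_apply_apply]⟩
      · rw [← map_inv, ← map_mul, ← map_mul, (hinv v v' hc).1, map_inv]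
      · rw [← map_mul, ← map_mul, (hinv v v' hc).2]
    by_cases h1 : (g : S) ∈ d.U
    · by_cases h2 : (w : S) ∈ d.U
      · exfalso
        haveI := d.U_comm
        have hc : g * w = w * g :=
          Subtype.ext (congrArg Subtype.val (mul_comm' (⟨_, h1⟩ : d.U) ⟨_, h2⟩) :)
        rw [hg, hw, ← map_mul, ← map_mul] at hc
        exact absurd (eQ.symm.injective hc) (by decide +kernel)
      · exact mk _ _ (Or.inl ⟨rfl, rfl⟩) h1 h2
    · by_cases h2 : (w : S) ∈ d.U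
      · refine mk _ _ (Or.inr (Or.inl ⟨rfl, rfl⟩)) h2 fun h => h1 ?_
        rw [map_mul, Subgroup.coe_mul] at h
        exact (d.U.mul_mem_cancel_right h2).mp h
      · refine mk _ _ (Or.inr (Or.inr ⟨rfl, rfl⟩)) ?_ h1
        rw [map_mul, Subgroup.coe_mul]
        exact (Subgroup.mul_mem_iff_of_index_two d.index_U).mpr (iff_of_false h1 h2)
  obtain ⟨c, c', hc⟩ := d.mem_U.mp hvU
  obtain ⟨a, b, hab⟩ : ∃ a b : ℤ, (v' : S) = d.u a b * d.s :=
    (d.cases _).resolve_left fun ⟨a, b, e⟩ => hv'U (e ▸ d.u_mem_U a b)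
  have hneg : 2 * d.h ∣ c' + c := by
    have h := congrArg Subtype.val hrel.1
    rw [Subgroup.coe_mul, Subgroup.coe_mul, Subgroup.coe_inv, Subgroup.coe_inv, hab, hc, d.conj_us,
      d.u_inv, d.u_eq_iff] at h
    exact dvd_congr (h.1) (by ring)
  have hc4 : d.h ∣ 2 * c := by
    have h := congrArg Subtype.val hv4.2
    rw [Subgroup.coe_pow, hc, Subgroup.coe_one, ← zpow_natCast, d.u_zpow, d.u_eq_one] at h
    have h' : 2 * d.h ∣ 2 * (2 * c) := by
      refine dvd_congr (h.1) ?_; push_cast; ring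
    exact (mul_dvd_mul_iff_left two_ne_zero).mp h'
  have hc2 : ¬ d.h ∣ c := fun h => hv4.1 (Subtype.ext (by
    rw [Subgroup.coe_mul, hc, Subgroup.coe_one, d.u_sq_eq_one]
    exact ⟨h, dvd_congr (dvd_sub ((dvd_mul_left _ 2).trans hneg) h) (by ring)⟩))
  have hsq : 2 * d.h ∣ a + b - 2 * c := by
    have h := congrArg Subtype.val hrel.2
    rw [Subgroup.coe_mul, Subgroup.coe_mul, hab, hc, d.us_sq, d.uu, d.u_eq_iff] at h
    exact dvd_congr (h.1) (by ring)
  have he : 2 ∣ a - b := by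
    have h1 : 2 ∣ a + b - 2 * c := (dvd_mul_right 2 _).trans hsq
    omega
  refine ⟨a - b, he, le_antisymm (sup_le (fun x hx => ?_) (d.center_le_Ve _)) ?_⟩
  · obtain ⟨i, j, hij⟩ := hgen ⟨x, hx⟩
    rw [show x = (v : S) ^ i * (v' : S) ^ j from congrArg Subtype.val hij]
    refine mul_mem (pow_mem ?_ _) (pow_mem ?_ _)
    · rw [hc, d.mem_Ve_u]
      exact dvd_congr (dvd_sub hc4 ((dvd_mul_left d.h 2).trans hneg)) (by ring)
    · rw [hab, d.mem_Ve_us he, sub_self]; exact dvd_zero _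
  · intro x hx
    set W := Q ⊔ Subgroup.center S
    have h11 : d.u 1 1 ∈ W := Subgroup.mem_sup_right d.u_one_one_central
    have hv : d.u c c' ∈ W := Subgroup.mem_sup_left (hc ▸ v.2)
    have hv' : d.u a b * d.s ∈ W := Subgroup.mem_sup_left (hab ▸ v'.2)
    have hh0 : d.u d.h 0 ∈ W := by
      obtain ⟨j, hj⟩ := hc4
      obtain ⟨i, rfl⟩ : ∃ i, j = 2 * i + 1 := by
        rcases Int.even_or_odd' j with ⟨i, rfl | rfl⟩
        · exact absurd ⟨i, by linarith⟩ hc2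
        · exact ⟨i, rfl⟩
      obtain ⟨k, hk⟩ := hneg
      rw [show d.u d.h 0 = d.u c c' * d.u 1 1 ^ c by
        rw [d.u_zpow, d.uu, d.u_eq_iff]
        exact ⟨⟨-i, by linarith⟩, ⟨-k, by linarith⟩⟩]
      exact mul_mem hv (zpow_mem h11 _)
    have hU' : ∀ i i' : ℤ, d.h ∣ i - i' → d.u i i' ∈ W := by
      rintro i i' ⟨j, hj⟩
      rw [show d.u i i' = d.u 1 1 ^ i' * d.u d.h 0 ^ j by
        rw [d.u_zpow, d.u_zpow, d.uu, ← hj]; congr 1 <;> ring]
      exact mul_mem (zpow_mem h11 _) (zpow_mem hh0 _)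
    rcases hx with ⟨i, i', rfl, h⟩ | ⟨-, i, i', rfl, h⟩
    · exact hU' i i' h
    · have := mul_mem (hU' (i - a) (i' - b) (dvd_congr (h) (by ring))) hv'
      rwa [d.u_mul_us, sub_add_cancel, sub_add_cancel] at this

theorem exists_quat {e : ℤ} (he : 2 ∣ e) :
    ∃ Q : Subgroup S, Nonempty (Q ≃* QuaternionGroup 2) ∧ Q ⊔ Subgroup.center S = d.Ve e := by
  obtain ⟨f, rfl⟩ := he
  set q : ℤ := 2 ^ d.p with hq
  have hh : d.h = 2 * q := d.h_eq
  set Q := Subgroup.closure ({d.u q (-q), d.u (f + q) (q - f) * d.s} : Set S) with hQ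
  have ho : orderOf (d.u q (-q)) = 2 * 2 := by
    refine orderOf_eq_prime_pow (p := 2) (n := 1) (hp := ⟨Nat.prime_two⟩) ?_ ?_
    · rw [pow_one, pow_two, d.u_sq_eq_one]
      exact fun h => d.half_not_dvd h.1
    · rw [show 2 ^ (1 + 1) = 2 * 2 from rfl, pow_mul, pow_two, pow_two, d.uu, d.u_sq_eq_one, hh]
      exact ⟨⟨1, by ring⟩, ⟨-1, by ring⟩⟩
  obtain ⟨eQ⟩ : Nonempty (Q ≃* QuaternionGroup 2) := by
    refine TwoLift.quaternion_equiv (k := 2) ho ?_ ?_ (fun hm => d.us_not_mem (f + q) (q - f)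
      ((Subgroup.zpowers_le.mpr (d.u_mem_U _ _)) hm)) hQ
    · rw [d.us_sq, pow_two, d.uu, d.u_eq_iff, hh]
      exact ⟨⟨0, by ring⟩, ⟨1, by ring⟩⟩
    · rw [d.conj_us, d.u_inv, d.u_eq_iff]
      exact ⟨⟨0, by ring⟩, ⟨0, by ring⟩⟩
  refine ⟨Q, ⟨eQ⟩, ?_⟩
  obtain ⟨e', he', h'⟩ := d.quat_sup_center eQ
  rw [h']
  have h1 : d.u (f + q) (q - f) * d.s ∈ d.Ve e' :=
    h' ▸ Subgroup.mem_sup_left (Subgroup.subset_closure (by simp))
  have h2 := (d.mem_Ve_us he').mp h1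
  rw [show f + q - (q - f) - e' = 2 * f - e' by ring] at h2
  refine SetLike.ext fun g => ?_
  rcases d.cases g with ⟨i, i', rfl⟩ | ⟨i, i', rfl⟩
  · rw [d.mem_Ve_u, d.mem_Ve_u]
  · rw [d.mem_Ve_us he', d.mem_Ve_us (dvd_mul_right 2 f),
      show i - i' - e' = i - i' - 2 * f + (2 * f - e') by ring, dvd_add_left h2]

end Pres

end Cfsg.Agent.Wreath
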