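import Cfsg.Agent.Lib.TwoGroups.Wreathed

/-!
Four-subgroups, the quaternion subgroup and the subgroup generated by the involutions of a
wreathed 2-group.
-/

set_option autoImplicit false

namespace Cfsg.Agent.Wreath

namespace Pres

variable {S : Type*} [Group S] [Finite S] (d : Pres S)

/-- The normal four-subgroup. -/
def T : Subgroup S := Subgroup.closure ({d.u d.h 0, d.u 0 d.h} : Set S)

theorem not_dvd_h : ¬ 2 * d.h ∣ d.h := fun h => by
  have := Int.le_of_dvd d.h_pos h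
  linarith [d.h_pos]

theorem T_klein : IsKleinFour d.T := by
  refine isKleinFour_pair ((d.u_sq_eq_one _ _).mpr ⟨dvd_rfl, dvd_zero _⟩)
    ((d.u_sq_eq_one _ _).mpr ⟨dvd_zero _, dvd_rfl⟩) ?_ ?_ ?_ ?_
  · rw [uu, uu, add_comm d.h, add_comm (0 : ℤ) d.h, add_comm d.h]
  · rw [ne_eq, u_eq_one]; exact fun h => d.not_dvd_h h.1
  · rw [ne_eq, u_eq_one]; exact fun h => d.not_dvd_h h.2
  · rw [ne_eq, u_eq_iff, sub_zero]; exact fun h => d.not_dvd_h h.1

theorem T_normal : d.T.Normal := by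
  refine normal_closure_of_conj ?_
  rintro g _ (rfl | rfl)
  · rcases d.conj_u g d.h 0 with h | h <;> rw [h] <;> exact Subgroup.subset_closure (by simp)
  · rcases d.conj_u g 0 d.h with h | h <;> rw [h] <;> exact Subgroup.subset_closure (by simp)

theorem mem_T {a b : ℤ} (ha : d.h ∣ a) (hb : d.h ∣ b) : d.u a b ∈ d.T := by
  obtain ⟨i, rfl⟩ := ha
  obtain ⟨j, rfl⟩ := hb
  have e : d.u (d.h * i) (d.h * j) = d.u d.h 0 ^ i * d.u 0 d.h ^ j := by
    rw [u_zpow, u_zpow, uu, zero_mul, zero_mul, add_zero, zero_add]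
  rw [e]
  exact mul_mem (zpow_mem (Subgroup.subset_closure (by simp)) i)
    (zpow_mem (Subgroup.subset_closure (by simp)) j)

/-- The four-subgroup through an involution outside `U`. -/
def four (a : ℤ) : Subgroup S :=
  Subgroup.closure ({d.u d.h d.h, d.u a (-a) * d.s} : Set S)

theorem four_klein (a : ℤ) : IsKleinFour (d.four a) := by
  refine isKleinFour_pair ((d.u_sq_eq_one _ _).mpr ⟨dvd_rfl, dvd_rfl⟩)
    ((d.us_sq_eq_one _ _).mpr (by rw [add_neg_cancel]; exact dvd_zero _))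
    ((d.commute_us d.h d.h a (-a)).mpr (by rw [sub_self]; exact dvd_zero _)) ?_ ?_ (d.u_ne_us _ _ _ _)
  · rw [ne_eq, u_eq_one]; exact fun h => d.not_dvd_h h.1
  · intro h; exact d.u_ne_us 0 0 a (-a) (d.u_zero.trans h.symm)

theorem four_ne_T (a : ℤ) : d.four a ≠ d.T := fun h => by
  have h1 : d.u a (-a) * d.s ∈ d.T := h ▸ Subgroup.subset_closure (by simp)
  refine d.us_not_mem a (-a) ((Subgroup.closure_le _).mpr ?_ h1)
  rintro _ (rfl | rfl) <;> exact d.u_mem_U _ _

theorem four_eq {V : Subgroup S} (hV : IsKleinFour V) (hne : V ≠ d.T) : ∃ a, V = d.four a := by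
  have hsq : ∀ g ∈ V, g * g = 1 := fun g hg =>
    congrArg Subtype.val (IsKleinFour.mul_self (⟨g, hg⟩ : V))
  have hcm : ∀ g ∈ V, ∀ g' ∈ V, g * g' = g' * g := fun g hg g' hg' =>
    congrArg Subtype.val ((IsKleinFour.isMulCommutative (G := V)).is_comm.comm ⟨g, hg⟩ ⟨g', hg'⟩)
  have hout : ∃ a b : ℤ, d.u a b * d.s ∈ V := by
    by_contra hno
    push Not at hno
    refine hne (Subgroup.eq_of_le_of_card_ge (fun g hg => ?_)
      (by rw [d.T_klein.card_four, hV.card_four]))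
    rcases d.cases g with ⟨a, b, rfl⟩ | ⟨a, b, rfl⟩
    · exact d.mem_T ((d.u_sq_eq_one a b).mp (hsq _ hg)).1 ((d.u_sq_eq_one a b).mp (hsq _ hg)).2
    · exact absurd hg (hno a b)
  obtain ⟨a, b, hab⟩ := hout
  have he := (d.us_sq_eq_one a b).mp (hsq _ hab)
  have et : d.u a b * d.s = d.u a (-a) * d.s := by
    rw [mul_left_inj, u_eq_iff, sub_self, sub_neg_eq_add, add_comm b]
    exact ⟨dvd_zero _, he⟩
  refine ⟨a, Subgroup.eq_of_le_of_card_ge (fun g hg => ?_)
    (by rw [(d.four_klein a).card_four, hV.card_four])⟩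
  have hU : ∀ c e : ℤ, d.u c e ∈ V → d.u c e ∈ d.four a := by
    intro c e hce
    obtain ⟨⟨i, hi⟩, hj⟩ := (d.u_sq_eq_one c e).mp (hsq _ hce)
    have hd := (d.commute_us c e a b).mp (hcm _ hab _ hce)
    have ee : d.u c e = d.u d.h d.h ^ i := by
      rw [u_zpow, u_eq_iff, ← hi, sub_self]
      refine ⟨dvd_zero _, ?_⟩
      rw [show e - c = -(c - e) by ring, Int.dvd_neg]
      exact hd
    rw [ee]
    exact zpow_mem (Subgroup.subset_closure (by simp)) i
  rcases d.cases g with ⟨c, e, rfl⟩ | ⟨c, e, rfl⟩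
  · exact hU c e hg
  · have h1 := mul_mem hg hab
    rw [us_mul_us] at h1
    have h2 := mul_mem (hU _ _ h1)
      (Subgroup.subset_closure (by simp) : d.u a (-a) * d.s ∈ d.four a)
    rw [← et, ← us_mul_us, mul_assoc (d.u c e * d.s), hsq _ hab, mul_one] at h2
    exact h2

theorem four_conj (a a' : ℤ) : ∃ g : S, (d.four a).map (MulAut.conj g).toMonoidHom = d.four a' := by
  refine ⟨d.u (a' - a) 0, ?_⟩
  rw [four, MonoidHom.map_closure, Set.image_pair]
  congr 2
  · show d.u (a' - a) 0 * d.u d.h d.h * (d.u (a' - a) 0)⁻¹ = d.u d.h d.h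
    rw [u_inv, uu, uu]; ring_nf
  · show ({d.u (a' - a) 0 * (d.u a (-a) * d.s) * (d.u (a' - a) 0)⁻¹} : Set S) = {d.u a' (-a') * d.s}
    rw [conj_us_u]; ring_nf

/-- The quaternion subgroup. -/
def Y : Subgroup S := Subgroup.closure ({d.u 1 (-1), d.u d.h 0 * d.s} : Set S)

theorem mem_Y_u {a b : ℤ} (h : 2 * d.h ∣ a + b) : d.u a b ∈ d.Y :=
  (Subgroup.zpowers_le.mpr (Subgroup.subset_closure (by simp)) :
    Subgroup.zpowers (d.u 1 (-1)) ≤ d.Y) (d.antidiag_mem h)

theorem mem_Y_us {a b : ℤ} (h : 2 * d.h ∣ a + b - d.h) : d.u a b * d.s ∈ d.Y := by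
  have h1 := mul_mem (d.mem_Y_u (a := a - d.h) (b := b) (by rwa [sub_add_eq_add_sub]))
    (Subgroup.subset_closure (by simp) : d.u d.h 0 * d.s ∈ d.Y)
  rwa [u_mul_us, sub_add_cancel, add_zero] at h1

theorem Y_normal : d.Y.Normal := by
  refine normal_closure_of_conj ?_
  intro g w hw
  rcases hw with rfl | rfl
  · rcases d.conj_u g 1 (-1) with h | h <;> rw [h]
    · exact Subgroup.subset_closure (by simp)
    · exact d.mem_Y_u (by norm_num)
  · rcases d.cases g with ⟨c, e, rfl⟩ | ⟨c, e, rfl⟩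
    · rw [conj_us_u]
      exact d.mem_Y_us (by ring_nf; exact dvd_zero _)
    · rw [us_inv, us_mul_us, u_mul_us]
      exact d.mem_Y_us (by ring_nf; exact dvd_zero _)

theorem Y_equiv : Nonempty (d.Y ≃* QuaternionGroup (2 ^ (d.p + 1))) := by
  refine TwoLift.quaternion_equiv (a := d.u 1 (-1)) (g := d.u d.h 0 * d.s)
    ((d.orderOf_u (-1)).trans (by rw [pow_succ'])) ?_ ?_ ?_ rfl
  · rw [us_sq, ← zpow_natCast, u_zpow, u_eq_iff]
    push_cast
    rw [← h]
    exact ⟨⟨0, by ring⟩, ⟨1, by ring⟩⟩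
  · rw [us_mul_u, us_inv, us_mul_us, u_inv, u_eq_iff]
    exact ⟨⟨0, by ring⟩, ⟨0, by ring⟩⟩
  · exact fun hm => d.us_not_mem d.h 0 ((Subgroup.zpowers_le.mpr (d.u_mem_U _ _)) hm)

theorem card_Y : Nat.card d.Y = 2 ^ (d.p + 3) := by
  obtain ⟨e⟩ := d.Y_equiv
  haveI : NeZero (2 ^ (d.p + 1)) := ⟨by positivity⟩
  rw [Nat.card_congr e.toEquiv, Nat.card_eq_fintype_card, QuaternionGroup.card]
  ring

theorem le_Y_of_gens {g w : S} (hg : g ∈ d.U) (hw : w * g * w⁻¹ = g⁻¹)
    (ho : orderOf g = 2 ^ (d.p + 2)) (hsq : w * w = g ^ d.h) : g ∈ d.Y ∧ w ∈ d.Y := by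
  obtain ⟨a, b, rfl⟩ := d.mem_U.mp hg
  have hh2 : 2 ≤ d.h := Int.le_of_dvd d.h_pos d.two_dvd_h
  have hnot : ¬ (2 * d.h ∣ 2 * a ∧ 2 * d.h ∣ 2 * b) := by
    rintro ⟨ha, hb⟩
    have h2 : orderOf (d.u a b) ∣ 2 := by
      refine orderOf_dvd_of_pow_eq_one ?_
      rw [← zpow_natCast, u_zpow, u_eq_one, mul_comm a, mul_comm b]
      exact ⟨ha, hb⟩
    rw [ho] at h2
    have := Nat.le_of_dvd two_pos h2
    have : (2 : ℕ) ^ 2 ≤ 2 ^ (d.p + 2) := Nat.pow_le_pow_right two_pos (by omega)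
    omega
  rcases d.cases w with ⟨c, e, rfl⟩ | ⟨c, e, rfl⟩
  · exfalso
    rw [u_inv, uu, uu, u_inv, u_eq_iff] at hw
    refine hnot ⟨?_, ?_⟩
    · rw [show 2 * a = c + a + -c - -a by ring]; exact hw.1
    · rw [show 2 * b = e + b + -e - -b by ring]; exact hw.2
  · rw [us_mul_u, us_inv, us_mul_us, u_inv, u_eq_iff] at hw
    have hab : 2 * d.h ∣ a + b := by
      rw [show a + b = c + b + -c - -a by ring]; exact hw.1
    refine ⟨d.mem_Y_u hab, d.mem_Y_us ?_⟩
    rw [us_sq, u_zpow, u_eq_iff] at hsq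
    have hodd : ¬ 2 ∣ a := by
      intro h2
      have hdvd : orderOf (d.u a b) ∣ 2 ^ (d.p + 1) := by
        refine orderOf_dvd_of_pow_eq_one ?_
        rw [← zpow_natCast, u_zpow, u_eq_one]
        push_cast
        rw [← h]
        obtain ⟨i, rfl⟩ := h2
        refine ⟨⟨i, by ring⟩, ?_⟩
        have : 2 * d.h ∣ 2 * i * d.h + b * d.h := by
          rw [← add_mul]; exact hab.mul_right _
        exact (dvd_add_right ⟨i, by ring⟩).mp this
      rw [ho] at hdvd
      have := Nat.le_of_dvd (by positivity) hdvd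
      have : (2 : ℕ) ^ (d.p + 1) < 2 ^ (d.p + 2) := Nat.pow_lt_pow_right one_lt_two (by omega)
      omega
    obtain ⟨i, rfl⟩ : ∃ i, a = 2 * i + 1 := ⟨a / 2, by omega⟩
    have : 2 * d.h ∣ (c + e - (2 * i + 1) * d.h) + i * (2 * d.h) := dvd_add hsq.1 (Dvd.intro_left _ rfl)
    rwa [show c + e - (2 * i + 1) * d.h + i * (2 * d.h) = c + e - d.h by ring] at this

theorem Y_unique {V : Subgroup S} (e : V ≃* QuaternionGroup (2 ^ (d.p + 1))) : V = d.Y := by
  haveI : NeZero (2 ^ (d.p + 1)) := ⟨by positivity⟩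
  set g : S := Subtype.val (e.symm (.a 1)) with hg
  set w : S := Subtype.val (e.symm (.xa 0)) with hw
  have inj : Function.Injective (V.subtype.comp e.symm.toMonoidHom) :=
    Subtype.val_injective.comp e.symm.injective
  set f := V.subtype.comp e.symm.toMonoidHom with hf
  have hfg : f (.a 1) = g := rfl
  have hfw : f (.xa 0) = w := rfl
  have ho : orderOf g = 2 ^ (d.p + 2) := by
    rw [← hfg, orderOf_injective f inj, QuaternionGroup.orderOf_a_one]
    ring
  have hconj : w * g * w⁻¹ = g⁻¹ := by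
    rw [← hfg, ← hfw, ← map_inv, ← map_inv, ← map_mul, ← map_mul]
    congr 1
    rw [mul_inv_eq_iff_eq_mul]
    show QuaternionGroup.xa 0 * QuaternionGroup.a 1 = QuaternionGroup.a (-1) * QuaternionGroup.xa 0
    simp
  have hsq : w * w = g ^ (2 ^ (d.p + 1) : ℕ) := by
    rw [← hfg, ← hfw, ← map_mul, ← map_pow, QuaternionGroup.a_one_pow, QuaternionGroup.xa_mul_xa]
    simp
  have hsq' : w * w = g ^ d.h := by
    rw [hsq, ← zpow_natCast]; push_cast; rw [h]
  have hkey : g ∈ d.Y ∧ w ∈ d.Y := by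
    by_cases hgU : g ∈ d.U
    · exact d.le_Y_of_gens hgU hconj ho hsq'
    obtain ⟨a, b, hab⟩ := (d.cases g).resolve_left (fun h => hgU (d.mem_U.mpr h))
    have hcen : g * g ∈ Subgroup.center S := by
      rw [hab, us_sq]; exact d.u_diag_central (by simp)
    have h4 : g * g * (g * g) = 1 := by
      have h1 : w * (g * g) * w⁻¹ = g * g := by
        rw [Subgroup.mem_center_iff.mp hcen w, mul_inv_cancel_right]
      have h2 : w * (g * g) * w⁻¹ = g⁻¹ * g⁻¹ := by
        rw [← hconj]; group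
      nth_rewrite 2 [← h1]
      rw [h2]; group
    have hp : d.p = 0 := by
      have h1 : orderOf g ∣ 4 := orderOf_dvd_of_pow_eq_one (by
        rw [show (4 : ℕ) = 2 * 2 from rfl, pow_mul, pow_two, pow_two, h4])
      rw [ho] at h1
      have h2 := Nat.le_of_dvd (by omega) h1
      by_contra h3
      have : (2 : ℕ) ^ 3 ≤ 2 ^ (d.p + 2) := Nat.pow_le_pow_right two_pos (by omega)
      omega
    have hh : d.h = 2 := by rw [h, hp]; rfl
    rw [hh, zpow_two] at hsq'
    have hg3 : g * g * g = g⁻¹ := by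
      rw [eq_inv_iff_mul_eq_one]; simpa only [mul_assoc] using h4
    have hwg : w * g = g⁻¹ * w := by rw [← hconj]; group
    have hcomm : ∀ z, z * (g * g) = g * g * z := Subgroup.mem_center_iff.mp hcen
    have hgg : g * g ≠ 1 := fun h2 => by
      have := orderOf_dvd_of_pow_eq_one (x := g) (n := 2) (by rw [pow_two, h2])
      rw [ho, hp] at this
      norm_num at this
    have hord : ∀ v, v * v = g * g → v ≠ 1 → orderOf v = 2 ^ (d.p + 2) := by
      intro v hv hv1
      rw [hp]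
      refine orderOf_eq_prime_pow (p := 2) (n := 1) (hp := ⟨Nat.prime_two⟩) ?_ ?_
      · rw [pow_one, pow_two, hv]; exact hgg
      · rw [show (2 : ℕ) ^ (1 + 1) = 2 * 2 from rfl, pow_mul, pow_two, pow_two, hv, h4]
    have hgw : g * w * g⁻¹ = w⁻¹ := by
      rw [eq_inv_iff_mul_eq_one]
      calc g * w * g⁻¹ * w = g * (w * (g⁻¹ * w)) := by simp only [mul_assoc]
        _ = g * (w * w * g) := by rw [← hwg, mul_assoc]
        _ = g * g * (g * g) := by rw [hsq', ← hcomm g]; simp only [mul_assoc]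
        _ = 1 := h4
    by_cases hwU : w ∈ d.U
    · have hw1 : w ≠ 1 := fun h1 => hgg (by rw [← hsq', h1, mul_one])
      obtain ⟨hwY, hgY⟩ := d.le_Y_of_gens hwU hgw (hord w hsq' hw1) (by rw [hh, zpow_two, hsq'])
      exact ⟨hgY, hwY⟩
    · have hgwU : g * w ∈ d.U := (Subgroup.mul_mem_iff_of_index_two d.index_U).mpr (iff_of_false hgU hwU)
      have h2 : g * w * (g * w) = g * g := by
        calc g * w * (g * w) = g * (w * g) * w := by simp only [mul_assoc]
          _ = g * (g⁻¹ * w) * w := by rw [hwg]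
          _ = w * w := by group
          _ = g * g := hsq'
      have h3 : w * (g * w) * w⁻¹ = (g * w)⁻¹ := by
        rw [eq_inv_iff_mul_eq_one]
        calc w * (g * w) * w⁻¹ * (g * w) = w * g * (g * w) := by group
          _ = g⁻¹ * (w * g) * w := by rw [hwg]; simp only [mul_assoc]; rw [← mul_assoc w g, hwg, mul_assoc]
          _ = g⁻¹ * g⁻¹ * (w * w) := by rw [hwg]; simp only [mul_assoc]
          _ = 1 := by rw [hsq']; group
      have h1 : g * w ≠ 1 := fun h1 => hgg (by rw [← h2, h1, mul_one])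
      obtain ⟨hA, hB⟩ := d.le_Y_of_gens hgwU h3 (hord _ h2 h1) (by rw [hh, zpow_two, hsq', h2])
      refine ⟨?_, hB⟩
      have := mul_mem hA (inv_mem hB)
      rwa [mul_inv_cancel_right] at this
  refine Subgroup.eq_of_le_of_card_ge (fun v hv => ?_) ?_
  · have hv' : v = f (e ⟨v, hv⟩) := by simp [f]
    rw [hv']
    rcases e ⟨v, hv⟩ with i | i
    · rw [show QuaternionGroup.a i = (QuaternionGroup.a 1) ^ i.val by
        rw [QuaternionGroup.a_one_pow, ZMod.natCast_zmod_val], map_pow, hfg]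
      exact pow_mem hkey.1 _
    · rw [show QuaternionGroup.xa i = QuaternionGroup.xa 0 * (QuaternionGroup.a 1) ^ i.val by
        rw [QuaternionGroup.a_one_pow, ZMod.natCast_zmod_val, QuaternionGroup.xa_mul_a, zero_add],
        map_mul, map_pow, hfg, hfw]
      exact mul_mem hkey.2 (pow_mem hkey.1 _)
  · rw [d.card_Y, Nat.card_congr e.toEquiv, Nat.card_eq_fintype_card, QuaternionGroup.card]
    ring_nf; exact le_rfl

/-- The elements `x ^ a * y ^ b * s ^ e` with `h ∣ a + b`. -/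
def omega : Subgroup S where
  carrier := {g | ∃ a b : ℤ, d.h ∣ a + b ∧ (g = d.u a b ∨ g = d.u a b * d.s)}
  one_mem' := ⟨0, 0, by simp, Or.inl d.u_zero.symm⟩
  mul_mem' := by
    rintro _ _ ⟨a, b, hab, ha | ha⟩ ⟨c, e, hce, hc | hc⟩ <;> subst ha <;> subst hc
    · exact ⟨a + c, b + e, by rw [add_add_add_comm]; exact dvd_add hab hce, Or.inl (d.uu ..)⟩
    · exact ⟨a + c, b + e, by rw [add_add_add_comm]; exact dvd_add hab hce, Or.inr (d.u_mul_us ..)⟩
    · exact ⟨a + e, b + c, by rw [add_add_add_comm, add_comm e]; exact dvd_add hab hce,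
        Or.inr (d.us_mul_u ..)⟩
    · exact ⟨a + e, b + c, by rw [add_add_add_comm, add_comm e]; exact dvd_add hab hce,
        Or.inl (d.us_mul_us ..)⟩
  inv_mem' := by
    rintro _ ⟨a, b, hab, ha | ha⟩ <;> subst ha
    · exact ⟨-a, -b, by rw [← neg_add]; exact hab.neg_right, Or.inl (d.u_inv ..)⟩
    · exact ⟨-b, -a, by rw [← neg_add, add_comm b]; exact hab.neg_right, Or.inr (d.us_inv ..)⟩

theorem closure_invol : Subgroup.closure {g : S | orderOf g = 2} = d.omega := by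
  refine le_antisymm ((Subgroup.closure_le _).mpr fun g hg => ?_) ?_
  · have hg' : g * g = 1 := by
      rw [← pow_two, ← (show orderOf g = 2 from hg)]; exact pow_orderOf_eq_one g
    rcases d.cases g with ⟨a, b, rfl⟩ | ⟨a, b, rfl⟩
    · obtain ⟨ha, hb⟩ := (d.u_sq_eq_one a b).mp hg'
      exact ⟨a, b, dvd_add ha hb, Or.inl rfl⟩
    · exact ⟨a, b, (dvd_mul_left _ _).trans ((d.us_sq_eq_one a b).mp hg'), Or.inr rfl⟩
  · set W := Subgroup.closure {g : S | orderOf g = 2} with hW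
    have ho2 : ∀ g : S, g * g = 1 → g ≠ 1 → g ∈ W := fun g h h1 =>
      Subgroup.subset_closure (orderOf_eq_prime (by rw [pow_two]; exact h) h1)
    have hs' : ∀ a : ℤ, d.u a (-a) * d.s ∈ W := fun a =>
      ho2 _ ((d.us_sq_eq_one _ _).mpr (by rw [add_neg_cancel]; exact dvd_zero _))
        (fun h1 => d.u_ne_us 0 0 a (-a) (d.u_zero.trans h1.symm))
    have hanti : ∀ a : ℤ, d.u a (-a) ∈ W := fun a => by
      have := mul_mem (hs' a) (hs' 0)
      rwa [us_mul_us, neg_zero, add_zero, add_zero] at this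
    have hh : d.u d.h 0 ∈ W := ho2 _ ((d.u_sq_eq_one _ _).mpr ⟨dvd_rfl, dvd_zero _⟩)
      (by rw [ne_eq, u_eq_one]; exact fun h => d.not_dvd_h h.1)
    have hu : ∀ a b : ℤ, d.h ∣ a + b → d.u a b ∈ W := by
      rintro a b ⟨i, hi⟩
      have := mul_mem (hanti (-b)) (zpow_mem hh i)
      rwa [u_zpow, uu, ← hi, neg_neg, zero_mul, add_zero, neg_add_eq_sub, add_sub_cancel_right] at this
    rintro _ ⟨a, b, hab, rfl | rfl⟩
    · exact hu a b hab
    · have := mul_mem (hu a b hab) (hs' 0)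
      rwa [u_mul_us, neg_zero, add_zero, add_zero] at this

theorem omega_card_and_top : Nat.card d.omega = 2 ^ (d.p + 4) ∧
    d.omega ⊔ Subgroup.zpowers (d.u 1 0) = ⊤ := by
  have htop : d.omega ⊔ Subgroup.zpowers (d.u 1 0) = ⊤ := by
    refine eq_top_iff.mpr fun g _ => ?_
    have key : ∀ a b : ℤ, d.u a b ∈ d.omega ⊔ Subgroup.zpowers (d.u 1 0) := fun a b => by
      have e : d.u a b = d.u (-b) b * d.u 1 0 ^ (a + b) := by
        rw [u_zpow, uu]; ring_nf
      rw [e]
      exact mul_mem (Subgroup.mem_sup_left ⟨-b, b, by simp, Or.inl rfl⟩)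
        (Subgroup.mem_sup_right (zpow_mem (Subgroup.mem_zpowers _) _))
    rcases d.cases g with ⟨a, b, rfl⟩ | ⟨a, b, rfl⟩
    · exact key a b
    · exact mul_mem (key a b) (Subgroup.mem_sup_left ⟨0, 0, by simp, Or.inr (by rw [u_zero, one_mul])⟩)
  refine ⟨?_, htop⟩
  haveI : d.omega.Normal := by
    rw [← d.closure_invol]
    exact normal_closure_of_conj fun g a ha => Subgroup.subset_closure
      (show orderOf (g * a * g⁻¹) = 2 by rw [← MulAut.conj_apply, MulEquiv.orderOf_eq]; exact ha)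
  set π := QuotientGroup.mk' d.omega with hπ
  have hone : ∀ g : S, π g = 1 ↔ g ∈ d.omega := fun g => QuotientGroup.eq_one_iff g
  have hxk : ∀ k : ℤ, d.u k 0 ∈ d.omega ↔ d.h ∣ k := by
    intro k
    refine ⟨fun h => ?_, fun h => ⟨k, 0, by simpa using h, Or.inl rfl⟩⟩
    obtain ⟨a, b, hab, h1 | h1⟩ := h
    · rw [u_eq_iff, zero_sub, Int.dvd_neg] at h1
      have := dvd_add (dvd_add ((dvd_mul_left _ _).trans h1.1) hab) (dvd_zero d.h)
      rw [add_zero, show k - a + (a + b) = k + b by ring] at this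
      exact (Int.dvd_add_left ((dvd_mul_left _ _).trans h1.2)).mp this
    · exact absurd h1 (d.u_ne_us _ _ _ _)
  have hgen : Subgroup.zpowers (π (d.u 1 0)) = ⊤ := by
    rw [← MonoidHom.map_zpowers]
    refine eq_top_iff.mpr ?_
    rw [← MonoidHom.range_eq_top.mpr (QuotientGroup.mk'_surjective d.omega), MonoidHom.range_eq_map,
      ← htop, Subgroup.map_sup]
    refine sup_le ?_ le_rfl
    rintro _ ⟨g, hg, rfl⟩
    rw [(hone g).mpr hg]; exact one_mem _
  have ho : orderOf (π (d.u 1 0)) = 2 ^ (d.p + 1) := by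
    refine Nat.dvd_antisymm (orderOf_dvd_of_pow_eq_one ?_) ?_
    · rw [← map_pow, hone, ← zpow_natCast, u_zpow, zero_mul, one_mul, hxk, h]
      exact dvd_of_eq (by push_cast; rfl)
    · have h1 := pow_orderOf_eq_one (π (d.u 1 0))
      rw [← map_pow, hone, ← zpow_natCast, u_zpow, zero_mul, one_mul, hxk, h] at h1
      exact Int.natCast_dvd_natCast.mp (by push_cast; exact h1)
  have hi : d.omega.index = 2 ^ (d.p + 1) := by
    rw [Subgroup.index, ← ho, ← Nat.card_zpowers, hgen, Subgroup.card_top]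
  have h1 := d.omega.card_mul_index
  rw [hi, d.hcard, show 2 * d.p + 5 = (d.p + 4) + (d.p + 1) by ring,
    pow_add 2 (d.p + 4) (d.p + 1)] at h1
  exact Nat.eq_of_mul_eq_mul_right (Nat.two_pow_pos _) h1

end Pres

end Cfsg.Agent.Wreath
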