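import Cfsg.Agent.Lib.TwoGroups.FourGenBound

/-!
A 2-group without normal elementary abelian subgroups of order eight has sectional rank at most four.
-/

set_option autoImplicit false
set_option linter.style.haveILetI false

namespace Cfsg.Agent.FourGen

open Cfsg.Agent.SquareGen

/-- A 2-subgroup of the symmetric group on four points needs two generators. -/
theorem perm_card_le (K : Subgroup (Equiv.Perm (Fin 4))) (hK : IsPGroup 2 K) :
    Nat.card K ≤ 4 * Nat.card (sq K) := by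
  classical
  haveI : Fact (Nat.Prime 2) := ⟨Nat.prime_two⟩
  have h24 : Nat.card (Equiv.Perm (Fin 4)) = 24 := by
    rw [Nat.card_perm, Nat.card_fin]; rfl
  obtain ⟨k, hk⟩ := IsPGroup.iff_card.1 hK
  have hd := Subgroup.card_subgroup_dvd_card K
  rw [h24, hk] at hd
  have hk3 : k ≤ 3 := by
    by_contra hlt
    have : (2 : ℕ) ^ 4 ∣ 24 := (pow_dvd_pow 2 (by omega : 4 ≤ k)).trans hd
    norm_num at this
  have hpos : 0 < Nat.card (sq K) := Nat.card_pos
  by_cases hk2 : k ≤ 2
  · calc Nat.card K = 2 ^ k := hk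
      _ ≤ 2 ^ 2 := Nat.pow_le_pow_right two_pos hk2
      _ ≤ 4 * Nat.card (sq K) := Nat.le_mul_of_pos_right 4 hpos
  have hk3' : k = 3 := by omega
  subst hk3'
  -- a four-cycle lies in a conjugate
  set c : Equiv.Perm (Fin 4) := finRotate 4 with hc
  have hc4 : IsPGroup 2 (Subgroup.zpowers c) := by
    rw [IsPGroup.iff_card]
    refine ⟨2, ?_⟩
    rw [Nat.card_zpowers]
    exact orderOf_eq_prime_pow (p := 2) (n := 1) (by decide) (by decide)
  obtain ⟨P, hP⟩ := hc4.exists_le_sylow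
  have hPcard : Nat.card P = 2 ^ 3 := by
    rw [P.card_eq_multiplicity, h24]
    congr 1
    rw [show (24 : ℕ) = 2 ^ 3 * 3 from rfl, Nat.factorization_mul (by norm_num) (by norm_num),
      Nat.Prime.factorization_pow Nat.prime_two, Nat.Prime.factorization (by norm_num : Nat.Prime 3)]
    simp
  let Q : Sylow 2 (Equiv.Perm (Fin 4)) := Sylow.ofCard K (by rw [hk, ← P.card_eq_multiplicity, hPcard])
  obtain ⟨g, hg⟩ := MulAction.exists_smul_eq (Equiv.Perm (Fin 4)) P Q
  have hx : g * c * g⁻¹ ∈ K := by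
    have h1 : g * c * g⁻¹ ∈ ((g • P : Sylow 2 _) : Subgroup (Equiv.Perm (Fin 4))) :=
      ⟨c, hP (Subgroup.mem_zpowers c), rfl⟩
    rw [hg] at h1
    exact h1
  have h2 : 1 < Nat.card (sq K) := by
    rw [Finite.one_lt_card_iff_nontrivial, Subgroup.nontrivial_iff_ne_bot]
    intro hbot
    have h3 := sq_mem hx
    rw [hbot, Subgroup.mem_bot, conj_pow, conj_eq_one_iff] at h3
    exact absurd h3 (by rw [hc]; decide)
  rw [hk]
  calc (2 : ℕ) ^ 3 = 4 * 2 := by norm_num
    _ ≤ 4 * Nat.card (sq K) := Nat.mul_le_mul_left 4 h2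

variable {G : Type*} [Group G] [Finite G]

/-- Four generators for every subgroup. -/
theorem card_le (hG : IsPGroup 2 G)
    (h : ∀ E : Subgroup G, E.Normal → IsMulCommutative E → (∀ a ∈ E, a ^ 2 = 1) → Nat.card E ≤ 4)
    (H : Subgroup G) : Nat.card H ≤ 16 * Nat.card (sq H) := by
  classical
  haveI : Fact (Nat.Prime 2) := ⟨Nat.prime_two⟩
  obtain ⟨A, ⟨hAn, hA, hA4⟩, hmax⟩ := Set.Finite.exists_maximal
    (s := {A : Subgroup G | A.Normal ∧ IsMulCommutative A ∧ ∀ a ∈ A, a ^ 4 = 1}) (Set.toFinite _)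
    ⟨⊥, inferInstance, ⟨⟨fun a b => Subsingleton.elim _ _⟩⟩, fun a ha => by
      rw [Subgroup.mem_bot.1 ha, one_pow]⟩
  haveI := hAn
  have hac : ∀ a ∈ A, ∀ b ∈ A, a * b = b * a :=
    fun a ha b hb => congrArg Subtype.val (hA.is_comm.comm (⟨a, ha⟩ : A) ⟨b, hb⟩)
  have hsmall : ∀ x : G, (∀ a ∈ A, a * x = x * a) → x ^ 4 = 1 → x ∈ A := fun x h1 h2 =>
    FourCentral.mem_of_pow_four hG A hA hA4
      (fun B hBn hBc hB4 hAB => le_antisymm (hmax ⟨hBn, hBc, hB4⟩ hAB) hAB) h1 h2
  set V : Subgroup G :=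
    { carrier := {a | a ∈ A ∧ a ^ 2 = 1}
      one_mem' := ⟨A.one_mem, one_pow 2⟩
      mul_mem' := fun {a b} ha hb => ⟨A.mul_mem ha.1 hb.1, by
        rw [Commute.mul_pow (hac a ha.1 b hb.1), ha.2, hb.2, one_mul]⟩
      inv_mem' := fun {a} ha => ⟨A.inv_mem ha.1, by rw [inv_pow, ha.2, inv_one]⟩ } with hV
  have hV4 : Nat.card V ≤ 4 := h V ⟨fun a ha g => ⟨hAn.conj_mem a ha.1 g, by
      rw [conj_pow, ha.2, mul_one, mul_inv_cancel]⟩⟩
    ⟨⟨fun a b => Subtype.ext (hac a a.2.1 b b.2.1)⟩⟩ fun a ha => ha.2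
  -- `A` has order at most the square of the number of its involutions
  have hAV : Nat.card A ≤ Nat.card V * Nat.card V := by
    let f : A →* G :=
      { toFun := fun a => (a : G) ^ 2
        map_one' := one_pow 2
        map_mul' := fun a b => by
          simp only [Subgroup.coe_mul]
          exact Commute.mul_pow (hac a a.2 b b.2) 2 }
    rw [f.ker.card_eq_card_quotient_mul_card_subgroup,
      Nat.card_congr (QuotientGroup.quotientKerEquivRange f).toEquiv]
    refine Nat.mul_le_mul (Subgroup.card_le_of_le ?_) (Nat.card_le_card_of_injective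
      (fun a => (⟨(a.1 : G), a.1.2, a.2⟩ : V))
      (fun a b h => Subtype.ext (Subtype.ext (congrArg (fun z : V => (z : G)) h))))
    rintro _ ⟨a, rfl⟩
    exact ⟨A.pow_mem a.2 2, by show ((a : G) ^ 2) ^ 2 = 1; rw [← pow_mul]; exact hA4 a a.2⟩
  obtain ⟨i, hi⟩ := IsPGroup.iff_card.1 (hG.to_subgroup A)
  obtain ⟨j, hj⟩ := IsPGroup.iff_card.1 (hG.to_subgroup V)
  have hi4 : i ≤ 4 := by
    have h16 : 2 ^ i ≤ 2 ^ 4 := by
      rw [← hi]
      exact hAV.trans ((Nat.mul_le_mul hV4 hV4).trans (by norm_num))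
    exact (Nat.pow_le_pow_iff_right one_lt_two).1 h16
  by_cases hi16 : i = 4
  · exact Setup.card_le
      { A := A, hG := hG, h := h, normal := hAn, comm := hac, exp4 := hA4
        card := by rw [hi, hi16]; norm_num, small := hsmall } H
  -- a small set of generators of `A`
  have hA8 : Nat.card A ≤ 8 := by
    rw [hi, show (8 : ℕ) = 2 ^ 3 from rfl]; exact Nat.pow_le_pow_right two_pos (by omega)
  have hT : ∃ T : Set G, T ⊆ A ∧ T.ncard ≤ 4 ∧ (∀ g : G, ∀ t ∈ T, g * t * g⁻¹ ∈ T) ∧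
      ∀ g : G, (∀ t ∈ T, t * g = g * t) → ∀ a ∈ A, a * g = g * a := by
    by_cases hexp : ∀ a ∈ A, a ^ 2 = 1
    · refine ⟨(A : Set G) \ {1}, fun x hx => hx.1, ?_, fun g t ht => ⟨hAn.conj_mem t ht.1 g, ?_⟩, fun g hg a ha => ?_⟩
      · refine (Set.ncard_le_ncard Set.sdiff_subset (Set.toFinite _)).trans ?_
        rw [← Nat.card_coe_set_eq]
        exact h A hAn hA hexp
      · intro h1
        exact ht.2 (conj_eq_one_iff.1 h1)
      · by_cases ha1 : a = 1
        · rw [ha1, one_mul, mul_one]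
        · exact hg a ⟨ha, ha1⟩
    · push Not at hexp
      obtain ⟨a₀, ha₀, ha₀2⟩ := hexp
      refine ⟨(A : Set G) \ (V : Set G), fun x hx => hx.1, ?_, fun g t ht => ⟨hAn.conj_mem t ht.1 g, ?_⟩,
        fun g hg a ha => ?_⟩
      · rw [Set.ncard_sdiff (fun x hx => hx.1) (Set.toFinite _), ← Nat.card_coe_set_eq, ← Nat.card_coe_set_eq]
        change Nat.card A - Nat.card V ≤ 4
        rw [hj] at hV4 hAV ⊢
        rw [hi] at hA8 hAV ⊢
        have hj2 : j ≤ 2 := (Nat.pow_le_pow_iff_right one_lt_two).1 (hV4.trans (by norm_num) : 2 ^ j ≤ 2 ^ 2)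
        interval_cases j <;> norm_num at hAV ⊢ <;> omega
      · intro h1
        refine ht.2 ⟨ht.1, ?_⟩
        have := h1.2
        rwa [conj_pow, conj_eq_one_iff] at this
      · by_cases haV : a ∈ V
        · have e0 := hg a₀ ⟨ha₀, fun h => ha₀2 h.2⟩
          have e1 := hg (a₀ * a) ⟨A.mul_mem ha₀ ha, fun h => ha₀2 (by
            have : a₀ * a * a⁻¹ ∈ V := V.mul_mem h (V.inv_mem haV)
            rw [mul_inv_cancel_right] at this
            exact this.2)⟩
          rw [mul_assoc, ← mul_assoc g, ← e0, mul_assoc] at e1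
          exact mul_left_cancel e1
        · exact hg a ⟨ha, haV⟩
  obtain ⟨T, hTA, hT4, hTinv, hTgen⟩ := hT
  let φ : G →* Equiv.Perm T :=
    { toFun := fun g =>
        { toFun := fun t => ⟨g * t * g⁻¹, hTinv g t t.2⟩
          invFun := fun t => ⟨g⁻¹ * t * g, by simpa using hTinv g⁻¹ t t.2⟩
          left_inv := fun t => Subtype.ext (by simp [mul_assoc])
          right_inv := fun t => Subtype.ext (by simp [mul_assoc]) }
      map_one' := by ext t; simp
      map_mul' := fun g k => by ext t; simp [mul_assoc] }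
  haveI : Fintype T := Fintype.ofFinite T
  obtain ⟨ι⟩ : Nonempty (T ↪ Fin 4) := Function.Embedding.nonempty_of_card_le (by
    rw [Fintype.card_fin, ← Nat.card_eq_fintype_card, Nat.card_coe_set_eq]; exact hT4)
  set ψ : G →* Equiv.Perm (Fin 4) := (Equiv.Perm.viaEmbeddingHom ι).comp φ with hψ
  have hker : ∀ g ∈ ψ.ker, ∀ a ∈ A, a * g = g * a := by
    intro g hg
    refine hTgen g fun t ht => ?_
    have h1 : φ g = 1 := Equiv.Perm.viaEmbeddingHom_injective ι (by
      rw [map_one]; exact hg)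
    have h2 : g * t * g⁻¹ = t := congrArg (fun w : T => (w : G)) (Equiv.ext_iff.1 h1 ⟨t, ht⟩)
    exact (mul_inv_eq_iff_eq_mul.1 h2).symm
  have hfour : FourCentral.IsFourCentral (H ⊓ ψ.ker) := fun x hx y hy hx4 =>
    hker y hy.2 x (hsmall x (hker x hx.2) hx4)
  have hB := (hfour.card_le hG V (fun x hx hx2 => ⟨hsmall x (hker x hx.2)
    (by rw [show (4 : ℕ) = 2 * 2 from rfl, pow_mul, hx2, one_pow]), hx2⟩)).trans (Nat.mul_le_mul_right _ hV4)
  exact le_mul_split H ψ (perm_card_le _ ((hG.to_subgroup H).map ψ)) hB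

/-- The four generator theorem. -/
theorem sectional (hG : IsPGroup 2 G)
    (h : ∀ E : Subgroup G, E.Normal → IsMulCommutative E → (∀ a ∈ E, a ^ 2 = 1) → Nat.card E ≤ 4) :
    Cfsg.SectionalPRankLE 2 4 G :=
  sectional_of_card_le fun H => card_le hG h H

end Cfsg.Agent.FourGen
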