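import Cfsg.Agent.Lib.TwoGroups.DihFusion

/-!
Fusion in groups with quasi-dihedral Sylow 2-subgroups.
-/

set_option autoImplicit false

open scoped Pointwise

namespace Cfsg.Agent.QDFus

open Cfsg.Agent.TwoFus

variable {G : Type*} [Group G] [Finite G]

theorem subgroupOf_map {S U : Subgroup G} (h : U ≤ S) : (U.subgroupOf S).map S.subtype = U :=
  Subgroup.map_subgroupOf_eq_of_le h

/-- All four-subgroups of the Sylow subgroup are conjugate in it. -/
theorem klein_conj {S : Subgroup G} (d : QD.Pres S) {U V : Subgroup G} (hU : IsKleinFour U)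
    (hV : IsKleinFour V) (hUS : U ≤ S) (hVS : V ≤ S) :
    ∃ s : G, U.map (MulAut.conj s).toMonoidHom = V := by
  obtain ⟨s, hs⟩ := d.klein_conj (subgroupOf_klein hU hUS) (subgroupOf_klein hV hVS)
  refine ⟨(s : G), ?_⟩
  rw [← subgroupOf_map hUS, ← map_subtype_conj, hs, subgroupOf_map hVS]

theorem quat_conj {S : Subgroup G} (d : QD.Pres S) {Q R : Subgroup G} (eQ : Q ≃* QuaternionGroup 2)
    (eR : R ≃* QuaternionGroup 2) (hQS : Q ≤ S) (hRS : R ≤ S) :
    ∃ s : G, Q.map (MulAut.conj s).toMonoidHom = R := by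
  obtain ⟨s, hs⟩ := d.quat_conj_all ⟨(Subgroup.subgroupOfEquivOfLe hQS).trans eQ⟩
    ⟨(Subgroup.subgroupOfEquivOfLe hRS).trans eR⟩
  refine ⟨(s : G), ?_⟩
  rw [← subgroupOf_map hQS, ← map_subtype_conj, hs, subgroupOf_map hRS]

theorem klein_relIndex {S : Subgroup G} (d : QD.Pres S) {U V : Subgroup G} (hU : IsKleinFour U)
    (hV : IsKleinFour V) (hUS : U ≤ S) (hVS : V ≤ S) :
    (Subgroup.centralizer (V : Set G)).relIndex (Subgroup.normalizer (V : Set G)) =
      (Subgroup.centralizer (U : Set G)).relIndex (Subgroup.normalizer (U : Set G)) := by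
  obtain ⟨s, hs⟩ := klein_conj d hU hV hUS hVS
  rw [← hs, relIndex_centralizer_conj]

theorem quat_relIndex {S : Subgroup G} (d : QD.Pres S) {Q R : Subgroup G}
    (eQ : Q ≃* QuaternionGroup 2) (eR : R ≃* QuaternionGroup 2) (hQS : Q ≤ S) (hRS : R ≤ S) :
    (R ⊔ Subgroup.centralizer (R : Set G)).relIndex (Subgroup.normalizer (R : Set G)) =
      (Q ⊔ Subgroup.centralizer (Q : Set G)).relIndex (Subgroup.normalizer (Q : Set G)) := by
  obtain ⟨s, hs⟩ := quat_conj d eQ eR hQS hRS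
  rw [← hs, relIndex_sup_conj]

/-- The two local indices are 2 or 6. -/
theorem local_indices (S : Sylow 2 G) (d : QD.Pres (S : Subgroup G)) :
    (∀ T : Subgroup G, IsKleinFour T → T ≤ (S : Subgroup G) →
      (Subgroup.centralizer (T : Set G)).relIndex (Subgroup.normalizer (T : Set G)) = 2 ∨
        (Subgroup.centralizer (T : Set G)).relIndex (Subgroup.normalizer (T : Set G)) = 6) ∧
    ∀ Q : Subgroup G, Q ≤ (S : Subgroup G) → Nonempty (Q ≃* QuaternionGroup 2) →
      (Q ⊔ Subgroup.centralizer (Q : Set G)).relIndex (Subgroup.normalizer (Q : Set G)) = 2 ∨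
        (Q ⊔ Subgroup.centralizer (Q : Set G)).relIndex (Subgroup.normalizer (Q : Set G)) = 6 := by
  haveI : Fact (Nat.Prime 2) := ⟨Nat.prime_two⟩
  have hP := qd_cycMax d S.isPGroup'
  have h16 : 16 ≤ Nat.card (S : Subgroup G) := by
    rw [d.hcard]
    exact le_trans (by norm_num) (Nat.pow_le_pow_right (n := 2) two_pos (show 4 ≤ d.p + 4 by omega))
  refine ⟨fun T hT hTS => klein_index_cases S hP (by omega) hTS hT, fun Q hQS ⟨eQ⟩ => ?_⟩
  haveI : NeZero 2 := ⟨two_ne_zero⟩
  have hQ8 : Nat.card Q = 8 := by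
    rw [Nat.card_congr eQ.toEquiv, Nat.card_eq_fintype_card, QuaternionGroup.card]
  have hlt : Q < (S : Subgroup G) := lt_of_le_of_ne hQS fun e => by rw [← e, hQ8] at h16; omega
  obtain ⟨s, ⟨hsS, hsN⟩, hsQ⟩ :=
    SetLike.exists_of_lt (Fusion.lt_inf_normalizer (Fusion.sylow_isNilpotent S) hlt)
  obtain ⟨k, hk⟩ := IsPGroup.iff_orderOf.mp S.isPGroup' (⟨s, hsS⟩ : (S : Subgroup G))
  rw [← orderOf_injective (S : Subgroup G).subtype (S : Subgroup G).subtype_injective] at hk
  change orderOf s = 2 ^ k at hk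
  have hnot : s ∉ Q ⊔ Subgroup.centralizer (Q : Set G) := by
    intro h
    have hle : Subgroup.centralizer (Q : Set G) ≤ Subgroup.normalizer (Q : Set G) := by
      intro g hg
      rw [Subgroup.mem_normalizer_iff_map_conj_eq]
      refine Subgroup.eq_of_le_of_card_ge ?_
        (by rw [Subgroup.card_map_of_injective (MulAut.conj g).injective])
      rintro _ ⟨v, hv, rfl⟩
      show g * v * g⁻¹ ∈ Q
      rw [← Subgroup.mem_centralizer_iff.mp hg v hv, mul_inv_cancel_right]
      exact hv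
    obtain ⟨q, hq, c, hc, rfl⟩ : s ∈ (Q : Set G) * (Subgroup.centralizer (Q : Set G) : Set G) := by
      rw [← Subgroup.coe_mul_of_right_le_normalizer_left _ _ hle]; exact h
    have hcS : c ∈ (S : Subgroup G) := ((S : Subgroup G).mul_mem_cancel_left (hQS hq)).mp hsS
    have h1 := d.quat_centralizer ⟨(Subgroup.subgroupOfEquivOfLe hQS).trans eQ⟩
    have h2 : (⟨c, hcS⟩ : (S : Subgroup G)) ∈
        Subgroup.centralizer ((Q.subgroupOf (S : Subgroup G) : Subgroup (S : Subgroup G)) : Set (S : Subgroup G)) :=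
      Subgroup.mem_centralizer_iff.mpr fun v hv => Subtype.ext (Subgroup.mem_centralizer_iff.mp hc _ hv)
    rw [h1] at h2
    exact hsQ (mul_mem hq (show c ∈ Q from (Subgroup.map_subtype_le _ h2 :
      (⟨c, hcS⟩ : (S : Subgroup G)) ∈ Q.subgroupOf (S : Subgroup G))))
  have h2 := quat_two_dvd eQ hsN hnot hk
  have h6 := quat_relIndex_dvd eQ
  have hle := Nat.le_of_dvd (by norm_num) h6
  generalize (Q ⊔ Subgroup.centralizer (Q : Set G)).relIndex (Subgroup.normalizer (Q : Set G)) = r at *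
  interval_cases r <;> omega

section elements

variable {S : Subgroup G} (d : QD.Pres S)

/-- The cyclic generator in the ambient group. -/
def q : G := ((d.x ^ (2 * d.r) : S) : G)

/-- An element of order four outside the cyclic subgroup. -/
def a : G := ((d.x ^ (1 : ℤ) * d.y : S) : G)

/-- The dihedral maximal subgroup. -/
def MD : Subgroup G := d.maxD.map S.subtype

/-- The quaternion maximal subgroup. -/
def MQ : Subgroup G := d.maxQ.map S.subtype

theorem four_klein (i : ℤ) (hi : 2 ∣ i) : IsKleinFour (d.four i) := by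
  haveI : Nontrivial (d.four i) := Finite.one_lt_card_iff_nontrivial.mp (by rw [d.card_four]; norm_num)
  refine ⟨d.card_four i, (Monoid.exponent_eq_prime_iff Nat.prime_two).mpr fun g hg =>
    orderOf_eq_prime ?_ hg⟩
  have h := (d.mem_four i g.1).mp g.2
  have hu := (d.form_sq_eq_one_iff i).mpr hi
  rw [pow_two]
  refine Subtype.ext ?_
  show (g : S) * g = 1
  rcases h with e | e | e | e <;> rw [e]
  · exact one_mul 1
  · exact d.zz
  · exact hu
  · rw [Commute.mul_mul_mul_comm (d.z_central (d.x ^ i * d.y) : Commute (d.x ^ i * d.y) d.z) d.z (d.x ^ i * d.y),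
      d.zz, hu, mul_one]

theorem four_le (i : ℤ) (hi : 2 ∣ i) : d.four i ≤ d.maxD := by
  intro g hg
  have hu : d.x ^ i * d.y ∈ d.maxD := (d.maxD_mem _).mpr ⟨i, hi, Or.inr rfl⟩
  have hz : d.z ∈ d.maxD := (d.maxD_mem _).mpr ⟨4 * d.r, ⟨2 * d.r, by ring⟩, Or.inl rfl⟩
  rcases (d.mem_four i g).mp hg with e | e | e | e <;> rw [e]
  exacts [one_mem _, hz, hu, mul_mem hz hu]

theorem quat_le (i : ℤ) (hi : ¬ 2 ∣ i) : d.quat i ≤ d.maxQ := by
  have hx2 : d.x ^ (2 : ℤ) ∈ d.maxQ := Subgroup.subset_closure (by simp)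
  have hxy : d.x * d.y ∈ d.maxQ := Subgroup.subset_closure (by simp)
  refine (Subgroup.closure_le _).mpr ?_
  rintro _ (rfl | rfl)
  · rw [SetLike.mem_coe, zpow_mul]; exact zpow_mem hx2 _
  · obtain ⟨e, rfl⟩ : ∃ e, i = 2 * e + 1 := ⟨i / 2, by omega⟩
    rw [SetLike.mem_coe, zpow_add, zpow_one, mul_assoc, zpow_mul]
    exact mul_mem (zpow_mem hx2 e) hxy

theorem map_four_le {E : Subgroup G} (hE : IsKleinFour E) (hES : E ≤ S) : E ≤ MD d := by
  obtain ⟨i, hi, he⟩ := d.four_eq (subgroupOf_klein hE hES)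
  rw [← subgroupOf_map hES, he]
  exact Subgroup.map_mono (four_le d i hi)

theorem map_quat_le {E : Subgroup G} (eE : E ≃* QuaternionGroup 2) (hES : E ≤ S) :
    E ≤ MQ d ∧ (d.z : G) ∈ E := by
  obtain ⟨i, hi, he⟩ := d.quat_eq ⟨(Subgroup.subgroupOfEquivOfLe hES).trans eE⟩
  rw [← subgroupOf_map hES, he]
  refine ⟨Subgroup.map_mono (quat_le d i hi), ⟨d.z, ?_, rfl⟩⟩
  have hq : d.x ^ (2 * d.r) ∈ d.quat i := Subgroup.subset_closure (by simp)
  rw [SetLike.mem_coe, QD.Pres.z, show 4 * d.r = 2 * d.r + 2 * d.r by ring, zpow_add]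
  exact mul_mem hq hq

theorem order_four_classes (t : S) (ht : orderOf t = 4) :
    IsConj (d.x ^ (2 * d.r)) t ∨ IsConj (d.x ^ (1 : ℤ) * d.y) t := by
  have h4 : t * t * (t * t) = 1 := by
    rw [← mul_assoc, ← pow_three', ← pow_succ]
    show t ^ 4 = 1
    rw [← ht]; exact pow_orderOf_eq_one t
  have h2 : t * t ≠ 1 := fun h => by
    have := orderOf_dvd_of_pow_eq_one (x := t) (n := 2) (by rw [pow_two]; exact h)
    rw [ht] at this; omega
  rcases d.cases t with ⟨k, rfl⟩ | ⟨k, rfl⟩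
  · left
    rw [d.pp, d.zpow_sq_eq_one_iff, show k + k = 2 * k by ring,
      show 4 * d.r = 2 * (2 * d.r) by ring, mul_dvd_mul_iff_left two_ne_zero] at h4
    obtain ⟨c, rfl⟩ := h4
    have hc : ¬ 2 ∣ c := fun ⟨e, he⟩ => h2 (by
      rw [d.zpow_sq_eq_one_iff]; exact ⟨e, by rw [he]; ring⟩)
    obtain ⟨e, rfl⟩ : ∃ e, c = 2 * e + 1 := ⟨c / 2, by omega⟩
    rcases Int.even_or_odd' e with ⟨f, rfl | rfl⟩
    · have : d.x ^ (2 * d.r) = d.x ^ (2 * d.r * (2 * (2 * f) + 1)) := by
        rw [d.zpow_eq_iff]; exact ⟨-f, by ring⟩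
      rw [← this]
    · refine isConj_iff.mpr ⟨d.y, ?_⟩
      rw [d.conj_y_pow, d.zpow_eq_iff]
      exact ⟨d.r - f - 1, by ring⟩
  · right
    have hk : ¬ 2 ∣ k := fun h => h2 ((d.form_sq_eq_one_iff k).mpr h)
    obtain ⟨j, hj⟩ := d.conj_form 1 k (by omega)
    exact isConj_iff.mpr ⟨_, hj⟩

theorem order_z : orderOf (d.z : G) = 2 := by
  rw [Subgroup.orderOf_coe]; exact orderOf_eq_prime (by rw [pow_two]; exact d.zz) d.z_ne_one

theorem order_y : orderOf (d.y : G) = 2 := by rw [Subgroup.orderOf_coe]; exact d.hy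

theorem order_q : orderOf (q d) = 4 := by rw [q, Subgroup.orderOf_coe]; exact d.orderOf_q

theorem order_a : orderOf (a d) = 4 := by
  rw [a, Subgroup.orderOf_coe]
  have h : d.x ^ (1 : ℤ) * d.y * (d.x ^ (1 : ℤ) * d.y) = d.z := by
    rw [d.form_sq, QD.Pres.z, mul_one]
  refine orderOf_eq_prime_pow (p := 2) (n := 1) (hp := ⟨Nat.prime_two⟩) ?_ ?_
  · rw [pow_one, pow_two, h]; exact d.z_ne_one
  · rw [show 2 ^ (1 + 1) = 2 * 2 from rfl, pow_mul, pow_two, pow_two, h, d.zz]

end elements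

section fusion

variable (S : Sylow 2 G) (d : QD.Pres (S : Subgroup G))

/-- Every involution is conjugate to `z` or to `y`. -/
theorem invol_classes {t : G} (ht : orderOf t = 2) : IsConj (d.z : G) t ∨ IsConj (d.y : G) t := by
  obtain ⟨g, hg⟩ := exists_conj_mem S (k := 1) (a := t) (by rw [ht, pow_one])
  have hc : IsConj (g * t * g⁻¹) t := (isConj_iff.mpr ⟨g, rfl⟩).symm
  set v : (S : Subgroup G) := ⟨g * t * g⁻¹, hg⟩ with hv
  have hvo : orderOf v = 2 := by
    rw [← Subgroup.orderOf_coe, hv]; show orderOf (g * t * g⁻¹) = 2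
    rw [← MulAut.conj_apply, MulEquiv.orderOf_eq, ht]
  have hvv : v * v = 1 := by
    have := pow_orderOf_eq_one v
    rwa [hvo, pow_two] at this
  rcases d.sq_eq_one_cases hvv with e | e | ⟨i, hi, e⟩
  · rw [e, orderOf_one] at hvo; omega
  · exact Or.inl ((e ▸ hc : IsConj ((d.z : (S : Subgroup G)) : G) t))
  · obtain ⟨j, hj⟩ := d.conj_form 0 i (by omega)
    have h1 : IsConj (d.x ^ (0 : ℤ) * d.y) v := isConj_iff.mpr ⟨_, hj.trans e.symm⟩
    refine Or.inr (IsConj.trans ?_ hc)
    have := MonoidHom.map_isConj (S : Subgroup G).subtype h1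
    rwa [zpow_zero, one_mul] at this

/-- Every element of order four is conjugate to `q` or to `a`. -/
theorem four_classes {t : G} (ht : orderOf t = 4) : IsConj (q d) t ∨ IsConj (a d) t := by
  obtain ⟨g, hg⟩ := exists_conj_mem S (k := 2) (a := t) (by rw [ht]; norm_num)
  have hc : IsConj (g * t * g⁻¹) t := (isConj_iff.mpr ⟨g, rfl⟩).symm
  set v : (S : Subgroup G) := ⟨g * t * g⁻¹, hg⟩ with hv
  have hvo : orderOf v = 4 := by
    rw [← Subgroup.orderOf_coe, hv]; show orderOf (g * t * g⁻¹) = 4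
    rw [← MulAut.conj_apply, MulEquiv.orderOf_eq, ht]
  rcases order_four_classes d v hvo with h | h
  · exact Or.inl ((MonoidHom.map_isConj (S : Subgroup G).subtype h).trans hc)
  · exact Or.inr ((MonoidHom.map_isConj (S : Subgroup G).subtype h).trans hc)

/-- Every four-subgroup of `S` has automizer of order six. -/
def FourFull : Prop :=
  ∀ E : Subgroup G, IsKleinFour E → E ≤ (S : Subgroup G) →
    3 ∣ (Subgroup.centralizer (E : Set G)).relIndex (Subgroup.normalizer (E : Set G))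

/-- Every quaternion subgroup of order eight of `S` has automizer modulo inner ones of order six. -/
def QuatFull : Prop :=
  ∀ E : Subgroup G, Nonempty (E ≃* QuaternionGroup 2) → E ≤ (S : Subgroup G) →
    3 ∣ (E ⊔ Subgroup.centralizer (E : Set G)).relIndex (Subgroup.normalizer (E : Set G))

/-- No four-subgroup of `S` has an automizer of odd order. -/
def FourTrivial : Prop := ∀ E : Subgroup G, IsKleinFour E → E ≤ (S : Subgroup G) → OddTrivial E

/-- No quaternion subgroup of order eight of `S` has an automizer of odd order. -/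
def QuatTrivial : Prop :=
  ∀ E : Subgroup G, Nonempty (E ≃* QuaternionGroup 2) → E ≤ (S : Subgroup G) → OddTrivial E

theorem z_conj_y (h : FourFull S) : IsConj (d.z : G) (d.y : G) := by
  have hz : (d.z : (S : Subgroup G)) ∈ d.four 0 := (d.mem_four 0 _).mpr (Or.inr (Or.inl rfl))
  have hy : d.y ∈ d.four 0 := (d.mem_four 0 _).mpr (Or.inr (Or.inr (Or.inl (by simp))))
  have hU := map_klein (four_klein d 0 (dvd_zero 2))
  obtain ⟨w, -, hw, -⟩ := klein_transitive hU (h _ hU (Subgroup.map_subtype_le _))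
    (a := (d.z : G)) (b := (d.y : G)) ⟨_, hz, rfl⟩ ⟨_, hy, rfl⟩
    (fun e => by have := order_z d; rw [e, orderOf_one] at this; omega)
    (fun e => by have := order_y d; rw [e, orderOf_one] at this; omega)
  exact isConj_iff.mpr ⟨w, hw⟩

theorem q_conj_a (h : QuatFull S) : IsConj (q d) (a d) := by
  obtain ⟨e⟩ := d.quat_equiv 1 (by norm_num)
  have e' : (d.quat 1).map (S : Subgroup G).subtype ≃* QuaternionGroup 2 :=
    ((d.quat 1).equivMapOfInjective _ (S : Subgroup G).subtype_injective).symm.trans e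
  have hq : d.x ^ (2 * d.r) ∈ d.quat 1 := Subgroup.subset_closure (by simp)
  have ha : d.x ^ (1 : ℤ) * d.y ∈ d.quat 1 := Subgroup.subset_closure (by simp)
  obtain ⟨w, -, hw, -⟩ := quat_transitive e' (h _ ⟨e'⟩ (Subgroup.map_subtype_le _))
    (a := q d) (b := a d) ⟨_, hq, rfl⟩ ⟨_, ha, rfl⟩ (order_q d) (order_a d)
  rcases hw with hw | hw
  · exact isConj_iff.mpr ⟨w, hw⟩
  · refine (isConj_iff.mpr ⟨w, hw⟩ : IsConj (q d) (a d)⁻¹).trans ?_
    have h1 : IsConj ((d.x ^ (1 : ℤ) * d.y)⁻¹) (d.x ^ (1 : ℤ) * d.y) :=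
      isConj_iff.mpr ⟨d.x ^ (2 * d.r), by
        rw [mul_inv_rev, d.inv_y, ← zpow_neg, d.swap, d.conj_x_form, d.form_eq_iff]
        exact ⟨-d.r, by ring⟩⟩
    exact MonoidHom.map_isConj (S : Subgroup G).subtype h1

theorem z_fixed (h : FourTrivial S) {g : G} (hg : g * (d.z : G) * g⁻¹ ∈ (S : Subgroup G)) :
    g * (d.z : G) * g⁻¹ = d.z := by
  have hl := label_elem S (fun v => v = (d.z : G)) (fun s hs v _ => propext ?_) (fun E hE => ?_)
    (a := (d.z : G)) (g := g) d.z.2 hg
  · exact of_eq_true (hl.trans (eq_self _))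
  · have hz : s * (d.z : G) * s⁻¹ = d.z := by
      rw [mul_inv_eq_iff_eq_mul]; exact congrArg Subtype.val (d.z_central ⟨s, hs⟩)
    refine ⟨fun e => ?_, fun e => by rw [e, hz]⟩
    rw [← hz] at e; exact mul_left_cancel (mul_right_cancel e)
  · rcases (qd_cycMax d S.isPGroup').oddTrivial hE with h0 | h0 | h0
    · exact Or.inl h0
    · exact Or.inl (h E h0 hE)
    · refine Or.inr fun x hx v hv => propext ?_
      obtain ⟨e⟩ := h0
      obtain ⟨g', h', dd⟩ := exists_gens e
      have hzE := (map_quat_le d e hE).2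
      have huniq : ∀ w ∈ E, w * w = 1 → w ≠ 1 → w = g' * g' := by
        intro w hw h1 h2
        rcases dd.forms w hw with r | r | r | r | r | r | r | r
        · exact absurd r h2
        · exact r
        all_goals
          exfalso
          have h4 : orderOf w = 4 := by
            rw [r]; first | exact dd.og | exact dd.oh | exact dd.ogh | rw [orderOf_inv, dd.og] |
              rw [orderOf_inv, dd.oh] | rw [orderOf_inv, dd.ogh]
          have := orderOf_dvd_of_pow_eq_one (x := w) (n := 2) (by rw [pow_two, h1])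
          rw [h4] at this
          omega
      have hz2 : (d.z : G) * d.z = 1 := congrArg Subtype.val d.zz
      have hz1 : (d.z : G) ≠ 1 := fun e => by have := order_z d; rw [e, orderOf_one] at this; omega
      have key : ∀ y ∈ Subgroup.normalizer (E : Set G), y * (d.z : G) * y⁻¹ = d.z := by
        intro y hy
        rw [huniq _ ((Subgroup.mem_normalizer_iff.mp hy _).mp hzE)
          (by rw [show y * (d.z : G) * y⁻¹ * (y * d.z * y⁻¹) = y * (d.z * d.z) * y⁻¹ by group, hz2]; group)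
          (by rw [ne_eq, conj_eq_one_iff]; exact hz1), huniq _ hzE hz2 hz1]
      refine ⟨fun e' => ?_, fun e' => by rw [e', key x hx]⟩
      rw [← key x hx] at e'; exact mul_left_cancel (mul_right_cancel e')

theorem z_not_conj_y (h : FourTrivial S) : ¬ IsConj (d.z : G) (d.y : G) := by
  intro hc
  obtain ⟨g, hg⟩ := isConj_iff.mp hc
  have h1 := z_fixed S d h (hg.symm ▸ d.y.2)
  rw [hg] at h1
  exact d.ne_form (4 * d.r) 0 (by rw [zpow_zero, one_mul]; exact (Subtype.ext h1).symm)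

include d in
theorem center_weaklyClosed (h : FourTrivial S) :
    Cfsg.IsWeaklyClosed ((Subgroup.center (S : Subgroup G)).map (S : Subgroup G).subtype)
      (S : Subgroup G) := by
  refine ⟨Subgroup.map_subtype_le _, fun g hg => ?_⟩
  rw [d.center_eq, MonoidHom.map_zpowers, MonoidHom.map_zpowers] at hg ⊢
  have h1 := z_fixed S d h (hg (Subgroup.mem_zpowers _))
  show Subgroup.zpowers (g * (d.z : G) * g⁻¹) = _
  rw [h1]; rfl

theorem q_not_conj_a (h : QuatTrivial S) : ¬ IsConj (q d) (a d) := by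
  intro hc
  obtain ⟨g, hg⟩ := isConj_iff.mp hc
  let X : Subgroup G := (Subgroup.zpowers d.x).map (S : Subgroup G).subtype
  have hX : ∀ s ∈ (S : Subgroup G), ∀ v ∈ X, s * v * s⁻¹ ∈ X := by
    rintro s hs _ ⟨v, hv, rfl⟩
    haveI := Subgroup.normal_of_index_eq_two d.index_zpowers
    exact ⟨_, (inferInstance : (Subgroup.zpowers d.x).Normal).conj_mem v hv ⟨s, hs⟩, rfl⟩
  have hsq : ∀ s v : G, s * v * s⁻¹ * (s * v * s⁻¹) = 1 ↔ v * v = 1 := fun s v => by
    rw [show s * v * s⁻¹ * (s * v * s⁻¹) = s * (v * v) * s⁻¹ by group, conj_eq_one_iff]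
  have hl := label_elem S (fun v => v ∈ X ∧ v * v ≠ 1) (fun s hs v _ => propext ?_) (fun E hE => ?_)
    (a := q d) (g := g) (d.x ^ (2 * d.r)).2 (hg.symm ▸ (d.x ^ (1 : ℤ) * d.y).2)
  · rw [hg] at hl
    have h1 : q d ∈ X ∧ q d * q d ≠ 1 := by
      refine ⟨⟨_, zpow_mem (Subgroup.mem_zpowers d.x) _, rfl⟩, fun e => ?_⟩
      have := orderOf_dvd_of_pow_eq_one (x := q d) (n := 2) (by rw [pow_two, e])
      rw [order_q d] at this; omega
    obtain ⟨⟨v, ⟨k, hk⟩, hv⟩, -⟩ := hl.symm ▸ h1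
    exact d.ne_form k 1 ((show d.x ^ k = v from hk).trans (Subtype.ext hv))
  · refine ⟨fun ⟨h1, h2⟩ => ⟨?_, fun e => h2 ((hsq s v).mpr e)⟩,
      fun ⟨h1, h2⟩ => ⟨hX s hs v h1, fun e => h2 ((hsq s v).mp e)⟩⟩
    have := hX s⁻¹ (inv_mem hs) _ h1
    rwa [show s⁻¹ * (s * v * s⁻¹) * s⁻¹⁻¹ = v by group] at this
  · rcases (qd_cycMax d S.isPGroup').oddTrivial hE with h0 | h0 | h0
    · exact Or.inl h0
    · refine Or.inr fun x hx v hv => propext (iff_of_false (fun h' => h'.2 ((hsq x v).mpr ?_)) fun h' => h'.2 ?_)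
      all_goals exact congrArg Subtype.val (IsKleinFour.mul_self (⟨v, hv⟩ : E))
    · exact Or.inl (h E h0 hE)

include d in
theorem card_invol_classes_one (h : FourFull S) :
    Nat.card {C : ConjClasses G // ∃ t : G, orderOf t = 2 ∧ ConjClasses.mk t = C} = 1 := by
  refine (TwoLift.card_classes (ι := Unit) (fun _ => (d.z : G)) (fun _ => order_z d) (fun _ _ _ => rfl)
    fun t ht => ⟨(), ?_⟩).trans (by simp)
  rcases invol_classes S d ht with e | e
  · exact e
  · exact (z_conj_y S d h).trans e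

include d in
theorem card_invol_classes_two (h : FourTrivial S) :
    Nat.card {C : ConjClasses G // ∃ t : G, orderOf t = 2 ∧ ConjClasses.mk t = C} = 2 := by
  refine (TwoLift.card_classes (ι := Bool) (fun b => bif b then (d.z : G) else (d.y : G))
    (by rintro (_ | _); exacts [order_y d, order_z d]) ?_ fun t ht => ?_).trans (by simp)
  · rintro (_ | _) (_ | _) e
    · rfl
    · exact absurd e.symm (z_not_conj_y S d h)
    · exact absurd e (z_not_conj_y S d h)
    · rfl
  · rcases invol_classes S d ht with e | e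
    · exact ⟨true, e⟩
    · exact ⟨false, e⟩

include d in
theorem card_four_classes_one (h : QuatFull S) :
    Nat.card {C : ConjClasses G // ∃ t : G, orderOf t = 4 ∧ ConjClasses.mk t = C} = 1 := by
  refine (TwoLift.card_classes (ι := Unit) (fun _ => q d) (fun _ => order_q d) (fun _ _ _ => rfl)
    fun t ht => ⟨(), ?_⟩).trans (by simp)
  rcases four_classes S d ht with e | e
  · exact e
  · exact (q_conj_a S d h).trans e

include d in
theorem card_four_classes_two (h : QuatTrivial S) :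
    Nat.card {C : ConjClasses G // ∃ t : G, orderOf t = 4 ∧ ConjClasses.mk t = C} = 2 := by
  refine (TwoLift.card_classes (ι := Bool) (fun b => bif b then q d else a d)
    (by rintro (_ | _); exacts [order_a d, order_q d]) ?_ fun t ht => ?_).trans (by simp)
  · rintro (_ | _) (_ | _) e
    · rfl
    · exact absurd e.symm (q_not_conj_a S d h)
    · exact absurd e (q_not_conj_a S d h)
    · rfl
  · rcases four_classes S d ht with e | e
    · exact ⟨true, e⟩
    · exact ⟨false, e⟩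

include d in
theorem no_index_two (h1 : FourFull S) (h2 : QuatFull S) (H : Subgroup G) : H.index ≠ 2 := by
  intro hH
  haveI := Subgroup.normal_of_index_eq_two hH
  have hz : (d.z : G) ∈ H := by
    have e : (d.z : G) = q d * q d := by
      rw [q, ← Subgroup.coe_mul, d.pp, QD.Pres.z]; ring_nf
    rw [e]; exact Subgroup.mul_self_mem_of_index_two hH _
  obtain ⟨c, hc⟩ := isConj_iff.mp (z_conj_y S d h1)
  have hy : (d.y : G) ∈ H := hc ▸ (inferInstance : H.Normal).conj_mem _ hz c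
  have hq : q d ∈ H := by
    rw [q, show 2 * d.r = d.r + d.r by ring, ← d.pp, Subgroup.coe_mul]
    exact Subgroup.mul_self_mem_of_index_two hH _
  obtain ⟨c', hc'⟩ := isConj_iff.mp (q_conj_a S d h2)
  have ha : a d ∈ H := hc' ▸ (inferInstance : H.Normal).conj_mem _ hq c'
  have hx : (d.x : G) ∈ H := by
    rw [a, Subgroup.coe_mul, zpow_one] at ha
    exact (H.mul_mem_cancel_right hy).mp ha
  refine not_le_of_index_two S hH fun v hv => ?_
  rcases d.cases ⟨v, hv⟩ with ⟨i, hi⟩ | ⟨i, hi⟩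
  · rw [show v = ((d.x ^ i : (S : Subgroup G)) : G) from congrArg Subtype.val hi, Subgroup.coe_zpow]
    exact zpow_mem hx i
  · rw [show v = ((d.x ^ i * d.y : (S : Subgroup G)) : G) from congrArg Subtype.val hi, Subgroup.coe_mul,
      Subgroup.coe_zpow]
    exact mul_mem (zpow_mem hx i) hy

include d in
theorem has_complement (h1 : FourTrivial S) (h2 : QuatTrivial S) : Cfsg.HasNormalPComplement 2 G :=
  hasNormalPComplement_of_oddTrivial S fun E hE => by
    rcases (qd_cycMax d S.isPGroup').oddTrivial hE with h0 | h0 | h0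
    exacts [h0, h1 E h0 hE, h2 E h0 hE]

include d in
/-- A fusion invariant maximal subgroup gives a normal subgroup of index two with that Sylow. -/
theorem exists_K (M : Subgroup (S : Subgroup G)) (hM : M.index = 2)
    (h : ∀ E : Subgroup G, E ≤ (S : Subgroup G) → (IsKleinFour E ∨ Nonempty (E ≃* QuaternionGroup 2)) →
      OddTrivial E ∨ E ≤ M.map (S : Subgroup G).subtype) :
    ∃ K : Subgroup G, K.Normal ∧ K.index = 2 ∧ M.map (S : Subgroup G).subtype ≤ K ∧
      ∀ P : Sylow 2 K, Nonempty ((P : Subgroup K) ≃* M) ∧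
        ((M.map (S : Subgroup G).subtype).subgroupOf K).index = (P : Subgroup K).index := by
  haveI : Fact (Nat.Prime 2) := ⟨Nat.prime_two⟩
  set M' := M.map (S : Subgroup G).subtype with hM'
  have hle : M' ≤ (S : Subgroup G) := Subgroup.map_subtype_le _
  have hidx : M'.relIndex (S : Subgroup G) = 2 := by
    rw [Subgroup.relIndex, hM', Subgroup.subgroupOf, Subgroup.comap_map_eq_self_of_injective
      (S : Subgroup G).subtype_injective, hM]
  obtain ⟨K, hKn, hK2, hKS⟩ := exists_index_two S hle hidx fun v g hv hgv => by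
    refine iff_of_eq (label_elem S (fun v => v ∈ M')
      (fun s hs v hv => propext (conj_mem_iff_of_index_two hidx hs hv)) (fun E hE => ?_) hv hgv)
    rcases (qd_cycMax d S.isPGroup').oddTrivial hE with h0 | h0
    · exact Or.inl h0
    · refine (h E hE h0).imp id fun hle x hx v hv => propext (iff_of_true ?_ (hle hv))
      exact hle ((Subgroup.mem_normalizer_iff.mp hx v).mp hv)
  have hMK : M' ≤ K := hKS ▸ inf_le_left
  refine ⟨K, hKn, hK2, hMK, fun P => ?_⟩
  have hp : IsPGroup 2 (M'.subgroupOf K) := (S.isPGroup'.to_le hle).comap_subtype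
  have hi : (M'.subgroupOf K).index = (S : Subgroup G).index := by
    have h1 := (M'.subgroupOf K).card_mul_index
    rw [Nat.card_congr (Subgroup.subgroupOfEquivOfLe hMK).toEquiv] at h1
    have h2 := K.card_mul_index
    have h3 := (S : Subgroup G).card_mul_index
    have h4 := M.card_mul_index
    rw [hM] at h4
    rw [hK2] at h2
    have h5 : Nat.card M' = Nat.card M := Subgroup.card_map_of_injective (S : Subgroup G).subtype_injective
    rw [h5] at h1
    rw [← h4, ← h2, ← h1, mul_assoc, mul_assoc, mul_comm 2] at h3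
    have h6 := Nat.eq_of_mul_eq_mul_left (Nat.card_pos) h3
    exact (Nat.eq_of_mul_eq_mul_right two_pos h6).symm
  set R : Sylow 2 K := hp.toSylow (hi ▸ S.not_dvd_index) with hR
  have hRcoe : (R : Subgroup K) = M'.subgroupOf K := rfl
  refine ⟨⟨(P.equiv R).trans ((MulEquiv.subgroupCongr hRcoe).trans
    ((Subgroup.subgroupOfEquivOfLe hMK).trans
      (M.equivMapOfInjective _ (S : Subgroup G).subtype_injective).symm))⟩, ?_⟩
  have h1 := (M'.subgroupOf K).card_mul_index
  have h2 := (P : Subgroup K).card_mul_index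
  rw [← hRcoe, ← Nat.card_congr (P.equiv R).toEquiv, ← h2] at h1
  rw [← hRcoe]
  exact Nat.eq_of_mul_eq_mul_left Nat.card_pos h1

theorem no_index_two_sub {M' K : Subgroup G} (hi : ¬ 2 ∣ (M'.subgroupOf K).index)
    (hgen : ∀ L : Subgroup G,
      (∀ a b : G, a ∈ K → b ∈ K → a ∉ L → b ∉ L → a * b ∈ L) →
      (∀ w ∈ K, ∀ v ∈ L, w * v * w⁻¹ ∈ L) → M' ≤ L) (H : Subgroup K) : H.index ≠ 2 := by
  intro hH
  haveI := Subgroup.normal_of_index_eq_two hH
  have hle := hgen (H.map K.subtype) ?_ ?_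
  · refine hi (hH ▸ Subgroup.index_dvd_of_le fun v hv => ?_)
    obtain ⟨u, hu, huv⟩ := hle hv
    rwa [← Subtype.ext huv]
  · intro a b ha hb hna hnb
    refine ⟨⟨a, ha⟩ * ⟨b, hb⟩, ?_, rfl⟩
    exact (Subgroup.mul_mem_iff_of_index_two hH).mpr
      (iff_of_false (fun h => hna ⟨_, h, rfl⟩) (fun h => hnb ⟨_, h, rfl⟩))
  · rintro w hw _ ⟨v, hv, rfl⟩
    exact ⟨_, (inferInstance : H.Normal).conj_mem v hv ⟨w, hw⟩, rfl⟩

include d in
theorem dihedral_K (h1 : FourFull S) (h2 : QuatTrivial S) :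
    ∃ K : Subgroup G, K.Normal ∧ K.index = 2 ∧
      (∀ P : Sylow 2 K, Nonempty ((P : Subgroup K) ≃* DihedralGroup (2 ^ (d.p + 2)))) ∧
      ∀ H : Subgroup K, H.index ≠ 2 := by
  haveI : Fact (Nat.Prime 2) := ⟨Nat.prime_two⟩
  obtain ⟨K, hKn, hK2, hMK, hP⟩ := exists_K S d d.maxD (d.index_of_card d.card_maxD) fun E hE h =>
    h.elim (fun h => Or.inr (map_four_le d h hE)) (fun h => Or.inl (h2 E h hE))
  refine ⟨K, hKn, hK2, fun P => ?_, ?_⟩
  · obtain ⟨e⟩ := (hP P).1
    obtain ⟨f⟩ := d.maxD_equiv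
    exact ⟨e.trans f⟩
  obtain ⟨P⟩ : Nonempty (Sylow 2 K) := inferInstance
  refine no_index_two_sub (by rw [(hP P).2]; exact P.not_dvd_index) fun L hmul hconj => ?_
  have hkey : ∀ i : ℤ, 2 ∣ i → ((d.x ^ i * d.y : (S : Subgroup G)) : G) ∈ L := by
    intro i hi
    set U := (d.four i).map (S : Subgroup G).subtype with hUdef
    have hU : IsKleinFour U := map_klein (four_klein d i hi)
    have hUS : U ≤ (S : Subgroup G) := Subgroup.map_subtype_le _
    have hUK : U ≤ K := (map_four_le d hU hUS).trans hMK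
    have hu : ((d.x ^ i * d.y : (S : Subgroup G)) : G) ∈ U :=
      ⟨_, (d.mem_four i _).mpr (Or.inr (Or.inr (Or.inl rfl))), rfl⟩
    have hz : (d.z : G) ∈ U := ⟨_, (d.mem_four i _).mpr (Or.inr (Or.inl rfl)), rfl⟩
    have hu1 : ((d.x ^ i * d.y : (S : Subgroup G)) : G) ≠ 1 := fun e =>
      d.ne_form 0 i (by rw [zpow_zero]; exact (Subtype.ext e).symm)
    have hz1 : (d.z : G) ≠ 1 := fun e => d.z_ne_one (Subtype.ext e)
    obtain ⟨c, hcU, hc1, hcL⟩ : ∃ c ∈ U, c ≠ 1 ∧ c ∈ L := by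
      by_cases hzL : (d.z : G) ∈ L
      · exact ⟨_, hz, hz1, hzL⟩
      by_cases huL : ((d.x ^ i * d.y : (S : Subgroup G)) : G) ∈ L
      · exact ⟨_, hu, hu1, huL⟩
      refine ⟨_, mul_mem hz hu, ?_, hmul _ _ (hUK hz) (hUK hu) hzL huL⟩
      intro e
      refine d.ne_form (4 * d.r) i ?_
      have e' : d.z * (d.x ^ i * d.y) = 1 := Subtype.ext e
      rw [← inv_eq_of_mul_eq_one_right e', inv_eq_of_mul_eq_one_right d.zz]
      rfl
    obtain ⟨w, -, hw, hwK⟩ := klein_transitive hU (h1 U hU hUS) hcU hu hc1 hu1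
    exact hw ▸ hconj w (hwK K hK2) c hcL
  rw [QD.Pres.maxD, MonoidHom.map_closure, Subgroup.closure_le]
  rintro _ ⟨v, hv, rfl⟩
  have h0 := hkey 0 (dvd_zero 2)
  rw [zpow_zero, one_mul] at h0
  rcases hv with rfl | rfl
  · have h2' := mul_mem (hkey 2 dvd_rfl) h0
    rwa [← Subgroup.coe_mul, mul_assoc, d.yy, mul_one] at h2'
  · exact h0

include d in
theorem quaternion_K (h1 : FourTrivial S) (h2 : QuatFull S) :
    ∃ K : Subgroup G, K.Normal ∧ K.index = 2 ∧
      (∀ P : Sylow 2 K, Nonempty ((P : Subgroup K) ≃* QuaternionGroup (2 ^ (d.p + 1)))) ∧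
      ∀ H : Subgroup K, H.index ≠ 2 := by
  haveI : Fact (Nat.Prime 2) := ⟨Nat.prime_two⟩
  obtain ⟨K, hKn, hK2, hMK, hP⟩ := exists_K S d d.maxQ (d.index_of_card d.card_maxQ) fun E hE h =>
    h.elim (fun h => Or.inl (h1 E h hE)) (fun ⟨h⟩ => Or.inr (map_quat_le d h hE).1)
  refine ⟨K, hKn, hK2, fun P => ?_, ?_⟩
  · obtain ⟨e⟩ := (hP P).1
    obtain ⟨f⟩ := d.maxQ_equiv
    exact ⟨e.trans f⟩
  obtain ⟨P⟩ : Nonempty (Sylow 2 K) := inferInstance
  refine no_index_two_sub (by rw [(hP P).2]; exact P.not_dvd_index) fun L hmul hconj => ?_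
  have hkey : ∀ i : ℤ, ¬ 2 ∣ i → ((d.x ^ i * d.y : (S : Subgroup G)) : G) ∈ L ∧ q d ∈ L := by
    intro i hi
    obtain ⟨e⟩ := d.quat_equiv i hi
    set E := (d.quat i).map (S : Subgroup G).subtype with hEdef
    have e' : E ≃* QuaternionGroup 2 :=
      ((d.quat i).equivMapOfInjective _ (S : Subgroup G).subtype_injective).symm.trans e
    have hES : E ≤ (S : Subgroup G) := Subgroup.map_subtype_le _
    have hEK : E ≤ K := (map_quat_le d e' hES).1.trans hMK
    obtain ⟨g, h, dd⟩ := exists_gens e'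
    obtain ⟨c, hcE, hc4, hcL⟩ : ∃ c ∈ E, orderOf c = 4 ∧ c ∈ L := by
      by_cases hgL : g ∈ L
      · exact ⟨g, dd.hg, dd.og, hgL⟩
      by_cases hhL : h ∈ L
      · exact ⟨h, dd.hh, dd.oh, hhL⟩
      exact ⟨g * h, mul_mem dd.hg dd.hh, dd.ogh, hmul g h (hEK dd.hg) (hEK dd.hh) hgL hhL⟩
    have hall : ∀ b ∈ E, orderOf b = 4 → b ∈ L := by
      intro b hb hb4
      obtain ⟨w, -, hw, hwK⟩ := quat_transitive e' (h2 E ⟨e'⟩ hES) hcE hb hc4 hb4
      have := hconj w (hwK K hK2) c hcL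
      rcases hw with hw | hw <;> rw [hw] at this
      · exact this
      · exact inv_mem_iff.mp this
    have hxi : d.x ^ i * d.y ∈ d.quat i := Subgroup.subset_closure (by simp)
    have hqi : d.x ^ (2 * d.r) ∈ d.quat i := Subgroup.subset_closure (by simp)
    refine ⟨hall _ ⟨_, hxi, rfl⟩ ?_, hall _ ⟨_, hqi, rfl⟩ (order_q d)⟩
    rw [Subgroup.orderOf_coe]
    refine orderOf_eq_prime_pow (p := 2) (n := 1) (hp := ⟨Nat.prime_two⟩) ?_ ?_
    · rw [pow_one, pow_two, d.form_sq_eq_one_iff]; exact hi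
    · rw [show 2 ^ (1 + 1) = 2 * 2 from rfl, pow_mul, pow_two, pow_two, d.form_sq, d.pp, d.zpow_eq_one_iff]
      exact ⟨i, by ring⟩
  obtain ⟨ha1, hq⟩ := hkey 1 (by norm_num)
  obtain ⟨ha3, -⟩ := hkey 3 (by norm_num)
  rw [QD.Pres.maxQ, MonoidHom.map_closure, Subgroup.closure_le]
  rintro _ ⟨v, hv, rfl⟩
  rcases hv with rfl | rfl
  · have h4 := mul_mem (mul_mem ha3 ha1) (mul_mem hq hq)
    rw [q, ← Subgroup.coe_mul, ← Subgroup.coe_mul, ← Subgroup.coe_mul, d.qq, d.pp, d.pp] at h4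
    have e : d.x ^ (3 + (4 * d.r - 1) * 1 + (2 * d.r + 2 * d.r)) = d.x ^ (2 : ℤ) := by
      rw [d.zpow_eq_iff]; exact ⟨1, by ring⟩
    rwa [e] at h4
  · rw [zpow_one] at ha1; exact ha1

include d in
theorem fourFull {T : Subgroup G} (hT : IsKleinFour T) (hTS : T ≤ (S : Subgroup G))
    (h : (Subgroup.centralizer (T : Set G)).relIndex (Subgroup.normalizer (T : Set G)) = 6) :
    FourFull S := fun E hE hES => by rw [klein_relIndex d hT hE hTS hES, h]; norm_num

include d in
theorem fourTrivial {T : Subgroup G} (hT : IsKleinFour T) (hTS : T ≤ (S : Subgroup G))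
    (h : (Subgroup.centralizer (T : Set G)).relIndex (Subgroup.normalizer (T : Set G)) = 2) :
    FourTrivial S := fun E hE hES => klein_oddTrivial (by rw [klein_relIndex d hT hE hTS hES, h])

include d in
theorem quatFull {Q : Subgroup G} (hQS : Q ≤ (S : Subgroup G)) (eQ : Q ≃* QuaternionGroup 2)
    (h : (Q ⊔ Subgroup.centralizer (Q : Set G)).relIndex (Subgroup.normalizer (Q : Set G)) = 6) :
    QuatFull S := fun E ⟨eE⟩ hES => by rw [quat_relIndex d eQ eE hQS hES, h]; norm_num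

include d in
theorem quatTrivial {Q : Subgroup G} (hQS : Q ≤ (S : Subgroup G)) (eQ : Q ≃* QuaternionGroup 2)
    (h : (Q ⊔ Subgroup.centralizer (Q : Set G)).relIndex (Subgroup.normalizer (Q : Set G)) = 2) :
    QuatTrivial S := fun E ⟨eE⟩ hES => quat_oddTrivial eE (by rw [quat_relIndex d eQ eE hQS hES, h])

end fusion

end Cfsg.Agent.QDFus
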