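import Cfsg.Agent.Lib.TwoGroups.HaradaMain

/-!
An extraspecial group of order 32 of plus type with small centralizer contains a self-centralizing
elementary abelian subgroup of order eight.
-/

set_option autoImplicit false
set_option linter.style.haveILetI false

namespace Cfsg.Agent.CentralQuat

open Cfsg.Agent.SquareGen

variable {S : Type*} [Group S]

/-- Generators of an extraspecial group of order 32 as two transversal elementary abelian halves. -/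
structure Halves (z a₁ a₂ b₁ b₂ : S) : Prop where
  zz : z * z = 1
  z1 : z ≠ 1
  za₁ : Commute z a₁
  za₂ : Commute z a₂
  zb₁ : Commute z b₁
  zb₂ : Commute z b₂
  sa₁ : a₁ * a₁ = 1
  sa₂ : a₂ * a₂ = 1
  sb₁ : b₁ * b₁ = 1
  sb₂ : b₂ * b₂ = 1
  aa : Commute a₁ a₂
  bb : Commute b₁ b₂
  ab₁ : b₁ * a₁ = z * (a₁ * b₁)
  ab₂ : b₂ * a₂ = z * (a₂ * b₂)
  c12 : Commute a₁ b₂
  c21 : Commute a₂ b₁

theorem Halves.swap {z a₁ a₂ b₁ b₂ : S} (h : Halves z a₁ a₂ b₁ b₂) : Halves z b₁ b₂ a₁ a₂ where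
  zz := h.zz
  z1 := h.z1
  za₁ := h.zb₁
  za₂ := h.zb₂
  zb₁ := h.za₁
  zb₂ := h.za₂
  sa₁ := h.sb₁
  sa₂ := h.sb₂
  sb₁ := h.sa₁
  sb₂ := h.sa₂
  aa := h.bb
  bb := h.aa
  ab₁ := by rw [h.ab₁, ← mul_assoc, h.zz, one_mul]
  ab₂ := by rw [h.ab₂, ← mul_assoc, h.zz, one_mul]
  c12 := h.c21.symm
  c21 := h.c12.symm

/-- The elementary abelian half. -/
def half (z a₁ a₂ : S) : Subgroup S := Subgroup.closure {z, a₁, a₂}

theorem mem_half (z a₁ a₂ : S) : z ∈ half z a₁ a₂ ∧ a₁ ∈ half z a₁ a₂ ∧ a₂ ∈ half z a₁ a₂ :=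
  ⟨Subgroup.subset_closure (by simp), Subgroup.subset_closure (by simp), Subgroup.subset_closure (by simp)⟩

/-- Cancelling a commuting left factor. -/
theorem commute_strip {y c d : S} (h : Commute y (c * d)) (hc : Commute y c) : Commute y d := by
  have := hc.inv_right.mul_right h
  rwa [inv_mul_cancel_left] at this

/-- The displacement commutes with the fixed elements. -/
theorem displacement {x a b e : S} (hxe : Commute x e) (hxa : Commute x a) (hba : b * a = e * (a * b))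
    (heb : Commute e b) : Commute (b⁻¹ * (x * b * x⁻¹)) a := by
  have e1 : x * b * x⁻¹ * a = e * (a * (x * b * x⁻¹)) := by
    have e2 : x * (b * a) * x⁻¹ = x * (e * (a * b)) * x⁻¹ := by rw [hba]
    rw [show x * (b * a) * x⁻¹ = x * b * x⁻¹ * (x * a * x⁻¹) by group,
      show x * (e * (a * b)) * x⁻¹ = (x * e * x⁻¹) * ((x * a * x⁻¹) * (x * b * x⁻¹)) by group, hxa.eq, hxe.eq,
      mul_inv_cancel_right, mul_inv_cancel_right] at e2
    exact e2
  show _ = _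
  have e3 : b⁻¹ * e * a = a * b⁻¹ := by
    rw [← mul_left_cancel_iff (a := b), ← mul_assoc b (b⁻¹ * e) a, mul_inv_cancel_left, ← mul_assoc b a, hba,
      mul_assoc e (a * b), mul_inv_cancel_right]
  rw [mul_assoc b⁻¹ _ a, e1, ← mul_assoc b⁻¹ e, ← mul_assoc (b⁻¹ * e) a, e3, mul_assoc a]

/-- Conjugation by a power of an involution. -/
theorem conj_pow_eq {z a b : S} (hba : b * a = z * (a * b)) (hza : Commute z a) (hzb : Commute z b)
    (haa : a * a = 1) (u : Fin 2) : a ^ (u : ℕ) * b * (a ^ (u : ℕ))⁻¹ = b * z ^ (u : ℕ) := by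
  fin_cases u
  · simp
  · simp only [Fin.mk_one, Fin.val_one, pow_one, inv_eq_of_mul_eq_one_right haa]
    rw [mul_assoc, hba, ← mul_assoc a, ← hza.eq, mul_assoc z a, ← mul_assoc a a, haa, one_mul, hzb.eq]

namespace Halves

variable {z a₁ a₂ b₁ b₂ : S} (h : Halves z a₁ a₂ b₁ b₂)

include h

theorem z_mem_center {w : S} (hw : w ∈ half z a₁ a₂) : Commute z w := by
  have hle : half z a₁ a₂ ≤ Subgroup.centralizer ({z} : Set S) := by
    rw [half, Subgroup.closure_le]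
    rintro x (rfl | rfl | rfl) <;> rw [SetLike.mem_coe, Subgroup.mem_centralizer_singleton_iff]
    exacts [h.za₁.symm.eq, h.za₂.symm.eq]
  exact (Subgroup.mem_centralizer_singleton_iff.1 (hle hw)).symm

theorem form {w : S} (hw : w ∈ half z a₁ a₂) :
    ∃ i j k : Fin 2, w = z ^ (i : ℕ) * a₁ ^ (j : ℕ) * a₂ ^ (k : ℕ) := by
  induction hw using Subgroup.closure_induction with
  | mem x hx =>
    rcases hx with rfl | rfl | rfl
    exacts [⟨1, 0, 0, by simp⟩, ⟨0, 1, 0, by simp⟩, ⟨0, 0, 1, by simp⟩]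
  | one => exact ⟨0, 0, 0, by simp⟩
  | mul x y _ _ hx hy =>
    obtain ⟨i, j, k, rfl⟩ := hx
    obtain ⟨i', j', k', rfl⟩ := hy
    refine ⟨i + i', j + j', k + k', ?_⟩
    have e : ∀ (g : S), g * g = 1 → ∀ u v : Fin 2, g ^ (u : ℕ) * g ^ (v : ℕ) = g ^ ((u + v : Fin 2) : ℕ) := by
      intro g hg u v
      fin_cases u <;> fin_cases v <;> simp [hg]
    rw [← e z h.zz, ← e a₁ h.sa₁, ← e a₂ h.sa₂]
    have c1 : Commute (a₁ ^ (j : ℕ) * a₂ ^ (k : ℕ)) (z ^ (i' : ℕ)) :=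
      ((h.za₁.symm.pow_pow _ _).mul_left (h.za₂.symm.pow_pow _ _))
    have c2 : Commute (a₂ ^ (k : ℕ)) (a₁ ^ (j' : ℕ)) := h.aa.symm.pow_pow _ _
    rw [mul_assoc (z ^ (i : ℕ)), mul_assoc (z ^ (i' : ℕ)), c1.mul_mul_mul_comm, c2.mul_mul_mul_comm]
    group
  | inv x _ hx =>
    obtain ⟨i, j, k, rfl⟩ := hx
    refine ⟨i, j, k, ?_⟩
    have e : ∀ (g : S), g * g = 1 → ∀ u : Fin 2, (g ^ (u : ℕ))⁻¹ = g ^ (u : ℕ) := by
      intro g hg u
      rw [← inv_pow, inv_eq_of_mul_eq_one_right hg]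
    rw [mul_inv_rev, mul_inv_rev, e z h.zz, e a₁ h.sa₁, e a₂ h.sa₂]
    exact (((h.za₁.pow_pow _ _).mul_right (h.za₂.pow_pow _ _)).eq.symm.trans (mul_assoc _ _ _).symm |> fun q => by
      rw [← mul_assoc, (h.aa.symm.pow_pow _ _).eq]
      exact q)

theorem half_sq {w : S} (hw : w ∈ half z a₁ a₂) : w * w = 1 := by
  obtain ⟨i, j, k, rfl⟩ := h.form hw
  have e : ∀ (g : S), g * g = 1 → ∀ u : Fin 2, g ^ (u : ℕ) * g ^ (u : ℕ) = 1 := by
    intro g hg u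
    rw [← (Commute.refl g).mul_pow, hg, one_pow]
  have c1 : Commute (a₁ ^ (j : ℕ) * a₂ ^ (k : ℕ)) (z ^ (i : ℕ)) :=
    ((h.za₁.symm.pow_pow _ _).mul_left (h.za₂.symm.pow_pow _ _))
  have c2 : Commute (a₂ ^ (k : ℕ)) (a₁ ^ (j : ℕ)) := h.aa.symm.pow_pow _ _
  rw [mul_assoc (z ^ (i : ℕ)), c1.mul_mul_mul_comm, c2.mul_mul_mul_comm, e z h.zz, e a₁ h.sa₁, e a₂ h.sa₂,
    one_mul, one_mul]

theorem half_comm {v w : S} (hv : v ∈ half z a₁ a₂) (hw : w ∈ half z a₁ a₂) : v * w = w * v := by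
  have e := h.half_sq ((half z a₁ a₂).mul_mem hv hw)
  rw [← inv_eq_of_mul_eq_one_right e, mul_inv_rev, inv_eq_of_mul_eq_one_right (h.half_sq hv),
    inv_eq_of_mul_eq_one_right (h.half_sq hw)]

theorem not_comm₁ : ¬ Commute b₁ a₁ := fun hc => h.z1 (by
  have := h.ab₁
  rw [hc.eq] at this
  exact right_eq_mul.1 this)

theorem not_comm₂ : ¬ Commute b₂ a₂ := fun hc => h.z1 (by
  have := h.ab₂
  rw [hc.eq] at this
  exact right_eq_mul.1 this)

/-- The coordinates of an element of the first half. -/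
theorem form_eq_zero {i j k : Fin 2} (he : z ^ (i : ℕ) * a₁ ^ (j : ℕ) * a₂ ^ (k : ℕ) = 1) :
    i = 0 ∧ j = 0 ∧ k = 0 := by
  fin_cases k
  · simp only [Fin.zero_eta, Fin.val_zero, pow_zero, mul_one] at he
    fin_cases j
    · simp only [Fin.zero_eta, Fin.val_zero, pow_zero, mul_one] at he
      fin_cases i
      · simp
      · exact absurd (by simpa using he) h.z1
    · refine absurd ?_ h.not_comm₁
      have e : a₁ = (z ^ (i : ℕ))⁻¹ := eq_inv_of_mul_eq_one_right (by simpa using he)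
      rw [e]
      exact (h.zb₁.symm.pow_right _).inv_right
  · refine absurd ?_ h.not_comm₂
    have e : a₂ = (z ^ (i : ℕ) * a₁ ^ (j : ℕ))⁻¹ := eq_inv_of_mul_eq_one_right (by simpa using he)
    rw [e]
    exact ((h.zb₂.symm.pow_right _).mul_right (h.c12.symm.pow_right _)).inv_right

theorem card_half [Finite S] : Nat.card (half z a₁ a₂) = 8 := by
  have hm := mem_half z a₁ a₂
  let f : Fin 2 × Fin 2 × Fin 2 → half z a₁ a₂ := fun t => ⟨z ^ (t.1 : ℕ) * a₁ ^ (t.2.1 : ℕ) * a₂ ^ (t.2.2 : ℕ),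
    mul_mem (mul_mem (pow_mem hm.1 _) (pow_mem hm.2.1 _)) (pow_mem hm.2.2 _)⟩
  have hinj : Function.Injective f := by
    rintro ⟨i, j, k⟩ ⟨i', j', k'⟩ he
    have he' : z ^ (i : ℕ) * a₁ ^ (j : ℕ) * a₂ ^ (k : ℕ) = z ^ (i' : ℕ) * a₁ ^ (j' : ℕ) * a₂ ^ (k' : ℕ) :=
      congrArg Subtype.val he
    have e : ∀ (g : S), g * g = 1 → ∀ u v : Fin 2, g ^ (u : ℕ) * g ^ (v : ℕ) = g ^ ((u + v : Fin 2) : ℕ) := by
      intro g hg u v
      fin_cases u <;> fin_cases v <;> simp [hg]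
    have hsq := h.half_sq (f (i', j', k')).2
    have h0 : z ^ ((i + i' : Fin 2) : ℕ) * a₁ ^ ((j + j' : Fin 2) : ℕ) * a₂ ^ ((k + k' : Fin 2) : ℕ) = 1 := by
      rw [← e z h.zz, ← e a₁ h.sa₁, ← e a₂ h.sa₂]
      have c1 : Commute (a₁ ^ (j : ℕ) * a₂ ^ (k : ℕ)) (z ^ (i' : ℕ)) :=
        ((h.za₁.symm.pow_pow _ _).mul_left (h.za₂.symm.pow_pow _ _))
      have c2 : Commute (a₂ ^ (k : ℕ)) (a₁ ^ (j' : ℕ)) := h.aa.symm.pow_pow _ _
      rw [mul_assoc (z ^ (i : ℕ) * z ^ (i' : ℕ)), ← c2.mul_mul_mul_comm, ← c1.mul_mul_mul_comm,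
        ← mul_assoc (z ^ (i : ℕ)), ← mul_assoc (z ^ (i' : ℕ)), he']
      exact hsq
    obtain ⟨h1, h2, h3⟩ := h.form_eq_zero h0
    have key : ∀ u v : Fin 2, u + v = 0 → u = v := by decide
    rw [key _ _ h1, key _ _ h2, key _ _ h3]
  have hsur : Function.Surjective f := fun w => by
    obtain ⟨i, j, k, e⟩ := h.form w.2
    exact ⟨(i, j, k), Subtype.ext e.symm⟩
  rw [← Nat.card_congr (Equiv.ofBijective f ⟨hinj, hsur⟩), Nat.card_prod, Nat.card_prod, Nat.card_fin]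

/-- The decomposition of the group of order 32. -/
theorem decompose [Finite S] {Q : Subgroup S} (hQ : Nat.card Q = 32) (hz : z ∈ Q) (ha₁ : a₁ ∈ Q) (ha₂ : a₂ ∈ Q)
    (hb₁ : b₁ ∈ Q) (hb₂ : b₂ ∈ Q) {x : S} (hx : x ∈ Q) :
    ∃ w ∈ half z a₁ a₂, ∃ s t : Fin 2, x = w * b₁ ^ (s : ℕ) * b₂ ^ (t : ℕ) := by
  have hle : half z a₁ a₂ ≤ Q := by
    rw [half, Subgroup.closure_le]
    rintro y (rfl | rfl | rfl) <;> assumption
  let f : half z a₁ a₂ × Fin 2 × Fin 2 → Q := fun t =>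
    ⟨t.1 * b₁ ^ (t.2.1 : ℕ) * b₂ ^ (t.2.2 : ℕ), mul_mem (mul_mem (hle t.1.2) (pow_mem hb₁ _)) (pow_mem hb₂ _)⟩
  have hinj : Function.Injective f := by
    rintro ⟨w, s, t⟩ ⟨w', s', t'⟩ he
    have he' : (w : S) * b₁ ^ (s : ℕ) * b₂ ^ (t : ℕ) = w' * b₁ ^ (s' : ℕ) * b₂ ^ (t' : ℕ) :=
      congrArg Subtype.val he
    have hmem : (w' : S)⁻¹ * w = b₁ ^ (s' : ℕ) * (b₂ ^ (t' : ℕ) * (b₂ ^ (t : ℕ))⁻¹) * (b₁ ^ (s : ℕ))⁻¹ := by
      have e1 : (w : S) = w' * b₁ ^ (s' : ℕ) * b₂ ^ (t' : ℕ) * (b₂ ^ (t : ℕ))⁻¹ * (b₁ ^ (s : ℕ))⁻¹ := by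
        rw [← he', mul_inv_cancel_right, mul_inv_cancel_right]
      rw [e1]; group
    have hc := h.half_comm ((half z a₁ a₂).mul_mem ((half z a₁ a₂).inv_mem w'.2) w.2) (mem_half z a₁ a₂).2.1
    have hd := h.half_comm ((half z a₁ a₂).mul_mem ((half z a₁ a₂).inv_mem w'.2) w.2) (mem_half z a₁ a₂).2.2
    rw [hmem] at hc hd
    have hss : s = s' := by
      by_contra hne
      apply h.not_comm₁
      have hP : Commute (b₁ ^ (s' : ℕ) * (b₁ ^ (s : ℕ))⁻¹) a₁ := by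
        have hcb : Commute (b₂ ^ (t' : ℕ) * (b₂ ^ (t : ℕ))⁻¹) a₁ :=
          (h.c12.symm.pow_left _).mul_left (h.c12.symm.pow_left _).inv_left
        have hbb : Commute (b₂ ^ (t' : ℕ) * (b₂ ^ (t : ℕ))⁻¹) ((b₁ ^ (s : ℕ))⁻¹) :=
          ((h.bb.symm.pow_pow _ _).mul_left (h.bb.symm.pow_pow _ _).inv_left).inv_right
        have hc' : Commute (b₁ ^ (s' : ℕ) * (b₁ ^ (s : ℕ))⁻¹ * (b₂ ^ (t' : ℕ) * (b₂ ^ (t : ℕ))⁻¹)) a₁ := by
          rw [mul_assoc, ← hbb.eq, ← mul_assoc]; exact hc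
        have := hc'.mul_left hcb.inv_left
        rwa [mul_inv_cancel_right] at this
      fin_cases s <;> fin_cases s' <;> simp_all [inv_eq_of_mul_eq_one_right h.sb₁]
    subst hss
    have htt : t = t' := by
      by_contra hne
      apply h.not_comm₂
      have hbb : Commute (b₁ ^ (s : ℕ)) (b₂ ^ (t' : ℕ) * (b₂ ^ (t : ℕ))⁻¹) :=
        (h.bb.pow_pow _ _).mul_right (h.bb.pow_pow _ _).inv_right
      rw [hbb.eq, mul_inv_cancel_right] at hd
      fin_cases t <;> fin_cases t' <;> simp_all [inv_eq_of_mul_eq_one_right h.sb₂]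
      all_goals exact hd
    subst htt
    exact Prod.ext (Subtype.ext (mul_right_cancel (mul_right_cancel he'))) rfl
  have hbij : Function.Bijective f := (Nat.bijective_iff_injective_and_card f).2 ⟨hinj, by
    rw [Nat.card_prod, Nat.card_prod, Nat.card_fin, h.card_half, hQ]⟩
  obtain ⟨⟨w, s, t⟩, e⟩ := hbij.2 ⟨x, hx⟩
  exact ⟨w, w.2, s, t, (congrArg Subtype.val e).symm⟩

/-- The action on the second half of an element centralizing the first one. -/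
theorem dichotomy [Finite S] {Q : Subgroup S} (hQ : Nat.card Q = 32) (hz : z ∈ Q) (ha₁ : a₁ ∈ Q) (ha₂ : a₂ ∈ Q)
    (hb₁ : b₁ ∈ Q) (hb₂ : b₂ ∈ Q) (hC : ∀ x : S, (∀ q ∈ Q, q * x = x * q) → x ∈ Q) {x : S}
    (hxN : ∀ q ∈ Q, x * q * x⁻¹ ∈ Q) (hxz : Commute x z) (hx₁ : Commute x a₁) (hx₂ : Commute x a₂)
    (hxA : x ∉ half z a₁ a₂) :
    (x * b₁ * x⁻¹ = b₁ * a₂ ∨ x * b₁ * x⁻¹ = z * (b₁ * a₂)) ∧
      (x * b₂ * x⁻¹ = b₂ * a₁ ∨ x * b₂ * x⁻¹ = z * (b₂ * a₁)) := by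
  have hm := mem_half z a₁ a₂
  -- elements of `Q` centralizing the first half lie in it
  have hQA : ∀ y ∈ Q, Commute y a₁ → Commute y a₂ → y ∈ half z a₁ a₂ := by
    intro y hy hy₁ hy₂
    obtain ⟨w, hw, s, t, rfl⟩ := h.decompose hQ hz ha₁ ha₂ hb₁ hb₂ hy
    have hw₁ : Commute w a₁ := h.half_comm hw hm.2.1
    have hw₂ : Commute w a₂ := h.half_comm hw hm.2.2
    have k₁ := hw₁.inv_left.mul_left hy₁
    have k₂ := hw₂.inv_left.mul_left hy₂
    rw [mul_assoc w, inv_mul_cancel_left] at k₁ k₂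
    have k₁' := k₁.mul_left (h.c12.symm.pow_left (t : ℕ)).inv_left
    rw [mul_inv_cancel_right] at k₁'
    have k₂' := (h.c21.symm.pow_left (s : ℕ)).inv_left.mul_left k₂
    rw [inv_mul_cancel_left] at k₂'
    fin_cases s <;> fin_cases t <;> simp_all [h.not_comm₁, h.not_comm₂]
  -- the displacement of an element of the second half
  have hdisp : ∀ b ∈ Q, (∀ a : S, a = a₁ ∨ a = a₂ → ∃ e : S, Commute x e ∧ b * a = e * (a * b) ∧ Commute e b) →
      b⁻¹ * (x * b * x⁻¹) ∈ half z a₁ a₂ := by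
    intro b hb hcm
    obtain ⟨e, he₁, he₂, he₃⟩ := hcm a₁ (Or.inl rfl)
    obtain ⟨e', he₁', he₂', he₃'⟩ := hcm a₂ (Or.inr rfl)
    exact hQA _ (Q.mul_mem (Q.inv_mem hb) (hxN b hb)) (displacement he₁ hx₁ he₂ he₃)
      (displacement he₁' hx₂ he₂' he₃')
  obtain ⟨α, hα, hαe⟩ : ∃ α ∈ half z a₁ a₂, x * b₁ * x⁻¹ = b₁ * α :=
    ⟨_, hdisp b₁ hb₁ (fun a ha => by
      rcases ha with rfl | rfl
      · exact ⟨z, hxz, h.ab₁, h.zb₁⟩
      · exact ⟨1, Commute.one_right x, by rw [one_mul, h.c21.eq], Commute.one_left _⟩),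
      (mul_inv_cancel_left _ _).symm⟩
  obtain ⟨β, hβ, hβe⟩ : ∃ β ∈ half z a₁ a₂, x * b₂ * x⁻¹ = b₂ * β :=
    ⟨_, hdisp b₂ hb₂ (fun a ha => by
      rcases ha with rfl | rfl
      · exact ⟨1, Commute.one_right x, by rw [one_mul, h.c12.eq], Commute.one_left _⟩
      · exact ⟨z, hxz, h.ab₂, h.zb₂⟩),
      (mul_inv_cancel_left _ _).symm⟩
  have hα2 : Commute α b₁ := by
    have e : (x * b₁ * x⁻¹) * (x * b₁ * x⁻¹) = 1 := by
      rw [show (x * b₁ * x⁻¹) * (x * b₁ * x⁻¹) = x * (b₁ * b₁) * x⁻¹ by group, h.sb₁, mul_one, mul_inv_cancel]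
    rw [hαe] at e
    have e' := inv_eq_of_mul_eq_one_right e
    rw [mul_inv_rev, inv_eq_of_mul_eq_one_right h.sb₁, inv_eq_of_mul_eq_one_right (h.half_sq hα)] at e'
    exact e'
  have hβ2 : Commute β b₂ := by
    have e : (x * b₂ * x⁻¹) * (x * b₂ * x⁻¹) = 1 := by
      rw [show (x * b₂ * x⁻¹) * (x * b₂ * x⁻¹) = x * (b₂ * b₂) * x⁻¹ by group, h.sb₂, mul_one, mul_inv_cancel]
    rw [hβe] at e
    have e' := inv_eq_of_mul_eq_one_right e
    rw [mul_inv_rev, inv_eq_of_mul_eq_one_right h.sb₂, inv_eq_of_mul_eq_one_right (h.half_sq hβ)] at e'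
    exact e'
  obtain ⟨i, j, k, rfl⟩ := h.form hα
  obtain ⟨i', j', k', rfl⟩ := h.form hβ
  have hj : j = 0 := by
    have c0 : Commute b₁ (z ^ (i : ℕ) * (a₁ ^ (j : ℕ) * a₂ ^ (k : ℕ))) := by rw [← mul_assoc]; exact hα2.symm
    have c1 := commute_strip c0 (h.zb₁.symm.pow_right _)
    have c2 : Commute b₁ (a₂ ^ (k : ℕ) * a₁ ^ (j : ℕ)) := by rwa [(h.aa.symm.pow_pow _ _).eq]
    have c := commute_strip c2 (h.c21.symm.pow_right _)
    fin_cases j
    · rfl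
    · exact absurd (by simpa using c) h.not_comm₁
  have hk' : k' = 0 := by
    have c := commute_strip (hβ2.symm : Commute b₂ (z ^ (i' : ℕ) * a₁ ^ (j' : ℕ) * a₂ ^ (k' : ℕ)))
      ((h.zb₂.symm.pow_right _).mul_right (h.c12.symm.pow_right _))
    fin_cases k'
    · rfl
    · exact absurd (by simpa using c) h.not_comm₂
  subst hj hk'
  simp only [Fin.val_zero, pow_zero, mul_one] at hαe hβe
  have hbb : Commute (x * b₁ * x⁻¹) (x * b₂ * x⁻¹) := by
    show _ = _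
    rw [show x * b₁ * x⁻¹ * (x * b₂ * x⁻¹) = x * (b₁ * b₂) * x⁻¹ by group, h.bb.eq]
    group
  rw [hαe, hβe] at hbb
  have hr := h.ab₂
  fin_cases k <;> fin_cases j'
  · -- the trivial case
    exfalso
    simp only [Fin.zero_eta, Fin.val_zero, pow_zero, mul_one] at hαe hβe
    apply hxA
    set w := a₁ ^ (i : ℕ) * a₂ ^ (i' : ℕ) with hwdef
    have hw : w ∈ half z a₁ a₂ := mul_mem (pow_mem hm.2.1 _) (pow_mem hm.2.2 _)
    have hwQ : w ∈ Q := mul_mem (pow_mem ha₁ _) (pow_mem ha₂ _)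
    have hwb₁ : w * b₁ * w⁻¹ = b₁ * z ^ (i : ℕ) := by
      rw [hwdef, show a₁ ^ (i : ℕ) * a₂ ^ (i' : ℕ) * b₁ * (a₁ ^ (i : ℕ) * a₂ ^ (i' : ℕ))⁻¹ =
        a₁ ^ (i : ℕ) * (a₂ ^ (i' : ℕ) * b₁ * (a₂ ^ (i' : ℕ))⁻¹) * (a₁ ^ (i : ℕ))⁻¹ by group,
        (h.c21.pow_left _).eq, mul_inv_cancel_right, conj_pow_eq h.ab₁ h.za₁ h.zb₁ h.sa₁]
    have hwb₂ : w * b₂ * w⁻¹ = b₂ * z ^ (i' : ℕ) := by
      rw [hwdef, show a₁ ^ (i : ℕ) * a₂ ^ (i' : ℕ) * b₂ * (a₁ ^ (i : ℕ) * a₂ ^ (i' : ℕ))⁻¹ =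
        a₁ ^ (i : ℕ) * (a₂ ^ (i' : ℕ) * b₂ * (a₂ ^ (i' : ℕ))⁻¹) * (a₁ ^ (i : ℕ))⁻¹ by group,
        conj_pow_eq h.ab₂ h.za₂ h.zb₂ h.sa₂,
        ((h.c12.pow_left _).mul_right (h.za₁.symm.pow_pow _ _)).eq, mul_inv_cancel_right]
    have k₁ : Commute (w⁻¹ * x) b₁ := by
      show _ = _
      rw [← mul_inv_eq_iff_eq_mul, show w⁻¹ * x * b₁ * (w⁻¹ * x)⁻¹ = w⁻¹ * (x * b₁ * x⁻¹) * w by group, hαe,
        ← hwb₁]
      group
    have k₂ : Commute (w⁻¹ * x) b₂ := by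
      show _ = _
      rw [← mul_inv_eq_iff_eq_mul, show w⁻¹ * x * b₂ * (w⁻¹ * x)⁻¹ = w⁻¹ * (x * b₂ * x⁻¹) * w by group, hβe,
        ← hwb₂]
      group
    have kA : ∀ v ∈ half z a₁ a₂, Commute (w⁻¹ * x) v := by
      intro v hv
      have hxv : Commute x v := by
        obtain ⟨p, q, r, rfl⟩ := h.form hv
        exact ((hxz.pow_right _).mul_right (hx₁.pow_right _)).mul_right (hx₂.pow_right _)
      exact (show Commute w v from h.half_comm hw hv).inv_left.mul_left hxv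
    have hy : w⁻¹ * x ∈ Q := hC _ fun q hq => by
      obtain ⟨v, hv, s, t, rfl⟩ := h.decompose hQ hz ha₁ ha₂ hb₁ hb₂ hq
      exact (((kA v hv).mul_right (k₁.pow_right _)).mul_right (k₂.pow_right _)).eq.symm
    have hy' := hQA _ hy (kA _ hm.2.1) (kA _ hm.2.2)
    have := (half z a₁ a₂).mul_mem hw hy'
    rwa [mul_inv_cancel_left] at this
  · exfalso
    simp only [Fin.zero_eta, Fin.mk_one, Fin.val_zero, Fin.val_one, pow_zero, pow_one, mul_one] at hbb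
    refine h.not_comm₁ ?_
    have hy : Commute (z ^ (i : ℕ)) (b₂ * (z ^ (i' : ℕ) * a₁)) :=
      (h.zb₂.pow_left _).mul_right (((Commute.refl z).pow_pow _ _).mul_right (h.za₁.pow_left _))
    have c : Commute b₁ (b₂ * (z ^ (i' : ℕ) * a₁)) := by
      have := hbb.mul_left hy.inv_left
      rwa [mul_inv_cancel_right] at this
    exact commute_strip (commute_strip c h.bb) (h.zb₁.symm.pow_right _)
  · exfalso
    simp only [Fin.zero_eta, Fin.mk_one, Fin.val_zero, Fin.val_one, pow_zero, pow_one, mul_one] at hbb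
    refine h.not_comm₂ ?_
    have hy : Commute (z ^ (i' : ℕ)) (b₁ * (z ^ (i : ℕ) * a₂)) :=
      (h.zb₁.pow_left _).mul_right (((Commute.refl z).pow_pow _ _).mul_right (h.za₂.pow_left _))
    have c : Commute b₂ (b₁ * (z ^ (i : ℕ) * a₂)) := by
      have := hbb.symm.mul_left hy.inv_left
      rwa [mul_inv_cancel_right] at this
    exact commute_strip (commute_strip c h.bb.symm) (h.zb₂.symm.pow_right _)
  · have key : ∀ (u : Fin 2) (b a : S), Commute z b → x * b * x⁻¹ = b * (z ^ (u : ℕ) * a) →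
        x * b * x⁻¹ = b * a ∨ x * b * x⁻¹ = z * (b * a) := by
      intro u b a hzb he
      fin_cases u
      · left; simpa using he
      · right
        rw [he]
        simp only [Fin.mk_one, Fin.val_one, pow_one]
        rw [← mul_assoc, ← hzb.eq, mul_assoc]
    simp only [Fin.mk_one, Fin.val_one, pow_one] at hαe hβe
    exact ⟨key i b₁ a₂ h.zb₁ hαe, key i' b₂ a₁ h.zb₂ hβe⟩

end Halves

variable [Finite S]

/-- A self-centralizing elementary abelian subgroup of order eight exists. -/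
theorem exists_self (hS : IsPGroup 2 S) {z a₁ a₂ b₁ b₂ : S} (h : Halves z a₁ a₂ b₁ b₂) {Q : Subgroup S}
    (hQ : Nat.card Q = 32) (hz : z ∈ Q) (ha₁ : a₁ ∈ Q) (ha₂ : a₂ ∈ Q) (hb₁ : b₁ ∈ Q) (hb₂ : b₂ ∈ Q)
    (hC : ∀ x : S, (∀ q ∈ Q, q * x = x * q) → x ∈ Q) :
    ∃ A : Subgroup S, (∀ a ∈ A, ∀ b ∈ A, a * b = b * a) ∧ (∀ a ∈ A, a * a = 1) ∧ Nat.card A = 8 ∧
      ∀ x : S, (∀ a ∈ A, a * x = x * a) → x ∈ A := by
  classical
  haveI : Fact (Nat.Prime 2) := ⟨Nat.prime_two⟩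
  set N := Subgroup.normalizer (Q : Set S) with hN
  have hQN : Q ≤ N := Subgroup.le_normalizer
  -- one of the halves is self-centralizing inside the normalizer of `Q`
  have hone : (∀ x ∈ N, Commute x z → Commute x a₁ → Commute x a₂ → x ∈ half z a₁ a₂) ∨
      (∀ x ∈ N, Commute x z → Commute x b₁ → Commute x b₂ → x ∈ half z b₁ b₂) := by
    by_contra hcon
    push Not at hcon
    obtain ⟨⟨x, hxN, hxz, hx₁, hx₂, hxA⟩, ⟨y, hyN, hyz, hy₁, hy₂, hyB⟩⟩ := hcon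
    have hnorm : ∀ g ∈ N, ∀ q ∈ Q, g * q * g⁻¹ ∈ Q := fun g hg q hq =>
      (Subgroup.mem_normalizer_iff.1 hg q).1 hq
    obtain ⟨-, hxb⟩ := h.dichotomy hQ hz ha₁ ha₂ hb₁ hb₂ hC (hnorm x hxN) hxz hx₁ hx₂ hxA
    obtain ⟨hya, -⟩ := h.swap.dichotomy hQ hz hb₁ hb₂ ha₁ ha₂ hC (hnorm y hyN) hyz hy₁ hy₂ hyB
    -- the product permutes three classes cyclically
    set g := x * y with hg
    let R : S → S → Prop := fun p q => g * p * g⁻¹ = q ∨ g * p * g⁻¹ = z * q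
    have hgz : g * z * g⁻¹ = z := by
      rw [hg, show x * y * z * (x * y)⁻¹ = x * (y * z * y⁻¹) * x⁻¹ by group, hyz.eq, mul_inv_cancel_right,
        hxz.eq, mul_inv_cancel_right]
    have hya' : y * a₁ * y⁻¹ = a₁ * b₂ ∨ y * a₁ * y⁻¹ = z * (a₁ * b₂) := hya
    have hxb' : x * b₂ * x⁻¹ = b₂ * a₁ ∨ x * b₂ * x⁻¹ = z * (b₂ * a₁) := hxb
    have hzz : ∀ w : S, z * (z * w) = w := fun w => by rw [← mul_assoc, h.zz, one_mul]
    have hR1 : R a₁ b₂ := by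
      show g * a₁ * g⁻¹ = b₂ ∨ g * a₁ * g⁻¹ = z * b₂
      have e1 : g * a₁ * g⁻¹ = x * (y * a₁ * y⁻¹) * x⁻¹ := by rw [hg]; group
      have e2 : x * (a₁ * b₂) * x⁻¹ = a₁ * (x * b₂ * x⁻¹) := by
        rw [← mul_assoc x, hx₁.eq]; group
      have e3 : x * (z * (a₁ * b₂)) * x⁻¹ = z * (x * (a₁ * b₂) * x⁻¹) := by
        rw [← mul_assoc x, hxz.eq]; group
      have e4 : a₁ * (b₂ * a₁) = b₂ := by
        rw [← mul_assoc, h.c12.eq, mul_assoc, h.sa₁, mul_one]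
      have e5 : a₁ * (z * (b₂ * a₁)) = z * b₂ := by
        rw [← mul_assoc, ← h.za₁.eq, mul_assoc, e4]
      rcases hya' with e | e <;> rcases hxb' with e' | e' <;> rw [e1, e]
      · exact Or.inl (by rw [e2, e', e4])
      · exact Or.inr (by rw [e2, e', e5])
      · exact Or.inr (by rw [e3, e2, e', e4])
      · exact Or.inl (by rw [e3, e2, e', e5, hzz])
    have hR2 : R b₂ (b₂ * a₁) := by
      show g * b₂ * g⁻¹ = b₂ * a₁ ∨ g * b₂ * g⁻¹ = z * (b₂ * a₁)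
      have e1 : g * b₂ * g⁻¹ = x * b₂ * x⁻¹ := by
        rw [hg, show x * y * b₂ * (x * y)⁻¹ = x * (y * b₂ * y⁻¹) * x⁻¹ by group, hy₂.eq, mul_inv_cancel_right]
      rw [e1]; exact hxb'
    have hR3 : R (b₂ * a₁) a₁ := by
      show g * (b₂ * a₁) * g⁻¹ = a₁ ∨ g * (b₂ * a₁) * g⁻¹ = z * a₁
      have e : g * (b₂ * a₁) * g⁻¹ = (g * b₂ * g⁻¹) * (g * a₁ * g⁻¹) := by group
      have e4 : b₂ * a₁ * b₂ = a₁ := by rw [mul_assoc, h.c12.eq, ← mul_assoc, h.sb₂, one_mul]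
      have e5 : b₂ * a₁ * (z * b₂) = z * a₁ := by
        rw [← mul_assoc, ← ((h.zb₂.mul_right h.za₁)).eq, mul_assoc z, e4]
      rcases hR2 with u | u <;> rcases hR1 with v | v <;> rw [e, u, v]
      · exact Or.inl e4
      · exact Or.inr e5
      · exact Or.inr (by rw [mul_assoc, e4])
      · exact Or.inl (by rw [mul_assoc, e5, hzz])
    have hcomp : ∀ p q r : S, R p q → ∀ n : ℕ, (g ^ n * q * (g ^ n)⁻¹ = r ∨ g ^ n * q * (g ^ n)⁻¹ = z * r) →
        (g ^ (n + 1) * p * (g ^ (n + 1))⁻¹ = r ∨ g ^ (n + 1) * p * (g ^ (n + 1))⁻¹ = z * r) := by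
      intro p q r hpq n hn
      have e : g ^ (n + 1) * p * (g ^ (n + 1))⁻¹ = g ^ n * (g * p * g⁻¹) * (g ^ n)⁻¹ := by
        rw [pow_succ]; group
      have hzn : g ^ n * z * (g ^ n)⁻¹ = z := by
        have hc : Commute g z := mul_inv_eq_iff_eq_mul.1 hgz
        rw [(hc.pow_left n).eq, mul_inv_cancel_right]
      have ez : g ^ n * (z * q) * (g ^ n)⁻¹ = z * (g ^ n * q * (g ^ n)⁻¹) := by
        conv_rhs => rw [← hzn]
        group
      rcases hpq with u | u <;> rcases hn with v | v <;> rw [e, u]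
      · exact Or.inl v
      · exact Or.inr v
      · exact Or.inr (by rw [ez, v])
      · exact Or.inl (by rw [ez, v, hzz])
    let K : Subgroup S :=
      { carrier := {k | Commute k z ∧ (k * a₁ * k⁻¹ = a₁ ∨ k * a₁ * k⁻¹ = z * a₁)}
        one_mem' := ⟨Commute.one_left z, Or.inl (by simp)⟩
        mul_mem' := fun {k l} hk hl => ⟨hk.1.mul_left hl.1, by
          have e : k * l * a₁ * (k * l)⁻¹ = k * (l * a₁ * l⁻¹) * k⁻¹ := by group
          have ez : k * (z * a₁) * k⁻¹ = z * (k * a₁ * k⁻¹) := by rw [← mul_assoc k, hk.1.eq]; group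
          rcases hl.2 with u | u <;> rcases hk.2 with v | v <;> rw [e, u]
          · exact Or.inl v
          · exact Or.inr v
          · exact Or.inr (by rw [ez, v])
          · exact Or.inl (by rw [ez, v, hzz])⟩
        inv_mem' := fun {k} hk => ⟨hk.1.inv_left, by
          rw [inv_inv]
          rcases hk.2 with u | u
          · left; conv_lhs => rw [← u]
            group
          · right
            have : k⁻¹ * (z * (k * a₁ * k⁻¹)) * k = z * a₁ := by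
              rw [← mul_assoc k⁻¹, hk.1.inv_left.eq]; group
            rw [u, hzz] at this
            exact this⟩ }
    have hg3 : g ^ 3 ∈ K := ⟨(show Commute g z from mul_inv_eq_iff_eq_mul.1 hgz).pow_left 3,
      hcomp a₁ b₂ a₁ hR1 2 (hcomp b₂ (b₂ * a₁) a₁ hR2 1 (by rw [pow_one]; exact hR3))⟩
    obtain ⟨k, hk⟩ := hS g
    have hcop : Nat.Coprime 3 (orderOf g) := by
      obtain ⟨j, -, hj⟩ := (Nat.dvd_prime_pow Nat.prime_two).1 (orderOf_dvd_of_pow_eq_one hk)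
      rw [hj]
      exact Nat.Coprime.pow_right j (by norm_num)
    obtain ⟨m, hm⟩ := exists_pow_eq_self_of_coprime hcop
    have hgK : g ∈ K := hm ▸ K.pow_mem hg3 m
    have hcb : Commute b₂ b₁ := h.bb.symm
    -- but the image of `a₁` is congruent to `b₂`
    have hbad : b₂ = a₁ ∨ b₂ = z * a₁ := by
      rcases hgK.2 with u | u <;> rcases hR1 with v | v <;> rw [u] at v
      · exact Or.inl v.symm
      · exact Or.inr (by rw [v, hzz])
      · exact Or.inr v.symm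
      · exact Or.inl (mul_left_cancel v).symm
    apply h.not_comm₁
    rcases hbad with e | e
    · rw [← e]; exact h.bb
    · have e' : a₁ = z * b₂ := by rw [e, hzz]
      rw [e']; exact h.zb₁.symm.mul_right h.bb
  have main : ∀ (a₁ a₂ b₁ b₂ : S), Halves z a₁ a₂ b₁ b₂ → a₁ ∈ Q → a₂ ∈ Q → b₁ ∈ Q → b₂ ∈ Q →
      (∀ x ∈ N, Commute x z → Commute x a₁ → Commute x a₂ → x ∈ half z a₁ a₂) →
      ∃ A : Subgroup S, (∀ a ∈ A, ∀ b ∈ A, a * b = b * a) ∧ (∀ a ∈ A, a * a = 1) ∧ Nat.card A = 8 ∧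
        ∀ x : S, (∀ a ∈ A, a * x = x * a) → x ∈ A := by
    intro a₁ a₂ b₁ b₂ h ha₁ ha₂ hb₁ hb₂ hself
    set A := half z a₁ a₂ with hA
    refine ⟨A, fun a ha b hb => h.half_comm ha hb, fun a ha => h.half_sq ha, h.card_half, ?_⟩
    set T := Subgroup.centralizer (A : Set S) with hT
    have hm := mem_half z a₁ a₂
    have hAQ : A ≤ Q := by
      rw [hA, half, Subgroup.closure_le]
      rintro y (rfl | rfl | rfl) <;> assumption
    have hTN : ∀ x ∈ T, x ∈ N → x ∈ A := fun x hx hxN => hself x hxN (hx z hm.1).symm (hx a₁ hm.2.1).symm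
      (hx a₂ hm.2.2).symm
    have hQA : ∀ q ∈ Q, ∀ a ∈ A, q⁻¹ * a * q ∈ A := by
      intro q hq a ha
      obtain ⟨w, hw, s, t, rfl⟩ := h.decompose hQ hz ‹_› ‹_› ‹_› ‹_› hq
      have hb : ∀ b : S, (b = b₁ ∨ b = b₂) → ∀ v ∈ A, b * v * b⁻¹ ∈ A := by
        intro b hb v hv
        have hle : A ≤ A.comap (MulAut.conj b).toMonoidHom := by
          rw [hA, half, Subgroup.closure_le]
          rintro y (rfl | rfl | rfl) <;> rcases hb with rfl | rfl <;>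
            simp only [SetLike.mem_coe, Subgroup.mem_comap, MulEquiv.coe_toMonoidHom, MulAut.conj_apply]
          all_goals first
            | (rw [(h.zb₁.symm).eq, mul_inv_cancel_right]; exact hm.1)
            | (rw [(h.zb₂.symm).eq, mul_inv_cancel_right]; exact hm.1)
            | (rw [(h.c12.symm).eq, mul_inv_cancel_right]; exact hm.2.1)
            | (rw [(h.c21.symm).eq, mul_inv_cancel_right]; exact hm.2.2)
            | (rw [h.ab₁, ← mul_assoc z, mul_inv_cancel_right]; exact A.mul_mem hm.1 hm.2.1)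
            | (rw [h.ab₂, ← mul_assoc z, mul_inv_cancel_right]; exact A.mul_mem hm.1 hm.2.2)
        exact hle hv
      have hw' : w⁻¹ * a * w = a := by
        rw [mul_assoc, h.half_comm ha hw, inv_mul_cancel_left]
      have e₁ : (b₁ ^ (s : ℕ))⁻¹ = b₁ ^ (s : ℕ) := by rw [← inv_pow, inv_eq_of_mul_eq_one_right h.sb₁]
      have e₂ : (b₂ ^ (t : ℕ))⁻¹ = b₂ ^ (t : ℕ) := by rw [← inv_pow, inv_eq_of_mul_eq_one_right h.sb₂]
      rw [show (w * b₁ ^ (s : ℕ) * b₂ ^ (t : ℕ))⁻¹ * a * (w * b₁ ^ (s : ℕ) * b₂ ^ (t : ℕ)) =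
        (b₂ ^ (t : ℕ))⁻¹ * ((b₁ ^ (s : ℕ))⁻¹ * (w⁻¹ * a * w) * ((b₁ ^ (s : ℕ))⁻¹)⁻¹) * ((b₂ ^ (t : ℕ))⁻¹)⁻¹ by group,
        hw', e₁, e₂]
      have h1 : b₁ ^ (s : ℕ) * a * (b₁ ^ (s : ℕ))⁻¹ ∈ A := by
        fin_cases s
        · simpa using ha
        · simpa using hb b₁ (Or.inl rfl) a ha
      fin_cases t
      · simpa using h1
      · simpa using hb b₂ (Or.inr rfl) _ h1
    intro x hx
    have hxT : x ∈ T := hx
    by_contra hxA
    have hQT : Q ≤ Subgroup.normalizer (T : Set S) := by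
      have hconj : ∀ q ∈ Q, ∀ t ∈ T, q * t * q⁻¹ ∈ T := by
        intro q hq t ht a ha
        have := ht _ (hQA q hq a ha)
        calc a * (q * t * q⁻¹) = q * (q⁻¹ * a * q * t) * q⁻¹ := by group
          _ = q * (t * (q⁻¹ * a * q)) * q⁻¹ := by rw [this]
          _ = q * t * q⁻¹ * a := by group
      refine fun q hq => Subgroup.mem_normalizer_iff.2 fun t => ⟨hconj q hq t, fun ht => ?_⟩
      have := hconj _ (Q.inv_mem hq) _ ht
      rwa [inv_inv, ← mul_assoc, ← mul_assoc, inv_mul_cancel, one_mul, inv_mul_cancel_right] at this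
    set H := Q ⊔ T with hH
    have hlt : Q < H := lt_of_le_of_ne le_sup_left fun he => hxA (hTN x hxT
      (hQN (he ▸ (le_sup_right : T ≤ H) hxT)))
    haveI := (hS.to_subgroup H).isNilpotent
    have hlt' : (Q.subgroupOf H) < ⊤ := lt_top_iff_ne_top.2 fun he => hlt.not_ge (Subgroup.subgroupOf_eq_top.1 he)
    obtain ⟨g, hgN, hgQ⟩ := SetLike.exists_of_lt (Group.normalizerCondition_of_isNilpotent (G := H) _ hlt')
    have hgN' : (g : S) ∈ N := by
      refine Subgroup.mem_normalizer_iff.2 fun q => ⟨fun hq => ?_, fun hq => ?_⟩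
      · exact Subgroup.mem_subgroupOf.1 ((Subgroup.mem_normalizer_iff.1 hgN ⟨q, hlt.le hq⟩).1
          (Subgroup.mem_subgroupOf.2 hq))
      · have hq' : q ∈ H := by
          have := H.mul_mem (H.mul_mem (H.inv_mem g.2) (hlt.le hq)) g.2
          rwa [← mul_assoc, ← mul_assoc, inv_mul_cancel, one_mul, inv_mul_cancel_right] at this
        exact Subgroup.mem_subgroupOf.1 ((Subgroup.mem_normalizer_iff.1 hgN ⟨q, hq'⟩).2
          (Subgroup.mem_subgroupOf.2 hq))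
    have hg2 : (g : S) ∈ ((Q ⊔ T : Subgroup S) : Set S) := g.2
    rw [Subgroup.coe_mul_of_left_le_normalizer_right Q T hQT] at hg2
    obtain ⟨q, hq, t, ht, hqt⟩ := hg2
    have htN : t ∈ N := by
      have h' := N.mul_mem (N.inv_mem (hQN hq)) hgN'
      rwa [← hqt, inv_mul_cancel_left] at h'
    refine hgQ (Subgroup.mem_subgroupOf.2 ?_)
    rw [← hqt]
    exact Q.mul_mem hq (hAQ (hTN t ht htN))
  rcases hone with h1 | h1
  · exact main a₁ a₂ b₁ b₂ h ha₁ ha₂ hb₁ hb₂ h1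
  · exact main b₁ b₂ a₁ a₂ h.swap hb₁ hb₂ ha₁ ha₂ h1

end Cfsg.Agent.CentralQuat
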