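import Cfsg.Agent.Lib.TwoGroups.OddAction

/-!
Fusion invariants need only be checked on self-centralizing subgroups of the Sylow subgroup.
-/

set_option autoImplicit false

open scoped Pointwise

namespace Cfsg.Agent.TwoFus

variable {G : Type*} [Group G] [Finite G]

/-- `E` contains its centralizer in `P`. -/
def SelfCent (P E : Subgroup G) : Prop :=
  ∀ v ∈ P, (∀ a ∈ E, a * v = v * a) → v ∈ E

theorem selfCent_iff {P E : Subgroup G} :
    SelfCent P E ↔ P ⊓ Subgroup.centralizer (E : Set G) ≤ E :=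
  ⟨fun h v hv => h v hv.1 (Subgroup.mem_centralizer_iff.mp hv.2),
    fun h v hv hc => h ⟨hv, Subgroup.mem_centralizer_iff.mpr hc⟩⟩

/-- A Sylow subgroup of `N(E)` meets `C(E)` in a Sylow subgroup of `C(E)`. -/
theorem not_dvd_relIndex_centralizer (P : Sylow 2 G) {E : Subgroup G}
    (hfull : ¬ 2 ∣ ((P : Subgroup G) ⊓ Subgroup.normalizer (E : Set G)).relIndex
      (Subgroup.normalizer (E : Set G))) :
    ¬ 2 ∣ (P : Subgroup G).relIndex (Subgroup.centralizer (E : Set G)) := by
  haveI : Fact (Nat.Prime 2) := ⟨Nat.prime_two⟩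
  set N := Subgroup.normalizer (E : Set G) with hN
  have hCN : Subgroup.centralizer (E : Set G) ≤ N := by
    intro g hg
    rw [hN, Subgroup.mem_normalizer_iff]
    intro a
    constructor
    · intro ha
      rw [← Subgroup.mem_centralizer_iff.mp hg a ha, mul_inv_cancel_right]
      exact ha
    · intro ha
      have h := Subgroup.mem_centralizer_iff.mp (inv_mem hg) _ ha
      have e : a = g * a * g⁻¹ := by
        calc a = g⁻¹ * (g * a * g⁻¹) * g := by group
          _ = g * a * g⁻¹ * g⁻¹ * g := by rw [h]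
          _ = _ := by group
      rw [e]; exact ha
  set C := (Subgroup.centralizer (E : Set G)).subgroupOf N with hC
  set T := (P : Subgroup G).subgroupOf N with hT
  haveI : C.Normal := by
    rw [hC, ← Subgroup.normalizerMonoidHom_ker]
    infer_instance
  have hTi : ¬ 2 ∣ T.index := by
    rw [hT, ← Subgroup.relIndex, ← Subgroup.inf_relIndex_right]
    exact hfull
  have he : (P : Subgroup G).relIndex (Subgroup.centralizer (E : Set G)) = T.relIndex C :=
    (Subgroup.relIndex_subgroupOf hCN).symm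
  rw [he]
  obtain ⟨j, hj⟩ := IsPGroup.iff_card.mp (P.isPGroup'.comap_subtype (K := N))
  have h1 := Subgroup.relIndex_mul_relIndex (T ⊓ C) C ⊤ inf_le_right le_top
  have h2 := Subgroup.relIndex_mul_relIndex (T ⊓ C) T ⊤ inf_le_left le_top
  rw [Subgroup.inf_relIndex_right, Subgroup.relIndex_top_right, Subgroup.relIndex_top_right] at h1
  rw [Subgroup.inf_relIndex_left, Subgroup.relIndex_top_right, Subgroup.relIndex_top_right, ← h1] at h2
  obtain ⟨b, hb⟩ := Subgroup.relIndex_dvd_index_of_normal (H := C) (K := T)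
  have ha : C.relIndex T ≠ 0 := Subgroup.index_ne_zero_of_finite
  have h3 : T.index = T.relIndex C * b := by
    refine Nat.eq_of_mul_eq_mul_left (Nat.pos_of_ne_zero ha) ?_
    rw [h2, hb, mul_left_comm]
  exact fun h => hTi (h3 ▸ h.mul_right b)

/-- A fusion step in `N(E)` is induced from the normalizer of the enlarged, self-centralizing
subgroup `E C_P(E)`. -/
theorem exists_centric_step (P : Sylow 2 G) {E : Subgroup G} (hEP : E ≤ (P : Subgroup G))
    (hfull : ¬ 2 ∣ ((P : Subgroup G) ⊓ Subgroup.normalizer (E : Set G)).relIndex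
      (Subgroup.normalizer (E : Set G)))
    {x : G} (hx : x ∈ Subgroup.normalizer (E : Set G)) :
    ∃ y ∈ Subgroup.normalizer ((E ⊔ ((P : Subgroup G) ⊓ Subgroup.centralizer (E : Set G)) : Subgroup G) : Set G),
      ∀ a ∈ E, x⁻¹ * a * x = y⁻¹ * a * y := by
  haveI : Fact (Nat.Prime 2) := ⟨Nat.prime_two⟩
  set C := Subgroup.centralizer (E : Set G) with hC
  set R := (P : Subgroup G) ⊓ C with hR
  have hxE : Alperin.cj x E = E := Alperin.cj_eq_of_mem_normalizer hx
  have hxC : Alperin.cj x C = C := by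
    ext g
    rw [Alperin.mem_cj, hC, Subgroup.mem_centralizer_iff, Subgroup.mem_centralizer_iff]
    constructor <;> intro h a ha
    · have h1 := h (x * a * x⁻¹) ((Subgroup.mem_normalizer_iff.mp hx a).mp ha)
      calc a * g = x⁻¹ * (x * a * x⁻¹ * (x * g * x⁻¹)) * x := by group
        _ = x⁻¹ * (x * g * x⁻¹ * (x * a * x⁻¹)) * x := by rw [h1]
        _ = g * a := by group
    · have h1 := h (x⁻¹ * a * x) (by
        have := (Subgroup.mem_normalizer_iff.mp (inv_mem hx) a).mp ha
        rwa [inv_inv] at this)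
      calc a * (x * g * x⁻¹) = x * (x⁻¹ * a * x * g) * x⁻¹ := by group
        _ = x * (g * (x⁻¹ * a * x)) * x⁻¹ := by rw [h1]
        _ = x * g * x⁻¹ * a := by group
  have hRi : ¬ 2 ∣ R.relIndex C := by
    rw [hR, Subgroup.inf_relIndex_right]
    exact not_dvd_relIndex_centralizer P hfull
  have hRp : IsPGroup 2 R := P.isPGroup'.to_le inf_le_left
  have hxRp : IsPGroup 2 (Alperin.cj x R) := hRp.map _
  obtain ⟨c, hc, hcR⟩ := Alperin.exists_conj_sylow hxRp hRp
    ((Alperin.cj_mono x inf_le_right).trans hxC.le) inf_le_right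
    (by rw [← hxC, Alperin.relIndex_cj]; exact hRi) hRi
  have hcE : Alperin.cj c E = E := by
    ext g
    rw [Alperin.mem_cj]
    constructor
    · intro h
      have h1 := Subgroup.mem_centralizer_iff.mp hc _ h
      have : g = c * g * c⁻¹ := by
        calc g = c⁻¹ * (c * g * c⁻¹) * c := by group
          _ = c⁻¹ * (c * g * c⁻¹ * c) := by group
          _ = c⁻¹ * (c * (c * g * c⁻¹)) := by rw [h1]
          _ = _ := by group
      rw [this]; exact h
    · intro h
      rw [← Subgroup.mem_centralizer_iff.mp hc g h, mul_inv_cancel_right]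
      exact h
  refine ⟨x * c, Alperin.mem_normalizer_of_cj_eq ?_, fun a ha => ?_⟩
  · show MulAut.conj (x * c)⁻¹ • (E ⊔ R) = E ⊔ R
    rw [Subgroup.smul_sup]
    show Alperin.cj (x * c) E ⊔ Alperin.cj (x * c) R = E ⊔ R
    rw [← Alperin.cj_cj, ← Alperin.cj_cj, hxE, hcE, hcR]
  · have ha' : x⁻¹ * a * x ∈ E := by
      have := (Subgroup.mem_normalizer_iff.mp (inv_mem hx) a).mp ha
      rwa [inv_inv] at this
    have h1 := Subgroup.mem_centralizer_iff.mp hc _ ha'
    calc x⁻¹ * a * x = c⁻¹ * (c * (x⁻¹ * a * x)) := by group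
      _ = c⁻¹ * (x⁻¹ * a * x * c) := by rw [h1]
      _ = (x * c)⁻¹ * a * (x * c) := by group

/-- A label is constant on fusion classes as soon as it is constant on the steps given by
self-centralizing subgroups. -/
theorem label_eq_centric {α : Sort*} (P : Sylow 2 G) (lab : Set G → α)
    (hS : ∀ s ∈ (P : Subgroup G), ∀ A : Set G, A ⊆ ((P : Subgroup G) : Set G) →
      lab (Alperin.cjs s A) = lab A)
    (hstep : ∀ E : Subgroup G, E ≤ (P : Subgroup G) → SelfCent (P : Subgroup G) E →
      OddTrivial E ∨ ∀ x ∈ Subgroup.normalizer (E : Set G), ∀ A : Set G, A ⊆ (E : Set G) →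
        lab (Alperin.cjs x A) = lab A)
    {A : Set G} {g : G} (hA : A ⊆ ((P : Subgroup G) : Set G))
    (hAg : Alperin.cjs g A ⊆ ((P : Subgroup G) : Set G)) : lab (Alperin.cjs g A) = lab A := by
  haveI : Fact (Nat.Prime 2) := ⟨Nat.prime_two⟩
  suffices h : ∀ n : ℕ, ∀ (B : Subgroup G) (g : G) (A : Set G), Nat.card G < n + Nat.card B →
      B ≤ (P : Subgroup G) → Alperin.cj g B ≤ (P : Subgroup G) → A ⊆ (B : Set G) →
      lab (Alperin.cjs g A) = lab A by
    refine h (Nat.card G + 1) (Subgroup.closure A) g A (by omega)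
      ((Subgroup.closure_le _).mpr hA) ?_ Subgroup.subset_closure
    show (Subgroup.closure A).map (MulAut.conj g⁻¹).toMonoidHom ≤ _
    rw [MonoidHom.map_closure, Subgroup.closure_le]
    rintro _ ⟨a, ha, rfl⟩
    refine hAg ⟨a, ha, ?_⟩
    simp
  intro n
  induction n with
  | zero =>
    intro B g A hn
    have := Subgroup.card_le_card_group B
    omega
  | succ n ih =>
    intro B g A hn hBP hgB hAB
    have hch := Alperin.chain_of_conj P (B : Set G) g hBP (by rw [← Alperin.coe_cj]; exact hgB)
    suffices key : ∀ {D : Set G} {g : G}, Alperin.Chain P D g → ∀ (B : Subgroup G) (A : Set G),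
        D = (B : Set G) → Nat.card G < n + 1 + Nat.card B → A ⊆ (B : Set G) →
        lab (Alperin.cjs g A) = lab A from key hch B A rfl hn hAB
    intro D g hD
    induction hD with
    | nil => intro B A _ _ _; rw [Alperin.cjs_one]
    | @cons D x g Q hQ hx hD _ ihc =>
      intro B A hDB hcard hAB
      subst hDB
      rw [← Alperin.cjs_mul, ihc (Alperin.cj x B) _ (Alperin.coe_cj x B).symm
        (by rw [Alperin.card_cj]; exact hcard)
        (by rw [Alperin.coe_cj]; exact Alperin.cjs_mono x hAB)]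
      set E := (P : Subgroup G) ⊓ (Q : Subgroup G) with hE
      have hBE : B ≤ E := hD
      have hAE : A ⊆ (E : Set G) := hAB.trans hD
      by_cases hcen : SelfCent (P : Subgroup G) E
      · rcases hstep E inf_le_left hcen with htriv | hlab
        · obtain ⟨s, hs, hsa⟩ := exists_sylow_step P hQ.1 htriv hx
          rw [show Alperin.cjs x A = Alperin.cjs s A from Set.image_congr fun a ha => hsa a (hAE ha)]
          exact hS s hs A (hAE.trans fun a ha => ha.1)
        · exact hlab x hx A hAE
      · obtain ⟨y, hy, hya⟩ := exists_centric_step P inf_le_left hQ.1 hx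
        set E' := E ⊔ ((P : Subgroup G) ⊓ Subgroup.centralizer (E : Set G)) with hE'
        have hE'P : E' ≤ (P : Subgroup G) := sup_le inf_le_left inf_le_left
        have hlt : E < E' := by
          refine lt_of_le_of_ne le_sup_left fun e => hcen (selfCent_iff.mpr ?_)
          exact le_sup_right.trans e.ge
        have hcl : Nat.card E < Nat.card E' :=
          Set.ncard_lt_ncard (SetLike.coe_ssubset_coe.2 hlt) (Set.toFinite _)
        have hBc := Nat.le_of_dvd Nat.card_pos (Subgroup.card_dvd_of_le hBE)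
        rw [show Alperin.cjs x A = Alperin.cjs y A from Set.image_congr fun a ha => hya a (hAE ha)]
        exact ih E' y A (by omega) hE'P (by rw [Alperin.cj_eq_of_mem_normalizer hy]; exact hE'P)
          (fun a ha => (le_sup_left : E ≤ E') (hAE ha))

/-- The element version of `label_eq_centric`. -/
theorem label_elem_centric {α : Sort*} (P : Sylow 2 G) (lab : G → α)
    (hS : ∀ s ∈ (P : Subgroup G), ∀ a ∈ (P : Subgroup G), lab (s * a * s⁻¹) = lab a)
    (hstep : ∀ E : Subgroup G, E ≤ (P : Subgroup G) → SelfCent (P : Subgroup G) E →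
      OddTrivial E ∨ ∀ x ∈ Subgroup.normalizer (E : Set G), ∀ a ∈ E, lab (x * a * x⁻¹) = lab a)
    {a g : G} (ha : a ∈ (P : Subgroup G)) (hga : g * a * g⁻¹ ∈ (P : Subgroup G)) :
    lab (g * a * g⁻¹) = lab a := by
  have hsing : ∀ (g a : G), Alperin.cjs g {a} = {g⁻¹ * a * g} := fun g a => Set.image_singleton
  let L : Set G → Prop := fun A => ∃ h : G, A = {h} ∧ lab h = lab a
  have hL : ∀ (x : G) (A : Set G), (∀ b, A = {b} → lab (x⁻¹ * b * x) = lab b) →
      L (Alperin.cjs x A) = L A := by
    intro x A hb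
    refine propext ⟨?_, ?_⟩
    · rintro ⟨h, hA, hh⟩
      have hA' : A = {x * h * x⁻¹} := by
        have := congrArg (Alperin.cjs x⁻¹) hA
        rwa [Alperin.cjs_mul, mul_inv_cancel, Alperin.cjs_one, hsing, inv_inv] at this
      refine ⟨_, hA', ?_⟩
      rw [← hb _ hA', show x⁻¹ * (x * h * x⁻¹) * x = h by group]
      exact hh
    · rintro ⟨h, rfl, hh⟩
      exact ⟨_, hsing x h, (hb h rfl).trans hh⟩
  have h := label_eq_centric P L (fun s hs A hA => hL s A fun b hb => ?_)
    (fun E hE hc => (hstep E hE hc).imp id fun hl x hx A hA => hL x A fun b hb => ?_)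
    (A := {a}) (g := g⁻¹) (Set.singleton_subset_iff.mpr ha)
    (by rw [hsing, inv_inv]; exact Set.singleton_subset_iff.mpr hga)
  · have h2 : L (Alperin.cjs g⁻¹ {a}) := h ▸ ⟨a, rfl, rfl⟩
    obtain ⟨b, hb, hbl⟩ := h2
    rw [hsing, inv_inv, Set.singleton_eq_singleton_iff] at hb
    rw [hb, hbl]
  · have := hS s⁻¹ (inv_mem hs) b (hA (by rw [hb]; rfl))
    rwa [inv_inv] at this
  · have := hl x⁻¹ (inv_mem hx) b (hA (by rw [hb]; rfl))
    rwa [inv_inv] at this

end Cfsg.Agent.TwoFus
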