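import Cfsg.Agent.Lib.FGStruct.Zassenhaus.QuotMain
import Cfsg.Agent.Lib.BrauerSuzuki.Basic
import Cfsg.Agent.Lib.LargeExtra.Basic
import Cfsg.Agent.Lib.Solvable.Coprime
import Mathlib.GroupTheory.SemidirectProduct
import Mathlib.GroupTheory.SpecificGroups.Cyclic

/-!
Noncyclic abelian groups of automorphisms of odd prime-power order of a 2-group in which each
nontrivial automorphism fixes at most one involution: the group is a central product of quaternion
groups of order eight.
-/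

set_option autoImplicit false
set_option linter.style.haveILetI false

namespace Cfsg.Agent.FewFix

open Subgroup
open scoped commutatorElement

section Q8

variable {U : Type*} [Group U] [Finite U]

/-- An odd automorphism fixing a subgroup of index at most two pointwise is trivial. -/
theorem eq_one_of_fix_index_two (hP : IsPGroup 2 U) {A : Subgroup U} (hA : A.index = 2) {θ : MulAut U}
    {k : ℕ} (hk : Odd k) (hθ : θ ^ k = 1) (hfix : ∀ a ∈ A, θ a = a) : θ = 1 := by
  refine MulEquiv.ext fun g => ?_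
  show θ g = g
  by_cases hg : g ∈ A
  · exact hfix g hg
  have hg' : θ g ∉ A := fun h => hg (by
    have h1 := hfix _ h
    rw [θ.injective h1] at h
    exact h)
  set c := g⁻¹ * θ g with hc
  have hcA : c ∈ A := (mul_mem_iff_of_index_two hA).2 (iff_of_false (fun h => hg (inv_mem_iff.1 h)) hg')
  have hgc : θ g = g * c := (mul_inv_cancel_left g (θ g)).symm
  have hj : ∀ j : ℕ, (θ ^ j) g = g * c ^ j := by
    intro j
    induction j with
    | zero => simp
    | succ j ih =>
      rw [pow_succ', MulAut.mul_apply, ih, map_mul, map_pow, hfix c hcA, hgc, mul_assoc, ← pow_succ']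
  have h1 := hj k
  rw [hθ, MulAut.one_apply] at h1
  have h2 : c ^ k = 1 := mul_eq_left.1 h1.symm
  obtain ⟨m, hm⟩ := IsPGroup.iff_orderOf.1 hP c
  have h3 : orderOf c = 1 := Nat.eq_one_of_dvd_coprimes ((Nat.coprime_two_left.2 hk).pow_left m)
    (dvd_of_eq hm) (orderOf_dvd_of_pow_eq_one h2)
  rw [hgc, orderOf_eq_one_iff.1 h3, mul_one]

theorem eq_one_of_cyclic (hP : IsPGroup 2 U) [IsCyclic U] {θ : MulAut U} {k : ℕ} (hk : Odd k)
    (hθ : θ ^ k = 1) : θ = 1 := by
  obtain ⟨n, hn⟩ := IsPGroup.iff_card.1 hP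
  rcases Nat.eq_zero_or_pos n with rfl | hpos
  · haveI : Subsingleton U := (Nat.card_eq_one_iff_unique.1 hn).1
    exact MulEquiv.ext fun x => Subsingleton.elim _ _
  have h1 : orderOf θ ∣ 2 ^ (n - 1) := by
    have h2 := orderOf_dvd_natCard θ
    rw [IsCyclic.card_mulAut, hn, Nat.totient_prime_pow Nat.prime_two hpos] at h2
    simpa using h2
  exact orderOf_eq_one_iff.1 (Nat.eq_one_of_dvd_coprimes ((Nat.coprime_two_left.2 hk).pow_left _) h1
    (orderOf_dvd_of_pow_eq_one hθ))

/-- Facts about a 2-group with one involution and a nontrivial automorphism of odd order. -/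
structure IsQ8Act (z : U) (φ : MulAut U) : Prop where
  card : Nat.card U = 8
  fix : ∀ x, φ x = x → x = 1 ∨ x = z
  sq : ∀ x : U, x ^ 2 = 1 ∨ x ^ 2 = z
  cube : φ ^ 3 = 1
  unique : ∀ ψ : MulAut U, (∃ k, Odd k ∧ ψ ^ k = 1) → Commute φ ψ → ∃ i : Fin 3, ψ = φ ^ (i : ℕ)

theorem isQ8Act (hP : IsPGroup 2 U) (hab : AbCyc.AbCyclic U) {z : U} (hz : orderOf z = 2)
    (huniq : ∀ x : U, orderOf x = 2 → x = z) {φ : MulAut U} (hodd : ∃ k, Odd k ∧ φ ^ k = 1)
    (hne : φ ≠ 1) : IsQ8Act z φ := by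
  classical
  haveI : Fact (Nat.Prime 2) := ⟨Nat.prime_two⟩
  obtain ⟨k, hk, hφk⟩ := hodd
  rcases AbCyc.structure_of_pGroup hab hP with hc | ⟨-, A, hAn, hAc, hidx, hA4, hout, -⟩
  · haveI := hc
    exact absurd (eq_one_of_cyclic hP hk hφk) hne
  haveI := hAn
  haveI := hAc
  obtain ⟨n, hn⟩ := IsPGroup.iff_card.1 (hP.to_subgroup A)
  obtain ⟨⟨a, haA⟩, hagen⟩ := IsCyclic.exists_generator (α := ↥A)
  have hazp : zpowers a = A := le_antisymm (zpowers_le.2 haA) fun y hy => by
    obtain ⟨i, hi⟩ := hagen ⟨y, hy⟩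
    exact ⟨i, congrArg Subtype.val hi⟩
  have haord : orderOf a = Nat.card ↥A := by rw [← Nat.card_zpowers, hazp]
  have hA' : Nat.card ↥A = 4 := by
    by_contra h4
    -- `A` is characteristic
    have hmap : ∀ (θ : MulAut U), θ a ∈ A := fun θ => by
      by_contra h
      have h1 := hout _ h
      rw [θ.orderOf_eq, haord] at h1
      exact h4 h1
    let τ : MulAut ↥A := MulEquiv.ofBijective ((φ.toMonoidHom.comp A.subtype).codRestrict A
        fun y => by
          obtain ⟨i, hi⟩ : (y : U) ∈ zpowers a := hazp.symm ▸ y.2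
          show φ (y : U) ∈ A
          rw [← hi, show φ (a ^ i) = φ a ^ i from map_zpow φ a i]
          exact zpow_mem (hmap φ) i)
      (Finite.injective_iff_bijective.1 fun x y h =>
        Subtype.ext (φ.injective (congrArg Subtype.val h)))
    have hτn : ∀ (j : ℕ) (y : ↥A), (((τ ^ j) y : ↥A) : U) = (φ ^ j) (y : U) := by
      intro j
      induction j with
      | zero => intro y; rfl
      | succ j ih =>
        intro y
        rw [pow_succ', pow_succ', MulAut.mul_apply, MulAut.mul_apply, ← ih]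
        rfl
    have hτ : τ = 1 := eq_one_of_cyclic (hP.to_subgroup A) hk
      (MulEquiv.ext fun y => Subtype.ext (by rw [hτn, hφk]; rfl))
    exact hne (eq_one_of_fix_index_two hP hidx hk hφk fun y hy =>
      congrArg Subtype.val (DFunLike.congr_fun hτ (⟨y, hy⟩ : ↥A)))
  have hcard : Nat.card U = 8 := by rw [← A.card_mul_index, hidx, hA']
  have h4 : ∀ x : U, x ≠ 1 → x ≠ z → orderOf x = 4 := by
    intro x hx1 hxz
    by_cases hxA : x ∈ A
    · have h1 : orderOf x ∣ 2 ^ 2 := by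
        have h2 := orderOf_dvd_natCard (⟨x, hxA⟩ : ↥A)
        rw [← orderOf_coe, hA'] at h2
        simpa using h2
      obtain ⟨i, hi, hxi⟩ := (Nat.dvd_prime_pow Nat.prime_two).1 h1
      interval_cases i
      · exact absurd (orderOf_eq_one_iff.1 (by simpa using hxi)) hx1
      · exact absurd (huniq x (by simpa using hxi)) hxz
      · simpa using hxi
    · exact hout x hxA
  have hz2 : z ^ 2 = 1 := hz ▸ pow_orderOf_eq_one z
  have hz1 : z ≠ 1 := fun h => by rw [h, orderOf_one] at hz; omega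
  have hsq : ∀ x : U, x ^ 2 = 1 ∨ x ^ 2 = z := by
    intro x
    by_cases hx1 : x = 1
    · left; rw [hx1, one_pow]
    by_cases hxz : x = z
    · left; rw [hxz, hz2]
    refine Or.inr (huniq _ ?_)
    rw [orderOf_pow' x two_ne_zero, h4 x hx1 hxz]
    rfl
  have hfixone : ∀ θ : MulAut U, (∃ j, Odd j ∧ θ ^ j = 1) → ∀ x, x ≠ 1 → x ≠ z → θ x = x →
      θ = 1 := by
    rintro θ ⟨j, hj, hθ⟩ x hx1 hxz hx
    refine eq_one_of_fix_index_two hP (A := zpowers x) ?_ hj hθ ?_
    · have h1 := (zpowers x).card_mul_index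
      rw [hcard, Nat.card_zpowers, h4 x hx1 hxz] at h1
      omega
    · rintro _ ⟨i, rfl⟩
      show θ (x ^ i) = x ^ i
      rw [map_zpow, hx]
  have hfix : ∀ x, φ x = x → x = 1 ∨ x = z := by
    intro x hx
    by_contra h
    push Not at h
    exact hne (hfixone φ ⟨k, hk, hφk⟩ x h.1 h.2 hx)
  have hzfix : ∀ θ : MulAut U, θ z = z := fun θ => huniq _ (by rw [θ.orderOf_eq, hz])
  obtain ⟨g, hg⟩ : ∃ g : U, g ∉ A := by
    by_contra h
    push Not at h
    rw [show A = ⊤ from top_le_iff.1 fun y _ => h y, index_top] at hidx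
    omega
  have hg1 : g ≠ 1 := fun h => hg (h ▸ one_mem A)
  have hg4 := hout g hg
  have hgz : g ≠ z := fun h => by rw [h, hz] at hg4; omega
  -- an odd automorphism sending `g` to `g` or `g z` fixes it
  have hnear : ∀ θ : MulAut U, (∃ j, Odd j ∧ θ ^ j = 1) → (θ g = g ∨ θ g = g * z) → θ = 1 := by
    rintro θ ⟨j, hj, hθ⟩ (h | h)
    · exact hfixone θ ⟨j, hj, hθ⟩ g hg1 hgz h
    · exfalso
      have hp : ∀ i : ℕ, (θ ^ i) g = g * z ^ i := by
        intro i
        induction i with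
        | zero => simp
        | succ i ih =>
          rw [pow_succ', MulAut.mul_apply, ih, map_mul, map_pow, hzfix, h, mul_assoc, ← pow_succ']
      have h1 := hp j
      obtain ⟨r, rfl⟩ := hj
      rw [hθ, MulAut.one_apply, pow_succ, pow_mul, hz2, one_pow, one_mul] at h1
      exact hz1 (mul_eq_left.1 h1.symm)
  have hφj : ∀ j : ℕ, ∃ i, Odd i ∧ (φ ^ j) ^ i = 1 := fun j =>
    ⟨k, hk, by rw [← pow_mul, mul_comm, pow_mul, hφk, one_pow]⟩
  have hφ2 : φ ^ 2 ≠ 1 := fun h => hne (orderOf_eq_one_iff.1 (Nat.eq_one_of_dvd_coprimes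
    (Nat.coprime_two_left.2 hk) (orderOf_dvd_of_pow_eq_one h) (orderOf_dvd_of_pow_eq_one hφk)))
  -- the six elements of order four
  let F : Fin 3 × Fin 2 → {x : U // x ≠ 1 ∧ x ≠ z} := fun ib =>
    ⟨(φ ^ (ib.1 : ℕ)) (g * z ^ (ib.2 : ℕ)), by
      have h1 : orderOf ((φ ^ (ib.1 : ℕ)) (g * z ^ (ib.2 : ℕ))) = 4 := by
        rw [MulEquiv.orderOf_eq]
        fin_cases ib <;> simp only [pow_zero, mul_one, pow_one] <;> first
          | exact hg4
          | (refine h4 _ ?_ ?_
             · exact fun h => hgz ((mul_eq_one_iff_eq_inv.1 h).trans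
                 (inv_eq_of_mul_eq_one_right (by rw [← pow_two, hz2])))
             · exact fun h => hg1 (mul_eq_right.1 h))
      refine ⟨fun h => ?_, fun h => ?_⟩
      · rw [h, orderOf_one] at h1; omega
      · rw [h, hz] at h1; omega⟩
  have hFd : ∀ (d : ℕ) (b b' : Fin 2), (φ ^ d) (g * z ^ (b : ℕ)) = g * z ^ (b' : ℕ) → φ ^ d = 1 := by
    intro d b b' h
    refine hnear _ (hφj d) ?_
    rw [map_mul, map_pow, hzfix] at h
    fin_cases b <;> fin_cases b' <;> simp only [pow_zero, mul_one, pow_one] at h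
    · exact Or.inl h
    · exact Or.inr h
    · refine Or.inr ((eq_mul_inv_of_mul_eq h).trans ?_)
      rw [inv_eq_of_mul_eq_one_right (show z * z = 1 by rw [← pow_two, hz2])]
    · exact Or.inl (mul_right_cancel h)
  have hFi : Function.Injective F := by
    rintro ⟨i, b⟩ ⟨i', b'⟩ h
    have h0 : (φ ^ (i : ℕ)) (g * z ^ (b : ℕ)) = (φ ^ (i' : ℕ)) (g * z ^ (b' : ℕ)) :=
      congrArg Subtype.val h
    have key : ∀ (i i' : Fin 3) (b b' : Fin 2), (i : ℕ) ≤ i' →
        (φ ^ (i : ℕ)) (g * z ^ (b : ℕ)) = (φ ^ (i' : ℕ)) (g * z ^ (b' : ℕ)) → i = i' ∧ b = b' := by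
      intro i i' b b' hle h
      obtain ⟨d, hd⟩ := Nat.exists_eq_add_of_le hle
      rw [hd, pow_add, MulAut.mul_apply] at h
      have h2 := (φ ^ (i : ℕ)).injective h
      have h3 := hFd d b' b h2.symm
      have hd3 : d < 3 := by omega
      have hd0 : d = 0 := by
        interval_cases d
        · rfl
        · exact absurd (by simpa using h3) hne
        · exact absurd h3 hφ2
      subst hd0
      refine ⟨Fin.ext (by omega), ?_⟩
      rw [pow_zero, MulAut.one_apply] at h2
      have h4' := mul_left_cancel h2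
      fin_cases b <;> fin_cases b' <;> simp at h4' ⊢
      · exact hz1 h4'.symm
      · exact hz1 h4'
    rcases le_total (i : ℕ) (i' : ℕ) with hle | hle
    · obtain ⟨rfl, rfl⟩ := key i i' b b' hle h0; rfl
    · obtain ⟨rfl, rfl⟩ := key i' i b' b hle h0.symm; rfl
  have hFs : Function.Surjective F := by
    refine ((Nat.bijective_iff_injective_and_card F).2 ⟨hFi, ?_⟩).2
    haveI := Fintype.ofFinite U
    rw [Nat.card_eq_fintype_card, Nat.card_eq_fintype_card, Fintype.card_subtype, Fintype.card_prod,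
      Fintype.card_fin, Fintype.card_fin]
    have h1 : (Finset.univ.filter fun x : U => x ≠ 1 ∧ x ≠ z) = Finset.univ \ {1, z} := by
      ext x; simp [and_comm]
    rw [h1, Finset.card_sdiff_of_subset (Finset.subset_univ _), Finset.card_univ,
      ← Nat.card_eq_fintype_card, hcard, Finset.card_pair (Ne.symm hz1)]
  have hmatch : ∀ θ : MulAut U, (∃ j, Odd j ∧ θ ^ j = 1) → Commute φ θ →
      ∃ i : Fin 3, θ = φ ^ (i : ℕ) := by
    intro θ hθ hcom
    have hθg : θ g ≠ 1 ∧ θ g ≠ z :=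
      ⟨fun h => hg1 (θ.map_eq_one_iff.1 h), fun h => hgz (θ.injective (h.trans (hzfix θ).symm))⟩
    obtain ⟨⟨i, b⟩, hib⟩ := hFs ⟨θ g, hθg⟩
    have h0 : (φ ^ (i : ℕ)) (g * z ^ (b : ℕ)) = θ g := congrArg Subtype.val hib
    refine ⟨i, (inv_mul_eq_one.1 ?_).symm⟩
    obtain ⟨j, hj, hθj⟩ := hθ
    refine hnear _ ⟨j * k, hj.mul hk, ?_⟩ ?_
    · rw [((hcom.pow_left (i : ℕ)).inv_left).mul_pow, inv_pow]
      rw [show θ ^ (j * k) = 1 by rw [pow_mul, hθj, one_pow], ← pow_mul, mul_comm, pow_mul,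
        mul_comm j k, pow_mul, hφk]
      simp
    · rw [MulAut.mul_apply, ← h0, MulAut.inv_def, MulEquiv.symm_apply_apply]
      fin_cases b
      · left; simp
      · right; simp
  have hcube : φ ^ 3 = 1 := by
    obtain ⟨i, hi⟩ := hmatch (φ ^ 3) (hφj 3) ((Commute.refl φ).pow_right 3)
    fin_cases i
    · simpa using hi
    · exfalso
      simp only [pow_one] at hi
      refine hφ2 ?_
      rw [pow_succ] at hi
      exact mul_eq_right.1 hi
    · exfalso
      rw [pow_succ'] at hi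
      exact hne (mul_eq_right.1 hi)
  exact ⟨hcard, hfix, hsq, hcube, hmatch⟩

end Q8

variable {W : Type*} [Group W]

/-- The fixed subgroup of an automorphism. -/
def fx (e : MulAut W) : Subgroup W where
  carrier := {x | e x = x}
  mul_mem' {a b} ha hb := by
    show e (a * b) = a * b
    rw [map_mul, show e a = a from ha, show e b = b from hb]
  one_mem' := map_one e
  inv_mem' {a} ha := by
    show e a⁻¹ = a⁻¹
    rw [map_inv, show e a = a from ha]

theorem mem_fx {e : MulAut W} {x : W} : x ∈ fx e ↔ e x = x := Iff.rfl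

/-- Coprime generation by fixed points, for automorphisms. -/
theorem le_of_fixed [Finite W] {E : Subgroup (MulAut W)} [IsMulCommutative ↥E] (hnc : ¬ IsCyclic ↥E)
    (hcop : (Nat.card ↥E).Coprime (Nat.card W)) (K X : Subgroup W)
    (hK : ∀ e ∈ E, ∀ x ∈ K, e x ∈ K) (h : ∀ e ∈ E, e ≠ 1 → ∀ x ∈ K, e x = x → x ∈ X) : K ≤ X := by
  haveI : Finite (W ⋊[MonoidHom.id (MulAut W)] MulAut W) :=
    Finite.of_equiv _ SemidirectProduct.equivProd.symm
  let il : W →* W ⋊[MonoidHom.id (MulAut W)] MulAut W := SemidirectProduct.inl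
  let ir : MulAut W →* W ⋊[MonoidHom.id (MulAut W)] MulAut W := SemidirectProduct.inr
  have hil : Function.Injective il := SemidirectProduct.inl_injective
  have hir : Function.Injective ir := SemidirectProduct.inr_injective
  have hconj : ∀ (e : MulAut W) (x : W), ir e * il x * (ir e)⁻¹ = il (e x) := fun e x => by
    rw [← map_inv]; exact (SemidirectProduct.inl_aut e x).symm
  haveI : IsMulCommutative ↥(E.map ir) := inferInstance
  have hAK : E.map ir ≤ normalizer ((K.map il : Subgroup _) : Set _) := by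
    rintro _ ⟨e, he, rfl⟩
    refine mem_normalizer_iff.2 fun y => ⟨?_, ?_⟩
    · rintro ⟨x, hx, rfl⟩
      exact ⟨e x, hK e he x hx, (hconj e x).symm⟩
    · rintro ⟨x, hx, hxy⟩
      refine ⟨e⁻¹ x, hK _ (inv_mem he) x hx, ?_⟩
      rw [← hconj, map_inv, inv_inv, hxy]
      group
  have hc' : (Nat.card ↥(E.map ir)).Coprime (Nat.card ↥(K.map il)) := by
    rw [card_map_of_injective hir, card_map_of_injective hil]
    exact hcop.coprime_dvd_right K.card_subgroup_dvd_card
  have hnc' : ¬ IsCyclic ↥(E.map ir) := fun hh =>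
    hnc ((E.equivMapOfInjective ir hir).isCyclic.2 hh)
  have hgen := CoprimeAct.generated_by_centralizers hnc' hAK hc'
  intro x hx
  have hle : (⨆ a ∈ {a | a ∈ E.map ir ∧ a ≠ 1}, K.map il ⊓ centralizer {a}) ≤ X.map il := by
    refine iSup₂_le ?_
    rintro _ ⟨⟨e, he, rfl⟩, he1⟩ y hy
    obtain ⟨⟨w, hw, rfl⟩, hy2⟩ := mem_inf.1 hy
    rw [mem_centralizer_singleton_iff] at hy2
    refine ⟨w, h e he (fun hh => he1 (by rw [hh, map_one])) w hw (hil ?_), rfl⟩
    rw [← hconj, ← hy2, mul_inv_cancel_right]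
  obtain ⟨w, hw, hwx⟩ : il x ∈ X.map il := hle (hgen.symm ▸ mem_map_of_mem il hx)
  exact hil hwx ▸ hw

variable [Finite W] {p : ℕ} [Fact p.Prime]

/-- The structure theorem. -/
theorem main (hW : IsPGroup 2 W) (hp : p ≠ 2) (E : Subgroup (MulAut W)) (hE : IsPGroup p ↥E)
    (hab : IsMulCommutative ↥E) (hnc : ¬ IsCyclic ↥E)
    (hfix : ∀ e ∈ E, e ≠ 1 → ∀ x y : W, orderOf x = 2 → orderOf y = 2 → e x = x → e y = y → x = y) :
    Nat.card ↥E = 9 ∧ Cfsg.IsExtraspecial 2 W ∧
      (Nat.card W = 2 ^ 5 ∨ Nat.card W = 2 ^ 7 ∨ Nat.card W = 2 ^ 9) ∧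
      {x : W | ∀ e ∈ E, e x = x} = (center W : Set W) := by
  classical
  haveI := hab
  haveI : Fact (Nat.Prime 2) := ⟨Nat.prime_two⟩
  have hpp : p.Prime := Fact.out
  obtain ⟨mW, hmW⟩ := IsPGroup.iff_card.1 hW
  obtain ⟨mE, hmE⟩ := IsPGroup.iff_card.1 hE
  have hcop : ∀ E' : Subgroup (MulAut W), E' ≤ E → (Nat.card ↥E').Coprime (Nat.card W) := fun E' h => by
    have h1 := card_dvd_of_le h
    rw [hmE] at h1
    rw [hmW]
    exact (((Nat.coprime_primes hpp Nat.prime_two).2 hp).pow mE mW).coprime_dvd_left h1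
  have hcomm : ∀ a ∈ E, ∀ b ∈ E, a * b = b * a := fun a ha b hb =>
    congrArg Subtype.val (mul_comm' (⟨a, ha⟩ : ↥E) ⟨b, hb⟩)
  have hfxinv : ∀ a ∈ E, ∀ b ∈ E, ∀ x, a x = x → a (b x) = b x := fun a ha b hb x hx => by
    rw [← MulAut.mul_apply, hcomm a ha b hb, MulAut.mul_apply, hx]
  -- the common fixed points and the involution
  let FE : Subgroup W :=
    { carrier := {x | ∀ e ∈ E, e x = x}
      mul_mem' := fun {a b} ha hb e he => by rw [map_mul, ha e he, hb e he]
      one_mem' := fun e _ => map_one e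
      inv_mem' := fun {a} ha e he => by rw [map_inv, ha e he] }
  have hodd : ∀ e ∈ E, ∃ k, Odd k ∧ e ^ k = 1 := fun e he => by
    obtain ⟨k, hk⟩ := hE ⟨e, he⟩
    exact ⟨p ^ k, (hpp.odd_of_ne_two hp).pow, congrArg Subtype.val hk⟩
  obtain ⟨e₁, he₁, he₁1⟩ : ∃ e ∈ E, e ≠ 1 := by
    by_contra h
    push Not at h
    haveI : Subsingleton ↥E := ⟨fun a b => Subtype.ext ((h a a.2).trans (h b b.2).symm)⟩
    exact hnc isCyclic_of_subsingleton
  have hWnt : Nontrivial W := by
    by_contra h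
    rw [not_nontrivial_iff_subsingleton] at h
    exact he₁1 (MulEquiv.ext fun x => Subsingleton.elim _ _)
  haveI := hWnt
  let Om : Subgroup W :=
    { carrier := {x | x ∈ center W ∧ x ^ 2 = 1}
      mul_mem' := fun {a b} ha hb => ⟨mul_mem ha.1 hb.1, by
        rw [(show Commute a b from (mem_center_iff.1 hb.1 a)).mul_pow, ha.2, hb.2, one_mul]⟩
      one_mem' := ⟨one_mem _, one_pow 2⟩
      inv_mem' := fun {a} ha => ⟨inv_mem ha.1, by rw [inv_pow, ha.2, inv_one]⟩ }
  have hOminv : ∀ e : MulAut W, ∀ x ∈ Om, e x ∈ Om := fun e x hx =>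
    ⟨mem_center_iff.2 fun y => by
      obtain ⟨y', rfl⟩ := e.surjective y
      rw [← map_mul, ← map_mul, mem_center_iff.1 hx.1], by rw [← map_pow, hx.2, map_one]⟩
  have hOmFE : Om ≤ FE := le_of_fixed hnc (hcop E le_rfl) Om FE (fun e _ => hOminv e)
    fun e he he1 x hx hex e' he' => by
      by_cases hx1 : x = 1
      · rw [hx1, map_one]
      have ho : orderOf x = 2 := orderOf_eq_prime hx.2 hx1
      exact (hfix e he he1 (e' x) x (by rw [e'.orderOf_eq, ho]) ho
        (hfxinv e he e' he' x hex) hex)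
  obtain ⟨z, hzO, hz⟩ : ∃ z, z ∈ Om ∧ orderOf z = 2 := by
    haveI := hW.center_nontrivial
    obtain ⟨j, hj⟩ := IsPGroup.iff_card.1 (hW.to_subgroup (center W))
    obtain ⟨c, hc⟩ := exists_prime_orderOf_dvd_card' (p := 2) (show 2 ∣ Nat.card (center W) by
      have h1 : 1 < Nat.card (center W) := Finite.one_lt_card
      rw [hj] at h1 ⊢
      exact dvd_pow_self 2 (by rintro rfl; simp at h1))
    refine ⟨c, ⟨c.2, ?_⟩, by rw [orderOf_coe, hc]⟩
    rw [← hc, ← orderOf_coe, pow_orderOf_eq_one]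
  have hzc : z ∈ center W := hzO.1
  have hzE : ∀ e ∈ E, e z = z := hOmFE hzO
  have hz2 : z ^ 2 = 1 := hz ▸ pow_orderOf_eq_one z
  have hzinv : z⁻¹ = z := inv_eq_of_mul_eq_one_right (by rw [← pow_two, hz2])
  have huniq : ∀ e ∈ E, e ≠ 1 → ∀ x, orderOf x = 2 → e x = x → x = z := fun e he he1 x hx hex =>
    hfix e he he1 x z hx hz hex (hzE e he)
  set Zs := zpowers z with hZs
  have hZmem : ∀ {x}, x ∈ Zs ↔ x = 1 ∨ x = z := fun {x} => by
    rw [hZs, mem_zpowers_iff_mem_range_orderOf, hz, show Finset.range 2 = {0, 1} from rfl]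
    simp [eq_comm]
  have hZc : Zs ≤ center W := zpowers_le.2 hzc
  -- restriction to an invariant subgroup
  have hres : ∀ U : Subgroup W, (∀ e ∈ E, ∀ x ∈ U, e x ∈ U) →
      ∃ r : ↥E →* MulAut ↥U, ∀ (e : ↥E) (x : ↥U), ((r e x : ↥U) : W) = (e : MulAut W) x := by
    intro U hU
    let r0 : ↥E → MulAut ↥U := fun e => MulEquiv.ofBijective
      (((e : MulAut W).toMonoidHom.comp U.subtype).codRestrict U fun x => hU e e.2 x x.2)
      (Finite.injective_iff_bijective.1 fun x y h =>
        Subtype.ext ((e : MulAut W).injective (congrArg Subtype.val h)))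
    exact ⟨MonoidHom.mk' r0 fun a b => MulEquiv.ext fun x => Subtype.ext rfl, fun e x => rfl⟩
  -- the fixed points of a nontrivial element
  have hU : ∀ e ∈ E, e ≠ 1 → ¬ fx e ≤ FE →
      p = 3 ∧ Nat.card ↥(fx e) = 8 ∧ FE ≤ Zs ∧ (∀ x ∈ fx e, x ^ 2 ∈ Zs) ∧
      ∃ φ ∈ E, (∀ x ∈ fx e, φ x = x → x ∈ Zs) ∧ (∀ x ∈ fx e, φ (φ (φ x)) = x) ∧
        ∀ ψ ∈ E, ∃ i : Fin 3, ∀ x ∈ fx e, ψ x = (φ ^ (i : ℕ)) x := by
    intro e he he1 hne
    obtain ⟨r, hr⟩ := hres (fx e) fun e' he' x hx => hfxinv e he e' he' x hx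
    obtain ⟨φ, hφ⟩ : ∃ φ : ↥E, r φ ≠ 1 := by
      by_contra h
      push Not at h
      refine hne fun x hx e' he' => ?_
      have h1 := congrArg Subtype.val (DFunLike.congr_fun (h ⟨e', he'⟩) (⟨x, hx⟩ : ↥(fx e)))
      rw [hr] at h1
      exact h1
    have hzU : z ∈ fx e := hzE e he
    have hu : ∀ x : ↥(fx e), orderOf x = 2 → x = ⟨z, hzU⟩ := fun x hx =>
      Subtype.ext (huniq e he he1 x (by rw [orderOf_coe, hx]) x.2)
    have habc : AbCyc.AbCyclic ↥(fx e) :=
      FrobQuot.abCyclic_of_injective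
        (BrauerSuzuki.abCyclic (G := ↥(fx e)) (fun a b ha hb _ => (hu a ha).trans (hu b hb).symm)
          (S := ⊤) ((hW.to_subgroup (fx e)).to_subgroup ⊤))
        (topEquiv (G := ↥(fx e))).symm.toMonoidHom (MulEquiv.injective _)
    have hoddr : ∀ ψ : ↥E, ∃ k, Odd k ∧ r ψ ^ k = 1 := fun ψ => by
      obtain ⟨k, hk, hψ⟩ := hodd ψ ψ.2
      exact ⟨k, hk, by rw [← map_pow, show ψ ^ k = 1 from Subtype.ext hψ, map_one]⟩
    have H := isQ8Act (hW.to_subgroup (fx e)) habc (z := ⟨z, hzU⟩)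
      (by rw [← orderOf_coe]; exact hz) hu (hoddr φ) hφ
    have hφfix : ∀ x ∈ fx e, (φ : MulAut W) x = x → x ∈ Zs := fun x hx hφx => by
      rcases H.fix ⟨x, hx⟩ (Subtype.ext (by rw [hr]; exact hφx)) with h | h
      · exact hZmem.2 (Or.inl (congrArg Subtype.val h))
      · exact hZmem.2 (Or.inr (congrArg Subtype.val h))
    refine ⟨?_, H.card, fun x hx => hφfix x (hx e he) (hx φ φ.2), fun x hx => ?_,
      φ, φ.2, hφfix, fun x hx => ?_, fun ψ hψ => ?_⟩
    · by_contra hp3
      obtain ⟨k, hk⟩ := hE φ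
      refine hφ (orderOf_eq_one_iff.1 (Nat.eq_one_of_dvd_coprimes
        (((Nat.coprime_primes Nat.prime_three hpp).2 (Ne.symm hp3)).pow_right k)
        (orderOf_dvd_of_pow_eq_one H.cube) (orderOf_dvd_of_pow_eq_one ?_)))
      rw [← map_pow, hk, map_one]
    · rcases H.sq ⟨x, hx⟩ with h | h
      · exact hZmem.2 (Or.inl (congrArg Subtype.val h))
      · exact hZmem.2 (Or.inr (congrArg Subtype.val h))
    · have h1 := congrArg Subtype.val (DFunLike.congr_fun H.cube (⟨x, hx⟩ : ↥(fx e)))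
      simp only [pow_succ, pow_zero, one_mul, MulAut.mul_apply, hr] at h1
      exact h1
    · obtain ⟨i, hi⟩ := H.unique (r ⟨ψ, hψ⟩) (hoddr ⟨ψ, hψ⟩)
        ((show Commute φ ⟨ψ, hψ⟩ from mul_comm' _ _).map r)
      refine ⟨i, fun x hx => ?_⟩
      have h1 := congrArg Subtype.val (DFunLike.congr_fun hi (⟨x, hx⟩ : ↥(fx e)))
      rw [← map_pow, hr, hr, SubmonoidClass.coe_pow] at h1
      exact h1
  -- some fixed subgroup is moved
  obtain ⟨e₀, he₀, he₀1, he₀m⟩ : ∃ e ∈ E, e ≠ 1 ∧ ¬ fx e ≤ FE := by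
    by_contra h
    push Not at h
    have h1 := le_of_fixed hnc (hcop E le_rfl) ⊤ FE (fun _ _ x _ => mem_top _)
      fun e he he1 x _ hx => h e he he1 hx
    exact he₁1 (MulEquiv.ext fun x => h1 (mem_top x) e₁ he₁)
  obtain ⟨rfl, -, hFE, -⟩ := hU e₀ he₀ he₀1 he₀m
  have hFEeq : FE = Zs := le_antisymm hFE (zpowers_le.2 hzE)
  -- the order of `E`
  have hE9 : Nat.card ↥E = 9 ∧ ∀ e ∈ E, e ^ 3 = 1 := by
    obtain ⟨q, E0, hq, hE0, -⟩ := CoprimeAct.exists_elementary_of_not_isCyclic hnc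
    have hdvd : q ^ 2 ∣ 3 ^ mE := hmE ▸ hE0 ▸ card_subgroup_dvd_card E0
    have hq3 : q = 3 := (Nat.prime_dvd_prime_iff_eq hq Nat.prime_three).1
      (hq.dvd_of_dvd_pow ((dvd_pow_self q two_ne_zero).trans hdvd))
    rw [hq3] at hdvd
    have hm2 : 2 ≤ mE := (Nat.pow_dvd_pow_iff_le_right (by norm_num)).1 hdvd
    have hexp : ∀ e ∈ E, e ^ 3 = 1 := by
      intro e he
      by_contra hk
      refine hk (MulEquiv.ext fun x => ?_)
      have hall : (⊤ : Subgroup W) ≤ fx (e ^ 3) := le_of_fixed hnc (hcop E le_rfl) ⊤ _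
        (fun _ _ x _ => mem_top _) fun f hf hf1 x _ hx => by
          by_cases hmv : fx f ≤ FE
          · exact hmv hx (e ^ 3) (pow_mem he 3)
          obtain ⟨-, -, -, -, φ, hφ, -, hcube, hmatch⟩ := hU f hf hf1 hmv
          obtain ⟨i, hi⟩ := hmatch e he
          have hstab : ∀ y ∈ fx f, e y ∈ fx f := fun y hy => hfxinv f hf e he y hy
          show (e ^ 3) x = x
          have h3 : ∀ y ∈ fx f, (φ ^ (i : ℕ)) ((φ ^ (i : ℕ)) ((φ ^ (i : ℕ)) y)) = y := fun y hy => by
            fin_cases i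
            · simp
            · simpa using hcube y hy
            · simp only [← MulAut.mul_apply, ← pow_add]
              show (φ ^ 6) y = y
              have h6 : φ ^ 6 = φ * (φ * φ) * (φ * (φ * φ)) := by
                simp only [pow_succ, pow_zero, one_mul, mul_assoc]
              rw [h6]
              simp only [MulAut.mul_apply]
              rw [hcube y hy, hcube y hy]
          simp only [pow_succ, pow_zero, one_mul, MulAut.mul_apply]
          have hx1 := hstab x hx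
          have hx2 := hstab _ hx1
          rw [hi _ hx2, hi _ hx1, hi x hx]
          exact h3 x hx
      exact hall (mem_top x)
    refine ⟨?_, hexp⟩
    by_contra h9
    have hm3 : 3 ≤ mE := by
      by_contra h
      exact h9 (by rw [hmE, show mE = 2 by omega]; norm_num)
    obtain ⟨-, hc8, -, -, φ, hφE, hφfix, hcube, hmatch⟩ := hU e₀ he₀ he₀1 he₀m
    -- the kernel
    let K : Subgroup (MulAut W) :=
      { carrier := {ψ | ψ ∈ E ∧ ∀ x ∈ fx e₀, ψ x = x}
        mul_mem' := fun {a b} ha hb => ⟨mul_mem ha.1 hb.1, fun x hx => by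
          rw [MulAut.mul_apply, hb.2 x hx, ha.2 x hx]⟩
        one_mem' := ⟨one_mem _, fun _ _ => rfl⟩
        inv_mem' := fun {a} ha => ⟨inv_mem ha.1, fun x hx => by
          conv_lhs => rw [← ha.2 x hx]
          rw [MulAut.inv_def, MulEquiv.symm_apply_apply]⟩ }
    have hKE : K ≤ E := fun _ h => h.1
    haveI : IsMulCommutative ↥K :=
      ⟨⟨fun a b => Subtype.ext (hcomm a (hKE a.2) b (hKE b.2))⟩⟩
    have hKidx : Nat.card ↥E ≤ 3 * Nat.card ↥K := by
      have hF : ∀ ψ : ↥E, ∃ (i : Fin 3) (k : ↥K), (ψ : MulAut W) = φ ^ (i : ℕ) * k := fun ψ => by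
        obtain ⟨i, hi⟩ := hmatch ψ ψ.2
        refine ⟨i, ⟨(φ ^ (i : ℕ))⁻¹ * ψ, mul_mem (inv_mem (pow_mem hφE _)) ψ.2, fun x hx => ?_⟩,
          (mul_inv_cancel_left _ _).symm⟩
        rw [MulAut.mul_apply, hi x hx, MulAut.inv_def, MulEquiv.symm_apply_apply]
      choose i k hik using hF
      have h1 := Nat.card_le_card_of_injective (fun ψ => (i ψ, k ψ)) fun a b h => by
        simp only [Prod.mk.injEq] at h
        exact Subtype.ext (by rw [hik a, hik b, h.1, h.2])
      rwa [Nat.card_prod, Nat.card_fin] at h1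
    have hK9 : 9 ≤ Nat.card ↥K := by
      have : 3 ^ 3 ≤ Nat.card ↥E := hmE ▸ Nat.pow_le_pow_right (by norm_num) hm3
      omega
    have hKnc : ¬ IsCyclic ↥K := fun hc => by
      obtain ⟨g, hg⟩ := IsCyclic.exists_generator (α := ↥K)
      have h1 := orderOf_eq_card_of_forall_mem_zpowers hg
      have h2 : orderOf g ∣ 3 := orderOf_dvd_of_pow_eq_one (Subtype.ext (hexp g (hKE g.2)))
      have := Nat.le_of_dvd (by norm_num) h2
      omega
    have hall := le_of_fixed hKnc (hcop K hKE) ⊤ (fx e₀) (fun _ _ x _ => mem_top _)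
      fun k hk hk1 x _ hx => by
        have hle : fx e₀ ≤ fx k := fun y hy => hk.2 y hy
        have hmv : ¬ fx k ≤ FE := fun h => he₀m (hle.trans h)
        obtain ⟨-, hc8', -⟩ := hU k hk.1 hk1 hmv
        rw [eq_of_le_of_card_ge hle (by rw [hc8, hc8'])]
        exact hx
    obtain ⟨k, hk, hk1⟩ : ∃ k ∈ K, k ≠ 1 := by
      by_contra h
      push Not at h
      have : Subsingleton ↥K := ⟨fun a b => Subtype.ext ((h a a.2).trans (h b b.2).symm)⟩
      exact hKnc isCyclic_of_subsingleton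
    exact hk1 (MulEquiv.ext fun x => hk.2 x (hall (mem_top x)))
  -- the set of fixed subgroups
  haveI := Fintype.ofFinite ↥E
  let E1 : Finset ↥E := Finset.univ.erase 1
  let S : Subgroup W → Finset (Subgroup W) := fun C =>
    (E1.image fun e : ↥E => fx (e : MulAut W)).filter fun U => U ≤ C ∧ ¬ U ≤ FE
  have hS4 : ∀ C, (S C).card ≤ 4 := by
    intro C
    refine (Finset.card_filter_le _ _).trans ?_
    have h1 := Finset.mul_card_image_le_card (s := E1) (f := fun e : ↥E => fx (e : MulAut W)) 2 (by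
      intro U hU
      obtain ⟨e, he, rfl⟩ := Finset.mem_image.1 hU
      have he1 : e ≠ 1 := Finset.ne_of_mem_erase he
      have hinv : e⁻¹ ≠ e := fun h => he1 (by
        have h3 : e ^ 3 = 1 := Subtype.ext (hE9.2 e e.2)
        have h2 : e ^ 2 = 1 := by rw [pow_two]; conv_lhs => arg 1; rw [← h]
                                  exact inv_mul_cancel e
        rw [pow_succ, h2, one_mul] at h3
        exact h3)
      rw [show (2 : ℕ) = ({e, e⁻¹} : Finset ↥E).card from (Finset.card_pair (Ne.symm hinv)).symm]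
      refine Finset.card_le_card fun y hy => ?_
      simp only [Finset.mem_insert, Finset.mem_singleton] at hy
      rw [Finset.mem_filter]
      rcases hy with rfl | rfl
      · exact ⟨he, rfl⟩
      · refine ⟨Finset.mem_erase.2 ⟨inv_ne_one.2 he1, Finset.mem_univ _⟩, ?_⟩
        ext x
        simp only [mem_fx, InvMemClass.coe_inv, MulAut.inv_def, MulEquiv.symm_apply_eq]
        exact eq_comm)
    have h2 : E1.card = 8 := by
      rw [Finset.card_erase_of_mem (Finset.mem_univ _), Finset.card_univ, ← Nat.card_eq_fintype_card,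
        hE9.1]
    omega
  -- the decomposition
  have hdec : ∀ n, ∀ C : Subgroup W, Nat.card ↥C = n → (∀ e ∈ E, ∀ x ∈ C, e x ∈ C) → Zs ≤ C →
      ∃ m ≤ (S C).card, Nat.card ↥C = 2 * 4 ^ m ∧ (∀ x ∈ C, x ^ 2 ∈ Zs) ∧
        (∀ x ∈ C, ∀ y ∈ C, ⁅x, y⁆ ∈ Zs) ∧
        ∀ x ∈ C, (∀ y ∈ C, x * y = y * x) → x ∈ Zs := by
    intro n
    induction n using Nat.strong_induction_on with
    | _ n ih =>
    intro C hn hCE hZC
    by_cases hCZ : C = Zs
    · refine ⟨0, Nat.zero_le _, by rw [hCZ, hZs, Nat.card_zpowers, hz]; rfl, fun x hx => ?_,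
        fun x hx y hy => ?_, fun x hx _ => hCZ ▸ hx⟩
      · exact pow_mem (hCZ ▸ hx) 2
      · rw [commutatorElement_eq_one_iff_mul_comm.2 (mem_center_iff.1 (hZc (hCZ ▸ hy)) x)]
        exact one_mem _
    haveI hZn : Zs.Normal := ⟨fun x hx g => by
      rw [mem_center_iff.1 (hZc hx) g, mul_inv_cancel_right]; exact hx⟩
    let D : Subgroup W :=
      { carrier := {x | x ∈ C ∧ ∀ c ∈ C, ⁅x, c⁆ ∈ Zs}
        mul_mem' := fun {a b} ha hb => ⟨mul_mem ha.1 hb.1, fun c hc => by
          have e1 : ⁅a * b, c⁆ = a * ⁅b, c⁆ * a⁻¹ * ⁅a, c⁆ := by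
            simp only [commutatorElement_def]; group
          rw [e1]
          exact mul_mem (hZn.conj_mem _ (hb.2 c hc) a) (ha.2 c hc)⟩
        one_mem' := ⟨one_mem _, fun c _ => by rw [commutatorElement_one_left]; exact one_mem _⟩
        inv_mem' := fun {a} ha => ⟨inv_mem ha.1, fun c hc => by
          have e1 : ⁅a⁻¹, c⁆ = a⁻¹ * ⁅a, c⁆⁻¹ * a⁻¹⁻¹ := by simp only [commutatorElement_def]; group
          rw [e1]
          exact hZn.conj_mem _ (inv_mem (ha.2 c hc)) _⟩ }
    obtain ⟨d, hdD, hdZ⟩ : ∃ d ∈ D, d ∉ Zs := by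
      haveI : Nontrivial (↥C ⧸ Zs.subgroupOf C) := by
        rw [← not_subsingleton_iff_nontrivial]
        intro h
        exact hCZ (le_antisymm (subgroupOf_eq_top.1 (QuotientGroup.subgroup_eq_top_of_subsingleton
          (G := ↥C) (Zs.subgroupOf C) h)) hZC)
      haveI := ((hW.to_subgroup C).to_quotient (Zs.subgroupOf C)).center_nontrivial
      obtain ⟨⟨c, hc⟩, hc1⟩ := exists_ne (1 : ↥(center (↥C ⧸ Zs.subgroupOf C)))
      obtain ⟨d, rfl⟩ := QuotientGroup.mk'_surjective _ c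
      refine ⟨d, ⟨d.2, fun y hy => ?_⟩, fun h => hc1 (Subtype.ext ((QuotientGroup.eq_one_iff d).2 h))⟩
      have h1 := mem_center_iff.1 hc (QuotientGroup.mk' _ (⟨y, hy⟩ : ↥C))
      rw [← map_mul, ← map_mul] at h1
      have h2 := QuotientGroup.eq.1 h1.symm
      rw [mem_subgroupOf] at h2
      simp only [mul_inv_rev, coe_mul, coe_inv] at h2
      have h3 := hZn.conj_mem _ h2 ((d : W) * y)
      have e1 : (d : W) * y * (y⁻¹ * (d : W)⁻¹ * (y * d)) * ((d : W) * y)⁻¹ = ⁅(d : W), y⁆⁻¹ := by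
        simp only [commutatorElement_def]; group
      rw [e1] at h3
      exact inv_mem_iff.1 h3
    have hDE : ∀ e ∈ E, ∀ x ∈ D, e x ∈ D := fun e he x hx => ⟨hCE e he x hx.1, fun c hc => by
      have h1 := hx.2 (e⁻¹ c) (hCE _ (inv_mem he) c hc)
      have e1 : e ⁅x, e⁻¹ c⁆ = ⁅e x, c⁆ := by
        rw [map_commutatorElement, MulAut.inv_def, MulEquiv.apply_symm_apply]
      rw [← e1]
      rcases hZmem.1 h1 with h | h <;> rw [h]
      · rw [map_one]; exact one_mem _
      · rw [hzE e he]; exact mem_zpowers z⟩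
    obtain ⟨e, he, he1, g, hgD, hgfix, hgZ⟩ : ∃ e ∈ E, e ≠ 1 ∧ ∃ g ∈ D, e g = g ∧ g ∉ Zs := by
      by_contra h
      push Not at h
      exact hdZ (le_of_fixed hnc (hcop E le_rfl) D Zs hDE
        (fun e he he1 x hx hex => h e he he1 x hx hex) hdD)
    have hmv : ¬ fx e ≤ FE := fun h => hgZ (hFEeq ▸ h hgfix)
    obtain ⟨-, hc8, -, hsqU, φ, hφE, hφfix, hcube, hmatch⟩ := hU e he he1 hmv
    set U := fx e with hUdef
    have hgU : g ∈ U := hgfix
    set h := φ g with hh
    have hhU : h ∈ U := hfxinv e he φ hφE g hgU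
    have hhD : h ∈ D := hDE φ hφE g hgD
    have hZU : Zs ≤ U := zpowers_le.2 (hzE e he)
    have hg1 : g ≠ 1 := fun h0 => hgZ (h0 ▸ one_mem _)
    have hgz : g ≠ z := fun h0 => hgZ (h0 ▸ mem_zpowers z)
    have hg2 : g ^ 2 = z := (hZmem.1 (hsqU g hgU)).resolve_left fun h0 =>
      hgz (huniq e he he1 g (orderOf_eq_prime h0 hg1) hgU)
    have hgord : orderOf g = 4 := by
      refine orderOf_eq_prime_pow (p := 2) (n := 1) ?_ ?_
      · rw [pow_one, hg2]; exact fun h0 => by rw [h0, orderOf_one] at hz; omega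
      · rw [show (2 : ℕ) ^ (1 + 1) = 2 * 2 from rfl, pow_mul, hg2, hz2]
    have hmemg : ∀ {x}, x ∈ zpowers g ↔ x = 1 ∨ x = g ∨ x = z ∨ x = g * z := fun {x} => by
      rw [mem_zpowers_iff_mem_range_orderOf, hgord, show Finset.range 4 = {0, 1, 2, 3} from rfl]
      simp [eq_comm, hg2, pow_succ g 2]
      rw [mem_center_iff.1 hzc g]
    have hhg : h ∉ zpowers g := by
      intro h0
      have hne : h ≠ g := fun h1 => hgZ (hφfix g hgU h1)
      rcases hmemg.1 h0 with h1 | h1 | h1 | h1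
      · exact hg1 (φ.map_eq_one_iff.1 h1)
      · exact hne h1
      · exact hgz (φ.injective (h1.trans (hzE φ hφE).symm))
      · have h3 := hcube g hgU
        simp only [← hh, h1, map_mul, hzE φ hφE] at h3
        have hzz : z * z = 1 := by rw [← pow_two, hz2]
        rw [mul_assoc, mul_assoc, hzz, mul_one, mul_eq_left] at h3
        rw [h3, orderOf_one] at hz
        omega
    have hgh : U ≤ closure {g, h} := by
      have hle : zpowers g ≤ closure {g, h} := zpowers_le.2 (subset_closure (Set.mem_insert _ _))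
      have hlt : zpowers g < closure {g, h} := lt_of_le_of_ne hle fun h0 =>
        hhg (h0 ▸ subset_closure (Set.mem_insert_of_mem _ rfl))
      have hcl : closure {g, h} ≤ U := (closure_le _).2 (by
        rintro x (rfl | rfl) <;> assumption)
      have hd1 := card_dvd_of_le hcl
      have hd2 := card_dvd_of_le hle
      rw [Nat.card_zpowers, hgord] at hd2
      rw [hc8] at hd1
      have hne4 : Nat.card ↥(closure {g, h}) ≠ 4 := fun h0 =>
        hlt.ne (eq_of_le_of_card_ge hle (by rw [Nat.card_zpowers, hgord, h0]))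
      obtain ⟨r, hr⟩ := hd2
      have h8 : Nat.card ↥(closure {g, h}) = 8 := by
        have := Nat.le_of_dvd (by norm_num) hd1
        have := Nat.card_pos (α := ↥(closure ({g, h} : Set W)))
        have hr2 : r ≤ 2 := by omega
        interval_cases r <;> omega
      exact (eq_of_le_of_card_ge hcl (by rw [h8, hc8])).ge
    have hcomgh : ⁅g, h⁆ = z := by
      refine (hZmem.1 (hgD.2 h hhD.1)).resolve_left fun h0 => ?_
      rw [commutatorElement_eq_one_iff_mul_comm] at h0
      have hh2 : h ^ 2 = z := by rw [hh, ← map_pow, hg2, hzE φ hφE]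
      have h1 : (g * h) ^ 2 = 1 := by
        rw [(show Commute g h from h0).mul_pow, hg2, hh2, ← pow_two, hz2]
      rcases (show g * h = 1 ∨ g * h = z from
        (em (g * h = 1)).imp_right fun hn1 =>
          huniq e he he1 _ (orderOf_eq_prime h1 hn1) (mul_mem hgU hhU)) with h2 | h2
      · exact hhg (eq_inv_of_mul_eq_one_right h2 ▸ inv_mem (mem_zpowers g))
      · refine hhg ?_
        rw [show h = g⁻¹ * z by rw [← h2, inv_mul_cancel_left], ← hg2]
        exact mul_mem (inv_mem (mem_zpowers g)) (pow_mem (mem_zpowers g) 2)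
    have hcomhg : ⁅h, g⁆ = z := by rw [← commutatorElement_inv, hcomgh, hzinv]
    have hZcomm : ∀ {a x}, a ∈ Zs → x * a = a * x := fun {a x} ha => mem_center_iff.1 (hZc ha) x
    -- `C = U C₂`
    set C2 := C ⊓ centralizer (U : Set W) with hC2
    have hUC : U ≤ C := hgh.trans ((closure_le _).2 (by
      rintro x (rfl | rfl)
      · exact hgD.1
      · exact hhD.1))
    have hprod : ∀ c ∈ C, ∃ u ∈ U, ∃ c' ∈ C2, c = u * c' := by
      intro c hc
      have key : ∀ u ∈ U, ⁅u, g⁆ = ⁅c, g⁆ → ⁅u, h⁆ = ⁅c, h⁆ → ∃ u ∈ U, ∃ c' ∈ C2, c = u * c' := by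
        intro u hu hug huh
        refine ⟨u, hu, u⁻¹ * c, mem_inf.2 ⟨mul_mem (inv_mem (hUC hu)) hc, ?_⟩,
          (mul_inv_cancel_left u c).symm⟩
        have hh' : ∀ y, ⁅u, y⁆ = ⁅c, y⁆ → Commute (u⁻¹ * c) y := by
          intro y hy
          have h1 : u * y * u⁻¹ = c * y * c⁻¹ := mul_right_cancel hy
          refine mul_inv_eq_iff_eq_mul.1 ?_
          calc u⁻¹ * c * y * (u⁻¹ * c)⁻¹ = u⁻¹ * (c * y * c⁻¹) * u := by group
            _ = y := by rw [← h1]; group
        refine mem_centralizer_iff.2 fun y hy => ?_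
        have hle : closure {g, h} ≤ centralizer {u⁻¹ * c} := (closure_le _).2 (by
          rintro x (rfl | rfl)
          · exact mem_centralizer_singleton_iff.2 (hh' _ hug).eq.symm
          · exact mem_centralizer_singleton_iff.2 (hh' _ huh).eq.symm)
        exact mem_centralizer_singleton_iff.1 (hle (hgh hy))
      have ha : ⁅c, g⁆ ∈ Zs := by rw [← commutatorElement_inv]; exact inv_mem (hgD.2 c hc)
      have hb : ⁅c, h⁆ ∈ Zs := by rw [← commutatorElement_inv]; exact inv_mem (hhD.2 c hc)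
      have h11 : ∀ y, ⁅y, y⁆ = (1 : W) := commutatorElement_self
      have hghg : ⁅g * h, g⁆ = z := by
        rw [show ⁅g * h, g⁆ = g * ⁅h, g⁆ * g⁻¹ * ⁅g, g⁆ by simp only [commutatorElement_def]; group,
          hcomhg, h11, mul_one, mem_center_iff.1 hzc g, mul_inv_cancel_right]
      have hghh : ⁅g * h, h⁆ = z := by
        rw [show ⁅g * h, h⁆ = g * ⁅h, h⁆ * g⁻¹ * ⁅g, h⁆ by simp only [commutatorElement_def]; group,
          hcomgh, h11, mul_one, mul_inv_cancel, one_mul]
      rcases hZmem.1 ha with ha | ha <;> rcases hZmem.1 hb with hb | hb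
      · exact key 1 (one_mem _) (by rw [commutatorElement_one_left, ha])
          (by rw [commutatorElement_one_left, hb])
      · exact key g hgU (by rw [h11, ha]) (by rw [hcomgh, hb])
      · exact key h hhU (by rw [hcomhg, ha]) (by rw [h11, hb])
      · exact key (g * h) (mul_mem hgU hhU) (by rw [hghg, ha]) (by rw [hghh, hb])
    have hUcen : ∀ x ∈ U, (∀ y ∈ U, x * y = y * x) → x ∈ Zs := by
      intro x hx hc
      by_contra hxZ
      have hcase : x ∈ zpowers g := by
        by_contra hxg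
        have hle : zpowers g ⊔ zpowers x ≤ U := sup_le (zpowers_le.2 hgU) (zpowers_le.2 hx)
        have hd1 := card_dvd_of_le hle
        have hd2 := card_dvd_of_le (le_sup_left : zpowers g ≤ zpowers g ⊔ zpowers x)
        rw [Nat.card_zpowers, hgord] at hd2
        rw [hc8] at hd1
        have hne4 : Nat.card ↥(zpowers g ⊔ zpowers x) ≠ 4 := fun h0 => hxg (by
          rw [eq_of_le_of_card_ge (le_sup_left : zpowers g ≤ zpowers g ⊔ zpowers x)
            (by rw [Nat.card_zpowers, hgord, h0])]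
          exact (le_sup_right : zpowers x ≤ zpowers g ⊔ zpowers x) (mem_zpowers x))
        obtain ⟨r, hr⟩ := hd2
        have h8 : Nat.card ↥(zpowers g ⊔ zpowers x) = 8 := by
          have := Nat.le_of_dvd (by norm_num) hd1
          have := Nat.card_pos (α := ↥(zpowers g ⊔ zpowers x))
          have hr2 : r ≤ 2 := by omega
          interval_cases r <;> omega
        have htop := eq_of_le_of_card_ge hle (by rw [h8, hc8])
        have hle' : zpowers g ⊔ zpowers x ≤ centralizer {g} :=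
          sup_le (zpowers_le.2 (mem_centralizer_singleton_iff.2 rfl))
            (zpowers_le.2 (mem_centralizer_singleton_iff.2 (hc g hgU)))
        have h1 := mem_centralizer_singleton_iff.1 (hle' (htop.symm ▸ hhU))
        rw [← commutatorElement_eq_one_iff_mul_comm, hcomhg] at h1
        rw [h1, orderOf_one] at hz
        omega
      have hxh := commutatorElement_eq_one_iff_mul_comm.2 (hc h hhU)
      rcases hmemg.1 hcase with rfl | rfl | rfl | rfl
      · exact hxZ (one_mem _)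
      · rw [hcomgh] at hxh; rw [hxh, orderOf_one] at hz; omega
      · exact hxZ (mem_zpowers _)
      · have e1 : ⁅g * z, h⁆ = g * ⁅z, h⁆ * g⁻¹ * ⁅g, h⁆ := by
          simp only [commutatorElement_def]; group
        rw [e1, hcomgh, commutatorElement_eq_one_iff_mul_comm.2 (mem_center_iff.1 hzc h).symm,
          mul_one, mul_inv_cancel, one_mul] at hxh
        rw [hxh, orderOf_one] at hz
        omega
    have hZC2 : Zs ≤ C2 := fun a ha => mem_inf.2 ⟨hZC ha, mem_centralizer_iff.2 fun y _ => hZcomm ha⟩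
    have hUC2 : ∀ x, x ∈ U → x ∈ C2 → x ∈ Zs := fun x hx hx2 =>
      hUcen x hx fun y hy => (mem_centralizer_iff.1 (mem_inf.1 hx2).2 y hy).symm
    have hC2E : ∀ e' ∈ E, ∀ x ∈ C2, e' x ∈ C2 := fun e' he' x hx => mem_inf.2 ⟨hCE e' he' x (mem_inf.1 hx).1,
      mem_centralizer_iff.2 fun y hy => by
        have h1 := mem_centralizer_iff.1 (mem_inf.1 hx).2 (e'⁻¹ y) (hfxinv e he _ (inv_mem he') y hy)
        have h2 := congrArg e' h1
        rw [map_mul, map_mul, MulAut.inv_def, MulEquiv.apply_symm_apply] at h2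
        exact h2⟩
    have hlt : Nat.card ↥C2 < n := by
      rw [← hn]
      refine lt_of_not_ge fun hge => hgZ (hUC2 g hgU ?_)
      exact (eq_of_le_of_card_ge (inf_le_left : C2 ≤ C) hge).ge hgD.1
    obtain ⟨m, hm, hm2, hsq2, hcom2, hcen2⟩ := ih _ hlt C2 rfl hC2E hZC2
    have hcUC2 : ∀ u ∈ U, ∀ c ∈ C2, u * c = c * u := fun u hu c hc =>
      mem_centralizer_iff.1 (mem_inf.1 hc).2 u hu
    have hcard : 2 * Nat.card ↥C = 8 * Nat.card ↥C2 := by
      let f : ↥U × ↥C2 →* W :=
        { toFun := fun uc => (uc.1 : W) * uc.2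
          map_one' := by simp
          map_mul' := fun a b => by
            simp only [Prod.fst_mul, Prod.snd_mul, coe_mul]
            calc (a.1 : W) * b.1 * (a.2 * b.2) = a.1 * (b.1 * a.2) * b.2 := by simp only [mul_assoc]
              _ = _ := by rw [hcUC2 _ b.1.2 _ a.2.2]; simp only [mul_assoc] }
      have hrange : f.range = C := by
        refine le_antisymm ?_ fun c hc => ?_
        · rintro _ ⟨⟨u, c⟩, rfl⟩
          exact mul_mem (hUC u.2) (mem_inf.1 c.2).1
        · obtain ⟨u, hu, c', hc', rfl⟩ := hprod c hc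
          exact ⟨(⟨u, hu⟩, ⟨c', hc'⟩), rfl⟩
      have hker : Nat.card ↥f.ker = 2 := by
        rw [← hz, ← Nat.card_zpowers]
        refine Nat.card_congr (Equiv.ofBijective
          (fun a : ↥f.ker => (⟨((a : ↥U × ↥C2).1 : W), ?_⟩ : ↥(zpowers z))) ⟨?_, ?_⟩)
        · refine hUC2 _ a.1.1.2 ?_
          rw [eq_inv_of_mul_eq_one_left (MonoidHom.mem_ker.1 a.2)]
          exact inv_mem a.1.2.2
        · intro a b hab'
          have h1 : ((a : ↥U × ↥C2).1 : W) = (b : ↥U × ↥C2).1 := by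
            simpa using congrArg Subtype.val hab'
          refine Subtype.ext (Prod.ext (Subtype.ext h1) (Subtype.ext ?_))
          have h2 := (MonoidHom.mem_ker.1 a.2).trans (MonoidHom.mem_ker.1 b.2).symm
          change ((a : ↥U × ↥C2).1 : W) * _ = _ * _ at h2
          rw [h1] at h2
          exact mul_left_cancel h2
        · rintro ⟨y, hy⟩
          exact ⟨⟨(⟨y, hZU hy⟩, ⟨y⁻¹, hZC2 (inv_mem hy)⟩), MonoidHom.mem_ker.2 (mul_inv_cancel y)⟩,
            rfl⟩
      have h1 := f.ker.card_mul_index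
      rw [index_ker, hker, hrange, Nat.card_prod, hc8] at h1
      exact h1
    refine ⟨m + 1, ?_, ?_, ?_, ?_, ?_⟩
    · refine (Nat.add_le_add_right hm 1).trans (Finset.card_lt_card ?_)
      refine (Finset.ssubset_iff_of_subset ?_).2 ⟨U, ?_, ?_⟩
      · intro V hV
        simp only [S, Finset.mem_filter] at hV ⊢
        exact ⟨hV.1, hV.2.1.trans inf_le_left, hV.2.2⟩
      · simp only [S, Finset.mem_filter, Finset.mem_image]
        exact ⟨⟨⟨e, he⟩, Finset.mem_erase.2 ⟨fun h0 => he1 (congrArg Subtype.val h0),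
          Finset.mem_univ _⟩, rfl⟩, hUC, hmv⟩
      · simp only [S, Finset.mem_filter]
        exact fun h0 => hgZ (hUC2 g hgU (h0.2.1 hgU))
    · rw [hm2] at hcard; rw [pow_succ]; omega
    · intro x hx
      obtain ⟨u, hu, c, hc, rfl⟩ := hprod x hx
      rw [(show Commute u c from hcUC2 u hu c hc).mul_pow]
      exact mul_mem (hsqU u hu) (hsq2 c hc)
    · intro x hx y hy
      obtain ⟨u, hu, c, hc, rfl⟩ := hprod x hx
      obtain ⟨v, hv, d, hd, rfl⟩ := hprod y hy
      have huv : ⁅u, v⁆ ∈ Zs := by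
        rw [show ⁅u, v⁆ = u ^ 2 * (u⁻¹ * v) ^ 2 * (v⁻¹) ^ 2 by
          simp only [commutatorElement_def, pow_two]; group]
        exact mul_mem (mul_mem (hsqU u hu) (hsqU _ (mul_mem (inv_mem hu) hv))) (hsqU _ (inv_mem hv))
      have e1 : ⁅u * c, v * d⁆ = ⁅u, v⁆ * ⁅c, d⁆ := by
        calc ⁅u * c, v * d⁆ = u * (c * v) * d * (c⁻¹ * u⁻¹) * (d⁻¹ * v⁻¹) := by
              simp only [commutatorElement_def, mul_inv_rev]; group
          _ = u * v * (c * d * c⁻¹) * (u⁻¹ * d⁻¹) * v⁻¹ := by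
              rw [← hcUC2 v hv c hc]; group
          _ = u * v * ((c * d * c⁻¹) * d⁻¹) * (u⁻¹ * v⁻¹) := by
              rw [hcUC2 u⁻¹ (inv_mem hu) d⁻¹ (inv_mem hd)]; group
          _ = _ := by
              have h1 : ⁅c, d⁆ ∈ Zs := hcom2 c hc d hd
              show u * v * ⁅c, d⁆ * (u⁻¹ * v⁻¹) = _
              rw [mul_assoc (u * v), ← hZcomm h1, ← mul_assoc, commutatorElement_def u v]
              group
      rw [e1]
      exact mul_mem huv (hcom2 c hc d hd)
    · intro x hx hcx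
      obtain ⟨u, hu, c, hc, rfl⟩ := hprod x hx
      have huZ : u ∈ Zs := hUcen u hu fun v hv => by
        have h1 := hcx v (hUC hv)
        rw [mul_assoc, ← hcUC2 v hv c hc, ← mul_assoc, ← mul_assoc] at h1
        exact mul_right_cancel h1
      refine mul_mem huZ (hcen2 c hc fun d hd => ?_)
      have h1 := hcx d (mem_inf.1 hd).1
      rw [← mul_assoc d, hcUC2 _ hu d hd |>.symm, mul_assoc, mul_assoc] at h1
      exact mul_left_cancel h1
  obtain ⟨m, hm, hmc, hsq, hcom, hcen⟩ := hdec _ ⊤ rfl (fun _ _ x _ => mem_top _) le_top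
  rw [card_top] at hmc
  have hm4 : m ≤ 4 := hm.trans (hS4 ⊤)
  have hcenter : center W = Zs := le_antisymm
    (fun x hx => hcen x (mem_top x) fun y _ => (mem_center_iff.1 hx y).symm) hZc
  have hm2 : 2 ≤ m := by
    by_contra h
    interval_cases m
    · have hall : Zs = ⊤ := eq_top_of_card_eq _ (by rw [hZs, Nat.card_zpowers, hz, hmc]; rfl)
      exact he₀1 (MulEquiv.ext fun x => hFEeq.ge (hall ▸ mem_top x) e₀ he₀)
    · obtain ⟨-, hc8, -⟩ := hU e₀ he₀ he₀1 he₀m
      have hall : fx e₀ = ⊤ := eq_top_of_card_eq _ (by rw [hc8, hmc]; rfl)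
      exact he₀1 (MulEquiv.ext fun x => (hall ▸ mem_top x : x ∈ fx e₀))
  refine ⟨hE9.1, ?_, ?_, ?_⟩
  · refine LargeExtra.isExtraspecial_of hW hz ?_ (fun x y => hcom x (mem_top x) y (mem_top y))
      (fun x => hsq x (mem_top x)) ?_
    · intro x
      exact ⟨fun hh => hcen x (mem_top x) fun y _ => hh y,
        fun hh y => (mem_center_iff.1 (hZc hh) y).symm⟩
    · by_contra hh
      push Not at hh
      have h1 : (center W) = ⊤ := top_le_iff.1 fun x _ => mem_center_iff.2 fun y => hh y x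
      rw [hcenter] at h1
      have h2 : Nat.card W = 2 := by rw [← card_top (G := W), ← h1, hZs, Nat.card_zpowers, hz]
      have : 4 ^ 2 ≤ 4 ^ m := Nat.pow_le_pow_right (by norm_num) hm2
      omega
  · interval_cases m
    · exact Or.inl (by rw [hmc]; norm_num)
    · exact Or.inr (Or.inl (by rw [hmc]; norm_num))
    · exact Or.inr (Or.inr (by rw [hmc]; norm_num))
  · rw [hcenter, ← hFEeq]
    rfl

end Cfsg.Agent.FewFix
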