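import Cfsg.Agent.Lib.TwoGroups.SquareGen

/-!
2-groups whose elements of order at most four are central, and maximal normal abelian subgroups
of exponent dividing four.
-/

set_option autoImplicit false
set_option linter.style.haveILetI false

namespace Cfsg.Agent.FourCentral

open Cfsg.Agent.SquareGen

variable {G : Type*} [Group G] [Finite G]

/-- The elements of order at most four of `B` centralize `B`. -/
def IsFourCentral (B : Subgroup G) : Prop := ∀ x ∈ B, ∀ y ∈ B, x ^ 4 = 1 → x * y = y * x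

omit [Finite G] in
theorem IsFourCentral.mono {B D : Subgroup G} (h : IsFourCentral D) (hle : B ≤ D) : IsFourCentral B :=
  fun x hx y hy hx4 => h x (hle hx) y (hle hy) hx4

/-- In a four-central group an element of order at most eight has commutators of order at most two. -/
theorem commutator_sq (hG : IsPGroup 2 G) (B : Subgroup G) :
    IsFourCentral B → ∀ x ∈ B, ∀ y ∈ B, x ^ 8 = 1 → (x * y * x⁻¹ * y⁻¹) ^ 2 = 1 := by
  induction B using WellFoundedLT.induction with
  | ind B ih =>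
    intro hB x hx y hy hx8
    set D := Subgroup.closure ({x, y} : Set G) with hD
    have hDB : D ≤ B := by
      rw [hD, Subgroup.closure_le]
      rintro z (rfl | rfl)
      exacts [hx, hy]
    have hxD : x ∈ D := Subgroup.subset_closure (Or.inl rfl)
    have hyD : y ∈ D := Subgroup.subset_closure (Or.inr rfl)
    rcases lt_or_eq_of_le hDB with hlt | heq
    · exact ih D hlt (hB.mono hDB) x hxD y hyD hx8
    haveI : Group.IsNilpotent D := (hG.to_subgroup D).isNilpotent
    by_cases hcyc : Subgroup.zpowers (⟨x, hxD⟩ : D) = ⊤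
    · obtain ⟨i, hi⟩ := Subgroup.mem_zpowers_iff.1 (hcyc.symm ▸ Subgroup.mem_top (⟨y, hyD⟩ : D))
      have hi' : x ^ i = y := congrArg Subtype.val hi
      rw [← hi', show x * x ^ i = x ^ i * x from (Commute.refl x).zpow_right i]
      group
    obtain ⟨M, hM, hxM⟩ := (eq_top_or_exists_le_coatom (Subgroup.zpowers (⟨x, hxD⟩ : D))).resolve_left hcyc
    haveI hMn : M.Normal := Cfsg.Agent.TransferHall.normal_of_isCoatom hM
    set M' := M.map D.subtype with hM'
    have hlt : M' < B := by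
      refine lt_of_le_of_ne ((Subgroup.map_subtype_le M).trans heq.le) fun he => hM.1 ?_
      refine Subgroup.map_injective D.subtype_injective ?_
      rw [← hM', he, ← heq, ← MonoidHom.range_eq_map, Subgroup.range_subtype]
    have hxM' : x ∈ M' := ⟨_, hxM (Subgroup.mem_zpowers _), rfl⟩
    set x' := y * x⁻¹ * y⁻¹ with hx'
    have hx'M : x' ∈ M' := ⟨_, hMn.conj_mem _ (M.inv_mem (hxM (Subgroup.mem_zpowers _))) ⟨y, hyD⟩, rfl⟩
    have hx'B : x' ∈ B := hlt.le hx'M
    have e8 : x'⁻¹ ^ 8 = 1 := by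
      rw [hx', show (y * x⁻¹ * y⁻¹)⁻¹ = y * x * y⁻¹ by group, conj_pow, hx8, mul_one, mul_inv_cancel]
    -- the squares of `x` and of its conjugate
    have hx4 : (x ^ 2) ^ 4 = 1 := by rw [← pow_mul]; exact hx8
    have hx2c : y * x ^ 2 * y⁻¹ = x ^ 2 := by
      rw [← hB _ (B.pow_mem hx 2) y hy hx4, mul_inv_cancel_right]
    have hsq : x' ^ 2 = (x ^ 2)⁻¹ := by
      rw [hx', conj_pow, inv_pow]
      conv_rhs => rw [← hx2c]
      group
    -- their commutator
    set γ := x' * x * x'⁻¹ * x⁻¹ with hγ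
    have hγ2 : γ ^ 2 = 1 := ih M' hlt (hB.mono hlt.le) x' hx'M x hxM' (by rwa [inv_pow, inv_eq_one] at e8)
    have hγB : γ ∈ B := B.mul_mem (B.mul_mem (B.mul_mem hx'B hx) (B.inv_mem hx'B)) (B.inv_mem hx)
    have hγc : ∀ u ∈ B, γ * u = u * γ := fun u hu =>
      hB γ hγB u hu (by rw [show (4 : ℕ) = 2 * 2 from rfl, pow_mul, hγ2, one_pow])
    set z := x * y * x⁻¹ * y⁻¹ with hz
    have hzx : z = x * x' := by rw [hz, hx']; group
    have hswap : x' * x = γ * (x * x') := by rw [hγ]; group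
    have hz2 : z ^ 2 = γ := by
      rw [hzx, pow_two, show x * x' * (x * x') = x * (x' * x) * x' by group, hswap, ← mul_assoc x γ,
        ← hγc x hx, show γ * x * (x * x') * x' = γ * (x ^ 2 * x' ^ 2) by simp only [pow_two]; group,
        hsq, mul_inv_cancel, mul_one]
    have hzB : z ∈ B := B.mul_mem (B.mul_mem (B.mul_mem hx hy) (B.inv_mem hx)) (B.inv_mem hy)
    have hzc := hB z hzB x hx (by rw [show (4 : ℕ) = 2 * 2 from rfl, pow_mul, hz2, hγ2])
    have hγ1 : γ = 1 := by
      have hcomm : x' * x = x * x' := by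
        have e : x * x' * x = x * (x * x') := by rw [← hzx]; exact hzc
        rw [mul_assoc x x' x] at e
        exact mul_left_cancel e
      rw [hγ, hcomm]; group
    rw [hz2, hγ1]

/-- The index of the square subgroup of a four-central 2-group is at most the number of square roots of one. -/
theorem card_le_sqrt {P : Type*} [Group P] [Finite P] (hP : IsPGroup 2 P)
    (hB : IsFourCentral (⊤ : Subgroup P)) :
    Nat.card P ≤ Nat.card {x : P // x ^ 2 = 1} * Nat.card (sq (⊤ : Subgroup P)) := by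
  induction hn : Nat.card P using Nat.strong_induction_on generalizing P with
  | _ n ih =>
    haveI : Nonempty {x : P // x ^ 2 = 1} := ⟨⟨1, one_pow 2⟩⟩
    by_cases h1 : Nat.card P = 1
    · rw [← hn, h1]; exact Nat.mul_pos Nat.card_pos Nat.card_pos
    haveI : Nontrivial P := by
      rw [← Finite.one_lt_card_iff_nontrivial]
      have := Nat.card_pos (α := P); omega
    have hc : ∀ x : P, x ^ 4 = 1 → ∀ y, x * y = y * x :=
      fun x hx y => hB x trivial y trivial hx
    have hc2 : ∀ x : P, x ^ 2 = 1 → ∀ y, x * y = y * x := fun x hx =>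
      hc x (by rw [show (4 : ℕ) = 2 * 2 from rfl, pow_mul, hx, one_pow])
    set Ω : Subgroup P :=
      { carrier := {x | x ^ 2 = 1}
        one_mem' := one_pow 2
        mul_mem' := fun {a b} ha hb => by
          show (a * b) ^ 2 = 1
          rw [Commute.mul_pow (hc2 a ha b) 2, show a ^ 2 = 1 from ha, show b ^ 2 = 1 from hb, one_mul]
        inv_mem' := fun {a} ha => by
          show a⁻¹ ^ 2 = 1
          rw [inv_pow, show a ^ 2 = 1 from ha, inv_one] } with hΩ
    have hΩcard : Nat.card Ω = Nat.card {x : P // x ^ 2 = 1} := rfl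
    haveI : Ω.Normal := ⟨fun a ha g => by
      rw [show g * a * g⁻¹ = a by rw [← hc2 a ha g, mul_inv_cancel_right]]; exact ha⟩
    by_cases hcase : ∀ a ∈ Ω, a ∈ sq (⊤ : Subgroup P)
    · -- pass to the quotient by the square roots of one
      let f := QuotientGroup.mk' Ω
      have hlt : Nat.card (P ⧸ Ω) < Nat.card P := by
        rw [Ω.card_eq_card_quotient_mul_card_subgroup]
        refine lt_mul_of_one_lt_right Nat.card_pos ?_
        rw [Finite.one_lt_card_iff_nontrivial, Subgroup.nontrivial_iff_ne_bot]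
        intro hbot
        obtain ⟨m, hm0, hm⟩ := (IsPGroup.nontrivial_iff_card (p := 2) hP).1 inferInstance
        haveI : Fact (Nat.Prime 2) := ⟨Nat.prime_two⟩
        obtain ⟨z, hz⟩ := exists_prime_orderOf_dvd_card' (G := P) 2 (hm ▸ dvd_pow_self 2 hm0.ne')
        have hzΩ : z ∈ Ω := by show z ^ 2 = 1; rw [← hz]; exact pow_orderOf_eq_one z
        rw [hbot, Subgroup.mem_bot] at hzΩ
        rw [hzΩ, orderOf_one] at hz
        omega
      have hQ : IsFourCentral (⊤ : Subgroup (P ⧸ Ω)) := by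
        intro q _ r _ hq
        obtain ⟨x, rfl⟩ := QuotientGroup.mk_surjective q
        obtain ⟨y, rfl⟩ := QuotientGroup.mk_surjective r
        rw [← QuotientGroup.mk_pow, QuotientGroup.eq_one_iff] at hq
        have hx8 : x ^ 8 = 1 := by
          rw [show (8 : ℕ) = 4 * 2 from rfl, pow_mul]
          exact hq
        have h := commutator_sq hP ⊤ hB x trivial y trivial hx8
        rw [← QuotientGroup.mk_mul, ← QuotientGroup.mk_mul, eq_comm, QuotientGroup.eq]
        show ((y * x)⁻¹ * (x * y)) ^ 2 = 1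
        have e : ((y * x)⁻¹ * (x * y)) ^ 2 = (y * x)⁻¹ * (x * y * x⁻¹ * y⁻¹) ^ 2 * (y * x) := by
          simp only [pow_two]; group
        rw [e, h, mul_one, inv_mul_cancel]
      have ih' := ih _ (hn ▸ hlt) (hP.to_quotient Ω) hQ rfl
      have hker : f.ker = Ω := QuotientGroup.ker_mk' Ω
      have hmap : (sq (⊤ : Subgroup P)).map f = sq (⊤ : Subgroup (P ⧸ Ω)) := by
        rw [map_sq, Subgroup.map_top_of_surjective f (QuotientGroup.mk'_surjective Ω)]
      have hsq : Nat.card (sq (⊤ : Subgroup P)) = Nat.card (sq (⊤ : Subgroup (P ⧸ Ω))) * Nat.card Ω := by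
        rw [card_split (sq (⊤ : Subgroup P)) f, hmap, hker, inf_eq_right.2 (fun a ha => hcase a ha)]
      have hΩQ : Nat.card {q : P ⧸ Ω // q ^ 2 = 1} ≤ Nat.card {x : P // x ^ 2 = 1} := by
        have hrep : ∀ q : {q : P ⧸ Ω // q ^ 2 = 1}, ∃ x : P, (x : P ⧸ Ω) = q.1 :=
          fun q => QuotientGroup.mk_surjective q.1
        choose rep hrepeq using hrep
        have hr4 : ∀ q, rep q ^ 4 = 1 := fun q => by
          have : ((rep q ^ 2 : P) : P ⧸ Ω) = 1 := by rw [QuotientGroup.mk_pow, hrepeq]; exact q.2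
          rw [show (4 : ℕ) = 2 * 2 from rfl, pow_mul]
          exact (QuotientGroup.eq_one_iff _).1 this
        refine Nat.card_le_card_of_injective
          (fun q => (⟨rep q ^ 2, by rw [← pow_mul]; exact hr4 q⟩ : {x : P // x ^ 2 = 1})) ?_
        intro q r hqr
        have e : rep q ^ 2 = rep r ^ 2 := congrArg Subtype.val hqr
        refine Subtype.ext ?_
        rw [← hrepeq q, ← hrepeq r, QuotientGroup.eq]
        show ((rep q)⁻¹ * rep r) ^ 2 = 1
        rw [Commute.mul_pow (Commute.inv_left (hc _ (hr4 q) (rep r))) 2, inv_pow, e, inv_mul_cancel]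
      rw [← hn, Ω.card_eq_card_quotient_mul_card_subgroup, hsq]
      calc Nat.card (P ⧸ Ω) * Nat.card Ω
          ≤ (Nat.card {q : P ⧸ Ω // q ^ 2 = 1} * Nat.card (sq (⊤ : Subgroup (P ⧸ Ω)))) * Nat.card Ω :=
            Nat.mul_le_mul_right _ ih'
        _ ≤ (Nat.card {x : P // x ^ 2 = 1} * Nat.card (sq (⊤ : Subgroup (P ⧸ Ω)))) * Nat.card Ω :=
            Nat.mul_le_mul_right _ (Nat.mul_le_mul_right _ hΩQ)
        _ = _ := by ring
    · -- split off an involution
      push Not at hcase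
      obtain ⟨a, haΩ, haS⟩ := hcase
      have ha2 : a ^ 2 = 1 := haΩ
      obtain ⟨M, ⟨hSM, haM⟩, hmax⟩ := Set.Finite.exists_maximal
        (s := {M : Subgroup P | sq (⊤ : Subgroup P) ≤ M ∧ a ∉ M}) (Set.toFinite _) ⟨_, le_rfl, haS⟩
      haveI hMn : M.Normal := ⟨fun m hm g => by
        rw [show g * m * g⁻¹ = g * m * g⁻¹ * m⁻¹ * m by group]
        exact M.mul_mem (hSM (commutator_mem_sq (Subgroup.mem_top g) (Subgroup.mem_top m))) hm⟩
      have hsqM : ∀ x : P, x * x ∈ M := fun x => by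
        rw [← pow_two]; exact hSM (sq_mem (Subgroup.mem_top x))
      have hinvM : ∀ x : P, x ∉ M → a * x ∈ M := by
        intro x hx
        by_contra hax
        let M₁ : Subgroup P := M ⊔ Subgroup.zpowers x
        have haM₁ : a ∈ M₁ := by
          by_contra hn'
          exact hx (hmax ⟨hSM.trans le_sup_left, hn'⟩ le_sup_left
            (Subgroup.mem_sup_right (Subgroup.mem_zpowers x)))
        obtain ⟨m, hm, y, hy, hmy⟩ := Subgroup.mem_sup_of_normal_left.1 haM₁
        obtain ⟨i, rfl⟩ := Subgroup.mem_zpowers_iff.1 hy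
        rcases Int.even_or_odd' i with ⟨j, rfl | rfl⟩
        · refine haM (hmy ▸ M.mul_mem hm ?_)
          rw [zpow_mul]; exact M.zpow_mem (by rw [zpow_two]; exact hsqM x) j
        · apply hax
          rw [← hmy, mul_assoc m]
          refine M.mul_mem hm ?_
          rw [← zpow_add_one, show 2 * j + 1 + 1 = 2 * (j + 1) by ring, zpow_mul]
          exact M.zpow_mem (by rw [zpow_two]; exact hsqM x) _
      have hidx : M.index = 2 := Subgroup.index_eq_two_iff.2 ⟨a, fun b => by
        rw [hc2 a ha2 b |>.symm]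
        by_cases hb : b ∈ M
        · exact Or.inr ⟨hb, fun h => haM (by simpa using M.mul_mem h (M.inv_mem hb))⟩
        · exact Or.inl ⟨hinvM b hb, hb⟩⟩
      have hMlt : Nat.card M < Nat.card P := by
        rw [← M.card_mul_index, hidx]; have := Nat.card_pos (α := M); omega
      have ih' := ih _ (hn ▸ hMlt) (hP.to_subgroup M)
        (fun x _ y _ hx => Subtype.ext (hc x.1 (by exact congrArg Subtype.val hx) y.1)) rfl
      have hsqle : Nat.card (sq (⊤ : Subgroup M)) ≤ Nat.card (sq (⊤ : Subgroup P)) := by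
        rw [← Subgroup.card_map_of_injective (K := sq (⊤ : Subgroup M)) (f := M.subtype) M.subtype_injective, map_sq]
        exact Subgroup.card_le_of_le (sq_mono le_top)
      have hΩ2 : 2 * Nat.card {x : M // x ^ 2 = 1} ≤ Nat.card {x : P // x ^ 2 = 1} := by
        refine le_trans (le_of_eq (b := Nat.card (Fin 2 × {x : M // x ^ 2 = 1})) (by rw [Nat.card_prod, Nat.card_fin])) ?_
        refine Nat.card_le_card_of_injective (fun w => (⟨a ^ (w.1 : ℕ) * (w.2.1 : P), by
          rw [Commute.mul_pow (Commute.pow_left (hc2 a ha2 _) _) 2, ← pow_mul, mul_comm, pow_mul, ha2,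
            one_pow, one_mul]
          exact congrArg Subtype.val w.2.2⟩ : {x : P // x ^ 2 = 1})) ?_
        rintro ⟨i, u⟩ ⟨j, v⟩ huv
        have e : a ^ (i : ℕ) * (u.1 : P) = a ^ (j : ℕ) * (v.1 : P) := congrArg Subtype.val huv
        fin_cases i <;> fin_cases j
        · simp only [pow_zero, one_mul] at e; exact Prod.ext rfl (Subtype.ext (Subtype.ext e))
        · simp only [pow_zero, one_mul, pow_one] at e
          exact absurd (by simpa [e] using M.mul_mem u.1.2 (M.inv_mem v.1.2)) haM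
        · simp only [pow_zero, one_mul, pow_one] at e
          exact absurd (by simpa [← e] using M.mul_mem v.1.2 (M.inv_mem u.1.2)) haM
        · simp only [pow_one, mul_right_inj] at e; exact Prod.ext rfl (Subtype.ext (Subtype.ext e))
      rw [← hn, ← M.card_mul_index, hidx]
      calc Nat.card M * 2 ≤ (Nat.card {x : M // x ^ 2 = 1} * Nat.card (sq (⊤ : Subgroup M))) * 2 :=
            Nat.mul_le_mul_right 2 ih'
        _ = (2 * Nat.card {x : M // x ^ 2 = 1}) * Nat.card (sq (⊤ : Subgroup M)) := by ring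
        _ ≤ _ := Nat.mul_le_mul hΩ2 hsqle

/-- The same bound for a four-central subgroup. -/
theorem IsFourCentral.card_le (hG : IsPGroup 2 G) {B : Subgroup G} (hB : IsFourCentral B) (V : Subgroup G)
    (hV : ∀ x ∈ B, x ^ 2 = 1 → x ∈ V) : Nat.card B ≤ Nat.card V * Nat.card (sq B) := by
  have h1 := card_le_sqrt (hG.to_subgroup B)
    (fun x _ y _ hx => Subtype.ext (hB x x.2 y y.2 (congrArg Subtype.val hx)))
  have h2 : Nat.card (sq (⊤ : Subgroup B)) = Nat.card (sq B) := by
    rw [← Subgroup.card_map_of_injective (K := sq (⊤ : Subgroup B)) (f := B.subtype) B.subtype_injective, map_sq,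
      ← MonoidHom.range_eq_map, Subgroup.range_subtype]
  rw [h2] at h1
  refine h1.trans (Nat.mul_le_mul_right _ (Nat.card_le_card_of_injective
    (fun w => (⟨(w.1 : G), hV _ w.1.2 (congrArg Subtype.val w.2)⟩ : V)) ?_))
  intro v w h
  exact Subtype.ext (Subtype.ext (congrArg (fun z : V => (z : G)) h))

/-- Alperin's lemma: a maximal normal abelian subgroup of exponent dividing four contains the elements
of order at most four of its centralizer. -/
theorem mem_of_pow_four (hG : IsPGroup 2 G) (A : Subgroup G) [hAn : A.Normal] (hA : IsMulCommutative A)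
    (hA4 : ∀ a ∈ A, a ^ 4 = 1)
    (hmax : ∀ B : Subgroup G, B.Normal → IsMulCommutative B → (∀ b ∈ B, b ^ 4 = 1) → A ≤ B → B = A)
    {x : G} (hxA : ∀ a ∈ A, a * x = x * a) (hx4 : x ^ 4 = 1) : x ∈ A := by
  classical
  haveI : Fact (Nat.Prime 2) := ⟨Nat.prime_two⟩
  by_contra hxnA
  set C := Subgroup.centralizer (A : Set G) with hCdef
  haveI hCn : C.Normal := by rw [hCdef]; infer_instance
  have hac : ∀ a ∈ A, ∀ b ∈ A, a * b = b * a :=
    fun a ha b hb => congrArg Subtype.val (hA.is_comm.comm (⟨a, ha⟩ : A) ⟨b, hb⟩)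
  have hxC : x ∈ C := Subgroup.mem_centralizer_iff.2 hxA
  have hAC : A ≤ C := fun a ha => Subgroup.mem_centralizer_iff.2 fun b hb => hac b hb a ha
  have hcomm : ∀ c ∈ C, ∀ a ∈ A, a * c = c * a := fun c hc a ha => Subgroup.mem_centralizer_iff.1 hc a ha
  obtain ⟨K, ⟨hKn, hAK, hKC, y, hyK, hy4, hyA⟩, hKmin⟩ := Set.Finite.exists_minimal
    (s := {K : Subgroup G | K.Normal ∧ A ≤ K ∧ K ≤ C ∧ ∃ y ∈ K, y ^ 4 = 1 ∧ y ∉ A}) (Set.toFinite _)
    ⟨C, hCn, hAC, le_rfl, x, hxC, hx4, hxnA⟩
  haveI := hKn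
  obtain ⟨K₀, ⟨hK₀n, hAK₀, hK₀K⟩, hK₀max⟩ := Set.Finite.exists_maximal
    (s := {L : Subgroup G | L.Normal ∧ A ≤ L ∧ L < K}) (Set.toFinite _)
    ⟨A, hAn, le_rfl, lt_of_le_of_ne hAK (fun h => hyA (h ▸ hyK))⟩
  haveI := hK₀n
  obtain ⟨B, hBn, hK₀B, hBK, hBcard⟩ := Cfsg.Agent.PGroupBasics.exists_step hG K₀ K hK₀K
  have hBK' : B = K := by
    by_contra hne
    have h1 := hK₀max ⟨hBn, hAK₀.trans hK₀B, lt_of_le_of_ne hBK hne⟩ hK₀B
    rw [le_antisymm h1 hK₀B] at hBcard
    have := Nat.card_pos (α := K₀)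
    omega
  rw [hBK'] at hBcard
  have hsmall : ∀ z ∈ K₀, z ^ 4 = 1 → z ∈ A := by
    intro z hz hz4
    by_contra hzA
    exact hK₀K.not_ge (hKmin ⟨hK₀n, hAK₀, hK₀K.le.trans hKC, z, hz, hz4, hzA⟩ hK₀K.le)
  have hidx : (K₀.subgroupOf K).index = 2 := by
    have h := (K₀.subgroupOf K).card_mul_index
    rw [Nat.card_congr (Subgroup.subgroupOfEquivOfLe hK₀K.le).toEquiv, hBcard, mul_comm 2] at h
    exact Nat.eq_of_mul_eq_mul_left Nat.card_pos h
  have hyK₀ : y ∉ K₀ := fun h => hyA (hsmall y h hy4)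
  have hy2A : y ^ 2 ∈ A := by
    refine hsmall _ ?_ (by rw [← pow_mul, show 2 * 4 = 4 * 2 from rfl, pow_mul, hy4, one_pow])
    exact Subgroup.sq_mem_of_index_two hidx ⟨y, hyK⟩
  -- the conjugates of `y` lie in `yA`
  have hconj : ∀ g : G, y⁻¹ * (g * y * g⁻¹) ∈ A := by
    intro g
    set y' := g * y * g⁻¹ with hy'
    have hy'K : y' ∈ K := hKn.conj_mem y hyK g
    set z := y⁻¹ * y' with hz
    have hzK₀ : z ∈ K₀ := by
      have hy'K₀ : y' ∉ K₀ := fun h => hyK₀ (by
        have := hK₀n.conj_mem _ h g⁻¹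
        rwa [hy', show g⁻¹ * (g * y * g⁻¹) * g⁻¹⁻¹ = y by group] at this)
      exact (Subgroup.mul_mem_iff_of_index_two hidx (a := ⟨y⁻¹, K.inv_mem hyK⟩) (b := ⟨y', hy'K⟩)).2
        (iff_of_false (fun h => hyK₀ (by simpa using K₀.inv_mem h)) hy'K₀)
    set a := (y ^ 2)⁻¹ * y' ^ 2 with ha
    have haA : a ∈ A := A.mul_mem (A.inv_mem hy2A) (by rw [hy', conj_pow]; exact hAn.conj_mem _ hy2A g)
    have hinv : y⁻¹ * z * y = a * z⁻¹ := by
      rw [hz, ha]; simp only [pow_two]; group
    have hzC : z ∈ C := hKC (hK₀K.le hzK₀)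
    refine hsmall z hzK₀ ?_
    by_contra hz4
    obtain ⟨n, hn⟩ := hG z
    obtain ⟨j, -, hj⟩ := (Nat.dvd_prime_pow Nat.prime_two).1 (orderOf_dvd_of_pow_eq_one hn)
    have hj3 : 3 ≤ j := by
      by_contra hlt
      exact hz4 (orderOf_dvd_iff_pow_eq_one.1 (hj ▸ by
        rw [show (4 : ℕ) = 2 ^ 2 from rfl]; exact pow_dvd_pow 2 (by omega)))
    set u := z ^ (2 ^ (j - 3)) with hu
    have hu8 : u ^ 8 = 1 := by
      rw [hu, ← pow_mul, show (8 : ℕ) = 2 ^ 3 from rfl, ← pow_add, show j - 3 + 3 = j by omega, ← hj]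
      exact pow_orderOf_eq_one z
    have hu4 : u ^ 4 ≠ 1 := by
      intro h
      rw [hu, ← pow_mul, show (4 : ℕ) = 2 ^ 2 from rfl, ← pow_add] at h
      have := orderOf_dvd_of_pow_eq_one h
      rw [hj] at this
      have := Nat.pow_dvd_pow_iff_le_right (x := 2) one_lt_two |>.1 this
      omega
    have huK₀ : u ∈ K₀ := K₀.pow_mem hzK₀ _
    have hu2A : u ^ 2 ∈ A := hsmall _ (K₀.pow_mem huK₀ 2) (by rw [← pow_mul]; exact hu8)
    have hinvu : y⁻¹ * u * y = a ^ (2 ^ (j - 3)) * u⁻¹ := by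
      have e1 : y⁻¹ * u * y = (y⁻¹ * z * y) ^ (2 ^ (j - 3)) := by
        rw [hu]
        have := (map_pow (MulAut.conj y⁻¹).toMonoidHom z (2 ^ (j - 3)))
        simpa using this
      rw [e1, hinv, Commute.mul_pow (Commute.inv_right (hcomm z hzC a haA)), inv_pow, ← hu]
    have ha4 := hA4 a haA
    -- square the relation
    have e2 : u ^ 2 = (a ^ (2 ^ (j - 3))) ^ 2 * (u ^ 2)⁻¹ := by
      have huC : u ∈ C := C.pow_mem hzC _
      have this : (y⁻¹ * u * y) ^ 2 = (a ^ (2 ^ (j - 3)) * u⁻¹) ^ 2 := by rw [hinvu]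
      rw [show (y⁻¹ * u * y) ^ 2 = y⁻¹ * u ^ 2 * y by simp only [pow_two]; group,
        mul_assoc, hcomm y (hKC hyK) _ hu2A, ← mul_assoc, inv_mul_cancel, one_mul,
        Commute.mul_pow (Commute.inv_right (hcomm u huC _ (A.pow_mem haA _))), inv_pow] at this
      exact this
    have ha2 : a ^ 2 = 1 := by
      have e3 : ∀ w : G, w ^ 4 = 1 → ((w ^ 2)⁻¹) ^ 2 = 1 := fun w hw => by
        rw [inv_pow, ← pow_mul, hw, inv_one]
      have hy'4 : y' ^ 4 = 1 := by rw [hy', conj_pow, hy4, mul_one, mul_inv_cancel]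
      have hy'2A : y' ^ 2 ∈ A := by rw [hy', conj_pow]; exact hAn.conj_mem _ hy2A g
      rw [ha, Commute.mul_pow (hac _ (A.inv_mem hy2A) _ hy'2A), e3 y hy4, ← pow_mul, hy'4, mul_one]
    rw [show (a ^ (2 ^ (j - 3))) ^ 2 = 1 by rw [← pow_mul, mul_comm, pow_mul, ha2, one_pow], one_mul] at e2
    apply hu4
    rw [show (4 : ℕ) = 2 + 2 from rfl, pow_add]
    nth_rw 1 [e2]
    exact inv_mul_cancel _
  -- so `A` and `y` generate a larger normal abelian subgroup
  set N := Subgroup.closure ((A : Set G) ∪ {y}) with hN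
  have hAN : A ≤ N := fun a ha => Subgroup.subset_closure (Or.inl ha)
  have hNn : N.Normal := ⟨fun n hn g => by
    induction hn using Subgroup.closure_induction with
    | mem w hw =>
      rcases hw with hw | rfl
      · exact hAN (hAn.conj_mem w hw g)
      · rw [show g * w * g⁻¹ = w * (w⁻¹ * (g * w * g⁻¹)) by group]
        exact N.mul_mem (Subgroup.subset_closure (Or.inr rfl)) (hAN (hconj g))
    | one => rw [mul_one, mul_inv_cancel]; exact N.one_mem
    | mul p q _ _ hp hq =>
      rw [show g * (p * q) * g⁻¹ = (g * p * g⁻¹) * (g * q * g⁻¹) by group]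
      exact N.mul_mem hp hq
    | inv p _ hp =>
      rw [show g * p⁻¹ * g⁻¹ = (g * p * g⁻¹)⁻¹ by group]
      exact N.inv_mem hp⟩
  have hNc : IsMulCommutative N := Subgroup.isMulCommutative_closure (by
    rintro p (hp | rfl) q (hq | rfl)
    · exact hac p hp q hq
    · exact hcomm q (hKC hyK) p hp
    · exact (hcomm p (hKC hyK) q hq).symm
    · rfl)
  have hN4 : ∀ n ∈ N, n ^ 4 = 1 := by
    intro n hn
    induction hn using Subgroup.closure_induction with
    | mem w hw => rcases hw with hw | rfl; exacts [hA4 w hw, hy4]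
    | one => exact one_pow 4
    | mul p q hp hq ihp ihq =>
      rw [Commute.mul_pow (congrArg Subtype.val (hNc.is_comm.comm (⟨p, hp⟩ : N) ⟨q, hq⟩)), ihp, ihq, one_mul]
    | inv p _ ihp => rw [inv_pow, ihp, inv_one]
  exact hyA (hmax N hNn hNc hN4 hAN ▸ Subgroup.subset_closure (Or.inr rfl))

end Cfsg.Agent.FourCentral
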