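import Cfsg.Agent.Lib.TwoGroups.FourGenMain

/-!
The four generator theorem for 2-groups without normal elementary abelian subgroups of order eight.
-/

set_option autoImplicit false
set_option synthInstance.maxSize 4096
set_option synthInstance.maxHeartbeats 200000
set_option linter.style.haveILetI false

namespace Cfsg.Agent.FourGen

open Cfsg.Agent.SquareGen Cfsg.Agent.FourGenMat

variable {G : Type*} [Group G] [Finite G] (S : Setup G)

theorem Setup.mu_central_N₁ {g : G} (hg : g ∈ S.G₀) (h : S.mu g = N₁) (x : G) :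
    S.mu (x * g * x⁻¹) = S.mu g := by
  by_cases hx : x ∈ S.G₀
  · exact S.mu_conj_of_mem hx hg
  · rw [S.mu_conj hx hg, h, sig_N₁]

theorem Setup.card_Y_top : Nat.card (S.Y ⊤) ≤ 8 := by
  classical
  by_contra hlt
  have hall : ∀ M, M ∈ S.Y ⊤ := by
    have hd : Nat.card (S.Y ⊤) ∣ 2 ^ 4 := by
      rw [show (2 : ℕ) ^ 4 = Nat.card Mat by rw [card_mat]; norm_num]
      exact AddSubgroup.card_addSubgroup_dvd_card _
    obtain ⟨k, hk, hk'⟩ := (Nat.dvd_prime_pow Nat.prime_two).1 hd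
    have : k = 4 := by
      rw [hk'] at hlt
      interval_cases k <;> first | rfl | norm_num at hlt
    have heq : S.Y ⊤ = ⊤ := AddSubgroup.eq_top_of_card_eq _ (by rw [hk', this, card_mat]; norm_num)
    exact fun M => heq ▸ AddSubgroup.mem_top M
  obtain ⟨h, -, hh, hP⟩ := hall P₃
  obtain ⟨g, -, hg, hN⟩ := hall N₁
  have hCA : S.C ≤ S.A := by
    by_contra hCA
    obtain ⟨u, hu, huA, hu2⟩ := S.exists_sq_in_A hCA
    have hfix := S.fixed hh (hP ▸ inj_P₃) hu hu2
    rw [hP] at hfix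
    exact S.pi_sq_ne hu huA hu2 (fixed_P₃ _ hfix)
  have hinjP : Inj (S.mu h) := hP ▸ inj_P₃
  have hh2A := S.sq_mem_A hh hinjP
  have hh2V : h ^ 2 ∈ S.V := (S.pi_eq_zero hh2A).1 (hinjP _ (by
    rw [← S.co_dev hh hh2A, Setup.dev,
      show (h ^ 2)⁻¹ * (h * h ^ 2 * h⁻¹) = 1 by simp only [pow_two]; group, S.co_one]))
  set c := g⁻¹ * h * g * h⁻¹ with hc
  have hcA : c ∈ S.A := by
    have hm1 : g⁻¹ * h * g ∈ S.G₀ := S.G₀.mul_mem (S.G₀.mul_mem (S.G₀.inv_mem hg) hh) hg
    refine hCA ((S.mu_eq_zero (S.G₀.mul_mem hm1 (S.G₀.inv_mem hh))).1 ?_)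
    rw [S.mu_mul hm1 (S.G₀.inv_mem hh), S.mu_inv hh]
    have := S.mu_conj_of_mem (S.G₀.inv_mem hg) hh
    rw [inv_inv] at this
    rw [this, add_self]
  have hcc : c * (h * c * h⁻¹) = 1 := by
    have e : g⁻¹ * h ^ 2 * g = h ^ 2 := by
      have := S.conj_V (S.G₀.inv_mem hg) hh2V
      rwa [inv_inv] at this
    have e2 : c * (h * c * h⁻¹) = g⁻¹ * h ^ 2 * g * (h ^ 2)⁻¹ := by rw [hc]; simp only [pow_two]; group
    rw [e2, e, mul_inv_cancel]
  have hcV : c ∈ S.V := by
    refine (S.pi_eq_zero hcA).1 ((hP ▸ good_P₃ : Good (S.mu h)) _ ?_)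
    have hsum : S.pi c + S.co (S.dev h c) = 0 := by
      rw [Setup.pi, ← S.co_mul (S.sq_mem_V hcA) (S.dev_mem hh hcA),
        show c ^ 2 * S.dev h c = c * (h * c * h⁻¹) by simp only [Setup.dev, pow_two]; group, hcc, S.co_one]
    rw [← S.co_dev hh hcA]
    have e : ∀ a b : Pl, a + b = 0 → b = a := by decide
    exact e _ _ hsum
  have hg2A : g ^ 2 ∈ S.A := hCA (S.sq_mem_C hg)
  have hg2V : g ^ 2 ∈ S.V := by
    refine (S.pi_eq_zero hg2A).1 (hinjP _ ?_)
    rw [← S.co_dev hh hg2A, Setup.dev]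
    have e : h * g * h⁻¹ = g * c := by rw [hc]; group
    rw [← conj_pow, e, Commute.mul_pow (S.mem_G₀.1 hg c hcV).symm, hcV.2, mul_one, inv_mul_cancel, S.co_one]
  have hsq : g ^ 2 ∈ sq S.C := by
    obtain ⟨a, ha, hpa⟩ := S.exists_pi (S.co (g ^ 2))
    rw [S.eq_of_co hg2V (S.sq_mem_V ha) hpa.symm]
    exact sq_mem (S.A_le_C ha)
  exact S.no_good (fun x hx y hy => S.comm x (hCA hx) y (hCA hy)) hg (hN ▸ good_N₁)
    (by rw [hN]; decide) hsq (S.mu_central_N₁ hg hN)

theorem Setup.sq_le_G₀ (H : Subgroup G) : sq H ≤ S.G₀ := by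
  rw [SquareGen.sq, Subgroup.closure_le]
  rintro _ ⟨x, -, rfl⟩
  exact S.sq_mem_G₀ x

theorem Setup.Y_mono {H L : Subgroup G} (h : H ≤ L) : S.Y H ≤ S.Y L := by
  rintro M ⟨g, hg, hg0, rfl⟩
  exact ⟨g, h hg, hg0, rfl⟩

theorem N₁_ne_zero : N₁ ≠ 0 := by decide +kernel

theorem sp_ne_zero : ∀ a b c : Mat, Indep a b c → (0 : Mat) ∉ sp a b c := by decide +kernel

theorem sig_ne_zero : ∀ a : Mat, a ≠ 0 → sig a ≠ 0 := by decide +kernel

theorem add_eq_zero_imp : ∀ a b : Mat, a + b = 0 → a = b := by decide +kernel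

include S in
/-- The homocyclic case of the theorem. -/
theorem Setup.card_le (H : Subgroup G) : Nat.card H ≤ 16 * Nat.card (sq H) := by
  classical
  by_contra hlt
  haveI : Fact (Nat.Prime 2) := ⟨Nat.prime_two⟩
  have hqG : sq H ⊓ S.G₀ = sq H := inf_eq_left.2 (S.sq_le_G₀ H)
  have hq := S.card_inf (sq H)
  rw [hqG] at hq
  set s := Nat.card (sq H ⊓ S.C : Subgroup G) with hs
  set z := Nat.card (S.Y (sq H)) with hz
  set y := Nat.card (S.Y H) with hy
  set B := H ⊓ S.C with hBdef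
  set b := Nat.card B with hb
  have hspos : 0 < s := Nat.card_pos
  have hzpos : 0 < z := Nat.card_pos
  have hsqB : Nat.card (sq B) ≤ s := Subgroup.card_le_of_le
    (le_inf (sq_mono inf_le_left) ((sq_le B).trans inf_le_right))
  have hB4 : b ≤ 4 * Nat.card (sq B) := by
    rw [← S.card_V]
    exact FourCentral.IsFourCentral.card_le S.hG (S.fourCentral.mono inf_le_right) S.V
      fun x hx hx2 => S.sqrt_mem_V hx.2 hx2
  have hy8 : y ≤ 8 := (AddSubgroup.card_le_of_le (S.Y_mono le_top)).trans S.card_Y_top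
  have hHG := S.card_inf H
  rw [← hy, ← hBdef, ← hb] at hHG
  have hfail : 16 * (z * s) < Nat.card H := by rw [← hq]; omega
  have hypow : ∃ k, y = 2 ^ k := by
    have hd : y ∣ 2 ^ 4 := by
      rw [show (2 : ℕ) ^ 4 = Nat.card Mat by rw [card_mat]; norm_num]
      exact AddSubgroup.card_addSubgroup_dvd_card _
    obtain ⟨k, -, hk⟩ := (Nat.dvd_prime_pow Nat.prime_two).1 hd
    exact ⟨k, hk⟩
  obtain ⟨k, hk⟩ := hypow
  have hk3 : k ≤ 3 := (Nat.pow_le_pow_iff_right one_lt_two).1 (hk ▸ hy8 : 2 ^ k ≤ 2 ^ 3)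
  have hzfix : z = 1 → ∀ t ∈ H, t ∉ S.G₀ → ∀ M ∈ S.Y H, sig M = M := by
    intro hz1 t ht htG M hM
    obtain ⟨g, hgH, hg, rfl⟩ := hM
    have hg' : t * g * t⁻¹ ∈ S.G₀ := S.G₀_normal.conj_mem g hg t
    have hmem : sig (S.mu g) + S.mu g ∈ S.Y (sq H) :=
      ⟨t * g * t⁻¹ * g⁻¹, commutator_mem_sq ht hgH, S.G₀.mul_mem hg' (S.G₀.inv_mem hg),
        by rw [S.mu_mul hg' (S.G₀.inv_mem hg), S.mu_inv hg, S.mu_conj htG hg]⟩
    rw [AddSubgroup.eq_bot_of_card_eq _ hz1, AddSubgroup.mem_bot] at hmem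
    exact add_eq_zero_imp _ _ hmem
  -- the image is large and the intersection with `C` has four generators
  have key : 2 * s < b ∧ (y = 8 ∨ (y = 4 ∧ ∃ t ∈ H, t ∉ S.G₀ ∧ ∀ M ∈ S.Y H, sig M = M)) := by
    by_cases hH : H ≤ S.G₀
    · rw [inf_eq_left.2 hH] at hHG
      rw [hHG] at hfail
      have h1 : y * b ≤ y * (4 * s) := Nat.mul_le_mul_left y (hB4.trans (Nat.mul_le_mul_left 4 hsqB))
      have h2 : s ≤ z * s := Nat.le_mul_of_pos_left s hzpos
      interval_cases k <;> simp only [hk] at * <;> norm_num at * <;> omega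
    · obtain ⟨t, ht, htG⟩ := SetLike.not_le_iff_exists.1 hH
      have h0 := (S.card_le_two_mul H ht htG).trans' hfail.le
      have hfail' : 16 * (z * s) < 2 * (y * b) := by
        rw [← hHG]; exact lt_of_lt_of_le hfail (S.card_le_two_mul H ht htG)
      have h1 : y * b ≤ y * (4 * s) := Nat.mul_le_mul_left y (hB4.trans (Nat.mul_le_mul_left 4 hsqB))
      have h2 : s ≤ z * s := Nat.le_mul_of_pos_left s hzpos
      by_cases hz1 : z = 1
      · have hfix := hzfix hz1 t ht htG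
        rw [hz1, one_mul] at hfail'
        interval_cases k
        · rw [hk] at hfail' h1; omega
        · rw [hk] at hfail' h1; omega
        · exact ⟨by rw [hk] at hfail' h1; omega, Or.inr ⟨hk, t, ht, htG, hfix⟩⟩
        · exfalso
          obtain ⟨a, ha, c, hc, d, hd, hi⟩ := exists_indep (S.Y H) (by rw [← hy, hk]; norm_num)
          exact not_all_fixed a c d hi (hfix a ha) (hfix c hc) (hfix d hd)
      · have h3 : 2 * s ≤ z * s := Nat.mul_le_mul_right s (by omega)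
        interval_cases k <;> simp only [hk] at * <;> norm_num at * <;> omega
  obtain ⟨hbs, hycase⟩ := key
  have hsqeq : sq H ⊓ S.C = sq B := by
    refine (Subgroup.eq_of_le_of_card_ge (le_inf (sq_mono inf_le_left) ((sq_le B).trans inf_le_right)) ?_).symm
    obtain ⟨i, hi⟩ := IsPGroup.iff_card.1 (S.hG.to_subgroup B)
    obtain ⟨j, hj⟩ := IsPGroup.iff_card.1 (S.hG.to_subgroup (sq H ⊓ S.C))
    obtain ⟨l, hl⟩ := IsPGroup.iff_card.1 (S.hG.to_subgroup (sq B))
    rw [← hb] at hi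
    rw [← hs] at hj
    rw [← hs, hj, hl]
    rw [hi, hl] at hB4
    rw [hi, hj, ← pow_succ'] at hbs
    have h1 : j + 1 < i := (Nat.pow_lt_pow_iff_right one_lt_two).1 hbs
    have h2 : i ≤ l + 2 := (Nat.pow_le_pow_iff_right one_lt_two).1
      (by rw [pow_add]; omega)
    exact Nat.pow_le_pow_right two_pos (by omega)
  have hsqmem : ∀ g ∈ H, g ∈ S.G₀ → g ^ 2 ∈ sq S.C := fun g hg hg0 => by
    have : g ^ 2 ∈ sq H ⊓ S.C := ⟨sq_mem hg, S.sq_mem_C hg0⟩
    rw [hsqeq] at this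
    exact sq_mono inf_le_right this
  -- an injective member different from the identity
  have hinj : ∃ M ∈ S.Y H, Inj M ∧ M ≠ FourGenMat.one := by
    rcases hycase with h8 | ⟨h4, t, ht, htG, hfix⟩
    · obtain ⟨a, ha, c, hc, d, hd, hi⟩ := exists_indep (S.Y H) (by rw [← hy, h8])
      obtain ⟨M, hM, hM'⟩ := inj_mem a c d hi
      exact ⟨M, sp_subset ha hc hd M hM, hM'⟩
    · have key : ∀ T : Finset Mat, T.card < 4 → ∃ x ∈ S.Y H, x ∉ T := by
        intro T hT
        by_contra hcon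
        push Not at hcon
        have : y ≤ Nat.card (T : Set Mat) :=
          Nat.card_le_card_of_injective (fun x : S.Y H => (⟨x.1, hcon x.1 x.2⟩ : (T : Set Mat)))
            (fun x y hxy => Subtype.ext (congrArg (fun w : (T : Set Mat) => (w : Mat)) hxy))
        rw [Nat.card_coe_set_eq, Set.ncard_coe_finset] at this
        omega
      obtain ⟨a, ha, ha'⟩ := key {0} (by simp)
      obtain ⟨c, hc, hc'⟩ := key {0, a} (lt_of_le_of_lt Finset.card_le_two (by norm_num))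
      simp only [Finset.mem_insert, Finset.mem_singleton, not_or] at ha' hc'
      have := (fixed_pair a c ha' hc'.1 (Ne.symm hc'.2) (hfix a ha) (hfix c hc)).2
      simp only [List.mem_cons, List.not_mem_nil, or_false] at this
      refine ⟨T₁, ?_, inj_T₁⟩
      rcases this with h | h | h <;> rw [h]
      exacts [ha, hc, (S.Y H).add_mem ha hc]
  obtain ⟨M, hM, hMi, hMne⟩ := hinj
  have hCc := S.C_comm (S.Y_mono le_top hM) hMi hMne
  -- a suitable member with a centralized class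
  have hgood : ∃ M ∈ S.Y H, Good M ∧ M ≠ 0 ∧
      ∀ g ∈ S.G₀, S.mu g = M → ∀ x : G, S.mu (x * g * x⁻¹) = S.mu g := by
    have hN : N₁ ∈ S.Y H → ∃ M ∈ S.Y H, Good M ∧ M ≠ 0 ∧
        ∀ g ∈ S.G₀, S.mu g = M → ∀ x : G, S.mu (x * g * x⁻¹) = S.mu g :=
      fun h => ⟨N₁, h, good_N₁, N₁_ne_zero, fun g hg hgM => S.mu_central_N₁ hg hgM⟩
    rcases hycase with h8 | ⟨h4, t, ht, htG, hfix⟩
    · obtain ⟨a, ha, c, hc, d, hd, hi⟩ := exists_indep (S.Y H) (by rw [← hy, h8])
      by_cases htop : ∀ x : G, x ∈ S.G₀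
      · obtain ⟨M, hM, hMg⟩ := good_mem a c d hi
        exact ⟨M, sp_subset ha hc hd M hM, hMg, fun h => sp_ne_zero a c d hi (h ▸ hM),
          fun g hg _ x => S.mu_conj_of_mem (htop x) hg⟩
      · push Not at htop
        obtain ⟨t, htG⟩ := htop
        have heq : S.Y H = S.Y ⊤ := AddSubgroup.eq_of_le_of_card_ge (S.Y_mono le_top)
          (S.card_Y_top.trans (by rw [← hy, h8]))
        have hsig : ∀ M ∈ S.Y H, M ≠ 0 → sig M ∈ sp a c d := by
          intro M hM hM0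
          refine mem_sp ha hc hd hi (by rw [← hy, h8]) ?_ (sig_ne_zero M hM0)
          obtain ⟨g, hgH, hg, rfl⟩ := hM
          rw [heq]
          exact ⟨t * g * t⁻¹, trivial, S.G₀_normal.conj_mem g hg t, S.mu_conj htG hg⟩
        exact hN (sp_subset ha hc hd _ (inv_mem_sp a c d hi (hsig a ha hi.1) (hsig c hc hi.2.1)
          (hsig d hd hi.2.2.2.1)))
    · refine hN ?_
      have key : ∀ T : Finset Mat, T.card < 4 → ∃ x ∈ S.Y H, x ∉ T := by
        intro T hT
        by_contra hcon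
        push Not at hcon
        have : y ≤ Nat.card (T : Set Mat) :=
          Nat.card_le_card_of_injective (fun x : S.Y H => (⟨x.1, hcon x.1 x.2⟩ : (T : Set Mat)))
            (fun x y hxy => Subtype.ext (congrArg (fun w : (T : Set Mat) => (w : Mat)) hxy))
        rw [Nat.card_coe_set_eq, Set.ncard_coe_finset] at this
        omega
      obtain ⟨a, ha, ha'⟩ := key {0} (by simp)
      obtain ⟨c, hc, hc'⟩ := key {0, a} (lt_of_le_of_lt Finset.card_le_two (by norm_num))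
      simp only [Finset.mem_insert, Finset.mem_singleton, not_or] at ha' hc'
      have := (fixed_pair a c ha' hc'.1 (Ne.symm hc'.2) (hfix a ha) (hfix c hc)).1
      simp only [List.mem_cons, List.not_mem_nil, or_false] at this
      rcases this with h | h | h <;> rw [h]
      exacts [ha, hc, (S.Y H).add_mem ha hc]
  obtain ⟨M, ⟨g, hgH, hg, rfl⟩, hMg, hM0, hMc⟩ := hgood
  exact S.no_good hCc hg hMg hM0 (hsqmem g hgH hg) (hMc g hg rfl)

end Cfsg.Agent.FourGen
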