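import Cfsg.Agent.Lib.TwoGroups.FourGenSetup

/-!
The action on the maximal normal abelian subgroup of exponent four in coordinates.
-/

set_option autoImplicit false
set_option linter.style.haveILetI false

namespace Cfsg.Agent.FourGen

open Cfsg.Agent.SquareGen Cfsg.Agent.FourGenMat

variable {G : Type*} [Group G] [Finite G] (S : Setup G)

theorem Setup.vec_eq_one {x : Pl} (h : S.vec x = 1) : x = 0 := by
  have h1 := S.v₁_spec
  have h2 := S.v₂_spec
  obtain ⟨i, j⟩ := x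
  simp only [Setup.vec] at h
  fin_cases i <;> fin_cases j
  · rfl
  · exact absurd (by simpa [ZMod.val] using h) h2.2.1
  · exact absurd (by simpa [ZMod.val] using h) h1.2.1
  · refine absurd ?_ h2.2.2
    have e : S.v₁ * S.v₂ = 1 := by simpa [ZMod.val] using h
    have e1 : S.v₁⁻¹ = S.v₁ := inv_eq_of_mul_eq_one_right (by rw [← pow_two]; exact h1.1.2)
    rw [← inv_eq_of_mul_eq_one_right e, e1]

theorem Setup.vec_injective : Function.Injective S.vec := by
  intro x y h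
  have e : ∀ z : Pl, z + z = 0 := by decide
  have h0 : S.vec (x + y) = 1 := by rw [S.vec_add, h, ← S.vec_add, e, S.vec_zero]
  have e2 : ∀ a b : Pl, a + b = 0 → a = b := by decide
  exact e2 x y (S.vec_eq_one h0)

theorem Setup.exists_vec {v : G} (hv : v ∈ S.V) : ∃ x, S.vec x = v := by
  have hbij : Function.Bijective (fun x : Pl => (⟨S.vec x, S.vec_mem x⟩ : S.V)) :=
    (Nat.bijective_iff_injective_and_card _).2
      ⟨fun x y h => S.vec_injective (congrArg (fun z : S.V => (z : G)) h), by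
        rw [S.card_V]; simp [Pl]⟩
  obtain ⟨x, hx⟩ := hbij.2 ⟨v, hv⟩
  exact ⟨x, congrArg (fun z : S.V => (z : G)) hx⟩

/-- Coordinates in `V`. -/
noncomputable def Setup.co (v : G) : Pl := Function.invFun S.vec v

theorem Setup.vec_co {v : G} (hv : v ∈ S.V) : S.vec (S.co v) = v := Function.invFun_eq (S.exists_vec hv)

theorem Setup.co_vec (x : Pl) : S.co (S.vec x) = x := Function.leftInverse_invFun S.vec_injective x

theorem Setup.co_one : S.co 1 = 0 := by rw [← S.vec_zero, S.co_vec]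

theorem Setup.co_mul {v w : G} (hv : v ∈ S.V) (hw : w ∈ S.V) : S.co (v * w) = S.co v + S.co w := by
  conv_lhs => rw [← S.vec_co hv, ← S.vec_co hw, ← S.vec_add]
  rw [S.co_vec]

theorem Setup.eq_of_co {v w : G} (hv : v ∈ S.V) (hw : w ∈ S.V) (h : S.co v = S.co w) : v = w := by
  rw [← S.vec_co hv, ← S.vec_co hw, h]

theorem Setup.co_inv {v : G} (hv : v ∈ S.V) : S.co v⁻¹ = S.co v := by
  rw [inv_eq_of_mul_eq_one_right (by rw [← pow_two]; exact hv.2)]

/-- The image of an element of `A` in `A / V`. -/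
noncomputable def Setup.pi (a : G) : Pl := S.co (a ^ 2)

theorem Setup.pi_mul {a b : G} (ha : a ∈ S.A) (hb : b ∈ S.A) : S.pi (a * b) = S.pi a + S.pi b := by
  rw [Setup.pi, Commute.mul_pow (S.comm a ha b hb), S.co_mul (S.sq_mem_V ha) (S.sq_mem_V hb)]; rfl

theorem Setup.pi_inv {a : G} (ha : a ∈ S.A) : S.pi a⁻¹ = S.pi a := by
  rw [Setup.pi, inv_pow, S.co_inv (S.sq_mem_V ha)]; rfl

theorem Setup.pi_eq_zero {a : G} (ha : a ∈ S.A) : S.pi a = 0 ↔ a ∈ S.V := by
  constructor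
  · exact fun h => ⟨ha, S.eq_of_co (S.sq_mem_V ha) S.V.one_mem (h.trans S.co_one.symm)⟩
  · intro h; rw [Setup.pi, h.2, S.co_one]

theorem Setup.exists_pi (x : Pl) : ∃ a ∈ S.A, S.pi a = x := by
  let f : S.A →* G :=
    { toFun := fun a => (a : G) ^ 2
      map_one' := one_pow 2
      map_mul' := fun a b => by
        simp only [Subgroup.coe_mul]
        exact Commute.mul_pow (S.comm a a.2 b b.2) 2 }
  have h1 := f.ker.card_eq_card_quotient_mul_card_subgroup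
  rw [S.card, Nat.card_congr (QuotientGroup.quotientKerEquivRange f).toEquiv] at h1
  have h3 : Nat.card f.ker ≤ Nat.card S.V :=
    Nat.card_le_card_of_injective (fun a => (⟨(a.1 : G), a.1.2, a.2⟩ : S.V))
      (fun a b h => Subtype.ext (Subtype.ext (congrArg (fun z : S.V => (z : G)) h)))
  have hle : f.range ≤ S.V := by
    rintro _ ⟨a, rfl⟩
    exact S.sq_mem_V a.2
  have heq : f.range = S.V := Subgroup.eq_of_le_of_card_ge hle (by
    rw [S.card_V] at h3 ⊢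
    by_contra hlt
    have := Nat.mul_le_mul (show Nat.card f.range ≤ 3 by omega) h3
    omega)
  obtain ⟨a, ha⟩ : S.vec x ∈ f.range := heq ▸ S.vec_mem x
  exact ⟨a, a.2, by rw [Setup.pi, show (a : G) ^ 2 = S.vec x from ha, S.co_vec]⟩

/-- An element of `A` with given image. -/
noncomputable def Setup.lift (x : Pl) : G := (S.exists_pi x).choose

theorem Setup.lift_spec (x : Pl) : S.lift x ∈ S.A ∧ S.pi (S.lift x) = x := (S.exists_pi x).choose_spec

/-- The commutator with an element of `G₀`. -/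
def Setup.dev (_S : Setup G) (g a : G) : G := a⁻¹ * (g * a * g⁻¹)

theorem Setup.conj_V {g v : G} (hg : g ∈ S.G₀) (hv : v ∈ S.V) : g * v * g⁻¹ = v := by
  rw [← S.mem_G₀.1 hg v hv, mul_inv_cancel_right]

theorem Setup.conj_C {g a : G} (hg : g ∈ S.C) (ha : a ∈ S.A) : g * a * g⁻¹ = a := by
  rw [← S.mem_C.1 hg a ha, mul_inv_cancel_right]

theorem Setup.dev_mem {g a : G} (hg : g ∈ S.G₀) (ha : a ∈ S.A) : S.dev g a ∈ S.V := by
  refine ⟨S.A.mul_mem (S.A.inv_mem ha) (S.normal.conj_mem a ha g), ?_⟩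
  rw [Setup.dev, Commute.mul_pow (S.comm _ (S.A.inv_mem ha) _ (S.normal.conj_mem a ha g)), conj_pow,
    S.conj_V hg (S.sq_mem_V ha), inv_pow, inv_mul_cancel]

theorem Setup.dev_mul {g a b : G} (ha : a ∈ S.A) (hb : b ∈ S.A) :
    S.dev g (a * b) = S.dev g a * S.dev g b := by
  have hga := S.normal.conj_mem a ha g
  simp only [Setup.dev]
  rw [show g * (a * b) * g⁻¹ = (g * a * g⁻¹) * (g * b * g⁻¹) by group, mul_inv_rev,
    mul_assoc b⁻¹, ← mul_assoc a⁻¹, ← mul_assoc b⁻¹,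
    S.comm b⁻¹ (S.A.inv_mem hb) _ (S.A.mul_mem (S.A.inv_mem ha) hga), mul_assoc]

theorem Setup.dev_V {g v : G} (hg : g ∈ S.G₀) (hv : v ∈ S.V) : S.dev g v = 1 := by
  rw [Setup.dev, S.conj_V hg hv, inv_mul_cancel]

/-- The map induced on `A / V`. -/
noncomputable def Setup.mu (g : G) : Mat :=
  (S.co (S.dev g (S.lift (1, 0))), S.co (S.dev g (S.lift (0, 1))))

theorem Setup.co_dev {g a : G} (hg : g ∈ S.G₀) (ha : a ∈ S.A) :
    S.co (S.dev g a) = app (S.mu g) (S.pi a) := by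
  have e1 := S.lift_spec (1, 0)
  have e2 := S.lift_spec (0, 1)
  set p := S.lift (1, 0) ^ (S.pi a).1.val * S.lift (0, 1) ^ (S.pi a).2.val with hp
  have hpA : p ∈ S.A := S.A.mul_mem (S.A.pow_mem e1.1 _) (S.A.pow_mem e2.1 _)
  have key : S.co (S.dev g p) = app (S.mu g) (S.pi a) ∧ S.pi p = S.pi a := by
    have hd : ∀ (b : G), b ∈ S.A → ∀ i : ZMod 2, S.co (S.dev g (b ^ i.val)) = i • S.co (S.dev g b) ∧
        S.pi (b ^ i.val) = i • S.pi b := by
      intro b hb i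
      rcases (show ∀ i : ZMod 2, i = 0 ∨ i = 1 by decide) i with rfl | rfl
      · exact ⟨by simp [S.dev_V hg S.V.one_mem, S.co_one], by
          simp [(S.pi_eq_zero S.A.one_mem).2 S.V.one_mem]⟩
      · exact ⟨by simp [ZMod.val_one], by simp [ZMod.val_one]⟩
    rw [hp, S.dev_mul (S.A.pow_mem e1.1 _) (S.A.pow_mem e2.1 _),
      S.co_mul (S.dev_mem hg (S.A.pow_mem e1.1 _)) (S.dev_mem hg (S.A.pow_mem e2.1 _)),
      S.pi_mul (S.A.pow_mem e1.1 _) (S.A.pow_mem e2.1 _),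
      (hd _ e1.1 _).1, (hd _ e2.1 _).1, (hd _ e1.1 _).2, (hd _ e2.1 _).2, e1.2, e2.2]
    refine ⟨rfl, ?_⟩
    generalize S.pi a = x
    revert x; decide
  have hv : p⁻¹ * a ∈ S.V := (S.pi_eq_zero (S.A.mul_mem (S.A.inv_mem hpA) ha)).1 (by
    rw [S.pi_mul (S.A.inv_mem hpA) ha, S.pi_inv hpA, key.2]
    generalize S.pi a = x
    revert x; decide)
  conv_lhs => rw [show a = p * (p⁻¹ * a) by group]
  rw [S.dev_mul hpA hv.1, S.dev_V hg hv, mul_one, key.1]

theorem Setup.mu_eq_zero {g : G} (hg : g ∈ S.G₀) : S.mu g = 0 ↔ g ∈ S.C := by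
  constructor
  · intro h
    refine S.mem_C.2 fun a ha => ?_
    have h1 : S.dev g a = 1 := S.eq_of_co (S.dev_mem hg ha) S.V.one_mem (by
      rw [S.co_dev hg ha, h, S.co_one]; simp [app])
    rw [Setup.dev, inv_mul_eq_one] at h1
    nth_rw 1 [h1]
    group
  · intro h
    refine ext_app _ _ fun x => ?_
    obtain ⟨a, ha, rfl⟩ := S.exists_pi x
    rw [← S.co_dev hg ha, Setup.dev, S.conj_C h ha, inv_mul_cancel, S.co_one]
    simp [app]

theorem Setup.mu_mul {g h : G} (hg : g ∈ S.G₀) (hh : h ∈ S.G₀) : S.mu (g * h) = S.mu g + S.mu h := by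
  refine ext_app _ _ fun x => ?_
  obtain ⟨a, ha, rfl⟩ := S.exists_pi x
  rw [app_add, ← S.co_dev (S.G₀.mul_mem hg hh) ha, ← S.co_dev hg ha, ← S.co_dev hh ha,
    ← S.co_mul (S.dev_mem hg ha) (S.dev_mem hh ha)]
  congr 1
  have hd : S.dev (g * h) a = S.dev g a * (g * S.dev h a * g⁻¹) := by simp only [Setup.dev]; group
  rw [hd, S.conj_V hg (S.dev_mem hh ha)]

theorem Setup.mu_one : S.mu 1 = 0 := (S.mu_eq_zero S.G₀.one_mem).2 S.C.one_mem

theorem Setup.mu_inv {g : G} (hg : g ∈ S.G₀) : S.mu g⁻¹ = S.mu g := by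
  have h := S.mu_mul hg (S.G₀.inv_mem hg)
  rw [mul_inv_cancel, S.mu_one] at h
  have e : ∀ a b : Mat, 0 = a + b → b = a := by decide +kernel
  exact e _ _ h

theorem Setup.sq_mem_C {g : G} (hg : g ∈ S.G₀) : g ^ 2 ∈ S.C := by
  refine (S.mu_eq_zero (S.G₀.pow_mem hg 2)).1 ?_
  rw [pow_two, S.mu_mul hg hg, add_self]

/-- The map induced on `V`. -/
noncomputable def Setup.tau (t : G) : Mat :=
  (S.co (t * S.vec (1, 0) * t⁻¹), S.co (t * S.vec (0, 1) * t⁻¹))

theorem Setup.co_conj (t : G) {v : G} (hv : v ∈ S.V) : S.co (t * v * t⁻¹) = app (S.tau t) (S.co v) := by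
  have hn : ∀ w ∈ S.V, t * w * t⁻¹ ∈ S.V := fun w hw => S.V_normal.conj_mem w hw t
  obtain ⟨⟨i, j⟩, rfl⟩ := S.exists_vec hv
  rw [S.co_vec]
  have hs : ((i, j) : Pl) = (i, 0) + (0, j) := by simp
  conv_lhs => rw [hs, S.vec_add, show t * (S.vec (i, 0) * S.vec (0, j)) * t⁻¹ =
    (t * S.vec (i, 0) * t⁻¹) * (t * S.vec (0, j) * t⁻¹) by group,
    S.co_mul (hn _ (S.vec_mem _)) (hn _ (S.vec_mem _))]
  have hz : S.co (t * S.vec 0 * t⁻¹) = 0 := by rw [S.vec_zero, mul_one, mul_inv_cancel, S.co_one]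
  have hz' : S.co (t * S.vec (0, 0) * t⁻¹) = 0 := hz
  rcases (show ∀ i : ZMod 2, i = 0 ∨ i = 1 by decide) i with rfl | rfl <;>
    rcases (show ∀ i : ZMod 2, i = 0 ∨ i = 1 by decide) j with rfl | rfl <;>
    simp [app, Setup.tau, hz']

theorem Setup.tau_eq {t : G} (ht : t ∉ S.G₀) : S.tau t = T₁ := by
  have hinj : Inj (S.tau t) := by
    intro x hx
    have hv := S.vec_mem x
    have h1 : t * S.vec x * t⁻¹ = 1 := S.eq_of_co (S.V_normal.conj_mem _ hv t) S.V.one_mem (by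
      rw [S.co_conj t hv, S.co_vec, hx, S.co_one])
    exact S.vec_eq_one (conj_eq_one_iff.1 h1)
  have hfix : app (S.tau t) (1, 0) = (1, 0) := by
    have he : S.vec (1, 0) = S.v₁ := by simp [Setup.vec, ZMod.val_one]
    rw [← S.co_vec (1, 0), ← S.co_conj t (S.vec_mem _), he, S.v₁_spec.2.2 t, mul_inv_cancel_right]
  rcases eq_zero_or_one_or_T₁ _ hinj hfix with h | h
  · exfalso
    refine ht (S.mem_G₀.2 fun v hv => ?_)
    have h1 : t * v * t⁻¹ = v := S.eq_of_co (S.V_normal.conj_mem _ hv t) hv (by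
      rw [S.co_conj t hv, h, app_one])
    exact (mul_inv_eq_iff_eq_mul.1 h1).symm
  · exact h

theorem Setup.mul_mem_G₀ {t s : G} (ht : t ∉ S.G₀) (hs : s ∉ S.G₀) : t * s ∈ S.G₀ := by
  refine S.mem_G₀.2 fun v hv => ?_
  have h1 : t * s * v * (t * s)⁻¹ = v := S.eq_of_co (S.V_normal.conj_mem _ hv _) hv (by
    rw [show t * s * v * (t * s)⁻¹ = t * (s * v * s⁻¹) * t⁻¹ by group,
      S.co_conj t (S.V_normal.conj_mem _ hv s), S.co_conj s hv, S.tau_eq ht, S.tau_eq hs, T₁_T₁])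
  exact (mul_inv_eq_iff_eq_mul.1 h1).symm

theorem Setup.sq_mem_G₀ (t : G) : t ^ 2 ∈ S.G₀ := by
  by_cases ht : t ∈ S.G₀
  · exact S.G₀.pow_mem ht 2
  · rw [pow_two]; exact S.mul_mem_G₀ ht ht

theorem Setup.mu_conj {t g : G} (ht : t ∉ S.G₀) (hg : g ∈ S.G₀) :
    S.mu (t * g * t⁻¹) = sig (S.mu g) := by
  have hg' : t * g * t⁻¹ ∈ S.G₀ := S.G₀_normal.conj_mem g hg t
  refine ext_app _ _ fun x => ?_
  obtain ⟨a, ha, rfl⟩ := S.exists_pi x
  rw [app_sig, ← S.co_dev hg' ha]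
  set b := t⁻¹ * a * t with hb
  have hbA : b ∈ S.A := by simpa [hb] using S.normal.conj_mem a ha t⁻¹
  have he : S.dev (t * g * t⁻¹) a = t * S.dev g b * t⁻¹ := by simp only [Setup.dev, hb]; group
  have hpb : S.pi b = app T₁ (S.pi a) := by
    rw [Setup.pi, Setup.pi, show a ^ 2 = t * b ^ 2 * t⁻¹ by rw [hb]; simp only [pow_two]; group,
      S.co_conj t (S.sq_mem_V hbA), S.tau_eq ht, T₁_T₁]
  rw [he, S.co_conj t (S.dev_mem hg hbA), S.tau_eq ht, S.co_dev hg hbA, hpb]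

theorem Setup.mu_conj_of_mem {x g : G} (hx : x ∈ S.G₀) (hg : g ∈ S.G₀) :
    S.mu (x * g * x⁻¹) = S.mu g := by
  rw [S.mu_mul (S.G₀.mul_mem hx hg) (S.G₀.inv_mem hx), S.mu_mul hx hg, S.mu_inv hx, add_comm (S.mu x),
    add_assoc, add_self, add_zero]

end Cfsg.Agent.FourGen
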