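import Cfsg.Agent.Lib.TwoGroups.FourGenCoord

/-!
Four generators: the homocyclic case.
-/

set_option autoImplicit false
set_option linter.style.haveILetI false

namespace Cfsg.Agent.FourGen

open Cfsg.Agent.SquareGen Cfsg.Agent.FourGenMat

variable {G : Type*} [Group G] [Finite G] (S : Setup G)

/-- The maps induced by the elements of `H`. -/
def Setup.Y (H : Subgroup G) : AddSubgroup Mat where
  carrier := {M | ∃ g ∈ H, g ∈ S.G₀ ∧ S.mu g = M}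
  zero_mem' := ⟨1, H.one_mem, S.G₀.one_mem, S.mu_one⟩
  add_mem' := by
    rintro _ _ ⟨g, hg, hg0, rfl⟩ ⟨k, hk, hk0, rfl⟩
    exact ⟨g * k, H.mul_mem hg hk, S.G₀.mul_mem hg0 hk0, S.mu_mul hg0 hk0⟩
  neg_mem' := by
    rintro _ ⟨g, hg, hg0, rfl⟩
    exact ⟨g, hg, hg0, (neg_eq_of_add_eq_zero_left (add_self _)).symm⟩

theorem Setup.card_inf (H : Subgroup G) :
    Nat.card (H ⊓ S.G₀ : Subgroup G) = Nat.card (S.Y H) * Nat.card (H ⊓ S.C : Subgroup G) := by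
  let f : (H ⊓ S.G₀ : Subgroup G) →* Multiplicative Mat :=
    { toFun := fun g => Multiplicative.ofAdd (S.mu g)
      map_one' := by simp [S.mu_one]
      map_mul' := fun g k => by simp [S.mu_mul g.2.2 k.2.2] }
  have h1 := f.ker.card_eq_card_quotient_mul_card_subgroup
  rw [Nat.card_congr (QuotientGroup.quotientKerEquivRange f).toEquiv] at h1
  rw [h1]
  congr 1
  · refine Nat.card_congr ⟨fun x => ⟨Multiplicative.toAdd x.1, ?_⟩, fun y => ⟨Multiplicative.ofAdd y.1, ?_⟩,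
      fun x => rfl, fun y => rfl⟩
    · obtain ⟨g, hg⟩ := x.2
      exact ⟨g, g.2.1, g.2.2, congrArg Multiplicative.toAdd hg⟩
    · obtain ⟨g, hgH, hg0, hg⟩ := y.2
      exact ⟨⟨g, hgH, hg0⟩, congrArg Multiplicative.ofAdd hg⟩
  · refine Nat.card_congr ⟨fun x => ⟨x.1.1, x.1.2.1, ?_⟩,
      fun y => ⟨⟨y.1, y.2.1, S.C_le_G₀ y.2.2⟩, ?_⟩, fun x => rfl, fun y => rfl⟩
    · exact (S.mu_eq_zero x.1.2.2).1 (Multiplicative.ofAdd.injective x.2)
    · show Multiplicative.ofAdd (S.mu y.1) = 1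
      rw [(S.mu_eq_zero (S.C_le_G₀ y.2.2)).2 y.2.2]; rfl

theorem Setup.card_le_two_mul (H : Subgroup G) {t : G} (ht : t ∈ H) (htG : t ∉ S.G₀) :
    Nat.card H ≤ 2 * Nat.card (H ⊓ S.G₀ : Subgroup G) := by
  classical
  rw [← Nat.card_fin 2, ← Nat.card_prod]
  refine Nat.card_le_card_of_injective (fun x : H =>
    if hx : (x : G) ∈ S.G₀ then ((0 : Fin 2), (⟨x, x.2, hx⟩ : (H ⊓ S.G₀ : Subgroup G)))
    else ((1 : Fin 2), ⟨t * x, H.mul_mem ht x.2, S.mul_mem_G₀ htG hx⟩)) ?_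
  intro x y h
  simp only at h
  split_ifs at h with hx hy hy
  · exact Subtype.ext (congrArg (fun z : (H ⊓ S.G₀ : Subgroup G) => (z : G)) (Prod.mk.inj h).2)
  · exact absurd (Prod.mk.inj h).1 (by decide)
  · exact absurd (Prod.mk.inj h).1 (by decide)
  · exact Subtype.ext (mul_left_cancel (congrArg (fun z : (H ⊓ S.G₀ : Subgroup G) => (z : G)) (Prod.mk.inj h).2))

include S in
/-- A power of order eight of an element of order at least eight. -/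
theorem Setup.exists_order_eight {c : G} (h4 : c ^ 4 ≠ 1) :
    ∃ u ∈ Subgroup.zpowers c, u ^ 8 = 1 ∧ u ^ 4 ≠ 1 := by
  obtain ⟨n, hn⟩ := S.hG c
  obtain ⟨j, -, hj⟩ := (Nat.dvd_prime_pow Nat.prime_two).1 (orderOf_dvd_of_pow_eq_one hn)
  have hj3 : 3 ≤ j := by
    by_contra hlt
    exact h4 (orderOf_dvd_iff_pow_eq_one.1 (hj ▸ by
      rw [show (4 : ℕ) = 2 ^ 2 from rfl]; exact pow_dvd_pow 2 (by omega)))
  refine ⟨c ^ (2 ^ (j - 3)), Subgroup.pow_mem _ (Subgroup.mem_zpowers c) _, ?_, fun h => ?_⟩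
  · rw [← pow_mul, show (8 : ℕ) = 2 ^ 3 from rfl, ← pow_add, show j - 3 + 3 = j by omega, ← hj]
    exact pow_orderOf_eq_one c
  · rw [← pow_mul, show (4 : ℕ) = 2 ^ 2 from rfl, ← pow_add] at h
    have := orderOf_dvd_of_pow_eq_one h
    rw [hj] at this
    have := Nat.pow_dvd_pow_iff_le_right (x := 2) one_lt_two |>.1 this
    omega

omit [Finite G] in
theorem pow_two_pow_two {a : G} : (a ^ 2) ^ 2 = a ^ 4 := by rw [← pow_mul]

/-- An element whose square fixes only the trivial vector squares into `A`. -/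
theorem Setup.sq_mem_A {g : G} (hg : g ∈ S.G₀) (hM : Inj (S.mu g)) : g ^ 2 ∈ S.A := by
  have hC := S.sq_mem_C hg
  by_cases h4 : (g ^ 2) ^ 4 = 1
  · exact S.small _ (S.mem_C.1 hC) h4
  exfalso
  obtain ⟨u, hu, hu8, hu4⟩ := S.exists_order_eight h4
  have hu2 : u ^ 2 ∈ S.A := S.small _ (S.mem_C.1 (S.C.pow_mem ((Subgroup.zpowers_le.2 hC) hu) 2))
    (by rw [← pow_mul]; exact hu8)
  have hcomm : g * u ^ 2 * g⁻¹ = u ^ 2 := by
    obtain ⟨i, rfl⟩ := Subgroup.mem_zpowers_iff.1 hu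
    have : Commute g (((g ^ 2) ^ i) ^ 2) := (((Commute.refl g).pow_right 2).zpow_right i).pow_right 2
    rw [this.eq, mul_inv_cancel_right]
  have h0 : S.pi (u ^ 2) = 0 := hM _ (by
    rw [← S.co_dev hg hu2, Setup.dev, hcomm, inv_mul_cancel, S.co_one])
  apply hu4
  rw [← pow_two_pow_two (a := u)]
  exact ((S.pi_eq_zero hu2).1 h0).2

/-- Injective maps fix the classes of the squares of the elements of order eight. -/
theorem Setup.fixed {g : G} (hg : g ∈ S.G₀) (hM : Inj (S.mu g)) {u : G} (hu : u ∈ S.C) (hu2 : u ^ 2 ∈ S.A) :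
    app (S.mu g) (S.pi (u ^ 2)) = S.pi (u ^ 2) := by
  set u' := g * u * g⁻¹ with hu'
  have hu'C : u' ∈ S.C := S.C_normal.conj_mem u hu g
  have hu'2 : u' ^ 2 ∈ S.A := by rw [hu', conj_pow]; exact S.normal.conj_mem _ hu2 g
  have hu8 : u ^ 8 = 1 := by rw [show (8 : ℕ) = 2 * 4 from rfl, pow_mul]; exact S.exp4 _ hu2
  set γ := u' * u⁻¹ * u'⁻¹ * u with hγ
  have hγ2 : γ ^ 2 = 1 := by
    have h := FourCentral.commutator_sq S.hG S.C S.fourCentral u⁻¹ (S.C.inv_mem hu) u' hu'C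
      (by rw [inv_pow, hu8, inv_one])
    rw [show γ = (u⁻¹ * u' * u⁻¹⁻¹ * u'⁻¹)⁻¹ by rw [hγ]; group, inv_pow, h, inv_one]
  have hγC : γ ∈ S.C := S.C.mul_mem (S.C.mul_mem (S.C.mul_mem hu'C (S.C.inv_mem hu)) (S.C.inv_mem hu'C)) hu
  have hγV := S.sqrt_mem_V hγC hγ2
  set d := u⁻¹ * u' with hd
  have hdC : d ∈ S.C := S.C.mul_mem (S.C.inv_mem hu) hu'C
  have hδ : S.dev g (u ^ 2) = (u ^ 2)⁻¹ * u' ^ 2 := by rw [Setup.dev, hu', conj_pow]
  have hδV := S.dev_mem hg hu2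
  have hd2 : d ^ 2 = S.dev g (u ^ 2) * γ⁻¹⁻¹ := by
    rw [inv_inv, hδ, show (u ^ 2)⁻¹ * u' ^ 2 * γ = (u ^ 2)⁻¹ * u' ^ 2 * γ from rfl]
    have hγc : γ * (u⁻¹ * u') = u⁻¹ * u' * γ := (S.mem_C.1 hdC γ hγV.1)
    have hγu : γ * u' = u' * γ := S.mem_C.1 hu'C γ hγV.1
    calc d ^ 2 = u⁻¹ * (u' * u⁻¹) * u' := by rw [hd, pow_two]; group
      _ = u⁻¹ * (γ * (u⁻¹ * u')) * u' := by rw [hγ]; group
      _ = u⁻¹ * (u⁻¹ * u' * γ) * u' := by rw [hγc]
      _ = u⁻¹ * u⁻¹ * u' * (γ * u') := by group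
      _ = u⁻¹ * u⁻¹ * u' * (u' * γ) := by rw [hγu]
      _ = (u ^ 2)⁻¹ * u' ^ 2 * γ := by simp only [pow_two]; group
  rw [inv_inv] at hd2
  have hdA : d ∈ S.A := S.small d (S.mem_C.1 hdC) (by
    rw [← pow_two_pow_two (a := d), hd2]; exact (S.V.mul_mem hδV hγV).2)
  have hγ1 : γ = 1 := by
    have hcomm : u * d = d * u := (S.mem_C.1 hu d hdA).symm
    have e : u * d * u⁻¹ = d := by rw [hcomm, mul_inv_cancel_right]
    rw [hγ, show u' = u * d by rw [hd]; group, e]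
    group
  have hδd : S.co (S.dev g (u ^ 2)) = S.pi d := by rw [Setup.pi, hd2, hγ1, mul_one]
  -- conjugate by `g` once more
  have hg2 := S.sq_mem_A hg hM
  have hfix : g * u' * g⁻¹ = u := by
    rw [hu', show g * (g * u * g⁻¹) * g⁻¹ = g ^ 2 * u * (g ^ 2)⁻¹ by simp only [pow_two]; group,
      S.mem_C.1 hu _ hg2, mul_inv_cancel_right]
  have hdd : d * (g * d * g⁻¹) = 1 := by
    rw [show d = u⁻¹ * u' from hd, show g * (u⁻¹ * u') * g⁻¹ = (g * u * g⁻¹)⁻¹ * (g * u' * g⁻¹) by group,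
      hfix, ← hu']
    group
  have hsum : S.pi d + S.co (S.dev g d) = 0 := by
    rw [Setup.pi, ← S.co_mul (S.sq_mem_V hdA) (S.dev_mem hg hdA),
      show d ^ 2 * S.dev g d = d * (g * d * g⁻¹) by simp only [Setup.dev, pow_two]; group, hdd, S.co_one]
  rw [S.co_dev hg hdA, ← hδd, S.co_dev hg hu2] at hsum
  have e : ∀ a b : Pl, a + b = 0 → b = a := by decide
  have h1 := e _ _ hsum
  have h2 : app (S.mu g) (app (S.mu g) (S.pi (u ^ 2)) + S.pi (u ^ 2)) = 0 := by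
    rw [app_add_right, h1]
    generalize app (S.mu g) (S.pi (u ^ 2)) = z
    revert z; decide
  exact (e _ _ (hM _ h2)).symm

theorem Setup.exists_sq_in_A (hCA : ¬ S.C ≤ S.A) : ∃ u ∈ S.C, u ∉ S.A ∧ u ^ 2 ∈ S.A := by
  obtain ⟨c, hc, hcA⟩ := SetLike.not_le_iff_exists.1 hCA
  have h4 : c ^ 4 ≠ 1 := fun h => hcA (S.small c (S.mem_C.1 hc) h)
  obtain ⟨u, hu, hu8, hu4⟩ := S.exists_order_eight h4
  have huC : u ∈ S.C := (Subgroup.zpowers_le.2 hc) hu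
  exact ⟨u, huC, fun h => hu4 (S.exp4 u h), S.small _ (S.mem_C.1 (S.C.pow_mem huC 2)) (by rw [← pow_mul]; exact hu8)⟩

theorem Setup.pi_sq_ne {u : G} (hu : u ∈ S.C) (huA : u ∉ S.A) (hu2 : u ^ 2 ∈ S.A) : S.pi (u ^ 2) ≠ 0 :=
  fun h => huA (S.small u (S.mem_C.1 hu) (by
    rw [← pow_two_pow_two (a := u)]; exact ((S.pi_eq_zero hu2).1 h).2))

theorem Setup.C_comm {M : Mat} (hM : M ∈ S.Y ⊤) (hinj : Inj M) (hne : M ≠ one) :
    ∀ x ∈ S.C, ∀ y ∈ S.C, x * y = y * x := by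
  classical
  obtain ⟨g, -, hg, rfl⟩ := hM
  have huniq : ∀ u₁ ∈ S.C, ∀ u₂ ∈ S.C, u₁ ∉ S.A → u₂ ∉ S.A → u₁ ^ 2 ∈ S.A → u₂ ^ 2 ∈ S.A →
      u₁⁻¹ * u₂ ∈ S.A := by
    intro u₁ h₁ u₂ h₂ n₁ n₂ a₁ a₂
    have heq : S.pi (u₁ ^ 2) = S.pi (u₂ ^ 2) := by
      by_contra hne'
      exact hne (two_fixed _ _ _ (S.pi_sq_ne h₁ n₁ a₁) (S.pi_sq_ne h₂ n₂ a₂) hne'
        (S.fixed hg hinj h₁ a₁) (S.fixed hg hinj h₂ a₂))
    have h8 : u₁⁻¹ ^ 8 = 1 := by rw [inv_pow, show (8 : ℕ) = 2 * 4 from rfl, pow_mul, S.exp4 _ a₁, inv_one]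
    set γ := u₂ * u₁⁻¹ * u₂⁻¹ * u₁ with hγ
    have hγC : γ ∈ S.C := S.C.mul_mem (S.C.mul_mem (S.C.mul_mem h₂ (S.C.inv_mem h₁)) (S.C.inv_mem h₂)) h₁
    have hγV : γ ∈ S.V := S.sqrt_mem_V hγC (by
      have h := FourCentral.commutator_sq S.hG S.C S.fourCentral u₁⁻¹ (S.C.inv_mem h₁) u₂ h₂ h8
      rw [show γ = (u₁⁻¹ * u₂ * u₁⁻¹⁻¹ * u₂⁻¹)⁻¹ by rw [hγ]; group, inv_pow, h, inv_one])
    refine S.small _ (S.mem_C.1 (S.C.mul_mem (S.C.inv_mem h₁) h₂)) ?_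
    have hγc : γ * (u₁⁻¹ * u₂) = u₁⁻¹ * u₂ * γ := S.mem_C.1 (S.C.mul_mem (S.C.inv_mem h₁) h₂) γ hγV.1
    have hγu : γ * u₂ = u₂ * γ := S.mem_C.1 h₂ γ hγV.1
    have e : (u₁⁻¹ * u₂) ^ 2 = (u₁ ^ 2)⁻¹ * u₂ ^ 2 * γ := by
      calc (u₁⁻¹ * u₂) ^ 2 = u₁⁻¹ * (γ * (u₁⁻¹ * u₂)) * u₂ := by rw [hγ, pow_two]; group
        _ = u₁⁻¹ * u₁⁻¹ * u₂ * (γ * u₂) := by rw [hγc]; group
        _ = (u₁ ^ 2)⁻¹ * u₂ ^ 2 * γ := by rw [hγu]; simp only [pow_two]; group
    have hmem : (u₁ ^ 2)⁻¹ * u₂ ^ 2 ∈ S.V := (S.pi_eq_zero (S.A.mul_mem (S.A.inv_mem a₁) a₂)).1 (by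
      rw [S.pi_mul (S.A.inv_mem a₁) a₂, S.pi_inv a₁, heq]
      generalize S.pi (u₂ ^ 2) = z
      revert z; decide)
    rw [← pow_two_pow_two (a := u₁⁻¹ * u₂), e]
    exact (S.V.mul_mem hmem hγV).2
  -- the quotient of `C` by `A`
  haveI := S.normal
  haveI := S.C_normal
  haveI := S.V_normal
  set N := S.A.subgroupOf S.C with hN
  have hmk : ∀ x : S.C, ((x : S.C ⧸ N) = 1 ↔ (x : G) ∈ S.A) := fun x => QuotientGroup.eq_one_iff x
  have hVA : ∀ {z : G}, z ∈ S.V → z ∈ S.A := fun h => h.1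
  have hfour : FourCentral.IsFourCentral (⊤ : Subgroup (S.C ⧸ N)) := by
    intro q _ r _ hq
    obtain ⟨x, rfl⟩ := QuotientGroup.mk_surjective q
    obtain ⟨y, rfl⟩ := QuotientGroup.mk_surjective r
    rw [← QuotientGroup.mk_pow, hmk] at hq
    have hx16 : ((x : G) ^ 4) ^ 4 = 1 := S.exp4 _ (by simpa using hq)
    let f := QuotientGroup.mk' S.V
    have hB : FourCentral.IsFourCentral (S.C.map f) := by
      rintro _ ⟨a, ha, rfl⟩ _ ⟨b, hb, rfl⟩ ha4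
      rw [← map_pow] at ha4
      have h8 : a ^ 8 = 1 := by
        rw [show (8 : ℕ) = 4 * 2 from rfl, pow_mul]
        exact ((QuotientGroup.eq_one_iff (a ^ 4)).1 ha4).2
      have h := FourCentral.commutator_sq S.hG S.C S.fourCentral a ha b hb h8
      have hz : a * b * a⁻¹ * b⁻¹ ∈ S.V :=
        S.sqrt_mem_V (S.C.mul_mem (S.C.mul_mem (S.C.mul_mem ha hb) (S.C.inv_mem ha)) (S.C.inv_mem hb)) h
      have h1 : f (a * b * a⁻¹ * b⁻¹) = 1 := (QuotientGroup.eq_one_iff _).2 hz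
      simp only [map_mul, map_inv] at h1
      rw [mul_inv_eq_one, mul_inv_eq_iff_eq_mul] at h1
      exact h1
    have hx8 : f (x : G) ^ 8 = 1 := by
      rw [← map_pow]
      refine (QuotientGroup.eq_one_iff _).2 ?_
      rw [show (8 : ℕ) = 4 * 2 from rfl, pow_mul]
      exact S.sq_mem_V (by simpa using hq)
    have h := FourCentral.commutator_sq (S.hG.to_quotient S.V) _ hB (f x) ⟨x, x.2, rfl⟩ (f y) ⟨y, y.2, rfl⟩ hx8
    rw [← map_inv, ← map_inv, ← map_mul, ← map_mul, ← map_mul, ← map_pow] at h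
    have hz : ((x : G) * y * (x : G)⁻¹ * (y : G)⁻¹) ^ 2 ∈ S.V := (QuotientGroup.eq_one_iff _).1 h
    have hzA : (x : G) * y * (x : G)⁻¹ * (y : G)⁻¹ ∈ S.A :=
      S.small _ (S.mem_C.1 (S.C.mul_mem (S.C.mul_mem (S.C.mul_mem x.2 y.2) (S.C.inv_mem x.2)) (S.C.inv_mem y.2)))
        (by rw [← pow_two_pow_two (a := (x : G) * y * (x : G)⁻¹ * (y : G)⁻¹)]; exact hz.2)
    have := (hmk (x * y * x⁻¹ * y⁻¹)).2 (by simpa using hzA)
    simp only [QuotientGroup.mk_mul, QuotientGroup.mk_inv] at this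
    rw [mul_inv_eq_one, mul_inv_eq_iff_eq_mul] at this
    exact this
  have hQ := (S.hG.to_subgroup S.C).to_quotient N
  have h2 : Nat.card {q : S.C ⧸ N // q ^ 2 = 1} ≤ 2 := by
    by_contra hlt
    haveI : Fintype {q : S.C ⧸ N // q ^ 2 = 1} := Fintype.ofFinite _
    rw [Nat.card_eq_fintype_card] at hlt
    obtain ⟨a, b, c, hab, hac, hbc⟩ := Fintype.two_lt_card_iff.1 (lt_of_not_ge hlt)
    have key : ∀ q r : {q : S.C ⧸ N // q ^ 2 = 1}, q.1 ≠ 1 → r.1 ≠ 1 → q = r := by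
      rintro ⟨q, hq⟩ ⟨r, hr⟩ hq1 hr1
      obtain ⟨x, rfl⟩ := QuotientGroup.mk_surjective q
      obtain ⟨y, rfl⟩ := QuotientGroup.mk_surjective r
      rw [← QuotientGroup.mk_pow, hmk] at hq hr
      rw [ne_eq, hmk] at hq1 hr1
      refine Subtype.ext (QuotientGroup.eq.2 ?_)
      show ((x⁻¹ * y : S.C) : G) ∈ S.A
      simpa using huniq x x.2 y y.2 hq1 hr1 (by simpa using hq) (by simpa using hr)
    by_cases ha : a.1 = 1
    · exact hbc (key b c (fun h => hab (Subtype.ext (ha.trans h.symm))) fun h => hac (Subtype.ext (ha.trans h.symm)))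
    by_cases hb : b.1 = 1
    · exact hac (key a c ha fun h => hbc (Subtype.ext (hb.trans h.symm)))
    exact hab (key a b ha hb)
  haveI : IsCyclic (S.C ⧸ N) :=
    SquareGen.isCyclic_of_card_le hQ ((FourCentral.card_le_sqrt hQ hfour).trans (Nat.mul_le_mul_right _ h2))
  have hcenter : (QuotientGroup.mk' N).ker ≤ Subgroup.center S.C := by
    rw [QuotientGroup.ker_mk']
    intro a ha
    exact Subgroup.mem_center_iff.2 fun b => Subtype.ext (S.mem_C.1 b.2 a ha).symm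
  intro x hx y hy
  exact congrArg Subtype.val
    ((MonoidHom.isMulCommutative_of_isCyclic_of_ker_le_center (QuotientGroup.mk' N) hcenter).is_comm.comm (⟨x, hx⟩ : S.C) ⟨y, hy⟩)

/-- A normal elementary abelian subgroup of order eight. -/
theorem Setup.no_good (hC : ∀ x ∈ S.C, ∀ y ∈ S.C, x * y = y * x) {g : G} (hg : g ∈ S.G₀)
    (hgood : Good (S.mu g)) (hne : S.mu g ≠ 0) (hsq : g ^ 2 ∈ sq S.C)
    (hcentral : ∀ x : G, S.mu (x * g * x⁻¹) = S.mu g) : False := by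
  classical
  have hgn : ∀ c ∈ S.C, g * c * g⁻¹ ∈ S.C := fun c hc => S.C_normal.conj_mem c hc g
  have hg2C := sq_le S.C hsq
  let φ : S.C →* G :=
    { toFun := fun c => (c : G) * (g * c * g⁻¹)
      map_one' := by simp
      map_mul' := fun a b => by
        simp only [Subgroup.coe_mul]
        rw [show g * ((a : G) * b) * g⁻¹ = (g * a * g⁻¹) * (g * b * g⁻¹) by group,
          mul_assoc (a : G) b, ← mul_assoc (b : G), hC b b.2 _ (hgn a a.2)]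
        group }
  have hker : ∀ c : S.C, φ c = 1 → (c : G) ∈ S.V := by
    intro c hc
    have hcA : ∀ b ∈ S.C, b * (g * b * g⁻¹) = 1 → b ∈ S.A → b ∈ S.V := by
      intro b _ hb hbA
      refine (S.pi_eq_zero hbA).1 (hgood _ ?_)
      rw [← S.co_dev hg hbA, Setup.dev, eq_inv_of_mul_eq_one_right hb, Setup.pi]
      conv_lhs => rw [show b⁻¹ * b⁻¹ = (b ^ 2)⁻¹ by simp only [pow_two]; group, S.co_inv (S.sq_mem_V hbA)]
    refine hcA c c.2 hc (S.small _ (S.mem_C.1 c.2) ?_)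
    by_contra h4
    obtain ⟨u, hu, hu8, hu4⟩ := S.exists_order_eight h4
    obtain ⟨i, rfl⟩ := Subgroup.mem_zpowers_iff.1 hu
    set v := c ^ (2 * i : ℤ) with hv
    have hvv : (v : G) = ((c : G) ^ i) ^ 2 := by
      rw [hv]; push_cast; rw [← zpow_natCast, ← zpow_mul]; ring_nf
    have hφv : φ v = 1 := by rw [hv, map_zpow, hc, one_zpow]
    have hvA : (v : G) ∈ S.A := S.small _ (S.mem_C.1 v.2) (by rw [hvv, ← pow_mul]; exact hu8)
    have := (hcA v v.2 hφv hvA).2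
    rw [hvv, ← pow_mul] at this
    exact hu4 this
  have hVC : ∀ v ∈ S.V, v ∈ S.C := fun v hv => S.A_le_C hv.1
  have hkerV : ∀ v : S.C, (v : G) ∈ S.V → φ v = 1 := fun v hv => by
    show (v : G) * (g * v * g⁻¹) = 1
    rw [S.conj_V hg hv, ← pow_two, hv.2]
  -- squaring
  let σ : S.C →* G :=
    { toFun := fun c => (c : G) ^ 2
      map_one' := one_pow 2
      map_mul' := fun a b => by
        simp only [Subgroup.coe_mul]
        exact Commute.mul_pow (hC a a.2 b b.2) 2 }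
  have hkereq : φ.ker = σ.ker := by
    ext c
    rw [MonoidHom.mem_ker, MonoidHom.mem_ker]
    exact ⟨fun h => (hker c h).2, fun h => hkerV c (S.sqrt_mem_V c.2 h)⟩
  have hσ : σ.range = sq S.C := by
    refine le_antisymm (by rintro _ ⟨c, rfl⟩; exact sq_mem c.2) ?_
    rw [SquareGen.sq, Subgroup.closure_le]
    rintro _ ⟨c, hc, rfl⟩
    exact ⟨⟨c, hc⟩, rfl⟩
  have hrange : φ.range ≤ sq S.C := by
    rintro _ ⟨c, rfl⟩
    set d : S.C := ⟨(c : G)⁻¹ * (g * c * g⁻¹), S.C.mul_mem (S.C.inv_mem c.2) (hgn c c.2)⟩ with hd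
    have hφd : φ d = 1 := by
      show (d : G) * (g * d * g⁻¹) = 1
      rw [hd]
      show (c : G)⁻¹ * (g * c * g⁻¹) * (g * ((c : G)⁻¹ * (g * c * g⁻¹)) * g⁻¹) = 1
      rw [show (c : G)⁻¹ * (g * c * g⁻¹) * (g * ((c : G)⁻¹ * (g * c * g⁻¹)) * g⁻¹) =
        (c : G)⁻¹ * (g ^ 2 * c * (g ^ 2)⁻¹) by simp only [pow_two]; group,
        hC _ hg2C c c.2, mul_inv_cancel_right, inv_mul_cancel]
    have e : φ c = (c : G) ^ 2 * (d : G) := by
      show (c : G) * (g * c * g⁻¹) = (c : G) ^ 2 * ((c : G)⁻¹ * (g * c * g⁻¹))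
      simp only [pow_two]; group
    rw [e]
    refine (sq S.C).mul_mem (sq_mem c.2) ?_
    obtain ⟨a, ha, hpa⟩ := S.exists_pi (S.co (d : G))
    rw [S.eq_of_co (hker d hφd) (S.sq_mem_V ha) hpa.symm]
    exact sq_mem (S.A_le_C ha)
  have heq : φ.range = sq S.C := by
    refine Subgroup.eq_of_le_of_card_ge hrange (le_of_eq ?_)
    rw [← hσ, ← Nat.card_congr (QuotientGroup.quotientKerEquivRange φ).toEquiv,
      ← Nat.card_congr (QuotientGroup.quotientKerEquivRange σ).toEquiv, hkereq]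
  obtain ⟨c, hc⟩ : (g ^ 2)⁻¹ ∈ φ.range := heq ▸ (sq S.C).inv_mem hsq
  set t := (c : G) * g with ht
  have hc' : (c : G) * (g * c * g⁻¹) = (g ^ 2)⁻¹ := hc
  have ht2 : t ^ 2 = 1 := by
    rw [ht, pow_two, show (c : G) * g * ((c : G) * g) = (c : G) * (g * c * g⁻¹) * g ^ 2 by
      simp only [pow_two]; group, hc', inv_mul_cancel]
  have htG : t ∈ S.G₀ := S.G₀.mul_mem (S.C_le_G₀ c.2) hg
  have hconj : ∀ x : G, t⁻¹ * (x * t * x⁻¹) ∈ S.V := by
    intro x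
    set t' := x * t * x⁻¹ with ht'
    have hgx : (x * g * x⁻¹) * g⁻¹ ∈ S.C := (S.mu_eq_zero (S.G₀.mul_mem (S.G₀_normal.conj_mem g hg x)
      (S.G₀.inv_mem hg))).1 (by
        rw [S.mu_mul (S.G₀_normal.conj_mem g hg x) (S.G₀.inv_mem hg), S.mu_inv hg, hcentral x, add_self])
    let c' : S.C := ⟨(x * c * x⁻¹) * ((x * g * x⁻¹) * g⁻¹), S.C.mul_mem (S.C_normal.conj_mem c c.2 x) hgx⟩
    have hc't : t' = (c' : G) * g := by rw [ht', ht]; simp only [c']; group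
    have hc'2 : φ c' = φ c := by
      show (c' : G) * (g * c' * g⁻¹) = φ c
      rw [hc, show (c' : G) * (g * c' * g⁻¹) = t' ^ 2 * (g ^ 2)⁻¹ by rw [hc't]; simp only [pow_two]; group,
        ht', conj_pow, ht2, mul_one, mul_inv_cancel, one_mul]
    have hv : ((c⁻¹ * c' : S.C) : G) ∈ S.V := hker _ (by rw [map_mul, map_inv, hc'2, inv_mul_cancel])
    have e : t⁻¹ * t' = g⁻¹ * ((c⁻¹ * c' : S.C) : G) * g⁻¹⁻¹ := by
      rw [hc't, ht, Subgroup.coe_mul, Subgroup.coe_inv]; group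
    rw [e]
    exact S.V_normal.conj_mem _ hv _
  have htV : t ∉ S.V := by
    intro h
    have h0 := (S.mu_eq_zero htG).2 (hVC t h)
    rw [ht, S.mu_mul (S.C_le_G₀ c.2) hg, (S.mu_eq_zero (S.C_le_G₀ c.2)).2 c.2, zero_add] at h0
    exact hne h0
  set E := Subgroup.closure ((S.V : Set G) ∪ {t}) with hE
  have hVE : S.V ≤ E := fun v hv => Subgroup.subset_closure (Or.inl hv)
  have hEn : E.Normal := ⟨fun n hn x => by
    induction hn using Subgroup.closure_induction with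
    | mem w hw =>
      rcases hw with hw | hw
      · exact hVE (S.V_normal.conj_mem w hw x)
      · rw [Set.mem_singleton_iff.1 hw, show x * t * x⁻¹ = t * (t⁻¹ * (x * t * x⁻¹)) by group]
        exact E.mul_mem (Subgroup.subset_closure (Or.inr rfl)) (hVE (hconj x))
    | one => rw [mul_one, mul_inv_cancel]; exact E.one_mem
    | mul p q _ _ hp hq =>
      rw [show x * (p * q) * x⁻¹ = (x * p * x⁻¹) * (x * q * x⁻¹) by group]
      exact E.mul_mem hp hq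
    | inv p _ hp =>
      rw [show x * p⁻¹ * x⁻¹ = (x * p * x⁻¹)⁻¹ by group]
      exact E.inv_mem hp⟩
  have hEc : IsMulCommutative E := Subgroup.isMulCommutative_closure (by
    rintro p (hp | rfl) q (hq | rfl)
    · exact S.comm p hp.1 q hq.1
    · exact S.mem_G₀.1 htG p hp
    · exact (S.mem_G₀.1 htG q hq).symm
    · rfl)
  have hE2 : ∀ n ∈ E, n ^ 2 = 1 := by
    intro n hn
    induction hn using Subgroup.closure_induction with
    | mem w hw => rcases hw with hw | rfl; exacts [hw.2, ht2]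
    | one => exact one_pow 2
    | mul p q hp hq ihp ihq =>
      rw [Commute.mul_pow (congrArg Subtype.val (hEc.is_comm.comm (⟨p, hp⟩ : E) ⟨q, hq⟩)), ihp, ihq, one_mul]
    | inv p _ ihp => rw [inv_pow, ihp, inv_one]
  have hEV : E = S.V :=
    (Subgroup.eq_of_le_of_card_ge hVE ((S.h E hEn hEc hE2).trans S.card_V.ge)).symm
  exact htV (hEV ▸ Subgroup.subset_closure (Or.inr rfl))

end Cfsg.Agent.FourGen
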