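import Mathlib

/-!
Linear maps of the plane over the field of two elements, as pairs of columns.
-/

set_option autoImplicit false
set_option synthInstance.maxSize 4096
set_option synthInstance.maxHeartbeats 200000

namespace Cfsg.Agent.FourGenMat

/-- The plane over the field of two elements. -/
abbrev Pl : Type := ZMod 2 × ZMod 2

/-- Linear maps of the plane, given by the images of the two basis vectors. -/
abbrev Mat : Type := Pl × Pl

/-- The value of a map at a vector. -/
def app (M : Mat) (v : Pl) : Pl := v.1 • M.1 + v.2 • M.2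

/-- The identity map. -/
def one : Mat := ((1, 0), (0, 1))

/-- The non-identity involution fixing the first basis vector. -/
def T₁ : Mat := ((1, 0), (1, 1))

/-- The nilpotent map centralized by `T₁`. -/
def N₁ : Mat := ((0, 0), (1, 0))

/-- A map of order three. -/
def P₃ : Mat := ((0, 1), (1, 1))

/-- Conjugation by `T₁`. -/
def sig (M : Mat) : Mat := (app T₁ (app M (app T₁ (1, 0))), app T₁ (app M (app T₁ (0, 1))))

/-- Injectivity. -/
abbrev Inj (M : Mat) : Prop := ∀ v, app M v = 0 → v = 0

/-- No non-zero fixed vector. -/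
abbrev Good (M : Mat) : Prop := ∀ v, app M v = v → v = 0

/-- Three independent maps. -/
abbrev Indep (a b c : Mat) : Prop :=
  a ≠ 0 ∧ b ≠ 0 ∧ b ≠ a ∧ c ≠ 0 ∧ c ≠ a ∧ c ≠ b ∧ c ≠ a + b

/-- The non-zero maps in the span of three maps. -/
abbrev sp (a b c : Mat) : List Mat := [a, b, c, a + b, a + c, b + c, a + b + c]

theorem app_add (M N : Mat) (v : Pl) : app (M + N) v = app M v + app N v := by
  revert M N v; decide +kernel

theorem app_add_right (M : Mat) (v w : Pl) : app M (v + w) = app M v + app M w := by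
  revert M v w; decide +kernel

theorem add_self (M : Mat) : M + M = 0 := by revert M; decide +kernel

theorem ext_app : ∀ M N : Mat, (∀ v, app M v = app N v) → M = N := by decide +kernel

theorem eq_zero_or_one_or_T₁ :
    ∀ M : Mat, Inj M → app M (1, 0) = (1, 0) → M = one ∨ M = T₁ := by decide +kernel

theorem inj_P₃ : Inj P₃ := by decide +kernel

theorem good_P₃ : Good P₃ := by decide +kernel

theorem fixed_P₃ : ∀ v, app P₃ v = v → v = 0 := by decide +kernel

theorem good_N₁ : Good N₁ := by decide +kernel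

theorem sig_N₁ : sig N₁ = N₁ := by decide +kernel

theorem app_sig : ∀ (M : Mat) (v : Pl), app (sig M) v = app T₁ (app M (app T₁ v)) := by decide +kernel

theorem app_one : ∀ v, app one v = v := by decide +kernel

theorem T₁_T₁ : ∀ v, app T₁ (app T₁ v) = v := by decide +kernel

theorem inj_T₁ : Inj T₁ ∧ T₁ ≠ one := by decide +kernel

theorem two_fixed : ∀ M : Mat, ∀ v w : Pl, v ≠ 0 → w ≠ 0 → v ≠ w → app M v = v → app M w = w → M = one := by
  decide +kernel

theorem fixed_pair : ∀ a b : Mat, a ≠ 0 → b ≠ 0 → a ≠ b → sig a = a → sig b = b →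
    N₁ ∈ [a, b, a + b] ∧ T₁ ∈ [a, b, a + b] := by decide +kernel

theorem not_all_fixed : ∀ a b c : Mat, Indep a b c → sig a = a → sig b = b → sig c = c → False := by
  decide +kernel

theorem good_mem : ∀ a b c : Mat, Indep a b c → ∃ M ∈ sp a b c, Good M := by decide +kernel

theorem inj_mem : ∀ a b c : Mat, Indep a b c → ∃ M ∈ sp a b c, Inj M ∧ M ≠ one := by decide +kernel

theorem inv_mem_sp : ∀ a b c : Mat, Indep a b c → sig a ∈ sp a b c → sig b ∈ sp a b c → sig c ∈ sp a b c →
    N₁ ∈ sp a b c := by decide +kernel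

theorem card_mat : Nat.card Mat = 16 := by
  simp [Mat, Pl, Nat.card_prod]

/-- Three independent members of a large set of maps. -/
theorem exists_indep (S : AddSubgroup Mat) (h : 8 ≤ Nat.card S) :
    ∃ a ∈ S, ∃ b ∈ S, ∃ c ∈ S, Indep a b c := by
  classical
  have key : ∀ T : Finset Mat, T.card < 8 → ∃ x ∈ S, x ∉ T := by
    intro T hT
    by_contra hcon
    push Not at hcon
    have : Nat.card S ≤ Nat.card (T : Set Mat) :=
      Nat.card_le_card_of_injective (fun x : S => (⟨x.1, hcon x.1 x.2⟩ : (T : Set Mat)))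
        (fun x y hxy => Subtype.ext (congrArg (fun z : (T : Set Mat) => (z : Mat)) hxy))
    rw [Nat.card_coe_set_eq, Set.ncard_coe_finset] at this
    omega
  obtain ⟨a, ha, ha'⟩ := key {0} (by simp)
  obtain ⟨b, hb, hb'⟩ := key {0, a} (lt_of_le_of_lt Finset.card_le_two (by norm_num))
  obtain ⟨c, hc, hc'⟩ := key {0, a, b, a + b} (lt_of_le_of_lt Finset.card_le_four (by norm_num))
  simp only [Finset.mem_insert, Finset.mem_singleton, not_or] at ha' hb' hc'
  exact ⟨a, ha, b, hb, c, hc, ha', hb'.1, hb'.2, hc'.1, hc'.2.1, hc'.2.2.1, hc'.2.2.2⟩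

/-- The list of the span is made of members. -/
theorem sp_subset {S : AddSubgroup Mat} {a b c : Mat} (ha : a ∈ S) (hb : b ∈ S) (hc : c ∈ S) :
    ∀ M ∈ sp a b c, M ∈ S := by
  intro M hM
  simp only [sp, List.mem_cons, List.not_mem_nil, or_false] at hM
  rcases hM with rfl | rfl | rfl | rfl | rfl | rfl | rfl
  exacts [ha, hb, hc, S.add_mem ha hb, S.add_mem ha hc, S.add_mem hb hc, S.add_mem (S.add_mem ha hb) hc]

theorem card_sp : ∀ a b c : Mat, Indep a b c → (0 :: sp a b c).toFinset.card = 8 := by decide +kernel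

/-- With at most eight members the span of three independent members is everything non-zero. -/
theorem mem_sp {S : AddSubgroup Mat} {a b c : Mat} (ha : a ∈ S) (hb : b ∈ S) (hc : c ∈ S) (hi : Indep a b c)
    (h : Nat.card S ≤ 8) {M : Mat} (hM : M ∈ S) (h0 : M ≠ 0) : M ∈ sp a b c := by
  classical
  by_contra hcon
  have hsub : ((insert M (0 :: sp a b c).toFinset : Finset Mat) : Set Mat) ⊆ (S : Set Mat) := by
    intro x hx
    rw [Finset.coe_insert, Set.mem_insert_iff, Finset.mem_coe, List.mem_toFinset, List.mem_cons] at hx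
    rcases hx with rfl | rfl | hx
    exacts [hM, S.zero_mem, sp_subset ha hb hc x hx]
  have := Set.ncard_le_ncard hsub (Set.toFinite _)
  rw [Set.ncard_coe_finset, Finset.card_insert_of_notMem (by
    rw [List.mem_toFinset, List.mem_cons, not_or]; exact ⟨h0, hcon⟩), card_sp a b c hi,
    ← Nat.card_coe_set_eq] at this
  change 8 + 1 ≤ Nat.card S at this
  omega

end Cfsg.Agent.FourGenMat
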