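import Cfsg.Agent.Lib.TwoGroups.FourCentral
import Cfsg.Agent.Lib.TwoGroups.FourGenMat

/-!
A 2-group without normal elementary abelian subgroups of order eight and with a maximal normal
abelian subgroup of exponent four and order sixteen: coordinates.
-/

set_option autoImplicit false
set_option linter.style.haveILetI false

namespace Cfsg.Agent.FourGen

open Cfsg.Agent.SquareGen Cfsg.Agent.FourGenMat

/-- The standing hypothesis. -/
structure Setup (G : Type*) [Group G] where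
  /-- The abelian subgroup. -/
  A : Subgroup G
  hG : IsPGroup 2 G
  h : ∀ E : Subgroup G, E.Normal → IsMulCommutative E → (∀ a ∈ E, a ^ 2 = 1) → Nat.card E ≤ 4
  normal : A.Normal
  comm : ∀ a ∈ A, ∀ b ∈ A, a * b = b * a
  exp4 : ∀ a ∈ A, a ^ 4 = 1
  card : Nat.card A = 16
  small : ∀ x : G, (∀ a ∈ A, a * x = x * a) → x ^ 4 = 1 → x ∈ A

variable {G : Type*} [Group G] (S : Setup G)

/-- The involutions of `A`, with the identity. -/
def Setup.V : Subgroup G where
  carrier := {a | a ∈ S.A ∧ a ^ 2 = 1}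
  one_mem' := ⟨S.A.one_mem, one_pow 2⟩
  mul_mem' := fun {a b} ha hb => ⟨S.A.mul_mem ha.1 hb.1, by
    rw [Commute.mul_pow (S.comm a ha.1 b hb.1), ha.2, hb.2, one_mul]⟩
  inv_mem' := fun {a} ha => ⟨S.A.inv_mem ha.1, by rw [inv_pow, ha.2, inv_one]⟩

theorem Setup.mem_V {a : G} : a ∈ S.V ↔ a ∈ S.A ∧ a ^ 2 = 1 := Iff.rfl

theorem Setup.V_normal : S.V.Normal := ⟨fun a ha g => ⟨S.normal.conj_mem a ha.1 g, by
  rw [conj_pow, ha.2, mul_one, mul_inv_cancel]⟩⟩

theorem Setup.sq_mem_V {a : G} (ha : a ∈ S.A) : a ^ 2 ∈ S.V :=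
  ⟨S.A.pow_mem ha 2, by rw [← pow_mul]; exact S.exp4 a ha⟩

/-- The centralizer of `A`. -/
def Setup.C : Subgroup G := Subgroup.centralizer (S.A : Set G)

/-- The centralizer of `V`. -/
def Setup.G₀ : Subgroup G := Subgroup.centralizer (S.V : Set G)

theorem Setup.mem_C {g : G} : g ∈ S.C ↔ ∀ a ∈ S.A, a * g = g * a := Subgroup.mem_centralizer_iff

theorem Setup.mem_G₀ {g : G} : g ∈ S.G₀ ↔ ∀ a ∈ S.V, a * g = g * a := Subgroup.mem_centralizer_iff

theorem Setup.A_le_C : S.A ≤ S.C := fun a ha => S.mem_C.2 fun b hb => S.comm b hb a ha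

theorem Setup.C_le_G₀ : S.C ≤ S.G₀ := fun g hg => S.mem_G₀.2 fun v hv => S.mem_C.1 hg v hv.1

theorem Setup.C_normal : S.C.Normal := by
  haveI := S.normal
  rw [Setup.C]; infer_instance

theorem Setup.G₀_normal : S.G₀.Normal := by
  haveI := S.V_normal
  rw [Setup.G₀]; infer_instance

theorem Setup.fourCentral : FourCentral.IsFourCentral S.C := fun x hx y hy hx4 =>
  S.mem_C.1 hy x (S.small x (S.mem_C.1 hx) hx4)

theorem Setup.sqrt_mem_V {x : G} (hx : x ∈ S.C) (h2 : x ^ 2 = 1) : x ∈ S.V :=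
  ⟨S.small x (S.mem_C.1 hx) (by rw [show (4 : ℕ) = 2 * 2 from rfl, pow_mul, h2, one_pow]), h2⟩

variable [Finite G]

theorem Setup.card_V : Nat.card S.V = 4 := by
  refine le_antisymm (S.h S.V S.V_normal ⟨⟨fun a b => Subtype.ext (S.comm a a.2.1 b b.2.1)⟩⟩ fun a ha => ha.2) ?_
  -- squaring maps `A` into `V` with kernel `V`
  let f : S.A →* G :=
    { toFun := fun a => (a : G) ^ 2
      map_one' := one_pow 2
      map_mul' := fun a b => by
        simp only [Subgroup.coe_mul]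
        exact Commute.mul_pow (S.comm a a.2 b b.2) 2 }
  have h1 := f.ker.card_eq_card_quotient_mul_card_subgroup
  rw [S.card, Nat.card_congr (QuotientGroup.quotientKerEquivRange f).toEquiv] at h1
  have h2 : Nat.card f.range ≤ Nat.card S.V := by
    refine Subgroup.card_le_of_le ?_
    rintro _ ⟨a, rfl⟩
    exact S.sq_mem_V a.2
  have h3 : Nat.card f.ker ≤ Nat.card S.V :=
    Nat.card_le_card_of_injective (fun a => (⟨(a.1 : G), a.1.2, a.2⟩ : S.V))
      (fun a b h => Subtype.ext (Subtype.ext (congrArg (fun z : S.V => (z : G)) h)))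
  have h4 := Nat.mul_le_mul h2 h3
  rw [← h1] at h4
  by_contra hlt
  have : Nat.card S.V * Nat.card S.V ≤ 3 * 3 := Nat.mul_le_mul (by omega) (by omega)
  omega

theorem Setup.exists_central : ∃ v ∈ S.V, v ≠ 1 ∧ ∀ g : G, g * v = v * g := by
  haveI := S.hG.isNilpotent
  haveI := S.V_normal
  have hne : S.V ≠ ⊥ := fun h => by
    have := S.card_V; rw [h, Subgroup.card_bot] at this; omega
  have := Cfsg.Agent.SolvStruct.inf_center_ne_bot hne
  obtain ⟨⟨v, hv⟩, hv1⟩ := Subgroup.ne_bot_iff_exists_ne_one.1 this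
  exact ⟨v, hv.1, fun h => hv1 (Subtype.ext h), Subgroup.mem_center_iff.1 hv.2⟩

/-- The first basis vector, central in the group. -/
noncomputable def Setup.v₁ : G := S.exists_central.choose

theorem Setup.v₁_spec : S.v₁ ∈ S.V ∧ S.v₁ ≠ 1 ∧ ∀ g : G, g * S.v₁ = S.v₁ * g :=
  S.exists_central.choose_spec

theorem Setup.exists_second : ∃ v ∈ S.V, v ≠ 1 ∧ v ≠ S.v₁ := by
  classical
  by_contra hcon
  push Not at hcon
  have hsub : (S.V : Set G) ⊆ {1, S.v₁} := fun v hv => by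
    by_cases h1 : v = 1
    · exact Or.inl h1
    · exact Or.inr (hcon v hv h1)
  have := Set.ncard_le_ncard hsub (Set.toFinite _)
  rw [← Nat.card_coe_set_eq] at this
  have h2 : ({1, S.v₁} : Set G).ncard ≤ 2 := (Set.ncard_insert_le _ _).trans (by rw [Set.ncard_singleton])
  have := S.card_V
  change Nat.card S.V ≤ _ at *
  omega

/-- The second basis vector. -/
noncomputable def Setup.v₂ : G := S.exists_second.choose

theorem Setup.v₂_spec : S.v₂ ∈ S.V ∧ S.v₂ ≠ 1 ∧ S.v₂ ≠ S.v₁ := S.exists_second.choose_spec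

/-- The vector with given coordinates. -/
noncomputable def Setup.vec (x : Pl) : G := S.v₁ ^ x.1.val * S.v₂ ^ x.2.val

theorem Setup.vec_mem (x : Pl) : S.vec x ∈ S.V :=
  S.V.mul_mem (S.V.pow_mem S.v₁_spec.1 _) (S.V.pow_mem S.v₂_spec.1 _)

theorem Setup.vec_zero : S.vec 0 = 1 := by simp [Setup.vec]

theorem Setup.vec_add (x y : Pl) : S.vec (x + y) = S.vec x * S.vec y := by
  have h1 : S.v₁ ^ 2 = 1 := S.v₁_spec.1.2
  have h2 : S.v₂ ^ 2 = 1 := S.v₂_spec.1.2
  have hc : Commute S.v₁ S.v₂ := (S.v₁_spec.2.2 S.v₂).symm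
  have hmod : ∀ (v : G), v ^ 2 = 1 → ∀ i j : ZMod 2, v ^ (i + j).val = v ^ i.val * v ^ j.val := by
    intro v hv i j
    rw [ZMod.val_add, ← pow_add]
    conv_rhs => rw [← Nat.mod_add_div (i.val + j.val) 2, pow_add, pow_mul, hv, one_pow, mul_one]
  simp only [Setup.vec, Prod.fst_add, Prod.snd_add, hmod _ h1, hmod _ h2]
  simp only [mul_assoc]
  congr 1
  rw [← mul_assoc, (hc.pow_pow y.1.val x.2.val).eq, mul_assoc]

end Cfsg.Agent.FourGen
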