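import Cfsg.Agent.Lib.TwoGroups.FourGenerators
import Cfsg.Agent.Lib.TwoGroups.CentFour

/-!
Tools for 2-groups with a self-centralizing elementary abelian subgroup of order eight.
-/

set_option autoImplicit false
set_option linter.style.haveILetI false

namespace Cfsg.Agent.Harada

open Cfsg.Agent.SquareGen

variable {G : Type*} [Group G]

/-- A normal elementary abelian subgroup. -/
structure NEA (B : Subgroup G) : Prop where
  normal : B.Normal
  comm : ∀ a ∈ B, ∀ b ∈ B, a * b = b * a
  sq : ∀ a ∈ B, a * a = 1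

theorem NEA.inv_eq {B : Subgroup G} (hB : NEA B) {a : G} (ha : a ∈ B) : a⁻¹ = a :=
  inv_eq_of_mul_eq_one_right (hB.sq a ha)

/-- The commutator with a fixed element. -/
def dev (g v : G) : G := g * v * g⁻¹ * v⁻¹

theorem dev_eq_one {g v : G} : dev g v = 1 ↔ g * v = v * g := by
  rw [dev, mul_inv_eq_one, mul_inv_eq_iff_eq_mul]

theorem dev_mem {B : Subgroup G} (hB : NEA B) (g : G) {v : G} (hv : v ∈ B) : dev g v ∈ B :=
  B.mul_mem (hB.normal.conj_mem v hv g) (B.inv_mem hv)

theorem dev_mul {B : Subgroup G} (hB : NEA B) (g : G) {v w : G} (hv : v ∈ B) (hw : w ∈ B) :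
    dev g (v * w) = dev g v * dev g w := by
  have h1 := hB.normal.conj_mem w hw g
  simp only [dev]
  rw [show g * (v * w) * g⁻¹ = (g * v * g⁻¹) * (g * w * g⁻¹) by group, mul_inv_rev,
    mul_assoc (g * v * g⁻¹) (g * w * g⁻¹), ← mul_assoc (g * w * g⁻¹),
    mul_assoc (g * v * g⁻¹) v⁻¹, hB.comm _ (B.inv_mem hv) _ (B.mul_mem h1 (B.inv_mem hw))]

/-- The elements of `F` commuting with `g`. -/
def fix (F : Subgroup G) (g : G) : Subgroup G := F ⊓ Subgroup.centralizer ({g} : Set G)

theorem mem_fix {F : Subgroup G} {g v : G} : v ∈ fix F g ↔ v ∈ F ∧ g * v = v * g := by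
  rw [fix, Subgroup.mem_inf, Subgroup.mem_centralizer_singleton_iff]
  exact and_congr_right fun _ => eq_comm

/-- The commutator map on an elementary abelian normal subgroup. -/
def devHom {B : Subgroup G} (hB : NEA B) (g : G) : B →* G where
  toFun v := dev g v
  map_one' := by simp [dev]
  map_mul' v w := dev_mul hB g v.2 w.2

/-- An involution moves at most the square root. -/
theorem dev_mem_fix {B : Subgroup G} (hB : NEA B) {g v : G} (hg : g * g = 1) (hv : v ∈ B) :
    dev g v ∈ fix B g := by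
  have hmem := dev_mem hB g hv
  refine mem_fix.2 ⟨hmem, ?_⟩
  have h1 : g * dev g v * g⁻¹ = (dev g v)⁻¹ := by
    have hgi : g⁻¹ = g := inv_eq_of_mul_eq_one_right hg
    rw [dev, hgi, show g * (g * v * g * v⁻¹) * g = (g * g) * v * g * v⁻¹ * g by group, hg, one_mul,
      mul_inv_rev, mul_inv_rev, mul_inv_rev, inv_inv, hgi]
    group
  rw [hB.inv_eq hmem, mul_inv_eq_iff_eq_mul] at h1
  exact h1

variable [Finite G]

theorem card_range_mul {B : Subgroup G} (hB : NEA B) (g : G) :
    Nat.card B = Nat.card (devHom hB g).range * Nat.card (fix B g) := by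
  rw [(devHom hB g).ker.card_eq_card_quotient_mul_card_subgroup,
    Nat.card_congr (QuotientGroup.quotientKerEquivRange (devHom hB g)).toEquiv]
  congr 1
  refine Nat.card_congr ⟨fun v => ⟨v.1.1, mem_fix.2 ⟨v.1.2, dev_eq_one.1 v.2⟩⟩,
    fun v => ⟨⟨v.1, (mem_fix.1 v.2).1⟩, dev_eq_one.2 (mem_fix.1 v.2).2⟩, fun v => rfl, fun v => rfl⟩

theorem card_le_fix_sq {B : Subgroup G} (hB : NEA B) {g : G} (hg : g * g = 1) :
    Nat.card B ≤ Nat.card (fix B g) * Nat.card (fix B g) := by
  rw [card_range_mul hB g]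
  refine Nat.mul_le_mul_right _ (Subgroup.card_le_of_le ?_)
  rintro _ ⟨v, rfl⟩
  exact dev_mem_fix hB hg v.2

/-- Every subgroup needs at most two generators. -/
def RankTwo (X : Type*) [Group X] : Prop := ∀ Y : Subgroup X, Nat.card Y ≤ 4 * Nat.card (sq Y)

theorem rankTwo_of_injective {X K : Type*} [Group X] [Group K] (f : X →* K) (hf : Function.Injective f)
    (h : ∀ Y : Subgroup X, Nat.card (Y.map f) ≤ 4 * Nat.card (sq (Y.map f))) : RankTwo X := by
  intro Y
  have := h Y
  rwa [← map_sq, Subgroup.card_map_of_injective hf, Subgroup.card_map_of_injective hf] at this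

theorem sq_sup_central {X : Type*} [Group X] {Y : Subgroup X} {z : X} (hz : z * z = 1)
    (hc : ∀ x : X, x * z = z * x) : sq (Y ⊔ Subgroup.zpowers z) ≤ sq Y := by
  haveI : (Subgroup.zpowers z).Normal := ⟨fun a ha g => by
    obtain ⟨i, rfl⟩ := ha
    rw [((show Commute g z from hc g).zpow_right i).eq, mul_inv_cancel_right]
    exact Subgroup.zpow_mem _ (Subgroup.mem_zpowers z) i⟩
  rw [SquareGen.sq, Subgroup.closure_le]
  rintro _ ⟨x, hx, rfl⟩
  obtain ⟨y, hy, w, hw, rfl⟩ := Subgroup.mem_sup_of_normal_right.1 hx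
  obtain ⟨i, rfl⟩ := hw
  have hcy : Commute y (z ^ i) := (show Commute y z from hc y).zpow_right i
  show (y * z ^ i) ^ 2 ∈ SquareGen.sq Y
  rw [hcy.mul_pow, ← zpow_natCast (z ^ i) 2, ← zpow_mul, mul_comm i, zpow_mul, zpow_natCast, pow_two z, hz,
    one_zpow, mul_one]
  exact sq_mem hy

/-- A central involution lies in every subgroup that needs two generators. -/
theorem RankTwo.mem {X : Type*} [Group X] [Finite X] (h : RankTwo X) {z : X} (hz : z * z = 1)
    (hc : ∀ x : X, x * z = z * x) {Y : Subgroup X} (hY : 2 * Nat.card (sq Y) < Nat.card Y) : z ∈ Y := by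
  by_contra hzY
  have h1 := h (Y ⊔ Subgroup.zpowers z)
  have h2 : Nat.card (sq (Y ⊔ Subgroup.zpowers z)) ≤ Nat.card (sq Y) := Subgroup.card_le_of_le (sq_sup_central hz hc)
  obtain ⟨k, hk⟩ := Subgroup.card_dvd_of_le (le_sup_left : Y ≤ Y ⊔ Subgroup.zpowers z)
  have h3 : Nat.card Y < Nat.card (Y ⊔ Subgroup.zpowers z : Subgroup X) := by
    refine lt_of_le_of_ne (Subgroup.card_le_of_le le_sup_left) fun he => hzY ?_
    rw [Subgroup.eq_of_le_of_card_ge (le_sup_left : Y ≤ Y ⊔ Subgroup.zpowers z) he.ge]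
    exact Subgroup.mem_sup_right (Subgroup.mem_zpowers z)
  rw [hk] at h1 h3
  have hk2 : 2 ≤ k := by
    by_contra hcon
    interval_cases k <;> simp at h3
  have := Nat.mul_le_mul_left (Nat.card Y) hk2
  omega

/-- An involution with a centralizer of order at most four bounds the rank by two. -/
theorem rankTwo_of_centralizer {X : Type*} [Group X] [Finite X] (hX : IsPGroup 2 X) {x : X}
    (hx : orderOf x = 2) (hC : Nat.card (Subgroup.centralizer ({x} : Set X)) ≤ 4) : RankTwo X := by
  haveI : Fact (Nat.Prime 2) := ⟨Nat.prime_two⟩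
  intro Y
  have hpos : 0 < Nat.card (sq Y) := Nat.card_pos
  by_cases h4 : Nat.card X ≤ 4
  · exact (Subgroup.card_le_card_group Y).trans (h4.trans (Nat.le_mul_of_pos_right 4 hpos))
  obtain ⟨n, hn⟩ := IsPGroup.iff_card.1 hX
  have h8 : 8 ≤ Nat.card X := by
    rw [hn] at h4 ⊢
    have : 3 ≤ n := by
      by_contra hcon
      exact h4 (le_trans (Nat.pow_le_pow_right two_pos (by omega : n ≤ 2)) (by norm_num))
    exact le_trans (by norm_num) (Nat.pow_le_pow_right two_pos this)
  haveI : Nontrivial X := Finite.one_lt_card_iff_nontrivial.1 (by omega)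
  obtain ⟨z, hz, hzo⟩ := CentFour.exists_central_involution hX
  have hC4 : Nat.card (Subgroup.centralizer ({x} : Set X)) = 4 := by
    obtain ⟨k, hk⟩ := IsPGroup.iff_card.1 (hX.to_subgroup (Subgroup.centralizer ({x} : Set X)))
    have hxne : x ≠ z := by
      intro h
      have : Subgroup.centralizer ({x} : Set X) = ⊤ := eq_top_iff.2 fun s _ =>
        Subgroup.mem_centralizer_singleton_iff.2 (h ▸ Subgroup.mem_center_iff.1 hz s)
      rw [this, Subgroup.card_top] at hC
      omega
    have h3 : 3 ≤ Nat.card (Subgroup.centralizer ({x} : Set X)) := by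
      classical
      have hsub : ({1, x, z} : Set X) ⊆ Subgroup.centralizer ({x} : Set X) := by
        rintro s (rfl | rfl | rfl)
        · exact Subgroup.one_mem _
        · exact Subgroup.mem_centralizer_singleton_iff.2 rfl
        · exact Subgroup.mem_centralizer_singleton_iff.2 (Subgroup.mem_center_iff.1 hz x).symm
      have := Set.ncard_le_ncard hsub (Set.toFinite _)
      have hx1 : x ≠ 1 := fun h => by rw [h, orderOf_one] at hx; omega
      have hz1 : z ≠ 1 := fun h => by rw [h, orderOf_one] at hzo; omega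
      rw [Set.ncard_insert_of_notMem (by simp [hx1.symm, hz1.symm]), Set.ncard_pair hxne] at this
      exact this
    rw [hk] at hC h3 ⊢
    have hk2 : k = 2 := by
      have h1 : k ≤ 2 := (Nat.pow_le_pow_iff_right one_lt_two).1 (hC.trans (by norm_num))
      interval_cases k <;> simp_all
    rw [hk2]; norm_num
  obtain ⟨a, ha⟩ := CentFour.exists_cyclic_index_two X hX x hx hC4 h8
  haveI : (Subgroup.zpowers a).Normal := Subgroup.normal_of_index_eq_two ha
  set f := QuotientGroup.mk' (Subgroup.zpowers a)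
  have h1 : Nat.card (Y.map f) ≤ 2 * Nat.card (sq (Y.map f)) := by
    refine (Subgroup.card_le_card_group _).trans ?_
    rw [show Nat.card (X ⧸ Subgroup.zpowers a) = 2 by rw [← Subgroup.index_eq_card, ha]]
    exact Nat.le_mul_of_pos_right 2 Nat.card_pos
  have h2 : Nat.card (Y ⊓ f.ker : Subgroup X) ≤ 2 * Nat.card (sq (Y ⊓ f.ker)) := by
    set W := Y ⊓ f.ker
    haveI : IsCyclic W := by
      have hle : W ≤ Subgroup.zpowers a := inf_le_right.trans (le_of_eq (QuotientGroup.ker_mk' _))
      exact isCyclic_of_injective (Subgroup.inclusion hle) (Subgroup.inclusion_injective hle)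
    obtain ⟨g, hg⟩ := IsCyclic.exists_generator (α := W)
    have hgs : (g : X) ^ 2 ∈ sq W := sq_mem g.2
    have hsub : ∀ y : W, ∃ (e : Fin 2) (s : sq W), (y : X) = (g : X) ^ (e : ℕ) * (s : X) := by
      intro y
      obtain ⟨i, rfl⟩ := Subgroup.mem_zpowers_iff.1 (hg y)
      rcases Int.even_or_odd' i with ⟨j, rfl | rfl⟩
      · refine ⟨0, ⟨_, (sq W).zpow_mem hgs j⟩, ?_⟩
        simp only [Fin.val_zero, pow_zero, one_mul, Subgroup.coe_zpow]
        rw [← zpow_natCast, ← zpow_mul]
        norm_num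
      · refine ⟨1, ⟨_, (sq W).zpow_mem hgs j⟩, ?_⟩
        simp only [Fin.val_one, pow_one, Subgroup.coe_zpow]
        rw [← zpow_natCast, ← zpow_mul, ← zpow_one_add, add_comm]
        norm_num
    choose e s hes using hsub
    calc Nat.card W ≤ Nat.card (Fin 2 × sq W) :=
          Nat.card_le_card_of_injective (fun y => (e y, s y)) (fun y y' h => by
            obtain ⟨h1, h2⟩ := Prod.mk.inj h
            exact Subtype.ext (by rw [hes y, hes y', h1, h2]))
      _ = 2 * Nat.card (sq W) := by rw [Nat.card_prod, Nat.card_fin]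
  exact le_mul_split Y f h1 h2

/-- A self-centralizing four subgroup bounds the rank by two. -/
theorem rankTwo_of_four {X : Type*} [Group X] [Finite X] (hX : IsPGroup 2 X) {a b : X}
    (ha : a * a = 1) (hb : b * b = 1) (hab : a * b = b * a) (ha1 : a ≠ 1) (hb1 : b ≠ 1) (hne : a ≠ b)
    (hC : ∀ x : X, a * x = x * a → b * x = x * b → x = 1 ∨ x = a ∨ x = b ∨ x = a * b) : RankTwo X := by
  classical
  haveI : Nontrivial X := ⟨a, 1, ha1⟩
  obtain ⟨z, hz, hzo⟩ := CentFour.exists_central_involution hX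
  have hzc := Subgroup.mem_center_iff.1 hz
  have hz1 : z ≠ 1 := fun h => by rw [h, orderOf_one] at hzo; omega
  obtain ⟨e, he1, hee, hea, heb, hez⟩ : ∃ e : X, e ≠ 1 ∧ e * e = 1 ∧
      (∀ x : X, e * x = x * e → a * x = x * a) ∧ (∀ x : X, e * x = x * e → b * x = x * b) ∧ orderOf e = 2 := by
    rcases hC z (hzc a) (hzc b) with h | h | h | h
    · exact absurd h hz1
    · refine ⟨b, hb1, hb, fun x hx => ?_, fun x hx => hx, orderOf_eq_prime (by rw [pow_two]; exact hb) hb1⟩
      rw [← h, hzc x]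
    · refine ⟨a, ha1, ha, fun x hx => hx, fun x hx => ?_, orderOf_eq_prime (by rw [pow_two]; exact ha) ha1⟩
      rw [← h, hzc x]
    · refine ⟨a, ha1, ha, fun x hx => hx, fun x hx => ?_, orderOf_eq_prime (by rw [pow_two]; exact ha) ha1⟩
      have hb' : b = a * z := by rw [h, ← mul_assoc, ha, one_mul]
      rw [hb']
      exact ((show Commute a x from hx).mul_left (show Commute z x from (hzc x).symm)).eq
  refine rankTwo_of_centralizer hX hez ?_
  have hsub : (Subgroup.centralizer ({e} : Set X) : Set X) ⊆ {1, a, b, a * b} := by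
    intro x hx
    have h := Subgroup.mem_centralizer_singleton_iff.1 hx
    exact hC x (hea x h.symm) (heb x h.symm)
  have := Set.ncard_le_ncard hsub (Set.toFinite _)
  refine this.trans ?_
  refine (Set.ncard_insert_le _ _).trans ?_
  refine Nat.succ_le_succ ((Set.ncard_insert_le _ _).trans ?_)
  exact Nat.succ_le_succ ((Set.ncard_insert_le _ _).trans (by rw [Set.ncard_singleton]))

/-- Combining bounds for the image and for the intersection with a normal subgroup. -/
theorem bound_split (B : Subgroup G) [B.Normal] (H : Subgroup G) {i j : ℕ}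
    (h1 : Nat.card (H.map (QuotientGroup.mk' B)) ≤ i * Nat.card (sq (H.map (QuotientGroup.mk' B))))
    (h2 : Nat.card (H ⊓ B : Subgroup G) ≤ j * Nat.card (sq H ⊓ B : Subgroup G)) :
    Nat.card H ≤ i * j * Nat.card (sq H) := by
  rw [card_split H (QuotientGroup.mk' B), card_split (sq H) (QuotientGroup.mk' B), map_sq, QuotientGroup.ker_mk']
  refine (Nat.mul_le_mul h1 h2).trans (le_of_eq ?_)
  ring

theorem inf_card_le_four {B H : Subgroup G} (hB : Nat.card B = 8) (hle : ¬ B ≤ H) :
    Nat.card (H ⊓ B : Subgroup G) ≤ 4 := by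
  have hd : Nat.card (H ⊓ B : Subgroup G) ∣ 2 ^ 3 := by
    have := Subgroup.card_dvd_of_le (inf_le_right : H ⊓ B ≤ B)
    rw [hB] at this
    exact this
  obtain ⟨k, hk, hk'⟩ := (Nat.dvd_prime_pow Nat.prime_two).1 hd
  have hne : k ≠ 3 := fun h => hle (by
    have := Subgroup.eq_of_le_of_card_ge (inf_le_right : H ⊓ B ≤ B) (by rw [hB, hk', h]; norm_num)
    exact this ▸ inf_le_left)
  rw [hk']
  exact le_trans (Nat.pow_le_pow_right two_pos (by omega : k ≤ 2)) (by norm_num)

theorem two_le_card_inf {B H : Subgroup G} {v : G} (hv : v ∈ sq H) (hvB : v ∈ B) (h1 : v ≠ 1) :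
    2 ≤ Nat.card (sq H ⊓ B : Subgroup G) := by
  have : 1 < Nat.card (sq H ⊓ B : Subgroup G) := by
    rw [Finite.one_lt_card_iff_nontrivial, Subgroup.nontrivial_iff_ne_bot]
    intro h
    have hm : v ∈ sq H ⊓ B := ⟨hv, hvB⟩
    rw [h, Subgroup.mem_bot] at hm
    exact h1 hm
  omega

theorem four_le_card_inf {B H : Subgroup G} {v w : G} (hv : v ∈ sq H) (hvB : v ∈ B) (hw : w ∈ sq H) (hwB : w ∈ B)
    (h1 : v ≠ 1) (h2 : w ≠ 1) (h3 : w ≠ v) (hG : IsPGroup 2 G) :
    4 ≤ Nat.card (sq H ⊓ B : Subgroup G) := by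
  classical
  haveI : Fact (Nat.Prime 2) := ⟨Nat.prime_two⟩
  have hsub : ({1, v, w} : Set G) ⊆ (sq H ⊓ B : Subgroup G) := by
    rintro s (rfl | rfl | rfl)
    exacts [Subgroup.one_mem _, ⟨hv, hvB⟩, ⟨hw, hwB⟩]
  have h := Set.ncard_le_ncard hsub (Set.toFinite _)
  rw [Set.ncard_insert_of_notMem (by simp [h1.symm, h2.symm]), Set.ncard_pair h3.symm] at h
  change 2 + 1 ≤ Nat.card (sq H ⊓ B : Subgroup G) at h
  obtain ⟨k, hk⟩ := IsPGroup.iff_card.1 (hG.to_subgroup (sq H ⊓ B))
  rw [hk] at h ⊢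
  have : 2 ≤ k := by
    by_contra hcon
    interval_cases k <;> simp at h
  exact le_trans (by norm_num) (Nat.pow_le_pow_right two_pos this)

end Cfsg.Agent.Harada
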