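import Cfsg.Agent.Lib.TwoGroups.HaradaEightTools

/-!
The bound when the largest normal elementary abelian subgroup has order eight.
-/

set_option autoImplicit false
set_option linter.style.haveILetI false

namespace Cfsg.Agent.Harada

open Cfsg.Agent.SquareGen

variable {G : Type*} [Group G] [Finite G]

theorem dev_inv (g x : G) : (dev g x)⁻¹ = dev x g := by simp only [dev]; group

theorem step_dev {M N : Subgroup G} (hM : M.Normal) (hN : N.Normal) (hle : M ≤ N)
    (hcard : Nat.card N = 2 * Nat.card M) {x : G} (hx : x ∈ N) (hxM : x ∉ M) (y : G) : dev x y ∈ M := by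
  have hmem : y * x⁻¹ * y⁻¹ ∈ N := hN.conj_mem _ (N.inv_mem hx) y
  have hnot : y * x⁻¹ * y⁻¹ ∉ M := fun hb => hxM (by
    have := hM.conj_mem _ hb y⁻¹
    rw [show y⁻¹ * (y * x⁻¹ * y⁻¹) * y⁻¹⁻¹ = x⁻¹ by group] at this
    exact inv_mem_iff.1 this)
  have := mul_mem_of_card hle hcard hx hmem hxM hnot
  rwa [dev, mul_assoc x y, mul_assoc x (y * x⁻¹)]

/-- The key contradiction for an element of the centralizer outside the first step. -/
theorem pair_false {B : Subgroup G} (hB : NEA B) {u t w x : G} (ht : t * t = 1) (htw : t * w = w * t)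
    (hu : ∀ v ∈ B, u * v = v * u) (hx : u * dev t x ∈ B) (huu : u * u ∈ B)
    (hr : dev w x ∈ B) (hwB : ∀ b ∈ B, dev w b ∈ fix B t) (hwu : dev w u ∈ B)
    (hwu' : dev w u ∉ fix B t) : False := by
  set r := dev w x with hr'
  obtain ⟨b, hb, hbd⟩ : ∃ b ∈ B, dev t x = u * b := ⟨u⁻¹ * dev t x, by
    rw [show u⁻¹ * dev t x = (u * u)⁻¹ * (u * dev t x) by group]
    exact B.mul_mem (B.inv_mem huu) hx, (mul_inv_cancel_left _ _).symm⟩
  have h1 : (t * w) * x * (t * w)⁻¹ = (t * r * t⁻¹) * (u * b) * x := by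
    rw [← hbd]
    simp only [hr', dev]; group
  have h2 : (w * t) * x * (w * t)⁻¹ = dev w u * u * (dev w b * b) * r * x := by
    have e : t * x * t⁻¹ = u * b * x := by rw [← hbd, dev, inv_mul_cancel_right]
    rw [show (w * t) * x * (w * t)⁻¹ = w * (t * x * t⁻¹) * w⁻¹ by group, e]
    simp only [hr', dev]; group
  rw [htw, h2, mul_left_inj] at h1
  have hd := dev_mem_fix hB ht hr
  obtain ⟨hdB, -⟩ := mem_fix.1 hd
  have hwb := hwB b hb
  have hwbB := (mem_fix.1 hwb).1
  have htr : t * r * t⁻¹ = dev t r * r := by rw [dev, inv_mul_cancel_right]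
  rw [htr] at h1
  have hbig : dev w b * b * r ∈ B := B.mul_mem (B.mul_mem hwbB hb) hr
  rw [← mul_assoc (dev t r * r) u b, ← hu _ (B.mul_mem hdB hr), mul_assoc (dev w u) u,
    mul_assoc (dev w u), mul_assoc u (dev w b * b) r, ← mul_assoc (dev w u), hB.comm _ hwbB b hb,
    ← hu _ hwu, mul_assoc u, mul_assoc u, mul_right_inj] at h1
  refine hwu' ?_
  have e : dev w u = dev t r * dev w b := by
    have e1 : b * dev w b * r = dev w b * (r * b) := by
      rw [hB.comm b hb _ hwbB, mul_assoc, hB.comm b hb r hr]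
    rw [e1, ← mul_assoc, mul_assoc (dev t r) r b] at h1
    have e2 := mul_right_cancel h1
    rw [← e2, mul_assoc, hB.sq _ hwbB, mul_one]
  rw [e]
  exact (fix B t).mul_mem hd hwb

namespace Ctx

variable {A B : Subgroup G} (C : Ctx A B)

include C

theorem fix_eq_of_centralize {g y : G} (hgy : g * y ∈ B) (hy : ∀ v ∈ B, y * v = v * y) : fix B g = B := by
  refine le_antisymm inf_le_left fun s hs => mem_fix.2 ⟨hs, ?_⟩
  have e : g = g * y * y⁻¹ := (mul_inv_cancel_right g y).symm
  rw [e]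
  exact ((show Commute (g * y) s from C.nea.comm _ hgy s hs).mul_left
    (show Commute y s from hy s hs).inv_left).eq

theorem eight_two (h8 : Nat.card B = 8) (h2 : Nat.card (A ⊓ B : Subgroup G) = 2) {u : G} (huB : u ∉ B)
    (hu : ∀ y : G, dev u y ∈ B) (hcomm : ∀ v ∈ B, u * v = v * u) (hf : u * u ∈ B) (hf1 : u * u ≠ 1)
    (hfc : ∀ g : G, g * (u * u) = u * u * g)
    (hstep : (∀ x : G, (∀ v ∈ B, x * v = v * x) → x ∈ B ∨ u * x ∈ B) ∨ ∃ x : G, (∀ v ∈ B, x * v = v * x) ∧
      x ∉ B ∧ u * x ∉ B ∧ ∀ y : G, dev y x ∈ B ∨ u * dev y x ∈ B) (H : Subgroup G) :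
    Nat.card H ≤ 16 * Nat.card (sq H) := by
  classical
  obtain ⟨a, haA, b, hbA, haB, hbB, habB, hcov⟩ := C.exists_two h2
  set f := u * u with hfdef
  have hfP : ∀ p ∈ A ⊓ B, p = 1 ∨ p = f := fun p hp => eq_pair h2 ⟨C.central_mem hfc, hf⟩ hf1 hp
  have hfour : ∀ g h : G, g ∈ A → h ∈ A → (∀ x ∈ A, x ∈ B ∨ g * x ∈ B ∨ h * x ∈ B ∨ g * h * x ∈ B) →
      Nat.card (fix B g) = 4 ∧ (∀ v ∈ B, dev g v = 1 ∨ dev g v = f) ∧
        (∀ q, q = 1 ∨ q = f → ∃ v ∈ B, dev g v = q) ∧ ∃ v ∈ fix B g, dev h v = f := by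
    intro g h hg hh hc
    have hle : Nat.card (fix B g) ≤ 4 := (C.card_fix_le hg hh hc).trans (by rw [h2])
    have hge : 4 ≤ Nat.card (fix B g) := by
      refine four_le_of_three_le C.isP (le_of_not_gt fun hlt => ?_)
      have := card_le_fix_sq C.nea (C.sqA g hg)
      rw [h8] at this
      nlinarith
    have h4 := le_antisymm hle hge
    have h2r : Nat.card (devHom C.nea g).range = 2 := by
      have := card_range_mul C.nea g
      rw [h8, h4] at this
      omega
    have hmem : ∀ d ∈ (devHom C.nea g).range, d ∈ A ⊓ B := by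
      rintro _ ⟨v, rfl⟩
      change dev g v ∈ A ⊓ B
      have hd := dev_mem_fix C.nea (C.sqA g hg) v.2
      refine C.fix_inf_eq hg hh hc hd ?_
      by_contra hne
      have hconj := conj_dev (C.commA g hg h hh) (v : G)
      have hm2 : h * dev g v * h⁻¹ ∈ (devHom C.nea g).range := by
        rw [hconj]; exact ⟨⟨_, C.nea.normal.conj_mem _ v.2 h⟩, rfl⟩
      have hne1 : dev g v ≠ 1 := fun e => hne (by rw [e, mul_one, one_mul])
      rcases eq_pair h2r (show dev g v ∈ (devHom C.nea g).range from ⟨v, rfl⟩) hne1 hm2 with e | e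
      · exact hne1 (conj_eq_one_iff.1 e)
      · exact hne (mul_inv_eq_iff_eq_mul.1 e)
    refine ⟨h4, fun v hv => hfP _ (hmem _ ⟨⟨v, hv⟩, rfl⟩), fun q hq => ?_, ?_⟩
    · rcases hq with rfl | rfl
      · exact ⟨1, B.one_mem, by simp [dev]⟩
      · have hne : 1 < Nat.card (devHom C.nea g).range := by omega
        rw [Finite.one_lt_card_iff_nontrivial, Subgroup.nontrivial_iff_exists_ne_one] at hne
        obtain ⟨d, hd, hd1⟩ := hne
        obtain ⟨v, rfl⟩ := hd
        exact ⟨v, v.2, (hfP _ (hmem _ ⟨v, rfl⟩)).resolve_left hd1⟩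
    · obtain ⟨v, hv, hvn⟩ : ∃ v ∈ fix B g, v ∉ A ⊓ B := by
        by_contra hcon
        push Not at hcon
        have := Subgroup.card_le_of_le (hcon : fix B g ≤ A ⊓ B)
        omega
      obtain ⟨hvB, hvg⟩ := mem_fix.1 hv
      obtain ⟨hdB, hdh⟩ := mem_fix.1 (dev_mem_fix C.nea (C.sqA h hh) hvB)
      have hdP : dev h v ∈ A ⊓ B := by
        refine C.fix_inf_eq hg hh hc (mem_fix.2 ⟨hdB, ?_⟩) hdh
        have := conj_dev (C.commA h hh g hg) v
        rw [hvg, mul_inv_cancel_right] at this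
        exact mul_inv_eq_iff_eq_mul.1 this
      exact ⟨v, hv, (hfP _ hdP).resolve_left fun e => hvn (C.fix_inf_eq hg hh hc hv (dev_eq_one.1 e))⟩
  have hsmall : ∀ g h : G, g ∈ A → h ∈ A → (∀ x ∈ A, x ∈ B ∨ g * x ∈ B ∨ h * x ∈ B ∨ g * h * x ∈ B) →
      ∀ x : G, (∀ v ∈ B, x * v = v * x) → (dev g x = 1 ∨ dev g x = f) → dev h x ∈ B → x ∈ B := by
    intro g h hg hh hc x hxD hxg hxh
    obtain ⟨-, hfg, hig, v0, hv0, hv0f⟩ := hfour g h hg hh hc
    have hxgB : dev g x ∈ B := by rcases hxg with e | e <;> rw [e]; exacts [B.one_mem, hf]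
    obtain ⟨v, hv, hvx⟩ := hig _ hxg
    have h1 := adjust C.nea hv hxgB hvx
    have hxh' : dev h (v * x) ∈ B := by
      rw [dev_shift C.nea hv hxh]; exact B.mul_mem (dev_mem C.nea h hv) hxh
    obtain ⟨hdB, hdh⟩ := mem_fix.1 (dev_mem_fix_of_mem C.nea (C.sqA h hh) hxh')
    have hdP : dev h (v * x) ∈ A ⊓ B := by
      refine C.fix_inf_eq hg hh hc (mem_fix.2 ⟨hdB, ?_⟩) hdh
      have := conj_dev (C.commA h hh g hg) (v * x)
      rw [h1, mul_inv_cancel_right] at this
      exact mul_inv_eq_iff_eq_mul.1 this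
    obtain ⟨hv0B, hv0g⟩ := mem_fix.1 hv0
    obtain ⟨z, hz, hyg, hyh⟩ : ∃ z ∈ B, g * (z * x) = z * x * g ∧ h * (z * x) = z * x * h := by
      rcases hfP _ hdP with e | e
      · exact ⟨v, hv, h1, dev_eq_one.1 e⟩
      · refine ⟨v0 * v, B.mul_mem hv0B hv, ?_, ?_⟩
        · rw [mul_assoc v0]
          exact ((show Commute g v0 from hv0g).mul_right (show Commute g (v * x) from h1)).eq
        · rw [mul_assoc v0]
          exact adjust C.nea hv0B hxh' (hv0f.trans e.symm)
    have hyD : ∀ s ∈ B, z * x * s = s * (z * x) := fun s hs =>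
      ((show Commute z s from C.nea.comm z hz s hs).mul_left (show Commute x s from hxD s hs)).eq
    have hyA := C.self_two hg hh hc hyg hyh fun q hq => (hyD q hq.2).symm
    have hyB : z * x ∈ B := by
      rcases hc _ hyA with e | e | e | e
      · exact e
      all_goals exfalso
      all_goals have hall := C.fix_eq_of_centralize e hyD
      · have := (hfour g h hg hh hc).1
        rw [hall, h8] at this; omega
      · have := (hfour h g hh hg (C.cover_swap hg hh hc)).1
        rw [hall, h8] at this; omega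
      · have := (hfour (g * h) h (A.mul_mem hg hh) hh (C.cover_shift hg hh hc)).1
        rw [hall, h8] at this; omega
    exact (Subgroup.mul_mem_cancel_left _ hz).1 hyB
  obtain ⟨hfa4, hfa, -, -⟩ := hfour a b haA hbA hcov
  have hdevu : ∀ g : G, dev g u ∈ B := fun g => by
    rw [← dev_inv]; exact B.inv_mem (hu g)
  have hua : ∀ g h : G, g ∈ A → h ∈ A → (∀ x ∈ A, x ∈ B ∨ g * x ∈ B ∨ h * x ∈ B ∨ g * h * x ∈ B) →
      dev g u ∈ fix B g ∧ dev g u ≠ 1 ∧ dev g u ≠ f := by
    intro g h hg hh hc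
    refine ⟨dev_mem_fix_of_mem C.nea (C.sqA g hg) (hdevu g), fun e => ?_, fun e => ?_⟩
    · exact huB (hsmall g h hg hh hc u hcomm (Or.inl e) (hdevu h))
    · exact huB (hsmall g h hg hh hc u hcomm (Or.inr e) (hdevu h))
  obtain ⟨hau, hau1, hauf⟩ := hua a b haA hbA hcov
  have hD : ∀ x : G, (∀ v ∈ B, x * v = v * x) → x ∈ B ∨ u * x ∈ B := by
    rcases hstep with h | ⟨x, hxD, hxB, huxB, hdx⟩
    · exact h
    exfalso
    have hboth : ∀ g h : G, g ∈ A → h ∈ A → (∀ x ∈ A, x ∈ B ∨ g * x ∈ B ∨ h * x ∈ B ∨ g * h * x ∈ B) →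
        dev g x ∈ B → dev h x ∈ B → False := by
      intro g h hg hh hc hxg hxh
      by_cases hp : dev g x = 1 ∨ dev g x = f
      · exact hxB (hsmall g h hg hh hc x hxD hp hxh)
      · push Not at hp
        obtain ⟨hgu, hgu1, hguf⟩ := hua g h hg hh hc
        obtain ⟨h4, -, -, -⟩ := hfour g h hg hh hc
        have hff : f ∈ fix B g := mem_fix.2 ⟨hf, hfc g⟩
        have hgx := dev_mem_fix_of_mem C.nea (C.sqA g hg) hxg
        have hux : dev g (u * x) = 1 ∨ dev g (u * x) = f := by
          rw [dev_shift_cent hcomm hxg]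
          rcases eq_quad C.nea inf_le_left h4 hff hgu hf1 hgu1 hguf hgx with e | e | e | e
          · exact absurd e hp.1
          · exact absurd e hp.2
          · exact Or.inl (by rw [e, C.nea.sq _ (hdevu g)])
          · refine Or.inr ?_
            rw [e, C.nea.comm f hf _ (hdevu g), ← mul_assoc, C.nea.sq _ (hdevu g), one_mul]
        refine huxB (hsmall g h hg hh hc (u * x) (fun v hv => ?_) hux ?_)
        · exact ((show Commute u v from hcomm v hv).mul_left (show Commute x v from hxD v hv)).eq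
        · rw [dev_shift_cent hcomm hxh]; exact B.mul_mem (hdevu h) hxh
    have hpair : ∀ t w : G, t ∈ A → w ∈ A → (∀ x ∈ A, x ∈ B ∨ t * x ∈ B ∨ w * x ∈ B ∨ t * w * x ∈ B) →
        u * dev t x ∈ B → dev w x ∈ B → False := by
      intro t w htA hwA hc hxt hxw
      obtain ⟨htu, htu1, htuf⟩ := hua t w htA hwA hc
      refine pair_false C.nea (C.sqA t htA) (C.commA t htA w hwA) hcomm hxt hf hxw (fun v hv => ?_)
        (hdevu w) fun hmem => ?_
      · rcases (hfour w t hwA htA (C.cover_swap htA hwA hc)).2.1 v hv with e | e <;> rw [e]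
        exacts [(fix B t).one_mem, mem_fix.2 ⟨hf, hfc t⟩]
      · -- commutation of `t` and `w` on `u`
        have e1 := conj_dev (C.commA t htA w hwA) u
        have e2 : w * u * w⁻¹ = dev w u * u := by rw [dev, inv_mul_cancel_right]
        rw [e2, dev_shift C.nea (hdevu w) (hdevu t), dev_eq_one.2 (mem_fix.1 hmem).2, one_mul] at e1
        rcases hfP _ (C.fix_inf_eq htA hwA hc htu (mul_inv_eq_iff_eq_mul.1 e1)) with e | e
        exacts [htu1 e, htuf e]
    rcases hdx a with ha | ha <;> rcases hdx b with hb | hb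
    · exact hboth a b haA hbA hcov ha hb
    · exact hpair b a hbA haA (C.cover_swap haA hbA hcov) hb ha
    · exact hpair a b haA hbA hcov ha hb
    · refine hpair a (a * b) haA (A.mul_mem haA hbA) (fun y hy => ?_) ha ?_
      · rw [← mul_assoc a a b, C.sqA a haA, one_mul]
        rcases hcov y hy with e | e | e | e
        exacts [Or.inl e, Or.inr (Or.inl e), Or.inr (Or.inr (Or.inr e)), Or.inr (Or.inr (Or.inl e))]
      · rw [dev_mul_left]
        have e : a * dev b x * a⁻¹ * dev a x = ((a * u * a⁻¹)⁻¹ * u⁻¹) *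
            (u * (a * (u * dev b x) * a⁻¹) * u⁻¹) * (u * dev a x) := by group
        rw [e]
        refine B.mul_mem (B.mul_mem ?_ (C.nea.normal.conj_mem _ (C.nea.normal.conj_mem _ hb a) u)) ha
        rw [show (a * u * a⁻¹)⁻¹ * u⁻¹ = u⁻¹ * (dev a u)⁻¹ * u * (u * u)⁻¹ by simp only [dev]; group]
        refine B.mul_mem ?_ (B.inv_mem hf)
        have := C.nea.normal.conj_mem _ (B.inv_mem (hdevu a)) u⁻¹
        rwa [inv_inv] at this
  exact card_le_eight_transvection C.isP C.nea h8 hcomm hf hf1 hfc hD hfa (hdevu a) hau1 hauf H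

theorem eight_four (h8 : Nat.card B = 8) (h4 : Nat.card (A ⊓ B : Subgroup G) = 4) {u : G} (huB : u ∉ B)
    (hu : ∀ y : G, dev u y ∈ B) (hcomm : ∀ v ∈ B, u * v = v * u) (hf : u * u ∈ B) (hf1 : u * u ≠ 1)
    (hfc : ∀ g : G, g * (u * u) = u * u * g)
    (hstep : (∀ x : G, (∀ v ∈ B, x * v = v * x) → x ∈ B ∨ u * x ∈ B) ∨ ∃ x : G, (∀ v ∈ B, x * v = v * x) ∧
      x ∉ B ∧ u * x ∉ B ∧ ∀ y : G, dev y x ∈ B ∨ u * dev y x ∈ B) (H : Subgroup G) :
    Nat.card H ≤ 16 * Nat.card (sq H) := by
  classical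
  haveI := C.nea.normal
  obtain ⟨t, htA, htB, hcov, hself, hfix⟩ := C.exists_one h4
  have hfix4 : Nat.card (fix B t) = 4 := by rw [hfix, h4]
  have h2r : Nat.card (devHom C.nea t).range = 2 := by
    have := card_range_mul C.nea t
    rw [h8, hfix4] at this
    omega
  obtain ⟨f0, hf0r, hf01⟩ : ∃ d ∈ (devHom C.nea t).range, d ≠ 1 := by
    have hne : 1 < Nat.card (devHom C.nea t).range := by omega
    rw [Finite.one_lt_card_iff_nontrivial, Subgroup.nontrivial_iff_exists_ne_one] at hne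
    exact hne
  have hrange : ∀ v ∈ B, dev t v = 1 ∨ dev t v = f0 := fun v hv =>
    eq_pair h2r hf0r hf01 ⟨⟨v, hv⟩, rfl⟩
  obtain ⟨v0, hv0B, hv0⟩ : ∃ v ∈ B, dev t v = f0 := by
    obtain ⟨v, hv⟩ := hf0r; exact ⟨v, v.2, hv⟩
  have hadj : ∀ q, q = 1 ∨ q = f0 → ∃ v ∈ B, dev t v = q := by
    rintro q (rfl | rfl)
    exacts [⟨1, B.one_mem, by simp [dev]⟩, ⟨v0, hv0B, hv0⟩]
  have hf0P : f0 ∈ A ⊓ B := by
    rw [← hfix, ← hv0]; exact dev_mem_fix C.nea (C.sqA t htA) hv0B
  have hf0w : ∀ w : G, t * w = w * t → w * f0 * w⁻¹ = f0 := by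
    intro w hw
    rw [← hv0, conj_dev hw]
    refine (hrange _ (C.nea.normal.conj_mem _ hv0B w)).elim (fun e => absurd ?_ hf01) fun e => e.trans hv0.symm
    rw [← conj_dev hw, conj_eq_one_iff] at e
    rw [← hv0, e]
  obtain ⟨g, hgP, hg1, hgf⟩ : ∃ g ∈ A ⊓ B, g ≠ 1 ∧ g ≠ f0 := by
    by_contra hcon
    push Not at hcon
    have hsub : ((A ⊓ B : Subgroup G) : Set G) ⊆ {1, f0} := fun x hx => by
      by_cases h : x = 1
      · exact Or.inl h
      · exact Or.inr (hcon x hx h)
    have h := Set.ncard_le_ncard hsub (Set.toFinite _)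
    rw [Set.ncard_pair hf01.symm, ← Nat.card_coe_set_eq] at h
    exact absurd (h4.symm.le.trans h) (by norm_num)
  have hquad := fun x (hx : x ∈ A ⊓ B) => eq_quad C.nea inf_le_right h4 hf0P hgP hf01 hg1 hgf hx
  have hclose : ∀ p ∈ A ⊓ B, ∀ q ∈ A ⊓ B, p ≠ 1 → p ≠ f0 → q ≠ 1 → q ≠ f0 → p * q = 1 ∨ p * q = f0 := by
    intro p hp q hq hp1 hpf hq1 hqf
    rcases eq_quad C.nea inf_le_right h4 hf0P hp hf01 hp1 hpf hq with e | e | e | e
    · exact absurd e hq1
    · exact absurd e hqf
    · exact Or.inl (by rw [e, C.nea.sq p hp.2])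
    · exact Or.inr (by rw [e, C.nea.comm f0 hf0P.2 p hp.2, ← mul_assoc, C.nea.sq p hp.2, one_mul])
  by_cases hex : ∀ w : G, t * w = w * t → w ∈ A
  · refine card_le_eight_rankTwo C.isP C.nea h8 huB hu hcomm hf hf1 ?_ H
    have ht2 : orderOf (QuotientGroup.mk' B t) = 2 := by
      haveI : Fact (Nat.Prime 2) := ⟨Nat.prime_two⟩
      refine orderOf_eq_prime (by rw [pow_two, ← map_mul, C.sqA t htA, map_one]) fun h => htB ?_
      rwa [QuotientGroup.mk'_apply, QuotientGroup.eq_one_iff] at h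
    refine rankTwo_of_centralizer (C.isP.to_quotient B) ht2 ?_
    have hA2 : ∀ x : G, (dev t x = 1 ∨ dev t x = f0) →
        QuotientGroup.mk' B x = 1 ∨ QuotientGroup.mk' B x = QuotientGroup.mk' B t := by
      intro x hx
      obtain ⟨v, hv, hvx⟩ := hadj _ hx
      have hxB : dev t x ∈ B := by rcases hx with e | e <;> rw [e]; exacts [B.one_mem, hf0P.2]
      have hy := hex _ (adjust C.nea hv hxB hvx)
      have e : QuotientGroup.mk' B x = QuotientGroup.mk' B (v * x) := by
        rw [map_mul, QuotientGroup.mk'_apply B v, (QuotientGroup.eq_one_iff v).2 hv, one_mul]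
      rw [e]
      rcases hcov _ hy with h | h
      · left; rw [QuotientGroup.mk'_apply, (QuotientGroup.eq_one_iff _).2 h]
      · right
        exact ((QuotientGroup.mk'_eq_mk' B).2 ⟨_, h, by rw [← mul_assoc, C.sqA t htA, one_mul]⟩).symm
    by_cases hout : ∃ y : G, dev t y ∈ B ∧ dev t y ≠ 1 ∧ dev t y ≠ f0
    · obtain ⟨y, hyB, hy1, hyf⟩ := hout
      have hsub : (Subgroup.centralizer ({QuotientGroup.mk' B t} : Set (G ⧸ B)) : Set (G ⧸ B)) ⊆
          {1, QuotientGroup.mk' B t, (QuotientGroup.mk' B y)⁻¹,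
            QuotientGroup.mk' B t * (QuotientGroup.mk' B y)⁻¹} := by
        intro z hz
        obtain ⟨x, rfl⟩ := QuotientGroup.mk'_surjective B z
        have hx := (pi_comm_iff B t x).1 (Subgroup.mem_centralizer_singleton_iff.1 hz).symm
        by_cases hp : dev t x = 1 ∨ dev t x = f0
        · rcases hA2 x hp with e | e
          exacts [Or.inl e, Or.inr (Or.inl e)]
        push Not at hp
        have hxP : dev t x ∈ A ⊓ B := hfix ▸ dev_mem_fix_of_mem C.nea (C.sqA t htA) hx
        have hyP : dev t y ∈ A ⊓ B := hfix ▸ dev_mem_fix_of_mem C.nea (C.sqA t htA) hyB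
        -- the conjugate of `dev t y` by `x` is congruent to it
        have hcon : x * dev t y * x⁻¹ ∈ A ⊓ B ∧ x * dev t y * x⁻¹ ≠ 1 ∧ x * dev t y * x⁻¹ ≠ f0 := by
          have hxt : x * t * x⁻¹ = (dev t x)⁻¹ * t := by simp only [dev]; group
          have hfx : fix B (x * t * x⁻¹) = fix B t := by
            ext s
            rw [mem_fix, mem_fix]
            refine and_congr_right fun hs => ?_
            rw [hxt, mul_assoc, C.nea.inv_eq hx, ← mul_assoc s, C.nea.comm s hs _ hx, mul_assoc (dev t x) s]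
            exact mul_left_cancel_iff
          have hm : x * dev t y * x⁻¹ ∈ fix B t := by
            rw [← hfx, mem_fix]
            refine ⟨C.nea.normal.conj_mem _ hyB x, ?_⟩
            have hc := (mem_fix.1 (dev_mem_fix_of_mem C.nea (C.sqA t htA) hyB)).2
            calc x * t * x⁻¹ * (x * dev t y * x⁻¹) = x * (t * dev t y) * x⁻¹ := by group
              _ = x * dev t y * x⁻¹ * (x * t * x⁻¹) := by rw [hc]; group
          refine ⟨hfix ▸ hm, fun e => hy1 (conj_eq_one_iff.1 e), fun e => ?_⟩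
          have h' : x⁻¹ * f0 * x = dev t y := by rw [← e]; group
          -- conjugation by `x` fixes `f0`
          have hfx0 : x * f0 * x⁻¹ = f0 := by
            have e1 : x * f0 * x⁻¹ = dev (x * t * x⁻¹) (x * v0 * x⁻¹) := by
              rw [← hv0]; simp only [dev]; group
            have e2 : ∀ s ∈ B, dev (x * t * x⁻¹) s = dev t s := fun s hs => by
              rw [hxt, dev_mul_left, C.nea.inv_eq hx, C.nea.comm (dev t x) hx _ (dev_mem C.nea t hs),
                mul_inv_cancel_right, dev_eq_one.2 (C.nea.comm _ hx s hs), mul_one]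
            rw [e1, e2 _ (C.nea.normal.conj_mem _ hv0B x)]
            refine (hrange _ (C.nea.normal.conj_mem _ hv0B x)).resolve_left fun e3 => hf01 ?_
            rw [← e2 _ (C.nea.normal.conj_mem _ hv0B x), ← e1, conj_eq_one_iff] at e3
            exact e3
          apply hyf
          rw [← h']
          calc x⁻¹ * f0 * x = x⁻¹ * (x * f0 * x⁻¹) * x := by rw [hfx0]
            _ = f0 := by group
        obtain ⟨hcP, hc1, hcf⟩ := hcon
        have hxy : dev t (x * y) = 1 ∨ dev t (x * y) = f0 := by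
          rw [dev_mul_right]
          exact hclose _ hxP _ hcP hp.1 hp.2 hc1 hcf
        rcases hA2 _ hxy with e | e
        · rw [map_mul] at e
          exact Or.inr (Or.inr (Or.inl (eq_inv_of_mul_eq_one_left e)))
        · rw [map_mul] at e
          exact Or.inr (Or.inr (Or.inr (eq_mul_inv_of_mul_eq e)))
      refine (Set.ncard_le_ncard hsub (Set.toFinite _)).trans ?_
      refine (Set.ncard_insert_le _ _).trans ?_
      refine Nat.succ_le_succ ((Set.ncard_insert_le _ _).trans ?_)
      exact Nat.succ_le_succ ((Set.ncard_insert_le _ _).trans (by rw [Set.ncard_singleton]))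
    · have hsub : (Subgroup.centralizer ({QuotientGroup.mk' B t} : Set (G ⧸ B)) : Set (G ⧸ B)) ⊆
          {1, QuotientGroup.mk' B t} := by
        intro z hz
        obtain ⟨x, rfl⟩ := QuotientGroup.mk'_surjective B z
        have hx := (pi_comm_iff B t x).1 (Subgroup.mem_centralizer_singleton_iff.1 hz).symm
        exact hA2 x (or_iff_not_imp_left.2 fun h1 => by_contra fun h2 => hout ⟨x, hx, h1, h2⟩)
      refine (Set.ncard_le_ncard hsub (Set.toFinite _)).trans ?_
      exact (Set.ncard_insert_le _ _).trans (by rw [Set.ncard_singleton]; norm_num)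
  push Not at hex
  obtain ⟨w, hw, hwA⟩ := hex
  have hwg : w * g * w⁻¹ ≠ g := by
    intro e
    refine hwA (hself w hw fun p hp => ?_)
    have e0 : Commute f0 w := (mul_inv_eq_iff_eq_mul.1 (hf0w w hw)).symm
    have e1 : Commute g w := (mul_inv_eq_iff_eq_mul.1 e).symm
    rcases hquad p hp with rfl | rfl | rfl | rfl
    exacts [(Commute.one_left w).eq, e0.eq, e1.eq, (e0.mul_left e1).eq]
  have hff0 : u * u = f0 := by
    rcases hquad _ ⟨C.central_mem hfc, hf⟩ with e | e | e | e
    · exact absurd e hf1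
    · exact e
    · exact absurd (by rw [← e, hfc w, mul_inv_cancel_right]) hwg
    · refine absurd ?_ hwg
      have h1 : w * (f0 * g) * w⁻¹ = f0 * g := by rw [← e, hfc w, mul_inv_cancel_right]
      rw [show w * (f0 * g) * w⁻¹ = (w * f0 * w⁻¹) * (w * g * w⁻¹) by group, hf0w w hw] at h1
      exact mul_left_cancel h1
  have hrangeu : ∀ v ∈ B, dev t v = 1 ∨ dev t v = u * u := by rw [hff0]; exact hrange
  have hdevu : ∀ g : G, dev g u ∈ B := fun g => by
    rw [← dev_inv]; exact B.inv_mem (hu g)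
  have hnoA : ∀ y ∈ A, (∀ v ∈ B, y * v = v * y) → y ∈ B := by
    intro y hy hyv
    refine (hcov y hy).resolve_right fun e => ?_
    rw [C.fix_eq_of_centralize e hyv, h8] at hfix4
    omega
  have hsmall : ∀ x : G, (∀ v ∈ B, x * v = v * x) → (dev t x = 1 ∨ dev t x = f0) → x ∈ B := by
    intro x hxD hx
    obtain ⟨v, hv, hvx⟩ := hadj _ hx
    have hxB : dev t x ∈ B := by rcases hx with e | e <;> rw [e]; exacts [B.one_mem, hf0P.2]
    have hyD : ∀ s ∈ B, v * x * s = s * (v * x) := fun s hs =>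
      ((show Commute v s from C.nea.comm v hv s hs).mul_left (show Commute x s from hxD s hs)).eq
    have hy := hnoA _ (hself _ (adjust C.nea hv hxB hvx) fun q hq => (hyD q hq.2).symm) hyD
    exact (Subgroup.mul_mem_cancel_left _ hv).1 hy
  have htu1 : dev t u ≠ 1 := fun e => huB (hsmall u hcomm (Or.inl e))
  have htuf : dev t u ≠ f0 := fun e => huB (hsmall u hcomm (Or.inr e))
  have hD : ∀ x : G, (∀ v ∈ B, x * v = v * x) → x ∈ B ∨ u * x ∈ B := by
    rcases hstep with h | ⟨x, hxD, hxB, huxB, hdx⟩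
    · exact h
    exfalso
    have htx : u * dev t x ∈ B := by
      refine (hdx t).resolve_left fun hb => ?_
      have hxP : dev t x ∈ A ⊓ B := hfix ▸ dev_mem_fix_of_mem C.nea (C.sqA t htA) hb
      by_cases hp : dev t x = 1 ∨ dev t x = f0
      · exact hxB (hsmall x hxD hp)
      push Not at hp
      refine huxB (hsmall _ (fun v hv =>
        ((show Commute u v from hcomm v hv).mul_left (show Commute x v from hxD v hv)).eq) ?_)
      rw [dev_shift_cent hcomm hb]
      exact hclose _ (hfix ▸ dev_mem_fix_of_mem C.nea (C.sqA t htA) (hdevu t)) _ hxP htu1 htuf hp.1 hp.2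
    have key : ∀ w : G, t * w = w * t → w * g * w⁻¹ ≠ g → dev w x ∈ B → False := by
      intro w hw hwg hwx
      have hnorm : ∀ p ∈ fix B t, w * p * w⁻¹ ∈ fix B t := fun p hp => by
        obtain ⟨hpB, hpt⟩ := mem_fix.1 hp
        refine mem_fix.2 ⟨C.nea.normal.conj_mem _ hpB w, ?_⟩
        exact (((show Commute t w from hw).mul_right (show Commute t p from hpt)).mul_right
          (show Commute t w from hw).inv_right).eq
      refine pair_false C.nea (C.sqA t htA) hw hcomm htx hf hwx (fun b hb => ?_) (hdevu w) fun hmem => ?_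
      · by_cases hbP : b ∈ fix B t
        · exact (fix B t).mul_mem (hnorm b hbP) ((fix B t).inv_mem hbP)
        · have hn : w * b * w⁻¹ ∉ fix B t := by
            intro hm
            obtain ⟨-, hmt⟩ := mem_fix.1 hm
            refine hbP (mem_fix.2 ⟨hb, ?_⟩)
            have hwi : Commute t w⁻¹ := (show Commute t w from hw).inv_right
            have := ((hwi.mul_right (show Commute t (w * b * w⁻¹) from hmt)).mul_right
              (show Commute t w from hw)).eq
            rwa [show w⁻¹ * (w * b * w⁻¹) * w = b by group] at this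
          exact mul_mem_of_card (B := fix B t) (C := B) inf_le_left (by rw [h8, hfix4]) (C.nea.normal.conj_mem b hb w)
            (B.inv_mem hb) hn (fun hm => hbP ((Subgroup.inv_mem_iff _).1 hm))
      · have e1 := conj_dev hw u
        have e2 : w * u * w⁻¹ = dev w u * u := by rw [dev, inv_mul_cancel_right]
        rw [e2, dev_shift C.nea (hdevu w) (hdevu t), dev_eq_one.2 (mem_fix.1 hmem).2, one_mul] at e1
        apply hwg
        rcases hquad _ (hfix ▸ dev_mem_fix_of_mem C.nea (C.sqA t htA) (hdevu t)) with e | e | e | e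
        · exact absurd e htu1
        · exact absurd e htuf
        · rwa [e] at e1
        · rw [e, show w * (f0 * g) * w⁻¹ = (w * f0 * w⁻¹) * (w * g * w⁻¹) by group, hf0w w hw] at e1
          exact mul_left_cancel e1
    rcases hdx w with h | h
    · exact key w hw hwg h
    · refine key (w * t) ((show Commute t w from hw).mul_right (Commute.refl t)).eq ?_ ?_
      · rw [show w * t * g * (w * t)⁻¹ = w * (t * g * t⁻¹) * w⁻¹ by group, C.commA t htA g hgP.1,
          mul_inv_cancel_right]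
        exact hwg
      · rw [dev_mul_left]
        have e : w * dev t x * w⁻¹ * dev w x = ((w * u * w⁻¹)⁻¹ * u⁻¹) *
            (u * (w * (u * dev t x) * w⁻¹) * u⁻¹) * (u * dev w x) := by group
        rw [e]
        refine B.mul_mem (B.mul_mem ?_ (C.nea.normal.conj_mem _ (C.nea.normal.conj_mem _ htx w) u)) h
        rw [show (w * u * w⁻¹)⁻¹ * u⁻¹ = u⁻¹ * (dev w u)⁻¹ * u * (u * u)⁻¹ by simp only [dev]; group]
        refine B.mul_mem ?_ (B.inv_mem hf)
        have := C.nea.normal.conj_mem _ (B.inv_mem (hdevu w)) u⁻¹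
        rwa [inv_inv] at this
  exact card_le_eight_transvection C.isP C.nea h8 hcomm hf hf1 hfc hD hrangeu (hdevu t) htu1
    (hff0.symm ▸ htuf) H

/-- The bound when the largest normal elementary abelian subgroup has order eight. -/
theorem card_le_eight (h8 : Nat.card B = 8) (hmax : ∀ E : Subgroup G, NEA E → Nat.card E ≠ 16)
    (H : Subgroup G) : Nat.card H ≤ 16 * Nat.card (sq H) := by
  classical
  haveI := C.nea.normal
  haveI : Fact (Nat.Prime 2) := ⟨Nat.prime_two⟩
  by_cases hD : ∀ x : G, (∀ v ∈ B, x * v = v * x) → x ∈ B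
  · exact card_le_eight_self C.isP C.nea h8 hD H
  set D := Subgroup.centralizer (B : Set G) with hDdef
  haveI : D.Normal := inferInstance
  have hBD : B ≤ D := fun v hv w hw => C.nea.comm w hw v hv
  have hmemD : ∀ x : G, x ∈ D ↔ ∀ v ∈ B, x * v = v * x := fun x =>
    ⟨fun hx v hv => (hx v hv).symm, fun hx v hv => (hx v hv).symm⟩
  obtain ⟨U, hU, hBU, hUD, hUcard⟩ := PGroupBasics.exists_step C.isP B D (lt_of_le_of_ne hBD fun he =>
    hD fun x hx => by rw [he]; exact (hmemD x).2 hx)
  obtain ⟨u, huU, huB⟩ := SetLike.exists_of_lt (lt_of_le_of_ne hBU fun he => by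
    rw [← he, h8] at hUcard; omega)
  have hcomm := (hmemD u).1 (hUD huU)
  have hu := step_dev C.nea.normal hU hBU hUcard huU huB
  have hf : u * u ∈ B := mul_mem_of_card hBU hUcard huU huU huB huB
  have hmemU : ∀ x ∈ U, x ∈ B ∨ u * x ∈ B := fun x hx =>
    or_iff_not_imp_left.2 fun hxB => mul_mem_of_card hBU hUcard huU hx huB hxB
  have hUcomm : ∀ x ∈ U, ∀ y ∈ U, x * y = y * x := by
    intro x hx y hy
    have hx' : Commute x u := by
      rcases hmemU x hx with h | h
      · exact (hcomm x h).symm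
      · have e : x = u⁻¹ * (u * x) := (inv_mul_cancel_left u x).symm
        rw [e]
        exact ((Commute.refl u).inv_left).mul_left (show Commute (u * x) u from (hcomm _ h).symm)
    rcases hmemU y hy with h | h
    · exact (hmemD x).1 (hUD hx) y h
    · have e : y = u⁻¹ * (u * y) := (inv_mul_cancel_left u y).symm
      rw [e]
      exact (hx'.inv_right.mul_right (show Commute x (u * y) from (hmemD x).1 (hUD hx) _ h)).eq
  have hf1 : u * u ≠ 1 := by
    intro h1
    refine hmax U ⟨hU, hUcomm, fun x hx => ?_⟩ (by rw [hUcard, h8])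
    rcases hmemU x hx with h | h
    · exact C.nea.sq x h
    · have hc : Commute u x := hUcomm u huU x hx
      have := C.nea.sq _ h
      rwa [hc.symm.mul_mul_mul_comm, h1, one_mul] at this
  have hfc : ∀ g : G, g * (u * u) = u * u * g := by
    intro g
    rw [← mul_inv_eq_iff_eq_mul]
    have hb : dev g u ∈ B := by rw [← dev_inv]; exact B.inv_mem (hu g)
    have hc : Commute u (dev g u) := hcomm _ hb
    calc g * (u * u) * g⁻¹ = (dev g u * u) * (dev g u * u) := by simp only [dev]; group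
      _ = u * u := by rw [hc.mul_mul_mul_comm, C.nea.sq _ hb, one_mul]
  have hstep : (∀ x : G, (∀ v ∈ B, x * v = v * x) → x ∈ B ∨ u * x ∈ B) ∨ ∃ x : G, (∀ v ∈ B, x * v = v * x) ∧
      x ∉ B ∧ u * x ∉ B ∧ ∀ y : G, dev y x ∈ B ∨ u * dev y x ∈ B := by
    by_cases hUD' : U = D
    · exact Or.inl fun x hx => hmemU x (by rw [hUD']; exact (hmemD x).2 hx)
    obtain ⟨V, hV, hUV, hVD, hVcard⟩ := PGroupBasics.exists_step C.isP U D (lt_of_le_of_ne hUD hUD')
    obtain ⟨x, hxV, hxU⟩ := SetLike.exists_of_lt (lt_of_le_of_ne hUV fun he => by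
      rw [← he, hUcard, h8] at hVcard; omega)
    refine Or.inr ⟨x, (hmemD x).1 (hVD hxV), fun h => hxU (hBU h), fun h => hxU ?_, fun y => hmemU _ ?_⟩
    · rw [show x = u⁻¹ * (u * x) from (inv_mul_cancel_left u x).symm]
      exact U.mul_mem (U.inv_mem huU) (hBU h)
    · rw [← dev_inv]
      exact U.inv_mem (step_dev hU hV hUV hVcard hxV hxU y)
  rcases C.inf_card (fun h => by rw [h, Subgroup.card_bot] at h8; omega) with h | h | h
  · exact C.eight_two h8 h huB hu hcomm hf hf1 hfc hstep H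
  · exact C.eight_four h8 h huB hu hcomm hf hf1 hfc hstep H
  · exfalso
    have hAB : A = B := Subgroup.eq_of_le_of_card_ge h (by rw [C.card8, h8])
    refine hD fun x hx => ?_
    rw [← hAB]
    exact C.self x fun a ha => (hx a (h ha)).symm

end Ctx

end Cfsg.Agent.Harada
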