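import Cfsg.Agent.Lib.TwoGroups.HaradaSetup

/-!
Bounds for a 2-group with a normal elementary abelian subgroup of order eight whose centralizer is known.
-/

set_option autoImplicit false
set_option linter.style.haveILetI false

namespace Cfsg.Agent.Harada

open Cfsg.Agent.SquareGen

variable {G : Type*} [Group G] [Finite G]

/-- The automorphisms induced on an elementary abelian normal subgroup of order eight permute four points. -/
theorem exists_perm (hG : IsPGroup 2 G) {B : Subgroup G} (hB : NEA B) (h8 : Nat.card B = 8) :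
    ∃ φ : G →* Equiv.Perm (Fin 4), ∀ g : G, g ∈ φ.ker ↔ ∀ v ∈ B, g * v = v * g := by
  classical
  haveI : Fact (Nat.Prime 2) := ⟨Nat.prime_two⟩
  haveI := hB.normal
  obtain ⟨P1, hP1, -, hP1B, hc1⟩ := PGroupBasics.exists_step hG ⊥ B (bot_lt_iff_ne_bot.2 fun h => by
    rw [h, Subgroup.card_bot] at h8; omega)
  rw [Subgroup.card_bot] at hc1
  obtain ⟨P0, hP0, -, hP0B, hc0⟩ := PGroupBasics.exists_step hG P1 B (lt_of_le_of_ne hP1B fun h => by
    rw [h, h8] at hc1; omega)
  rw [hc1] at hc0
  set T : Set G := (B : Set G) \ (P0 : Set G) with hT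
  have hTinv : ∀ g : G, ∀ t ∈ T, g * t * g⁻¹ ∈ T := fun g t ht =>
    ⟨hB.normal.conj_mem t ht.1 g, fun h => ht.2 (by
      have := hP0.conj_mem _ h g⁻¹
      rwa [show g⁻¹ * (g * t * g⁻¹) * g⁻¹⁻¹ = t by group] at this)⟩
  have hT4 : T.ncard ≤ 4 := by
    rw [hT, Set.ncard_sdiff hP0B (Set.toFinite _), ← Nat.card_coe_set_eq, ← Nat.card_coe_set_eq]
    change Nat.card B - Nat.card P0 ≤ 4
    omega
  obtain ⟨t0, ht0⟩ : T.Nonempty := by
    obtain ⟨t, ht, ht'⟩ := SetLike.exists_of_lt (lt_of_le_of_ne hP0B fun h => by rw [h] at hc0; omega)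
    exact ⟨t, ht, ht'⟩
  let φ : G →* Equiv.Perm T :=
    { toFun := fun g =>
        { toFun := fun t => ⟨g * t * g⁻¹, hTinv g t t.2⟩
          invFun := fun t => ⟨g⁻¹ * t * g, by simpa using hTinv g⁻¹ t t.2⟩
          left_inv := fun t => Subtype.ext (by simp [mul_assoc])
          right_inv := fun t => Subtype.ext (by simp [mul_assoc]) }
      map_one' := by ext t; simp
      map_mul' := fun g k => by ext t; simp [mul_assoc] }
  haveI : Fintype T := Fintype.ofFinite T
  obtain ⟨ι⟩ : Nonempty (T ↪ Fin 4) := Function.Embedding.nonempty_of_card_le (by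
    rw [Fintype.card_fin, ← Nat.card_eq_fintype_card, Nat.card_coe_set_eq]; exact hT4)
  refine ⟨(Equiv.Perm.viaEmbeddingHom ι).comp φ, fun g => ⟨fun hg v hv => ?_, fun hg => ?_⟩⟩
  · have h1 : φ g = 1 := Equiv.Perm.viaEmbeddingHom_injective ι (by
      rw [map_one]; exact hg)
    have h2 : ∀ t ∈ T, g * t = t * g := fun t ht =>
      mul_inv_eq_iff_eq_mul.1 (congrArg (fun w : T => (w : G)) (Equiv.ext_iff.1 h1 ⟨t, ht⟩))
    by_cases hvP : v ∈ P0
    · have hm : t0 * v ∈ T := ⟨B.mul_mem ht0.1 hv, fun h => ht0.2 (by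
        have := P0.mul_mem h (P0.inv_mem hvP)
        rwa [mul_inv_cancel_right] at this)⟩
      have e0 := h2 t0 ht0
      have e1 := h2 _ hm
      rw [← mul_assoc, e0, mul_assoc, mul_assoc t0 v g] at e1
      exact mul_left_cancel e1
    · exact h2 v ⟨hv, hvP⟩
  · rw [MonoidHom.mem_ker, MonoidHom.comp_apply]
    have : φ g = 1 := Equiv.ext fun t => Subtype.ext (mul_inv_eq_iff_eq_mul.2 (hg t t.2.1))
    rw [this, map_one]

theorem map_perm_card_le (hG : IsPGroup 2 G) (φ : G →* Equiv.Perm (Fin 4)) (H : Subgroup G) :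
    Nat.card (H.map φ) ≤ 4 * Nat.card (sq (H.map φ)) :=
  FourGen.perm_card_le _ ((hG.to_subgroup H).map φ)

theorem card_le_of_ker {K : Type*} [Group K] (φ : G →* K) (H : Subgroup G) {i j : ℕ}
    (h1 : Nat.card (H.map φ) ≤ i * Nat.card (sq (H.map φ)))
    (h2 : Nat.card (H ⊓ φ.ker : Subgroup G) ≤ j * Nat.card (sq H ⊓ φ.ker : Subgroup G)) :
    Nat.card H ≤ i * j * Nat.card (sq H) := by
  rw [card_split H φ, card_split (sq H) φ, map_sq]
  refine (Nat.mul_le_mul h1 h2).trans (le_of_eq ?_)
  ring

/-- The bound when the centralizer of the normal subgroup of order eight is itself. -/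
theorem card_le_eight_self (hG : IsPGroup 2 G) {B : Subgroup G} (hB : NEA B) (h8 : Nat.card B = 8)
    (hD : ∀ x : G, (∀ v ∈ B, x * v = v * x) → x ∈ B) (H : Subgroup G) :
    Nat.card H ≤ 16 * Nat.card (sq H) := by
  obtain ⟨φ, hφ⟩ := exists_perm hG hB h8
  have hker : φ.ker = B :=
    le_antisymm (fun x hx => hD x ((hφ x).1 hx)) fun x hx => (hφ x).2 fun v hv => hB.comm x hx v hv
  by_cases hY : Nat.card (H.map φ) ≤ 2 * Nat.card (sq (H.map φ))
  · refine card_le_of_ker φ H (i := 2) (j := 8) hY ?_
    rw [hker]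
    exact ((Subgroup.card_le_of_le inf_le_right).trans_eq h8).trans (Nat.le_mul_of_pos_right 8 Nat.card_pos)
  · refine card_le_of_ker φ H (i := 4) (j := 4) (map_perm_card_le hG φ H) ?_
    rw [hker]
    by_cases hBH : B ≤ H
    · obtain ⟨h, hh, hhB⟩ : ∃ h ∈ H, h ∉ B := by
        by_contra hcon
        push Not at hcon
        have hbot : H.map φ = ⊥ := (Subgroup.map_eq_bot_iff _).2 (by rw [hker]; exact hcon)
        have : Nat.card (H.map φ) = 1 := by rw [hbot, Subgroup.card_bot]
        have hp : 0 < Nat.card (sq (H.map φ)) := Nat.card_pos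
        omega
      obtain ⟨v, hv, hv1⟩ : ∃ v ∈ B, dev h v ≠ 1 := by
        by_contra hcon
        push Not at hcon
        exact hhB (hD h fun v hv => dev_eq_one.1 (hcon v hv))
      have h2 := two_le_card_inf (B := B) (H := H) (v := dev h v) (commutator_mem_sq hh (hBH hv))
        (dev_mem hB h hv) hv1
      rw [inf_eq_right.2 hBH, h8]
      omega
    · exact (inf_card_le_four h8 hBH).trans (Nat.le_mul_of_pos_right 4 Nat.card_pos)

/-- The bound when the centralizer is larger and the quotient has rank two. -/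
theorem card_le_eight_rankTwo (hG : IsPGroup 2 G) {B : Subgroup G} (hB : NEA B) (h8 : Nat.card B = 8)
    {u : G} (huB : u ∉ B) (hu : ∀ y : G, dev u y ∈ B) (hcomm : ∀ v ∈ B, u * v = v * u)
    (hf : u * u ∈ B) (hf1 : u * u ≠ 1)
    (hR : haveI := hB.normal; RankTwo (G ⧸ B)) (H : Subgroup G) : Nat.card H ≤ 16 * Nat.card (sq H) := by
  haveI := hB.normal
  set π := QuotientGroup.mk' B with hπ
  by_cases hY : 2 * Nat.card (sq (H.map π)) < Nat.card (H.map π)
  · refine bound_split B H (i := 4) (j := 4) (hR _) ?_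
    by_cases hBH : B ≤ H
    · obtain ⟨h, hh, hhu⟩ := hR.mem (z := π u) (by rw [← map_mul, hπ, QuotientGroup.mk'_apply,
        (QuotientGroup.eq_one_iff _).2 hf]) (fun y => by
          obtain ⟨x, rfl⟩ := QuotientGroup.mk'_surjective B y
          exact ((pi_comm_iff B u x).2 (hu x)).symm) hY
      obtain ⟨b, hb, he⟩ := (QuotientGroup.mk'_eq_mk' B).1 hhu
      have huH : u ∈ H := he ▸ H.mul_mem hh (hBH hb)
      have h2 := two_le_card_inf (B := B) (H := H) (v := u * u) (by rw [← pow_two]; exact sq_mem huH) hf hf1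
      rw [inf_eq_right.2 hBH, h8]
      omega
    · exact (inf_card_le_four h8 hBH).trans (Nat.le_mul_of_pos_right 4 Nat.card_pos)
  · push Not at hY
    exact bound_split B H (i := 2) (j := 8) hY
      (((Subgroup.card_le_of_le inf_le_right).trans_eq h8).trans (Nat.le_mul_of_pos_right 8 Nat.card_pos))

/-- The bound when the centralizer has order sixteen and some element acts as a transvection. -/
theorem card_le_eight_transvection (hG : IsPGroup 2 G) {B : Subgroup G} (hB : NEA B) (h8 : Nat.card B = 8)
    {u : G} (hcomm : ∀ v ∈ B, u * v = v * u) (hf : u * u ∈ B) (hf1 : u * u ≠ 1)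
    (hfc : ∀ g : G, g * (u * u) = u * u * g) (hD : ∀ x : G, (∀ v ∈ B, x * v = v * x) → x ∈ B ∨ u * x ∈ B)
    {t : G} (ht : ∀ v ∈ B, dev t v = 1 ∨ dev t v = u * u) (htu : dev t u ∈ B)
    (htu1 : dev t u ≠ 1) (htuf : dev t u ≠ u * u) (H : Subgroup G) : Nat.card H ≤ 16 * Nat.card (sq H) := by
  classical
  haveI : Fact (Nat.Prime 2) := ⟨Nat.prime_two⟩
  obtain ⟨φ, hφ⟩ := exists_perm hG hB h8
  have hBker : B ≤ φ.ker := fun x hx => (hφ x).2 fun v hv => hB.comm x hx v hv
  have huker : u ∈ φ.ker := (hφ u).2 hcomm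
  have hsq : ∀ x ∈ φ.ker, x ∉ B → x * x = u * u := by
    intro x hx hxB
    have hb := (hD x ((hφ x).1 hx)).resolve_left hxB
    have hc : Commute u (u * x) := hcomm _ hb
    have e : x = u⁻¹ * (u * x) := (inv_mul_cancel_left u x).symm
    have hff : (u * u)⁻¹ = u * u := hB.inv_eq hf
    rw [e, hc.symm.inv_right.mul_mul_mul_comm, hB.sq _ hb, mul_one, ← mul_inv_rev, hff]
  have h16 : Nat.card φ.ker ≤ 16 := by
    have hsub : (φ.ker : Set G) ⊆ (B : Set G) ∪ (fun b => u⁻¹ * b) '' (B : Set G) := fun x hx => by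
      rcases hD x ((hφ x).1 hx) with h | h
      · exact Or.inl h
      · exact Or.inr ⟨u * x, h, inv_mul_cancel_left u x⟩
    have h := (Set.ncard_le_ncard hsub (Set.toFinite _)).trans ((Set.ncard_union_le _ _).trans
      (Nat.add_le_add_left (Set.ncard_image_le (Set.toFinite _)) _))
    rw [← Nat.card_coe_set_eq, ← Nat.card_coe_set_eq] at h
    change Nat.card φ.ker ≤ Nat.card B + Nat.card B at h
    omega
  set W := H ⊓ φ.ker with hW
  have hfW : (∃ x ∈ W, x ∉ B) → 2 ≤ Nat.card (sq H ⊓ φ.ker : Subgroup G) := by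
    rintro ⟨x, hx, hxB⟩
    refine two_le_card_inf (v := u * u) ?_ (hBker hf) hf1
    rw [← hsq x hx.2 hxB, ← pow_two]
    exact sq_mem hx.1
  have hbig : 8 < Nat.card W → φ.ker ≤ H := by
    intro h
    obtain ⟨k, hk⟩ := IsPGroup.iff_card.1 (hG.to_subgroup W)
    have hle : Nat.card W ≤ Nat.card φ.ker := Subgroup.card_le_of_le inf_le_right
    rw [hk] at h hle
    have h4 : 4 ≤ k := by
      by_contra hcon
      have := Nat.pow_le_pow_right two_pos (by omega : k ≤ 3)
      omega
    have := Nat.pow_le_pow_right two_pos h4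
    have heq := Subgroup.eq_of_le_of_card_ge (inf_le_right : W ≤ φ.ker) (by rw [hk]; omega)
    exact heq ▸ inf_le_left
  by_cases hY : Nat.card (H.map φ) ≤ 2 * Nat.card (sq (H.map φ))
  · refine card_le_of_ker φ H (i := 2) (j := 8) hY ?_
    rw [← hW]
    by_cases h : Nat.card W ≤ 8
    · exact h.trans (Nat.le_mul_of_pos_right 8 Nat.card_pos)
    · have huB : ∃ x ∈ W, x ∉ B := by
        by_contra hcon
        push Not at hcon
        have := Subgroup.card_le_of_le (hcon : W ≤ B)
        omega
      have := hfW huB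
      have hle : Nat.card W ≤ Nat.card φ.ker := Subgroup.card_le_of_le inf_le_right
      omega
  · push Not at hY
    refine card_le_of_ker φ H (i := 4) (j := 4) (map_perm_card_le hG φ H) ?_
    rw [← hW]
    by_cases h4 : Nat.card W ≤ 4
    · exact h4.trans (Nat.le_mul_of_pos_right 4 Nat.card_pos)
    have hpos : 0 < Nat.card (sq (H.map φ)) := Nat.card_pos
    obtain ⟨h, hh, hhker⟩ : ∃ h ∈ H, h ∉ φ.ker := by
      by_contra hcon
      push Not at hcon
      have hbot : H.map φ = ⊥ := (Subgroup.map_eq_bot_iff _).2 hcon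
      have : Nat.card (H.map φ) = 1 := by rw [hbot, Subgroup.card_bot]
      omega
    by_cases h8W : Nat.card W ≤ 8
    · suffices 2 ≤ Nat.card (sq H ⊓ φ.ker : Subgroup G) by omega
      by_cases hex : ∃ x ∈ W, x ∉ B
      · exact hfW hex
      · push Not at hex
        have hBH : B ≤ H := by
          by_contra hcon
          have h5 := inf_card_le_four (H := H) h8 hcon
          have h6 : Nat.card W ≤ Nat.card (H ⊓ B : Subgroup G) :=
            Subgroup.card_le_of_le (fun x hx => ⟨hx.1, hex x hx⟩)
          omega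
        obtain ⟨v, hv, hv1⟩ : ∃ v ∈ B, dev h v ≠ 1 := by
          by_contra hcon
          push Not at hcon
          exact hhker ((hφ h).2 fun v hv => dev_eq_one.1 (hcon v hv))
        exact two_le_card_inf (v := dev h v) (commutator_mem_sq hh (hBH hv)) (hBker (dev_mem hB h hv)) hv1
    · push Not at h8W
      have hUH := hbig h8W
      suffices 4 ≤ Nat.card (sq H ⊓ φ.ker : Subgroup G) by
        have : Nat.card W ≤ Nat.card φ.ker := Subgroup.card_le_of_le inf_le_right
        omega
      have hfsq : u * u ∈ sq H := by rw [← pow_two]; exact sq_mem (hUH huker)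
      by_cases hmove : ∃ x ∈ H, ∃ v ∈ B, dev x v ≠ 1 ∧ dev x v ≠ u * u
      · obtain ⟨x, hx, v, hv, hv1, hv2⟩ := hmove
        exact four_le_card_inf hfsq (hBker hf) (commutator_mem_sq hx (hUH (hBker hv)))
          (hBker (dev_mem hB x hv)) hf1 hv1 hv2 hG
      · push Not at hmove
        -- two elements generating `B` together with `u * u`
        obtain ⟨v1, hv1, hv1n⟩ : ∃ v ∈ B, v ∉ ({1, u * u} : Set G) := by
          by_contra hcon
          push Not at hcon
          have h := Set.ncard_le_ncard (hcon : (B : Set G) ⊆ {1, u * u}) (Set.toFinite _)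
          rw [Set.ncard_pair hf1.symm, ← Nat.card_coe_set_eq] at h
          exact absurd (h8.symm.le.trans h) (by norm_num)
        obtain ⟨v2, hv2, hv2n⟩ : ∃ v ∈ B, v ∉ ({1, u * u, v1, u * u * v1} : Set G) := by
          by_contra hcon
          push Not at hcon
          have h := Set.ncard_le_ncard (hcon : (B : Set G) ⊆ {1, u * u, v1, u * u * v1}) (Set.toFinite _)
          rw [← Nat.card_coe_set_eq] at h
          have h' := (h8.symm.le.trans h).trans ((Set.ncard_insert_le _ _).trans (Nat.succ_le_succ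
            ((Set.ncard_insert_le _ _).trans (Nat.succ_le_succ ((Set.ncard_insert_le _ _).trans
              (Nat.succ_le_succ (Set.ncard_singleton _).le))))))
          omega
        simp only [Set.mem_insert_iff, Set.mem_singleton_iff, not_or] at hv1n hv2n
        have hgen : ∀ x : G, x * v1 = v1 * x → x * v2 = v2 * x → x ∈ φ.ker := by
          intro x h1 h2
          refine (hφ x).2 fun v hv => ?_
          have hge : 5 ≤ Nat.card (fix B x) := by
            have hsub : ({v2, 1, u * u, v1, u * u * v1} : Set G) ⊆ fix B x := by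
              rintro s (rfl | rfl | rfl | rfl | rfl)
              exacts [mem_fix.2 ⟨hv2, h2⟩, (fix B x).one_mem, mem_fix.2 ⟨hf, hfc x⟩, mem_fix.2 ⟨hv1, h1⟩,
                (fix B x).mul_mem (mem_fix.2 ⟨hf, hfc x⟩) (mem_fix.2 ⟨hv1, h1⟩)]
            have h := Set.ncard_le_ncard hsub (Set.toFinite _)
            have e1 : u * u * v1 ≠ 1 := fun h => hv1n.2 (by
              rw [← hB.inv_eq hf]; exact eq_inv_of_mul_eq_one_right h)
            rw [Set.ncard_insert_of_notMem (by simp [hv2n.1, hv2n.2.1, hv2n.2.2.1, hv2n.2.2.2]),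
              Set.ncard_insert_of_notMem (by simp [Ne.symm hv1n.1, hf1.symm, e1.symm]),
              Set.ncard_insert_of_notMem (by
                simp only [Set.mem_insert_iff, Set.mem_singleton_iff, not_or]
                exact ⟨Ne.symm hv1n.2, fun h => hv1n.1 (left_eq_mul.1 h)⟩),
              Set.ncard_pair (fun h => hf1 (right_eq_mul.1 h)), ← Nat.card_coe_set_eq] at h
            exact h
          have hBx : B ≤ fix B x := by
            by_contra hcon
            have h4' := inf_card_le_four (H := Subgroup.centralizer ({x} : Set G)) h8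
              (fun hle => hcon (le_inf le_rfl hle))
            rw [inf_comm] at h4'
            exact absurd (hge.trans h4') (by norm_num)
          exact (mem_fix.1 (hBx hv)).2
        let σ : G → Bool × Bool := fun x => (decide (dev x v1 = 1), decide (dev x v2 = 1))
        have hσ : ∀ x y : G, (∀ v ∈ B, dev x v = 1 ∨ dev x v = u * u) → (∀ v ∈ B, dev y v = 1 ∨ dev y v = u * u) →
            σ x = σ y → φ x = φ y := by
          intro x y hx hy he
          have key : ∀ v ∈ B, decide (dev x v = 1) = decide (dev y v = 1) → (x⁻¹ * y) * v = v * (x⁻¹ * y) := by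
            intro v hv hd
            rw [decide_eq_decide] at hd
            have heq : dev x v = dev y v := by
              rcases hx v hv with h | h <;> rcases hy v hv with h' | h'
              · rw [h, h']
              · exact absurd (h'.symm.trans (hd.1 h)) hf1
              · exact absurd (h.symm.trans (hd.2 h')) hf1
              · rw [h, h']
            have heq2 : x * v * x⁻¹ = y * v * y⁻¹ := mul_right_cancel heq
            rw [← mul_inv_eq_iff_eq_mul, show x⁻¹ * y * v * (x⁻¹ * y)⁻¹ = x⁻¹ * (y * v * y⁻¹) * x by group,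
              ← heq2]
            group
          have hmem := hgen _ (key v1 hv1 (congrArg Prod.fst he)) (key v2 hv2 (congrArg Prod.snd he))
          rwa [MonoidHom.mem_ker, map_mul, map_inv, inv_mul_eq_one] at hmem
        have hcard : 4 ≤ Nat.card (H.map φ) := by
          obtain ⟨k, hk⟩ := IsPGroup.iff_card.1 ((hG.to_subgroup H).map φ)
          rw [hk] at hY ⊢
          have h2k : 2 ≤ k := by
            by_contra hcon
            interval_cases k <;> omega
          exact le_trans (by norm_num) (Nat.pow_le_pow_right two_pos h2k)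
        have hsur : ∀ y : H.map φ, ∃ x ∈ H, φ x = (y : Equiv.Perm (Fin 4)) := fun y => y.2
        choose s hs hsy using hsur
        have hinj : Function.Injective fun y => σ (s y) := fun y y' he => Subtype.ext (by
          rw [← hsy y, ← hsy y']
          exact hσ _ _ (fun v hv => or_iff_not_imp_left.2 (hmove _ (hs y) v hv))
            (fun v hv => or_iff_not_imp_left.2 (hmove _ (hs y') v hv)) he)
        haveI : Fintype (H.map φ) := Fintype.ofFinite _
        have hbij := (Fintype.bijective_iff_injective_and_card (fun y : H.map φ => σ (s y))).2 ⟨hinj, by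
          refine le_antisymm (Fintype.card_le_of_injective _ hinj) ?_
          rw [Fintype.card_prod, Fintype.card_bool, ← Nat.card_eq_fintype_card]
          exact hcard⟩
        obtain ⟨y, hy⟩ := hbij.2 (σ t)
        have he := hσ _ _ (fun v hv => or_iff_not_imp_left.2 (hmove _ (hs y) v hv)) ht hy
        have htH : t ∈ H := by
          have hm : (s y)⁻¹ * t ∈ φ.ker := by
            rw [MonoidHom.mem_ker, map_mul, map_inv, inv_mul_eq_one]; exact he
          have := H.mul_mem (hs y) (hUH hm)
          rwa [mul_inv_cancel_left] at this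
        exact four_le_card_inf hfsq (hBker hf) (commutator_mem_sq htH (hUH huker)) (hBker htu) hf1 htu1 htuf hG

end Cfsg.Agent.Harada
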