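import Cfsg.Agent.Lib.TwoGroups.HaradaSixteen
import Cfsg.Agent.Lib.TwoGroups.HaradaEight

/-!
A 2-group with a self-centralizing elementary abelian subgroup of order eight has sectional rank at most four.
-/

set_option autoImplicit false
set_option linter.style.haveILetI false

namespace Cfsg.Agent.Harada

open Cfsg.Agent.SquareGen

variable {G : Type*} [Group G] [Finite G]

theorem card_le_main (hG : IsPGroup 2 G) (A : Subgroup G) (hcomm : ∀ a ∈ A, ∀ b ∈ A, a * b = b * a)
    (hsq : ∀ a ∈ A, a * a = 1) (hA8 : Nat.card A = 8)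
    (hself : ∀ x : G, (∀ a ∈ A, a * x = x * a) → x ∈ A) (H : Subgroup G) :
    Nat.card H ≤ 16 * Nat.card (sq H) := by
  haveI : Fact (Nat.Prime 2) := ⟨Nat.prime_two⟩
  by_cases h16 : ∃ B : Subgroup G, NEA B ∧ 16 ≤ Nat.card B
  · obtain ⟨B, hB, hc⟩ := h16
    exact Ctx.card_le_sixteen (A := A) ⟨hG, hcomm, hsq, hA8, hself, hB⟩ hc H
  push Not at h16
  by_cases h8 : ∃ B : Subgroup G, NEA B ∧ 4 < Nat.card B
  · obtain ⟨B, hB, hc⟩ := h8
    have hlt := h16 B hB
    obtain ⟨k, hk⟩ := IsPGroup.iff_card.1 (hG.to_subgroup B)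
    have hk3 : k = 3 := by
      have h3 : k ≤ 3 := by
        by_contra hcon
        have := Nat.pow_le_pow_right two_pos (by omega : 4 ≤ k)
        omega
      interval_cases k <;> omega
    exact Ctx.card_le_eight (A := A) ⟨hG, hcomm, hsq, hA8, hself, hB⟩ (by rw [hk, hk3]; norm_num)
      (fun E hE he => absurd (h16 E hE) (by omega)) H
  · push Not at h8
    exact FourGen.card_le hG (fun E hn hc he => h8 E ⟨hn, fun a ha b hb =>
      congrArg Subtype.val (hc.is_comm.comm (⟨a, ha⟩ : E) ⟨b, hb⟩), fun a ha => by rw [← pow_two]; exact he a ha⟩) H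

end Cfsg.Agent.Harada
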