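import Cfsg.Agent.Lib.TwoGroups.HaradaBasic

/-!
The position of a self-centralizing elementary abelian subgroup of order eight relative to a normal
elementary abelian subgroup.
-/

set_option autoImplicit false
set_option linter.style.haveILetI false

namespace Cfsg.Agent.Harada

open Cfsg.Agent.SquareGen

variable {G : Type*} [Group G]

/-- The standing hypotheses. -/
structure Ctx (A B : Subgroup G) : Prop where
  isP : IsPGroup 2 G
  commA : ∀ a ∈ A, ∀ b ∈ A, a * b = b * a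
  sqA : ∀ a ∈ A, a * a = 1
  card8 : Nat.card A = 8
  self : ∀ x : G, (∀ a ∈ A, a * x = x * a) → x ∈ A
  nea : NEA B

theorem dev_mul_right (g v x : G) : dev g (v * x) = dev g v * (v * dev g x * v⁻¹) := by
  simp only [dev]; group

theorem dev_mul_left (g h x : G) : dev (g * h) x = g * dev h x * g⁻¹ * dev g x := by
  simp only [dev]; group

theorem conj_dev {g h : G} (hgh : g * h = h * g) (x : G) : h * dev g x * h⁻¹ = dev g (h * x * h⁻¹) := by
  have e : h * g * h⁻¹ = g := by rw [← hgh, mul_inv_cancel_right]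
  have e' : h * g⁻¹ * h⁻¹ = g⁻¹ := by rw [← conj_inv, e]
  calc h * dev g x * h⁻¹ = (h * g * h⁻¹) * (h * x * h⁻¹) * (h * g⁻¹ * h⁻¹) * (h * x * h⁻¹)⁻¹ := by
        simp only [dev]; group
    _ = dev g (h * x * h⁻¹) := by rw [e, e']; rfl

theorem dev_shift {B : Subgroup G} (hB : NEA B) {g v x : G} (hv : v ∈ B) (hx : dev g x ∈ B) :
    dev g (v * x) = dev g v * dev g x := by
  rw [dev_mul_right, hB.comm v hv _ hx, mul_inv_cancel_right]

theorem dev_shift_cent {B : Subgroup G} {g y x : G} (hy : ∀ v ∈ B, y * v = v * y) (hx : dev g x ∈ B) :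
    dev g (y * x) = dev g y * dev g x := by
  rw [dev_mul_right, hy _ hx, mul_inv_cancel_right]

theorem dev_mem_fix_of_mem {B : Subgroup G} (hB : NEA B) {g x : G} (hg : g * g = 1) (hx : dev g x ∈ B) :
    dev g x ∈ fix B g := by
  refine mem_fix.2 ⟨hx, ?_⟩
  have hgi : g⁻¹ = g := inv_eq_of_mul_eq_one_right hg
  have h1 : g * dev g x * g⁻¹ = (dev g x)⁻¹ := by
    rw [dev, hgi, show g * (g * x * g * x⁻¹) * g = (g * g) * x * g * x⁻¹ * g by group, hg, one_mul,
      mul_inv_rev, mul_inv_rev, mul_inv_rev, inv_inv, hgi]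
    group
  rw [hB.inv_eq hx, mul_inv_eq_iff_eq_mul] at h1
  exact h1

theorem pi_comm_iff (B : Subgroup G) [B.Normal] (t x : G) :
    QuotientGroup.mk' B t * QuotientGroup.mk' B x = QuotientGroup.mk' B x * QuotientGroup.mk' B t ↔
      dev t x ∈ B := by
  rw [← map_mul, ← map_mul, QuotientGroup.mk'_apply, QuotientGroup.mk'_apply,
    QuotientGroup.eq_iff_div_mem, div_eq_mul_inv, dev, mul_inv_rev, ← mul_assoc]

theorem adjust {B : Subgroup G} (hB : NEA B) {g x v : G} (hv : v ∈ B) (hx : dev g x ∈ B)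
    (h : dev g v = dev g x) : g * (v * x) = (v * x) * g :=
  dev_eq_one.1 (by rw [dev_shift hB hv hx, h, hB.sq _ hx])

/-- Two elements outside a subgroup of index two have product inside. -/
theorem mul_mem_of_card [Finite G] {B C : Subgroup G} (hle : B ≤ C) (hcard : Nat.card C = 2 * Nat.card B)
    {x y : G} (hx : x ∈ C) (hy : y ∈ C) (hxB : x ∉ B) (hyB : y ∉ B) : x * y ∈ B := by
  have h2 : (B.subgroupOf C).index = 2 := by
    have h := (B.subgroupOf C).index_mul_card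
    rw [Nat.card_congr (Subgroup.subgroupOfEquivOfLe hle).toEquiv, hcard] at h
    exact Nat.eq_of_mul_eq_mul_right Nat.card_pos h
  have := (Subgroup.mul_mem_iff_of_index_two h2 (a := (⟨x, hx⟩ : C)) (b := ⟨y, hy⟩)).2
    ⟨fun h => absurd (Subgroup.mem_subgroupOf.1 h) hxB, fun h => absurd (Subgroup.mem_subgroupOf.1 h) hyB⟩
  exact Subgroup.mem_subgroupOf.1 this

variable [Finite G]

theorem eq_pair {K : Subgroup G} (hK : Nat.card K = 2) {c x : G} (hc : c ∈ K) (hc1 : c ≠ 1) (hx : x ∈ K) :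
    x = 1 ∨ x = c := by
  classical
  by_contra hcon
  push Not at hcon
  have hsub : ({1, c, x} : Set G) ⊆ K := by
    rintro s (rfl | rfl | rfl)
    exacts [K.one_mem, hc, hx]
  have h := Set.ncard_le_ncard hsub (Set.toFinite _)
  rw [Set.ncard_insert_of_notMem (by simp [hc1.symm, hcon.1.symm]), Set.ncard_pair hcon.2.symm,
    ← Nat.card_coe_set_eq] at h
  exact absurd (h.trans_eq hK) (by norm_num)

theorem eq_quad {B K : Subgroup G} (hB : NEA B) (hle : K ≤ B) (hK : Nat.card K = 4) {c d x : G} (hc : c ∈ K)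
    (hd : d ∈ K) (hc1 : c ≠ 1) (hd1 : d ≠ 1) (hcd : d ≠ c) (hx : x ∈ K) :
    x = 1 ∨ x = c ∨ x = d ∨ x = c * d := by
  classical
  by_contra hcon
  push Not at hcon
  obtain ⟨h1, h2, h3, h4⟩ := hcon
  have hsub : ({x, 1, c, d, c * d} : Set G) ⊆ K := by
    rintro s (rfl | rfl | rfl | rfl | rfl)
    exacts [hx, K.one_mem, hc, hd, K.mul_mem hc hd]
  have h := Set.ncard_le_ncard hsub (Set.toFinite _)
  have e1 : c * d ≠ 1 := fun h => hcd (by
    rw [← one_mul c, ← h, hB.comm c (hle hc) d (hle hd), mul_assoc, hB.sq c (hle hc), mul_one])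
  have e2 : c ≠ c * d := fun h => hd1 (left_eq_mul.1 h)
  have e3 : d ≠ c * d := fun h => hc1 (right_eq_mul.1 h)
  rw [Set.ncard_insert_of_notMem (by simp [h1, h2, h3, h4]),
    Set.ncard_insert_of_notMem (by simp [hc1.symm, hd1.symm, e1.symm]),
    Set.ncard_insert_of_notMem (by simp [hcd.symm, e2]), Set.ncard_pair e3, ← Nat.card_coe_set_eq] at h
  exact absurd (h.trans_eq hK) (by norm_num)

theorem le_four_of_le_seven (hG : IsPGroup 2 G) {K : Subgroup G} (h : Nat.card K ≤ 7) : Nat.card K ≤ 4 := by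
  haveI : Fact (Nat.Prime 2) := ⟨Nat.prime_two⟩
  obtain ⟨k, hk⟩ := IsPGroup.iff_card.1 (hG.to_subgroup K)
  rw [hk] at h ⊢
  have h3 : k ≤ 2 := by
    by_contra hcon
    have := Nat.pow_le_pow_right two_pos (by omega : 3 ≤ k)
    omega
  exact le_trans (Nat.pow_le_pow_right two_pos h3) (by norm_num)

theorem four_le_of_three_le (hG : IsPGroup 2 G) {K : Subgroup G} (h : 3 ≤ Nat.card K) : 4 ≤ Nat.card K := by
  haveI : Fact (Nat.Prime 2) := ⟨Nat.prime_two⟩
  obtain ⟨k, hk⟩ := IsPGroup.iff_card.1 (hG.to_subgroup K)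
  rw [hk] at h ⊢
  have h3 : 2 ≤ k := by
    by_contra hcon
    interval_cases k <;> simp at h
  exact le_trans (by norm_num) (Nat.pow_le_pow_right two_pos h3)

theorem card_le_of_dev {B F : Subgroup G} (hB : NEA B) (hF : F ≤ B) (g : G) {Q Q' : Subgroup G}
    (h1 : ∀ v ∈ F, dev g v ∈ Q) (h2 : ∀ v ∈ F, g * v = v * g → v ∈ Q') :
    Nat.card F ≤ Nat.card Q * Nat.card Q' := by
  set f := (devHom hB g).comp (Subgroup.inclusion hF)
  rw [f.ker.card_eq_card_quotient_mul_card_subgroup,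
    Nat.card_congr (QuotientGroup.quotientKerEquivRange f).toEquiv]
  refine Nat.mul_le_mul (Subgroup.card_le_of_le ?_) (Nat.card_le_card_of_injective
    (fun v => (⟨v.1.1, h2 _ v.1.2 (dev_eq_one.1 v.2)⟩ : Q'))
    fun v w h => Subtype.ext (Subtype.ext (congrArg (fun z : Q' => (z : G)) h)))
  rintro _ ⟨v, rfl⟩
  exact h1 _ v.2

namespace Ctx

variable {A B : Subgroup G} (C : Ctx A B)

include C

theorem inv_eq {a : G} (ha : a ∈ A) : a⁻¹ = a := inv_eq_of_mul_eq_one_right (C.sqA a ha)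

theorem exists_central (hne : B ≠ ⊥) : ∃ c ∈ B, c ≠ 1 ∧ ∀ g : G, g * c = c * g := by
  haveI := C.nea.normal
  haveI : Fact (Nat.Prime 2) := ⟨Nat.prime_two⟩
  haveI := C.isP.isNilpotent
  obtain ⟨c, hc, hc1⟩ := (Subgroup.bot_or_exists_ne_one _).resolve_left (SolvStruct.inf_center_ne_bot hne)
  exact ⟨c, hc.1, hc1, Subgroup.mem_center_iff.1 hc.2⟩

theorem central_mem {c : G} (hc : ∀ g : G, g * c = c * g) : c ∈ A := C.self c fun a _ => hc a

theorem inf_card (hne : B ≠ ⊥) :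
    Nat.card (A ⊓ B : Subgroup G) = 2 ∨ Nat.card (A ⊓ B : Subgroup G) = 4 ∨ A ≤ B := by
  have hd := Subgroup.card_dvd_of_le (inf_le_left : A ⊓ B ≤ A)
  rw [C.card8] at hd
  obtain ⟨k, hk, hk'⟩ := (Nat.dvd_prime_pow Nat.prime_two).1 (show _ ∣ 2 ^ 3 from hd)
  obtain ⟨c, hcB, hc1, hc⟩ := C.exists_central hne
  have hgt : 1 < Nat.card (A ⊓ B : Subgroup G) := by
    rw [Finite.one_lt_card_iff_nontrivial, Subgroup.nontrivial_iff_ne_bot]
    intro h
    have hm : c ∈ A ⊓ B := ⟨C.central_mem hc, hcB⟩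
    rw [h, Subgroup.mem_bot] at hm
    exact hc1 hm
  interval_cases k
  · omega
  · exact Or.inl hk'
  · exact Or.inr (Or.inl hk')
  · refine Or.inr (Or.inr ?_)
    have := Subgroup.eq_of_le_of_card_ge (inf_le_left : A ⊓ B ≤ A) (by rw [C.card8, hk']; norm_num)
    exact this ▸ inf_le_right

/-- The position `|A ⊓ B| = 4`. -/
theorem exists_one (h4 : Nat.card (A ⊓ B : Subgroup G) = 4) : ∃ t ∈ A, t ∉ B ∧
    (∀ a ∈ A, a ∈ B ∨ t * a ∈ B) ∧ (∀ x : G, t * x = x * t → (∀ p ∈ A ⊓ B, p * x = x * p) → x ∈ A) ∧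
      fix B t = A ⊓ B := by
  obtain ⟨t, htA, htB⟩ : ∃ t ∈ A, t ∉ B := by
    by_contra hcon
    push Not at hcon
    rw [inf_eq_left.2 (fun a ha => hcon a ha), C.card8] at h4
    omega
  have hcov : ∀ a ∈ A, a ∈ B ∨ t * a ∈ B := fun a ha => or_iff_not_imp_left.2 fun haB =>
    (mul_mem_of_card (inf_le_left : A ⊓ B ≤ A) (by rw [C.card8, h4]) htA ha (fun h => htB h.2)
      (fun h => haB h.2)).2
  have hself : ∀ x : G, t * x = x * t → (∀ p ∈ A ⊓ B, p * x = x * p) → x ∈ A := by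
    intro x hx hp
    refine C.self x fun a ha => ?_
    rcases hcov a ha with h | h
    · exact hp a ⟨ha, h⟩
    · have e : a = t * (t * a) := by rw [← mul_assoc, C.sqA t htA, one_mul]
      rw [e]
      exact ((show Commute t x from hx).mul_left (show Commute (t * a) x from hp _ ⟨A.mul_mem htA ha, h⟩)).eq
  refine ⟨t, htA, htB, hcov, hself, le_antisymm (fun v hv => ?_) fun v hv => ?_⟩
  · obtain ⟨hvB, hvt⟩ := mem_fix.1 hv
    exact ⟨hself v hvt fun p hp => C.nea.comm p hp.2 v hvB, hvB⟩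
  · exact mem_fix.2 ⟨hv.2, C.commA t htA v hv.1⟩

/-- The position `|A ⊓ B| = 2`. -/
theorem exists_two (h2 : Nat.card (A ⊓ B : Subgroup G) = 2) : ∃ a ∈ A, ∃ b ∈ A, a ∉ B ∧ b ∉ B ∧ a * b ∉ B ∧
    (∀ x ∈ A, x ∈ B ∨ a * x ∈ B ∨ b * x ∈ B ∨ a * b * x ∈ B) := by
  classical
  obtain ⟨a, haA, haB⟩ : ∃ a ∈ A, a ∉ B := by
    by_contra hcon
    push Not at hcon
    rw [inf_eq_left.2 (fun a ha => hcon a ha), C.card8] at h2
    omega
  obtain ⟨b, hbA, hbB, habB⟩ : ∃ b ∈ A, b ∉ B ∧ a * b ∉ B := by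
    by_contra hcon
    push Not at hcon
    have hsub : (A : Set G) ⊆ ((A ⊓ B : Subgroup G) : Set G) ∪ (fun p => a * p) '' ((A ⊓ B : Subgroup G) : Set G) := by
      intro x hx
      by_cases hxB : x ∈ B
      · exact Or.inl ⟨hx, hxB⟩
      · exact Or.inr ⟨a * x, ⟨A.mul_mem haA hx, hcon x hx hxB⟩, by
          show a * (a * x) = x
          rw [← mul_assoc, C.sqA a haA, one_mul]⟩
    have h := (Set.ncard_le_ncard hsub (Set.toFinite _)).trans ((Set.ncard_union_le _ _).trans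
      (Nat.add_le_add_left (Set.ncard_image_le (Set.toFinite _)) _))
    rw [← Nat.card_coe_set_eq, ← Nat.card_coe_set_eq] at h
    change Nat.card A ≤ Nat.card (A ⊓ B : Subgroup G) + Nat.card (A ⊓ B : Subgroup G) at h
    rw [C.card8, h2] at h
    omega
  refine ⟨a, haA, b, hbA, haB, hbB, habB, fun x hx => ?_⟩
  let K : Subgroup G :=
    { carrier := {y | y ∈ A ∧ (y ∈ B ∨ a * y ∈ B)}
      one_mem' := ⟨A.one_mem, Or.inl B.one_mem⟩
      inv_mem' := fun {y} hy => by rw [Set.mem_setOf_eq, C.inv_eq hy.1]; exact hy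
      mul_mem' := fun {y z} hy hz => ⟨A.mul_mem hy.1 hz.1, by
        rcases hy.2 with h | h <;> rcases hz.2 with h' | h'
        · exact Or.inl (B.mul_mem h h')
        · refine Or.inr ?_
          rw [← mul_assoc, C.commA a haA y hy.1, mul_assoc]
          exact B.mul_mem h h'
        · refine Or.inr ?_
          rw [← mul_assoc]
          exact B.mul_mem h h'
        · refine Or.inl ?_
          have e : y * z = a * y * (a * z) := by
            rw [mul_assoc, ← mul_assoc y, C.commA y hy.1 a haA, mul_assoc a y, ← mul_assoc a a, C.sqA a haA, one_mul]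
          rw [e]
          exact B.mul_mem h h'⟩ }
  have hbK : b ∉ K := fun h => h.2.elim hbB habB
  have hK : Nat.card K = 4 := by
    refine le_antisymm (le_four_of_le_seven C.isP ?_) (four_le_of_three_le C.isP ?_)
    · have hle : K ≤ A := fun y hy => hy.1
      have hlt : Nat.card K < Nat.card A := lt_of_le_of_ne (Subgroup.card_le_of_le hle) fun h =>
        hbK (by rw [Subgroup.eq_of_le_of_card_ge hle h.ge]; exact hbA)
      rw [C.card8] at hlt
      omega
    · have hle : A ⊓ B ≤ K := fun y hy => ⟨hy.1, Or.inl hy.2⟩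
      have haK : a ∈ K := ⟨haA, Or.inr (by rw [C.sqA a haA]; exact B.one_mem)⟩
      have hlt : Nat.card (A ⊓ B : Subgroup G) < Nat.card K :=
        lt_of_le_of_ne (Subgroup.card_le_of_le hle) fun h =>
          haB (by
            have e := Subgroup.eq_of_le_of_card_ge hle h.ge
            rw [← e] at haK
            exact haK.2)
      omega
  by_cases hxK : x ∈ K
  · rcases hxK.2 with h | h
    exacts [Or.inl h, Or.inr (Or.inl h)]
  · rcases (mul_mem_of_card (fun y hy => hy.1 : K ≤ A) (by rw [C.card8, hK]) hbA hx hbK hxK).2 with h | h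
    exacts [Or.inr (Or.inr (Or.inl h)), Or.inr (Or.inr (Or.inr (by rw [mul_assoc]; exact h)))]

theorem self_two {a b : G} (haA : a ∈ A) (hbA : b ∈ A)
    (hcov : ∀ x ∈ A, x ∈ B ∨ a * x ∈ B ∨ b * x ∈ B ∨ a * b * x ∈ B) {x : G} (hax : a * x = x * a)
    (hbx : b * x = x * b) (hp : ∀ p ∈ A ⊓ B, p * x = x * p) : x ∈ A := by
  refine C.self x fun y hy => ?_
  have hc : ∀ s ∈ A, s * x = x * s → s * y ∈ B → y * x = x * y := fun s hs hsx hsy => by
    have e : y = s * (s * y) := by rw [← mul_assoc, C.sqA s hs, one_mul]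
    rw [e]
    exact ((show Commute s x from hsx).mul_left (show Commute (s * y) x from hp _ ⟨A.mul_mem hs hy, hsy⟩)).eq
  rcases hcov y hy with h | h | h | h
  · exact hp y ⟨hy, h⟩
  · exact hc a haA hax h
  · exact hc b hbA hbx h
  · exact hc _ (A.mul_mem haA hbA) ((show Commute a x from hax).mul_left (show Commute b x from hbx)).eq h

theorem fix_inf_eq {a b : G} (haA : a ∈ A) (hbA : b ∈ A)
    (hcov : ∀ x ∈ A, x ∈ B ∨ a * x ∈ B ∨ b * x ∈ B ∨ a * b * x ∈ B) {v : G} (hv : v ∈ fix B a)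
    (hvb : b * v = v * b) : v ∈ A ⊓ B := by
  obtain ⟨hvB, hva⟩ := mem_fix.1 hv
  exact ⟨C.self_two haA hbA hcov hva hvb fun p hp => C.nea.comm p hp.2 v hvB, hvB⟩

theorem card_fix_le {a b : G} (haA : a ∈ A) (hbA : b ∈ A)
    (hcov : ∀ x ∈ A, x ∈ B ∨ a * x ∈ B ∨ b * x ∈ B ∨ a * b * x ∈ B) :
    Nat.card (fix B a) ≤ Nat.card (A ⊓ B : Subgroup G) * Nat.card (A ⊓ B : Subgroup G) := by
  refine card_le_of_dev C.nea inf_le_left b (fun v hv => ?_) fun v hv h => C.fix_inf_eq haA hbA hcov hv h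
  obtain ⟨hvB, hva⟩ := mem_fix.1 hv
  obtain ⟨hdB, hdb⟩ := mem_fix.1 (dev_mem_fix C.nea (C.sqA b hbA) hvB)
  refine C.fix_inf_eq haA hbA hcov (mem_fix.2 ⟨hdB, ?_⟩) hdb
  have := conj_dev (C.commA b hbA a haA) v
  rw [hva, mul_inv_cancel_right] at this
  exact mul_inv_eq_iff_eq_mul.1 this

theorem cover_swap {a b : G} (haA : a ∈ A) (hbA : b ∈ A)
    (hcov : ∀ x ∈ A, x ∈ B ∨ a * x ∈ B ∨ b * x ∈ B ∨ a * b * x ∈ B) :
    ∀ x ∈ A, x ∈ B ∨ b * x ∈ B ∨ a * x ∈ B ∨ b * a * x ∈ B := by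
  intro x hx
  rw [C.commA b hbA a haA]
  rcases hcov x hx with h | h | h | h
  exacts [Or.inl h, Or.inr (Or.inr (Or.inl h)), Or.inr (Or.inl h), Or.inr (Or.inr (Or.inr h))]

theorem cover_shift {a b : G} (haA : a ∈ A) (hbA : b ∈ A)
    (hcov : ∀ x ∈ A, x ∈ B ∨ a * x ∈ B ∨ b * x ∈ B ∨ a * b * x ∈ B) :
    ∀ x ∈ A, x ∈ B ∨ a * b * x ∈ B ∨ b * x ∈ B ∨ a * b * b * x ∈ B := by
  intro x hx
  rw [mul_assoc a b b, C.sqA b hbA, mul_one]
  rcases hcov x hx with h | h | h | h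
  exacts [Or.inl h, Or.inr (Or.inr (Or.inr h)), Or.inr (Or.inr (Or.inl h)), Or.inr (Or.inl h)]

end Ctx

end Cfsg.Agent.Harada
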