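import Cfsg.Agent.Lib.TwoGroups.HaradaSetup

/-!
The bound when there is a normal elementary abelian subgroup of order at least sixteen.
-/

set_option autoImplicit false
set_option linter.style.haveILetI false

namespace Cfsg.Agent.Harada

open Cfsg.Agent.SquareGen

variable {G : Type*} [Group G] [Finite G]

theorem orderOf_mk {B : Subgroup G} [B.Normal] {t : G} (ht : t * t = 1) (htB : t ∉ B) :
    orderOf (QuotientGroup.mk' B t) = 2 := by
  haveI : Fact (Nat.Prime 2) := ⟨Nat.prime_two⟩
  refine orderOf_eq_prime (by rw [pow_two, ← map_mul, ht, map_one]) fun h => htB ?_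
  rwa [QuotientGroup.mk'_apply, QuotientGroup.eq_one_iff] at h

theorem fix_eq_of_mk_eq {B : Subgroup G} (hB : NEA B) [B.Normal] {g h : G}
    (he : QuotientGroup.mk' B g = QuotientGroup.mk' B h) : fix B g = fix B h := by
  obtain ⟨b, hb, rfl⟩ := (QuotientGroup.mk'_eq_mk' B).1 he
  ext v
  rw [mem_fix, mem_fix]
  refine and_congr_right fun hv => ?_
  rw [mul_assoc g b v, hB.comm b hb v hv, ← mul_assoc g v b, ← mul_assoc v g b]
  exact (mul_right_cancel_iff).symm

namespace Ctx

variable {A B : Subgroup G} (C : Ctx A B)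

include C

theorem sixteen_four (h16 : 16 ≤ Nat.card B) (h4 : Nat.card (A ⊓ B : Subgroup G) = 4) :
    haveI := C.nea.normal
    Nat.card B = 16 ∧ RankTwo (G ⧸ B) ∧ ∀ g : G, g ∉ B → (∀ y : G, dev g y ∈ B) → Nat.card (fix B g) ≤ 4 := by
  classical
  haveI := C.nea.normal
  obtain ⟨t, htA, htB, hcov, hself, hfix⟩ := C.exists_one h4
  have hfix4 : Nat.card (fix B t) = 4 := by rw [hfix, h4]
  have hB : Nat.card B = 16 := by
    refine le_antisymm ?_ h16
    have := card_le_fix_sq C.nea (C.sqA t htA)
    rw [hfix4] at this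
    omega
  have him : (devHom C.nea t).range = fix B t := by
    refine Subgroup.eq_of_le_of_card_ge ?_ ?_
    · rintro _ ⟨v, rfl⟩
      exact dev_mem_fix C.nea (C.sqA t htA) v.2
    · have := card_range_mul C.nea t
      rw [hB, hfix4] at this
      omega
  have hadj : ∀ x : G, dev t x ∈ B → ∃ v ∈ B, t * (v * x) = (v * x) * t := by
    intro x hx
    have hm := dev_mem_fix_of_mem C.nea (C.sqA t htA) hx
    rw [← him] at hm
    obtain ⟨v, hv⟩ := hm
    exact ⟨v, v.2, adjust C.nea v.2 hx hv⟩
  obtain ⟨c, hcB, hc1, hc⟩ := C.exists_central (fun h => by rw [h, Subgroup.card_bot] at hB; omega)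
  have hcP : c ∈ A ⊓ B := ⟨C.central_mem hc, hcB⟩
  obtain ⟨g, hgP, hg1, hgc⟩ : ∃ g ∈ A ⊓ B, g ≠ 1 ∧ g ≠ c := by
    by_contra hcon
    push Not at hcon
    have hsub : ((A ⊓ B : Subgroup G) : Set G) ⊆ {1, c} := fun x hx => by
      by_cases h : x = 1
      · exact Or.inl h
      · exact Or.inr (hcon x hx h)
    have h := Set.ncard_le_ncard hsub (Set.toFinite _)
    rw [Set.ncard_pair hc1.symm, ← Nat.card_coe_set_eq] at h
    exact absurd (h4.symm.le.trans h) (by norm_num)
  have hquad := fun x (hx : x ∈ A ⊓ B) => eq_quad C.nea inf_le_right h4 hcP hgP hc1 hg1 hgc hx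
  have hfixg : ∀ w : G, t * w = w * t → w * g = g * w → w ∈ A := by
    intro w hw hg
    refine hself w hw fun p hp => ?_
    rcases hquad p hp with rfl | rfl | rfl | rfl
    · rw [one_mul, mul_one]
    · exact (hc w).symm
    · exact hg.symm
    · exact ((show Commute c w from (hc w).symm).mul_left (show Commute g w from hg.symm)).eq
  have hmove : ∀ w : G, t * w = w * t → w ∉ A → w * g * w⁻¹ = c * g := by
    intro w hw hwA
    have hmem : w * g * w⁻¹ ∈ A ⊓ B := by
      rw [← hfix, mem_fix]
      refine ⟨C.nea.normal.conj_mem g hgP.2 w, ?_⟩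
      have hgt : Commute t g := C.commA t htA g hgP.1
      exact (((show Commute t w from hw).mul_right hgt).mul_right (show Commute t w from hw).inv_right).eq
    rcases hquad _ hmem with h | h | h | h
    · exact absurd (conj_eq_one_iff.1 h) hg1
    · refine absurd ?_ hgc
      rw [← mul_inv_cancel_right g w⁻¹] at h
      rw [mul_inv_eq_iff_eq_mul] at h
      rw [← hc w] at h
      have := mul_left_cancel (a := w) (b := g) (c := c) (by simpa using h)
      exact this
    · exact absurd (hfixg w hw (mul_inv_eq_iff_eq_mul.1 h)) hwA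
    · exact h
  have hsmall : ∀ w : G, t * w = w * t → w ∉ A → Nat.card (fix B w) ≤ 4 := by
    intro w hw hwA
    refine le_four_of_le_seven C.isP ?_
    have h1 := card_range_mul C.nea w
    rw [hB] at h1
    have h3 : 3 ≤ Nat.card (devHom C.nea w).range := by
      by_contra hcon
      have hcmem : c ∈ (devHom C.nea w).range := ⟨⟨g, hgP.2⟩, by
        show dev w g = c
        rw [dev, hmove w hw hwA, mul_inv_cancel_right]⟩
      have h2 : Nat.card (devHom C.nea w).range = 2 := by
        have hne : 1 < Nat.card (devHom C.nea w).range := by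
          rw [Finite.one_lt_card_iff_nontrivial, Subgroup.nontrivial_iff_ne_bot]
          intro h
          rw [h, Subgroup.mem_bot] at hcmem
          exact hc1 hcmem
        omega
      have hct : c * t = t * c := (hc t).symm
      refine hwA (hfixg w hw ?_)
      have hgim : g ∈ (devHom C.nea t).range := by rw [him, hfix]; exact hgP
      obtain ⟨v, hv⟩ := hgim
      have hv' : dev t v = g := hv
      have hd : dev w v = 1 ∨ dev w v = c := eq_pair h2 hcmem hc1 ⟨v, rfl⟩
      have e : w * (v : G) * w⁻¹ = dev w v * v := by rw [dev, inv_mul_cancel_right]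
      have e2 : w * g * w⁻¹ = g := by
        rw [← hv', conj_dev hw, e]
        rcases hd with h | h <;> rw [h]
        · rw [one_mul]
        · rw [dev_shift C.nea hcB (dev_mem C.nea t v.2), dev_eq_one.2 hct.symm, one_mul]
      exact mul_inv_eq_iff_eq_mul.1 e2
    have := Nat.mul_le_mul_right (Nat.card (fix B w)) h3
    omega
  have htwo : ∀ w w' : G, t * w = w * t → w ∉ A → t * w' = w' * t → w' ∉ A → w⁻¹ * w' ∈ A := by
    intro w w' hw hwA hw' hwA'
    refine hfixg _ (((show Commute t w from hw).inv_right).mul_right (show Commute t w' from hw')).eq ?_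
    have e1 := hmove w hw hwA
    have e2 := hmove w' hw' hwA'
    rw [← mul_inv_eq_iff_eq_mul]
    calc w⁻¹ * w' * g * (w⁻¹ * w')⁻¹ = w⁻¹ * (w' * g * w'⁻¹) * w := by group
      _ = g := by rw [e2, ← e1]; group
  have hcoset : ∀ x : G, dev t x ∈ B → QuotientGroup.mk' B x = 1 ∨ QuotientGroup.mk' B x = QuotientGroup.mk' B t ∨
      ∃ w : G, t * w = w * t ∧ w ∉ A ∧ QuotientGroup.mk' B x = QuotientGroup.mk' B w := by
    intro x hx
    obtain ⟨v, hv, hvx⟩ := hadj x hx
    have e : QuotientGroup.mk' B x = QuotientGroup.mk' B (v * x) := by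
      rw [map_mul, QuotientGroup.mk'_apply B v, (QuotientGroup.eq_one_iff v).2 hv, one_mul]
    by_cases hA : v * x ∈ A
    · rcases hcov _ hA with h | h
      · left; rw [e, QuotientGroup.mk'_apply, (QuotientGroup.eq_one_iff _).2 h]
      · right; left
        rw [e, QuotientGroup.mk'_eq_mk']
        refine ⟨t * (v * x), h, ?_⟩
        rw [← mul_assoc, ← hvx, mul_assoc, C.sqA _ hA, mul_one]
    · exact Or.inr (Or.inr ⟨v * x, hvx, hA, e⟩)
  refine ⟨hB, ?_, ?_⟩
  · refine rankTwo_of_centralizer (C.isP.to_quotient B) (orderOf_mk (C.sqA t htA) htB) ?_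
    by_cases hex : ∃ w : G, t * w = w * t ∧ w ∉ A
    · obtain ⟨w, hw, hwA⟩ := hex
      have hsub : (Subgroup.centralizer ({QuotientGroup.mk' B t} : Set (G ⧸ B)) : Set (G ⧸ B)) ⊆
          {1, QuotientGroup.mk' B t, QuotientGroup.mk' B w, QuotientGroup.mk' B w * QuotientGroup.mk' B t} := by
        intro y hy
        obtain ⟨x, rfl⟩ := QuotientGroup.mk'_surjective B y
        have hx := (pi_comm_iff B t x).1 (Subgroup.mem_centralizer_singleton_iff.1 hy).symm
        rcases hcoset x hx with h | h | ⟨w', hw', hwA', h⟩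
        · exact Or.inl h
        · exact Or.inr (Or.inl h)
        · rw [h]
          have hm := htwo w w' hw hwA hw' hwA'
          rcases hcov _ hm with hh | hh
          · refine Or.inr (Or.inr (Or.inl ?_))
            exact ((QuotientGroup.mk'_eq_mk' B).2 ⟨_, hh, mul_inv_cancel_left w w'⟩).symm
          · refine Or.inr (Or.inr (Or.inr ?_))
            show QuotientGroup.mk' B w' = _
            rw [← map_mul, eq_comm, QuotientGroup.mk'_eq_mk']
            refine ⟨t * (w⁻¹ * w'), hh, ?_⟩
            rw [mul_assoc w t, ← mul_assoc t t, C.sqA t htA, one_mul, mul_inv_cancel_left]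
      refine (Set.ncard_le_ncard hsub (Set.toFinite _)).trans ?_
      refine (Set.ncard_insert_le _ _).trans ?_
      refine Nat.succ_le_succ ((Set.ncard_insert_le _ _).trans ?_)
      exact Nat.succ_le_succ ((Set.ncard_insert_le _ _).trans (by rw [Set.ncard_singleton]))
    · have hsub : (Subgroup.centralizer ({QuotientGroup.mk' B t} : Set (G ⧸ B)) : Set (G ⧸ B)) ⊆
          {1, QuotientGroup.mk' B t} := by
        intro y hy
        obtain ⟨x, rfl⟩ := QuotientGroup.mk'_surjective B y
        have hx := (pi_comm_iff B t x).1 (Subgroup.mem_centralizer_singleton_iff.1 hy).symm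
        rcases hcoset x hx with h | h | ⟨w', hw', hwA', h⟩
        · exact Or.inl h
        · exact Or.inr h
        · exact absurd ⟨w', hw', hwA'⟩ hex
      refine (Set.ncard_le_ncard hsub (Set.toFinite _)).trans ?_
      exact (Set.ncard_insert_le _ _).trans (by rw [Set.ncard_singleton]; norm_num)
  · intro z hzB hz
    have hzt : dev t z ∈ B := (pi_comm_iff B t z).1 ((pi_comm_iff B z t).2 (hz t)).symm
    rcases hcoset z hzt with h | h | ⟨w, hw, hwA, h⟩
    · rw [QuotientGroup.mk'_apply, QuotientGroup.eq_one_iff] at h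
      exact absurd h hzB
    · rw [fix_eq_of_mk_eq C.nea h, hfix4]
    · rw [fix_eq_of_mk_eq C.nea h]
      exact hsmall w hw hwA

theorem sixteen_two (h16 : 16 ≤ Nat.card B) (h2 : Nat.card (A ⊓ B : Subgroup G) = 2) :
    haveI := C.nea.normal
    Nat.card B = 16 ∧ RankTwo (G ⧸ B) ∧ ∀ g : G, g ∉ B → (∀ y : G, dev g y ∈ B) → Nat.card (fix B g) ≤ 4 := by
  classical
  haveI := C.nea.normal
  obtain ⟨a, haA, b, hbA, haB, hbB, habB, hcov⟩ := C.exists_two h2
  have hfa : Nat.card (fix B a) ≤ 4 := (C.card_fix_le haA hbA hcov).trans (by rw [h2])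
  have hfb : Nat.card (fix B b) ≤ 4 :=
    (C.card_fix_le hbA haA (C.cover_swap haA hbA hcov)).trans (by rw [h2])
  have hfab : Nat.card (fix B (a * b)) ≤ 4 :=
    (C.card_fix_le (A.mul_mem haA hbA) hbA (C.cover_shift haA hbA hcov)).trans (by rw [h2])
  have hB : Nat.card B = 16 := by
    refine le_antisymm ?_ h16
    have := card_le_fix_sq C.nea (C.sqA a haA)
    nlinarith
  have hfa4 : Nat.card (fix B a) = 4 := by
    refine le_antisymm hfa (le_of_not_gt fun hlt => ?_)
    have := card_le_fix_sq C.nea (C.sqA a haA)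
    rw [hB] at this
    nlinarith
  have hima : (devHom C.nea a).range = fix B a := by
    refine Subgroup.eq_of_le_of_card_ge ?_ ?_
    · rintro _ ⟨v, rfl⟩
      exact dev_mem_fix C.nea (C.sqA a haA) v.2
    · have := card_range_mul C.nea a
      rw [hB, hfa4] at this
      omega
  -- a commutator of `b` with a point fixed by `a`
  obtain ⟨v₀, hv₀, hv₀n⟩ : ∃ v ∈ fix B a, v ∉ A ⊓ B := by
    by_contra hcon
    push Not at hcon
    have := Subgroup.card_le_of_le (hcon : fix B a ≤ A ⊓ B)
    omega
  obtain ⟨hv₀B, hv₀a⟩ := mem_fix.1 hv₀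
  set c := dev b v₀ with hcdef
  have hc1 : c ≠ 1 := fun h => hv₀n (C.fix_inf_eq haA hbA hcov hv₀ (dev_eq_one.1 h))
  have hinf : ∀ x : G, dev b x ∈ B → a * x = x * a → dev b x ∈ A ⊓ B := by
    intro x hx hax
    obtain ⟨hdB, hdb⟩ := mem_fix.1 (dev_mem_fix_of_mem C.nea (C.sqA b hbA) hx)
    refine C.fix_inf_eq haA hbA hcov (mem_fix.2 ⟨hdB, ?_⟩) hdb
    have := conj_dev (C.commA b hbA a haA) x
    rw [hax, mul_inv_cancel_right] at this
    exact mul_inv_eq_iff_eq_mul.1 this
  have hcP : c ∈ A ⊓ B := hinf v₀ (dev_mem C.nea b hv₀B) hv₀a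
  have hlift : ∀ x : G, dev a x ∈ B → dev b x ∈ B → ∃ y ∈ A, ∃ v ∈ B, y = v * x := by
    intro x hxa hxb
    have hm := dev_mem_fix_of_mem C.nea (C.sqA a haA) hxa
    rw [← hima] at hm
    obtain ⟨v, hv⟩ := hm
    have h1 := adjust C.nea v.2 hxa hv
    have hxb' : dev b ((v : G) * x) ∈ B := by
      rw [dev_shift C.nea v.2 hxb]
      exact B.mul_mem (dev_mem C.nea b v.2) hxb
    have hp : ∀ (s : G), s ∈ B → a * (s * ((v : G) * x)) = s * ((v : G) * x) * a →
        b * (s * ((v : G) * x)) = s * ((v : G) * x) * b → s * ((v : G) * x) ∈ A := by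
      intro s hs e1 e2
      refine C.self_two haA hbA hcov e1 e2 fun p hp => ?_
      rcases eq_pair h2 hcP hc1 hp with rfl | rfl
      · rw [one_mul, mul_one]
      · obtain ⟨d, hdB, hd1, hd⟩ := C.exists_central (fun h => by rw [h, Subgroup.card_bot] at hB; omega)
        rcases eq_pair h2 hcP hc1 ⟨C.central_mem hd, hdB⟩ with h | h
        · exact absurd h hd1
        · rw [← h]; exact (hd _).symm
    rcases eq_pair h2 hcP hc1 (hinf _ hxb' h1) with h | h
    · refine ⟨_, hp 1 B.one_mem (by simpa using h1) (by simpa using dev_eq_one.1 h), v, v.2, one_mul _⟩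
    · have h1' : a * (v₀ * ((v : G) * x)) = v₀ * ((v : G) * x) * a :=
        ((show Commute a v₀ from hv₀a).mul_right (show Commute a ((v : G) * x) from h1)).eq
      exact ⟨_, hp v₀ hv₀B h1' (adjust C.nea hv₀B hxb' h.symm), v₀ * v, B.mul_mem hv₀B v.2,
        (mul_assoc _ _ _).symm⟩
  have hclass : ∀ x : G, dev a x ∈ B → dev b x ∈ B → QuotientGroup.mk' B x = 1 ∨
      QuotientGroup.mk' B x = QuotientGroup.mk' B a ∨ QuotientGroup.mk' B x = QuotientGroup.mk' B b ∨
        QuotientGroup.mk' B x = QuotientGroup.mk' B (a * b) := by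
    intro x hxa hxb
    obtain ⟨y, hy, v, hv, hyv⟩ := hlift x hxa hxb
    have e : QuotientGroup.mk' B x = QuotientGroup.mk' B y := by
      rw [hyv, map_mul, QuotientGroup.mk'_apply B v, (QuotientGroup.eq_one_iff v).2 hv, one_mul]
    rw [e]
    have key : ∀ s ∈ A, s * y ∈ B → QuotientGroup.mk' B y = QuotientGroup.mk' B s := fun s hs hsy =>
      ((QuotientGroup.mk'_eq_mk' B).2 ⟨s * y, hsy, by rw [← mul_assoc, C.sqA s hs, one_mul]⟩).symm
    rcases hcov y hy with h | h | h | h
    · left; rw [QuotientGroup.mk'_apply, (QuotientGroup.eq_one_iff _).2 h]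
    · exact Or.inr (Or.inl (key a haA h))
    · exact Or.inr (Or.inr (Or.inl (key b hbA h)))
    · exact Or.inr (Or.inr (Or.inr (key _ (A.mul_mem haA hbA) h)))
  refine ⟨hB, ?_, fun z hzB hz => ?_⟩
  · refine rankTwo_of_four (C.isP.to_quotient B) (a := QuotientGroup.mk' B a) (b := QuotientGroup.mk' B b)
      (by rw [← map_mul, C.sqA a haA, map_one]) (by rw [← map_mul, C.sqA b hbA, map_one])
      (by rw [← map_mul, ← map_mul, C.commA a haA b hbA])
      (fun h => haB (by rwa [QuotientGroup.mk'_apply, QuotientGroup.eq_one_iff] at h))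
      (fun h => hbB (by rwa [QuotientGroup.mk'_apply, QuotientGroup.eq_one_iff] at h))
      (fun h => habB (by
        rw [← QuotientGroup.eq_one_iff (N := B), ← QuotientGroup.mk'_apply, map_mul, h, ← map_mul,
          C.sqA b hbA, map_one]))
      fun y h1 h2' => ?_
    obtain ⟨x, rfl⟩ := QuotientGroup.mk'_surjective B y
    rw [← map_mul (QuotientGroup.mk' B) a b]
    exact hclass x ((pi_comm_iff B a x).1 h1) ((pi_comm_iff B b x).1 h2')
  · have hza : dev a z ∈ B := (pi_comm_iff B a z).1 ((pi_comm_iff B z a).2 (hz a)).symm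
    have hzb : dev b z ∈ B := (pi_comm_iff B b z).1 ((pi_comm_iff B z b).2 (hz b)).symm
    rcases hclass z hza hzb with h | h | h | h
    · rw [QuotientGroup.mk'_apply, QuotientGroup.eq_one_iff] at h
      exact absurd h hzB
    all_goals rw [fix_eq_of_mk_eq C.nea h]
    exacts [hfa, hfb, hfab]

/-- The bound in the presence of a large normal elementary abelian subgroup. -/
theorem card_le_sixteen (h16 : 16 ≤ Nat.card B) (H : Subgroup G) : Nat.card H ≤ 16 * Nat.card (sq H) := by
  classical
  haveI := C.nea.normal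
  haveI : Fact (Nat.Prime 2) := ⟨Nat.prime_two⟩
  have hne : B ≠ ⊥ := fun h => by rw [h, Subgroup.card_bot] at h16; omega
  obtain ⟨hB, hR, hS⟩ : Nat.card B = 16 ∧ RankTwo (G ⧸ B) ∧
      ∀ g : G, g ∉ B → (∀ y : G, dev g y ∈ B) → Nat.card (fix B g) ≤ 4 := by
    rcases C.inf_card hne with h | h | h
    · exact C.sixteen_two h16 h
    · exact C.sixteen_four h16 h
    · exfalso
      have hle : B ≤ A := fun v hv => C.self v fun a ha => C.nea.comm a (h ha) v hv
      have := Subgroup.card_le_of_le hle
      rw [C.card8] at this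
      omega
  have hpos : 0 < Nat.card (sq H) := Nat.card_pos
  set π := QuotientGroup.mk' B with hπ
  by_cases hY : 2 * Nat.card (sq (H.map π)) < Nat.card (H.map π)
  · haveI : Nontrivial (G ⧸ B) := by
      by_contra hnt
      rw [not_nontrivial_iff_subsingleton] at hnt
      have h1 : Nat.card (H.map π) ≤ 1 := Finite.card_le_one_iff_subsingleton.2 inferInstance
      have h2 : 0 < Nat.card (sq (H.map π)) := Nat.card_pos
      omega
    obtain ⟨z, hz, hzo⟩ := CentFour.exists_central_involution (C.isP.to_quotient B)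
    have hzc := Subgroup.mem_center_iff.1 hz
    obtain ⟨h, hh, hhz⟩ := hR.mem (by rw [← pow_two, ← hzo, pow_orderOf_eq_one]) hzc hY
    have hhB : h ∉ B := fun hb => by
      rw [← hhz, hπ, QuotientGroup.mk'_apply, (QuotientGroup.eq_one_iff h).2 hb, orderOf_one] at hzo
      omega
    have hfix := hS h hhB fun y => (pi_comm_iff B h y).1 (by rw [hhz]; exact (hzc _).symm)
    have h2 : Nat.card (H ⊓ B : Subgroup G) ≤ Nat.card (sq H ⊓ B : Subgroup G) * 4 :=
      (card_le_of_dev C.nea inf_le_right h (Q := sq H ⊓ B) (Q' := fix B h)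
        (fun v hv => ⟨commutator_mem_sq hh hv.1, dev_mem C.nea h hv.2⟩)
        fun v hv hc => mem_fix.2 ⟨hv.2, hc⟩).trans (Nat.mul_le_mul_left _ hfix)
    exact bound_split B H (hR _) (h2.trans_eq (mul_comm _ _))
  · push Not at hY
    by_cases hBH : B ≤ H
    · by_cases hHB : H ≤ B
      · refine le_trans ?_ (Nat.le_mul_of_pos_right 16 hpos)
        rw [le_antisymm hHB hBH, hB]
      · obtain ⟨h, hh, hhB⟩ := SetLike.not_le_iff_exists.1 hHB
        have hcent : ∃ v ∈ B, dev h v ≠ 1 := by
          by_contra hcon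
          push Not at hcon
          set D := Subgroup.centralizer (B : Set G) with hD
          haveI : D.Normal := inferInstance
          have hhD : h ∈ D := fun v hv => (dev_eq_one.1 (hcon v hv)).symm
          have hlt : B < D := lt_of_le_of_ne (fun v hv w hw => C.nea.comm w hw v hv) fun he => hhB (he ▸ hhD)
          obtain ⟨B2, hB2, hle2, hle2', hcard2⟩ := PGroupBasics.exists_step C.isP B D hlt
          obtain ⟨u, huB2, huB⟩ := SetLike.exists_of_lt (lt_of_le_of_ne hle2 fun he => by
            rw [← he, hB] at hcard2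
            omega)
          have hu : ∀ y : G, dev u y ∈ B := by
            intro y
            have hmem : y * u⁻¹ * y⁻¹ ∈ B2 := hB2.conj_mem _ (B2.inv_mem huB2) y
            have hnot : y * u⁻¹ * y⁻¹ ∉ B := fun hb => huB (by
              have := C.nea.normal.conj_mem _ hb y⁻¹
              rw [show y⁻¹ * (y * u⁻¹ * y⁻¹) * y⁻¹⁻¹ = u⁻¹ by group] at this
              exact inv_mem_iff.1 this)
            have := mul_mem_of_card hle2 hcard2 huB2 hmem huB hnot
            rwa [dev, mul_assoc u y, mul_assoc u (y * u⁻¹)]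
          have := hS u huB hu
          have hle : B ≤ fix B u := fun v hv => mem_fix.2 ⟨hv, (hle2' huB2 v hv).symm⟩
          have := Subgroup.card_le_of_le hle
          omega
        obtain ⟨v, hv, hv1⟩ := hcent
        have h2 := two_le_card_inf (B := B) (H := H) (v := dev h v) (commutator_mem_sq hh (hBH hv)) (dev_mem C.nea h hv) hv1
        have h3 : Nat.card (H ⊓ B : Subgroup G) ≤ 8 * Nat.card (sq H ⊓ B : Subgroup G) := by
          rw [inf_eq_right.2 hBH, hB]
          exact le_trans (by norm_num) (Nat.mul_le_mul_left 8 h2)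
        exact bound_split B H (i := 2) hY h3
    · have h3 : Nat.card (H ⊓ B : Subgroup G) ≤ 8 * Nat.card (sq H ⊓ B : Subgroup G) := by
        refine le_trans ?_ (Nat.le_mul_of_pos_right 8 Nat.card_pos)
        obtain ⟨k, hk, hk'⟩ := (Nat.dvd_prime_pow Nat.prime_two).1
          (show Nat.card (H ⊓ B : Subgroup G) ∣ 2 ^ 4 from
            (Subgroup.card_dvd_of_le (inf_le_right : H ⊓ B ≤ B)).trans (dvd_of_eq (by rw [hB]; norm_num)))
        have : k ≠ 4 := fun h => hBH (by
          have := Subgroup.eq_of_le_of_card_ge (inf_le_right : H ⊓ B ≤ B) (by rw [hB, hk', h]; norm_num)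
          exact this ▸ inf_le_left)
        rw [hk']
        exact le_trans (Nat.pow_le_pow_right two_pos (by omega : k ≤ 3)) (by norm_num)
      exact bound_split B H (i := 2) hY h3

end Ctx

end Cfsg.Agent.Harada
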