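import Cfsg.Agent.Lib.TwoGroups.InvolCentralizer
import Cfsg.Agent.Lib.Recog.CharSimple
import Cfsg.Agent.Lib.Solvable.Basic
import Cfsg.Agent.Lib.Solvable.Fitting

/-!
A simple normal subgroup of odd index in core-free groups with one class of involutions.
-/

set_option autoImplicit false

namespace Cfsg.Agent.SimpleSection

variable {H : Type*} [Group H] [Finite H]

omit [Finite H] in
/-- An involution in one factor and an involution in all factors have centralizers of different
orders, so they are not conjugate under automorphisms. -/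
theorem card_centralizer_ne {T : Type*} [Group T] [Finite T] {m : ℕ} (hm : 2 ≤ m) {z : T}
    (hz : Subgroup.centralizer ({z} : Set T) ≠ ⊤) :
    Nat.card (Subgroup.centralizer ({Pi.mulSingle (⟨0, by omega⟩ : Fin m) z} : Set (Fin m → T))) ≠
      Nat.card (Subgroup.centralizer ({fun _ => z} : Set (Fin m → T))) := by
  intro e
  have hle : Subgroup.centralizer ({fun _ => z} : Set (Fin m → T)) ≤
      Subgroup.centralizer ({Pi.mulSingle (⟨0, by omega⟩ : Fin m) z} : Set (Fin m → T)) := by
    intro f hf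
    rw [Subgroup.mem_centralizer_singleton_iff] at hf ⊢
    funext i
    have hi := congrFun hf i
    by_cases h : i = ⟨0, by omega⟩
    · subst h; simpa using hi
    · simp [h]
  have heq := Subgroup.eq_of_le_of_card_ge hle e.le
  apply hz
  rw [Subgroup.eq_top_iff']
  intro t
  have hmem : Pi.mulSingle (⟨1, by omega⟩ : Fin m) t ∈
      Subgroup.centralizer ({Pi.mulSingle (⟨0, by omega⟩ : Fin m) z} : Set (Fin m → T)) := by
    rw [Subgroup.mem_centralizer_singleton_iff]
    exact (Pi.mulSingle_commute (f := fun _ : Fin m => T)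
      (show (⟨1, by omega⟩ : Fin m) ≠ ⟨0, by omega⟩ by simp [Fin.ext_iff]) t z).eq
  rw [← heq, Subgroup.mem_centralizer_singleton_iff] at hmem
  rw [Subgroup.mem_centralizer_singleton_iff]
  simpa using congrFun hmem ⟨1, by omega⟩

/-- The main argument. -/
theorem exists_simple_normal (P : Sylow 2 H) (hO : Cfsg.pPrimeCore 2 H = ⊥)
    (hone : ∀ a b : H, orderOf a = 2 → orderOf b = 2 → IsConj a b)
    (hno : ∀ M : Subgroup H, M.index ≠ 2)
    (hnc : ∃ a ∈ (P : Subgroup H), ∃ b ∈ (P : Subgroup H), orderOf a = 2 ∧ orderOf b = 2 ∧ a * b ≠ b * a)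
    (hgen : ∃ v ∈ (P : Subgroup H), ∀ M : Subgroup H,
      (∀ a ∈ (P : Subgroup H), orderOf a = 2 → a ∈ M) → (P : Subgroup H) ≤ M ⊔ Subgroup.zpowers v) :
    ∃ L : Subgroup H, L.Normal ∧ Odd L.index ∧ IsSimpleGroup L ∧ ¬ IsMulCommutative L := by
  haveI : Fact (Nat.Prime 2) := ⟨Nat.prime_two⟩
  obtain ⟨a, haP, b, hbP, ha, hb, hab⟩ := hnc
  have hnt : (⊤ : Subgroup H) ≠ ⊥ := fun e => by
    have : a ∈ (⊥ : Subgroup H) := e ▸ Subgroup.mem_top a
    rw [Subgroup.mem_bot] at this
    rw [this, orderOf_one] at ha; omega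
  obtain ⟨N, -, hN⟩ := Finite.exists_le_minimal
    (p := fun K : Subgroup H => K ≠ ⊥ ∧ K.Normal) (a := ⊤) ⟨hnt, inferInstance⟩
  obtain ⟨⟨hNb, hNn⟩, hNmin⟩ := hN
  haveI := hNn
  have heven : 2 ∣ Nat.card N := by
    by_contra h
    exact hNb (le_bot_iff.mp (hO ▸ FittingCores.le_pPrimeCore hNn
      (Nat.coprime_two_right.mpr (Nat.odd_iff.mpr (Nat.two_dvd_ne_zero.mp h)))))
  obtain ⟨t₀, ht₀⟩ := exists_prime_orderOf_dvd_card' 2 heven
  have hinv : ∀ t : H, orderOf t = 2 → t ∈ N := by
    intro t ht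
    obtain ⟨c, hc⟩ := isConj_iff.mp (hone (t₀ : H) t (by rw [Subgroup.orderOf_coe, ht₀]) ht)
    exact hc ▸ hNn.conj_mem _ t₀.2 c
  have hncN : ¬ IsMulCommutative N := fun h => hab
    (congrArg Subtype.val (mul_comm' (⟨a, hinv a ha⟩ : N) ⟨b, hinv b hb⟩))
  obtain ⟨T, iT, m, hT, hm, ⟨e⟩⟩ := CharSimple.minimalNormal_iso_pi N hNb fun M hM hMN => by
    by_cases h : M = ⊥
    · exact Or.inl h
    · exact Or.inr (le_antisymm hMN (hNmin ⟨h, hM⟩ hMN))
  haveI : Finite (Fin m → T) := Finite.of_equiv N e.toEquiv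
  haveI : Finite T := Finite.of_surjective (fun f : Fin m → T => f ⟨0, hm⟩)
    fun t => ⟨fun _ => t, rfl⟩
  have hTc : ∀ z : T, z ≠ 1 → Subgroup.centralizer ({z} : Set T) ≠ ⊤ := by
    intro z hz htop
    have hzc : z ∈ Subgroup.center T := Subgroup.mem_center_iff.mpr fun g => by
      have hg : g ∈ Subgroup.centralizer ({z} : Set T) := htop ▸ Subgroup.mem_top g
      exact Subgroup.mem_centralizer_singleton_iff.mp hg
    rcases (inferInstance : (Subgroup.center T).Normal).eq_bot_or_eq_top with h | h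
    · exact hz (Subgroup.mem_bot.mp (h ▸ hzc))
    · refine hncN ⟨⟨fun u w => e.injective (funext fun i => ?_)⟩⟩
      have hc : (e u i) ∈ Subgroup.center T := h ▸ Subgroup.mem_top _
      rw [map_mul, map_mul, Pi.mul_apply, Pi.mul_apply]
      exact (Subgroup.mem_center_iff.mp hc (e w i)).symm
  have hm1 : m = 1 := by
    by_contra hm1
    obtain ⟨z, hz1, hz2⟩ : ∃ z : T, z ≠ 1 ∧ z * z = 1 := by
      have ht1 : e t₀ ≠ 1 := fun h => by
        rw [map_eq_one_iff _ e.injective] at h
        rw [h, orderOf_one] at ht₀; omega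
      obtain ⟨i, hi⟩ := Function.ne_iff.mp ht1
      refine ⟨e t₀ i, hi, ?_⟩
      have h2 : t₀ * t₀ = 1 := by
        have := pow_orderOf_eq_one t₀; rwa [ht₀, pow_two] at this
      rw [← Pi.mul_apply, ← map_mul, h2, map_one, Pi.one_apply]
    have ho : ∀ f : Fin m → T, f * f = 1 → f ≠ 1 → orderOf ((e.symm f : N) : H) = 2 := by
      intro f h1 h2
      rw [Subgroup.orderOf_coe, e.symm.orderOf_eq]
      exact orderOf_eq_prime (by rw [pow_two]; exact h1) h2
    set f₁ : Fin m → T := Pi.mulSingle (⟨0, by omega⟩ : Fin m) z with hf₁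
    set f₂ : Fin m → T := fun _ => z with hf₂
    have o1 := ho f₁ (by rw [hf₁, ← Pi.mulSingle_mul, hz2, Pi.mulSingle_one]) (fun h => hz1 (by
      have := congrFun h ⟨0, by omega⟩
      simpa [hf₁] using this))
    have o2 := ho f₂ (funext fun _ => hz2) (fun h => hz1 (congrFun h ⟨0, by omega⟩))
    obtain ⟨c, hc⟩ := isConj_iff.mp (hone _ _ o1 o2)
    let σ : MulAut (Fin m → T) := MulAut.congr e (MulAut.conjNormal c)
    have hσ : σ f₁ = f₂ := by
      show e (MulAut.conjNormal c (e.symm f₁)) = f₂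
      rw [← e.apply_symm_apply f₂]
      congr 1
      exact Subtype.ext ((MulAut.conjNormal_apply _ _).trans hc)
    refine card_centralizer_ne (m := m) (by omega) (hTc z hz1) ?_
    have hmap : (Subgroup.centralizer ({f₁} : Set (Fin m → T))).map σ.toMonoidHom =
        Subgroup.centralizer ({f₂} : Set (Fin m → T)) := by
      ext g
      rw [Subgroup.mem_map_equiv, Subgroup.mem_centralizer_singleton_iff,
        Subgroup.mem_centralizer_singleton_iff, ← hσ]
      constructor
      · intro h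
        have := congrArg σ h
        rwa [map_mul, map_mul, MulEquiv.apply_symm_apply] at this
      · intro h
        apply σ.injective
        rwa [map_mul, map_mul, MulEquiv.apply_symm_apply]
    rw [← hf₁, ← hf₂, ← hmap, Subgroup.card_map_of_injective σ.injective]
  subst hm1
  haveI := hT
  haveI : Nontrivial N := by
    rw [Subgroup.nontrivial_iff_ne_bot]; exact hNb
  have hNsimple : IsSimpleGroup N := IsSimpleGroup.isSimpleGroup_of_surjective
    ((MulEquiv.funUnique (Fin 1) T).symm.trans e.symm).toMonoidHom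
    ((MulEquiv.funUnique (Fin 1) T).symm.trans e.symm).surjective
  refine ⟨N, hNn, ?_, hNsimple, hncN⟩
  by_contra hodd
  rw [Nat.not_odd_iff_even, Subgroup.index_eq_card] at hodd
  obtain ⟨v, hvP, hv⟩ := hgen
  set π := QuotientGroup.mk' N with hπ
  set P' : Sylow 2 (H ⧸ N) := P.mapSurjective (QuotientGroup.mk'_surjective N) with hP'
  have hcyc : IsCyclic (P' : Subgroup (H ⧸ N)) := by
    have hle : (P' : Subgroup (H ⧸ N)) ≤ Subgroup.zpowers (π v) := by
      rw [hP', Sylow.coe_mapSurjective]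
      refine (Subgroup.map_mono (hv N fun a _ ha => hinv a ha)).trans ?_
      rw [Subgroup.map_sup, hπ, QuotientGroup.map_mk'_self, bot_sup_eq, MonoidHom.map_zpowers]
    exact isCyclic_of_injective (Subgroup.inclusion hle) (Subgroup.inclusion_injective hle)
  obtain ⟨M, hM⟩ := Small.exists_index_two_of_cyclic hodd P' hcyc
  exact hno _ ((M.index_comap_of_surjective (QuotientGroup.mk'_surjective N)).trans hM)

end Cfsg.Agent.SimpleSection
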