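import Mathlib
import Cfsg.Prelude.Def_CaseTheorems
import Cfsg.Agent.Lib.Transfer.PGroup

/-!
The subgroup generated by the squares, and bounds for its index.
-/

set_option autoImplicit false
set_option linter.style.haveILetI false

namespace Cfsg.Agent.SquareGen

variable {G K : Type*} [Group G] [Group K]

/-- The subgroup generated by the squares of the elements of `H`. -/
def sq (H : Subgroup G) : Subgroup G := Subgroup.closure ((fun x : G => x ^ 2) '' (H : Set G))

theorem sq_mem {H : Subgroup G} {x : G} (hx : x ∈ H) : x ^ 2 ∈ sq H :=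
  Subgroup.subset_closure ⟨x, hx, rfl⟩

theorem sq_le (H : Subgroup G) : sq H ≤ H := by
  rw [sq, Subgroup.closure_le]
  rintro _ ⟨x, hx, rfl⟩
  exact H.pow_mem hx 2

theorem sq_mono {H L : Subgroup G} (h : H ≤ L) : sq H ≤ sq L :=
  Subgroup.closure_mono (Set.image_mono h)

theorem map_sq (f : G →* K) (H : Subgroup G) : (sq H).map f = sq (H.map f) := by
  rw [sq, sq, MonoidHom.map_closure, Subgroup.coe_map, Set.image_image, Set.image_image]
  simp only [map_pow]

theorem commutator_mem_sq {H : Subgroup G} {a b : G} (ha : a ∈ H) (hb : b ∈ H) :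
    a * b * a⁻¹ * b⁻¹ ∈ sq H := by
  have e : a * b * a⁻¹ * b⁻¹ = (a * b) ^ 2 * (b⁻¹ * a⁻¹ * b) ^ 2 * (b⁻¹) ^ 2 := by
    simp only [pow_two]; group
  rw [e]
  exact mul_mem (mul_mem (sq_mem (H.mul_mem ha hb))
    (sq_mem (H.mul_mem (H.mul_mem (H.inv_mem hb) (H.inv_mem ha)) hb))) (sq_mem (H.inv_mem hb))

theorem card_split (H : Subgroup G) (f : G →* K) :
    Nat.card H = Nat.card (H.map f) * Nat.card (H ⊓ f.ker : Subgroup G) := by
  have h1 := (f.domRestrict H).ker.card_eq_card_quotient_mul_card_subgroup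
  rw [Nat.card_congr (QuotientGroup.quotientKerEquivRange (f.domRestrict H)).toEquiv] at h1
  rw [h1, MonoidHom.domRestrict_range]
  congr 1
  refine Nat.card_congr ⟨fun x => ⟨x.1.1, x.1.2, x.2⟩, fun x => ⟨⟨x.1, x.2.1⟩, x.2.2⟩, ?_, ?_⟩
  · intro x; rfl
  · intro x; rfl

variable [Finite G]

theorem le_mul_split (H : Subgroup G) (f : G →* K) [Finite K] {i j : ℕ}
    (h1 : Nat.card (H.map f) ≤ i * Nat.card (sq (H.map f)))
    (h2 : Nat.card (H ⊓ f.ker : Subgroup G) ≤ j * Nat.card (sq (H ⊓ f.ker))) :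
    Nat.card H ≤ i * j * Nat.card (sq H) := by
  have h3 : Nat.card (sq (H ⊓ f.ker)) ≤ Nat.card (sq H ⊓ f.ker : Subgroup G) :=
    Subgroup.card_le_of_le (le_inf (sq_mono inf_le_left) ((sq_le _).trans inf_le_right))
  rw [card_split H f, card_split (sq H) f, map_sq]
  calc Nat.card (H.map f) * Nat.card (H ⊓ f.ker : Subgroup G)
      ≤ (i * Nat.card (sq (H.map f))) * (j * Nat.card (sq H ⊓ f.ker : Subgroup G)) :=
        Nat.mul_le_mul h1 (h2.trans (Nat.mul_le_mul_left j h3))
    _ = i * j * (Nat.card (sq (H.map f)) * Nat.card (sq H ⊓ f.ker : Subgroup G)) := by ring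

/-- Bounding the index of the square subgroup in every subgroup bounds the sectional rank. -/
theorem sectional_of_card_le {k : ℕ} (h : ∀ H : Subgroup G, Nat.card H ≤ 2 ^ k * Nat.card (sq H)) :
    Cfsg.SectionalPRankLE 2 k G := by
  intro H N hN A hA hexp
  set L : Subgroup H := A.comap (QuotientGroup.mk' N) with hL
  have hLA : L.map (QuotientGroup.mk' N) = A :=
    Subgroup.map_comap_eq_self_of_surjective (QuotientGroup.mk'_surjective N) A
  have hbot : sq A = ⊥ := by
    rw [sq, Subgroup.closure_eq_bot_iff]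
    rintro _ ⟨a, ha, rfl⟩
    exact hexp a ha
  have h1 : Nat.card L = Nat.card A * Nat.card (L ⊓ (QuotientGroup.mk' N).ker : Subgroup H) := by
    rw [card_split L (QuotientGroup.mk' N), hLA]
  have h2 : Nat.card L ≤ 2 ^ k * Nat.card (sq L) := by
    have := h (L.map H.subtype)
    rwa [← map_sq, Subgroup.card_map_of_injective H.subtype_injective,
      Subgroup.card_map_of_injective H.subtype_injective] at this
  have h3 : sq L ≤ L ⊓ (QuotientGroup.mk' N).ker :=
    le_inf (sq_le L) ((Subgroup.map_eq_bot_iff _).1 (by rw [map_sq, hLA, hbot]))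
  have h4 := h2.trans (Nat.mul_le_mul_left _ (Subgroup.card_le_of_le h3))
  rw [h1] at h4
  exact Nat.le_of_mul_le_mul_right h4 Nat.card_pos

/-- If the squares generate a subgroup of index at most two, the 2-group is cyclic. -/
theorem isCyclic_of_card_le {P : Type*} [Group P] [Finite P] (hP : IsPGroup 2 P)
    (h : Nat.card P ≤ 2 * Nat.card (sq (⊤ : Subgroup P))) : IsCyclic P := by
  haveI := hP.isNilpotent
  haveI : Fact (Nat.Prime 2) := ⟨Nat.prime_two⟩
  set S := sq (⊤ : Subgroup P) with hS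
  have hSF : S ≤ frattini P := by
    rw [hS, sq, Subgroup.closure_le]
    rintro _ ⟨x, -, rfl⟩
    exact Cfsg.Agent.PGroupBasics.pow_mem_frattini hP x
  by_cases htop : S = ⊤
  · have : (⊤ : Subgroup P) = ⊥ := by
      have h' : frattini P = ⊤ := top_le_iff.1 (htop ▸ hSF)
      exact (frattini_nongenerating (K := (⊥ : Subgroup P)) (by rw [h', sup_top_eq])).symm
    haveI : Subsingleton P := ⟨fun a b => by
      have ha := this ▸ Subgroup.mem_top a
      have hb := this ▸ Subgroup.mem_top b
      rw [Subgroup.mem_bot] at ha hb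
      rw [ha, hb]⟩
    infer_instance
  obtain ⟨x, -, hx⟩ := SetLike.exists_of_lt (lt_top_iff_ne_top.2 htop)
  have hlt : S < S ⊔ Subgroup.zpowers x :=
    lt_of_le_of_ne le_sup_left (fun he => hx (by rw [he]; exact Subgroup.mem_sup_right (Subgroup.mem_zpowers x)))
  have hgen : S ⊔ Subgroup.zpowers x = ⊤ := by
    refine Subgroup.eq_top_of_card_eq _ (le_antisymm (Subgroup.card_le_card_group _) ?_)
    refine h.trans ?_
    obtain ⟨c, hc⟩ := Subgroup.card_dvd_of_le hlt.le
    have : Nat.card S < Nat.card (S ⊔ Subgroup.zpowers x : Subgroup P) := by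
      refine lt_of_le_of_ne (Subgroup.card_le_of_le hlt.le) fun he => hlt.ne ?_
      exact Subgroup.eq_of_le_of_card_ge hlt.le he.ge
    rw [hc] at this ⊢
    have hc2 : 2 ≤ c := by
      by_contra hcc
      interval_cases c <;> simp at this
    rw [mul_comm 2]
    exact Nat.mul_le_mul_left _ hc2
  have hx' : Subgroup.zpowers x = ⊤ := frattini_nongenerating (top_le_iff.1 (by
    rw [← hgen]
    exact sup_le (hSF.trans le_sup_right) le_sup_left))
  refine ⟨⟨x, fun y => ?_⟩⟩
  exact Subgroup.mem_zpowers_iff.1 (hx'.symm ▸ Subgroup.mem_top y)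

end Cfsg.Agent.SquareGen
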