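import Cfsg.Agent.Lib.TwoGroups.WreathEightModel
import Cfsg.Agent.Lib.TwoGroups.HaradaEight

/-!
A wreath product of a dihedral group of order eight inside a 2-group of sectional rank at most four.
-/

set_option autoImplicit false
set_option linter.style.haveILetI false

namespace Cfsg.Agent.WreathEight

open Cfsg.Agent.Harada

variable {S : Type*} [Group S] [Finite S]

/-- The first distinguished subgroup of an embedded model. -/
def sub (f : M →* S) : Subgroup S := VAs.map f

/-- The centre of the base group of an embedded model. -/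
def zb (f : M →* S) : Subgroup S := Subgroup.closure {f z1, f z2}

theorem zb_elems (f : M →* S) {v : S} (hv : v ∈ zb f) : ∃ m : M, ZB m ∧ f m = v := by
  induction hv using Subgroup.closure_induction with
  | mem x hx =>
    rcases hx with rfl | rfl
    exacts [⟨z1, Or.inr (Or.inl rfl), rfl⟩, ⟨z2, Or.inr (Or.inr (Or.inl rfl)), rfl⟩]
  | one => exact ⟨1, Or.inl rfl, map_one f⟩
  | mul x y _ _ hx hy =>
    obtain ⟨m, hm, rfl⟩ := hx
    obtain ⟨n, hn, rfl⟩ := hy
    refine ⟨m * n, ?_, map_mul f m n⟩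
    rcases hm with rfl | rfl | rfl | rfl <;> rcases hn with rfl | rfl | rfl | rfl <;> decide
  | inv x _ hx =>
    obtain ⟨m, hm, rfl⟩ := hx
    refine ⟨m⁻¹, ?_, map_inv f m⟩
    rcases hm with rfl | rfl | rfl | rfl <;> decide

theorem mem_zb (f : M →* S) {m : M} (hm : ZB m) : f m ∈ zb f := by
  have h1 : f z1 ∈ zb f := Subgroup.subset_closure (Set.mem_insert _ _)
  have h2 : f z2 ∈ zb f := Subgroup.subset_closure (Set.mem_insert_of_mem _ rfl)
  rcases hm with rfl | rfl | rfl | rfl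
  · rw [map_one]; exact one_mem _
  · exact h1
  · exact h2
  · rw [map_mul]; exact mul_mem h1 h2

theorem card_zb (f : M →* S) (hf : Function.Injective f) : Nat.card (zb f) = 4 := by
  classical
  have hset : (zb f : Set S) = f '' {m : M | ZB m} := by
    ext v
    exact ⟨fun hv => (zb_elems f hv).imp fun m hm => ⟨hm.1, hm.2⟩, fun ⟨m, hm, e⟩ => e ▸ mem_zb f hm⟩
  rw [← SetLike.coe_sort_coe, Nat.card_coe_set_eq, hset, Set.ncard_image_of_injective _ hf,
    ← Nat.card_coe_set_eq]
  change Nat.card {m : M // ZB m} = 4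
  rw [Nat.card_eq_fintype_card]
  decide +kernel

theorem mem_sub (f : M →* S) {v : S} (hv : v ∈ sub f) : ∃ i j k l : Fin 2, f (mkV i j k l) = v := by
  obtain ⟨m, hm, rfl⟩ := hv
  obtain ⟨i, j, k, l, rfl⟩ := VA_form m hm
  exact ⟨i, j, k, l, rfl⟩

theorem mkV_mem_sub (f : M →* S) (i j k l : Fin 2) : f (mkV i j k l) ∈ sub f :=
  ⟨_, VA_mkV i j k l, rfl⟩

theorem sub_le_range (f : M →* S) : sub f ≤ f.range := by
  rintro _ ⟨m, -, rfl⟩; exact ⟨m, rfl⟩

theorem range_le_normalizer (f : M →* S) : f.range ≤ Subgroup.normalizer (sub f : Set S) := by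
  have h : ∀ m : M, ∀ v ∈ sub f, f m * v * (f m)⁻¹ ∈ sub f := by
    intro m v hv
    obtain ⟨i, j, k, l, rfl⟩ := mem_sub f hv
    rw [← map_inv, ← map_mul, ← map_mul]
    exact ⟨_, VA_normal m i j k l, rfl⟩
  rintro _ ⟨m, rfl⟩
  refine Subgroup.mem_normalizer_iff.2 fun v => ⟨h m v, fun hv => ?_⟩
  have := h m⁻¹ _ hv
  rwa [map_inv, inv_inv, ← mul_assoc, ← mul_assoc, inv_mul_cancel, one_mul, inv_mul_cancel_right] at this

/-- A section of rank five. -/
theorem section_false (hr : Cfsg.SectionalPRankLE 2 4 S) {B Z : Subgroup S} (hZB : Z ≤ B)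
    (hB : Nat.card B = 16 * Nat.card Z) {x : S} (hxB : x ∉ B) (hxZ : x * x ∈ Z)
    (hcen : ∀ z ∈ Z, ∀ b ∈ B, z * b = b * z) (hzx : ∀ z ∈ Z, x * z = z * x)
    (hd : ∀ b ∈ B, dev x b ∈ Z) (hsq : ∀ b ∈ B, b * b ∈ Z) : False := by
  have hxb : ∀ b ∈ B, x * b * x⁻¹ ∈ B := fun b hb => by
    have h := B.mul_mem (hZB (hd b hb)) hb
    rwa [dev, inv_mul_cancel_right] at h
  have hxb' : ∀ b ∈ B, x⁻¹ * b * x ∈ B := fun b hb => by
    have h := hxb _ hb
    have h2 : x⁻¹ * b * x = (x * x)⁻¹ * (x * b * x⁻¹) * (x * x) := by group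
    rw [h2]
    exact B.mul_mem (B.mul_mem (B.inv_mem (hZB hxZ)) h) (hZB hxZ)
  let L : Subgroup S :=
    { carrier := {y | y ∈ B ∨ x * y ∈ B}
      one_mem' := Or.inl B.one_mem
      mul_mem' := fun {y y'} hy hy' => by
        rcases hy with hy | hy <;> rcases hy' with hy' | hy'
        · exact Or.inl (B.mul_mem hy hy')
        · refine Or.inr ?_
          rw [show x * (y * y') = (x * y * x⁻¹) * (x * y') by group]
          exact B.mul_mem (hxb y hy) hy'
        · refine Or.inr ?_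
          rw [← mul_assoc]
          exact B.mul_mem hy hy'
        · refine Or.inl ?_
          rw [show y * y' = x⁻¹ * (x * y) * x * (x * x)⁻¹ * (x * y') by group]
          exact B.mul_mem (B.mul_mem (hxb' _ hy) (B.inv_mem (hZB hxZ))) hy'
      inv_mem' := fun {y} hy => by
        rcases hy with hy | hy
        · exact Or.inl (B.inv_mem hy)
        · refine Or.inr ?_
          rw [show x * y⁻¹ = x * (x * y)⁻¹ * x⁻¹ * (x * x) by group]
          exact B.mul_mem (hxb _ (B.inv_mem hy)) (hZB hxZ) }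
  have hBL : B ≤ L := fun b hb => Or.inl hb
  have hZL : Z ≤ L := hZB.trans hBL
  have hxL : x ∈ L := Or.inr (hZB hxZ)
  have hdecomp : ∀ y ∈ L, y ∈ B ∨ ∃ b ∈ B, y = x⁻¹ * b := fun y hy =>
    hy.imp_right fun h => ⟨x * y, h, (inv_mul_cancel_left x y).symm⟩
  have hzL : ∀ z ∈ Z, ∀ y ∈ L, y * z * y⁻¹ = z := by
    intro z hz y hy
    rcases hdecomp y hy with h | ⟨b, hb, rfl⟩
    · rw [← hcen z hz y h, mul_inv_cancel_right]
    · rw [mul_assoc x⁻¹, ← hcen z hz b hb, ← mul_assoc x⁻¹ z b, (show Commute x z from hzx z hz).inv_left.eq]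
      group
  haveI hN : (Z.subgroupOf L).Normal := ⟨fun n hn g => by
    rw [Subgroup.mem_subgroupOf] at hn ⊢
    simp only [Subgroup.coe_mul, InvMemClass.coe_inv]
    rw [hzL _ hn g g.2]
    exact hn⟩
  -- squares lie in `Z`
  have hLsq : ∀ y ∈ L, y * y ∈ Z := by
    intro y hy
    rcases hdecomp y hy with h | ⟨b, hb, rfl⟩
    · exact hsq y h
    · have e : x⁻¹ * b * (x⁻¹ * b) = (x * x)⁻¹ * dev x b * (b * b) := by simp only [dev]; group
      rw [e]
      exact Z.mul_mem (Z.mul_mem (Z.inv_mem hxZ) (hd b hb)) (hsq b hb)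
  set π := QuotientGroup.mk' (Z.subgroupOf L) with hπ
  have h2 : ∀ q : ↥L ⧸ Z.subgroupOf L, q * q = 1 := by
    intro q
    obtain ⟨y, rfl⟩ := QuotientGroup.mk'_surjective _ q
    rw [← map_mul, QuotientGroup.mk'_apply, QuotientGroup.eq_one_iff, Subgroup.mem_subgroupOf]
    exact hLsq y y.2
  have hcard : 32 ≤ Nat.card (↥L ⧸ Z.subgroupOf L) := by
    have hlt : Nat.card B < Nat.card L := by
      refine lt_of_le_of_ne (Subgroup.card_le_of_le hBL) fun he => hxB ?_
      rw [Subgroup.eq_of_le_of_card_ge hBL he.ge]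
      exact hxL
    obtain ⟨c, hc⟩ := Subgroup.card_dvd_of_le hBL
    have hc2 : 2 ≤ c := by
      by_contra hcon
      interval_cases c <;> simp at hc <;> omega
    have h := (Z.subgroupOf L).card_eq_card_quotient_mul_card_subgroup
    rw [Nat.card_congr (Subgroup.subgroupOfEquivOfLe hZL).toEquiv, hc, hB] at h
    have hpos : 0 < Nat.card Z := Nat.card_pos
    nlinarith
  have h16 := hr L (Z.subgroupOf L) (⊤ : Subgroup (↥L ⧸ Z.subgroupOf L)) ⟨⟨fun a b => by
      have ha := inv_eq_of_mul_eq_one_right (h2 a.1)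
      have hb := inv_eq_of_mul_eq_one_right (h2 b.1)
      apply Subtype.ext
      have := inv_eq_of_mul_eq_one_right (h2 (a.1 * b.1))
      rw [mul_inv_rev, ha, hb] at this
      exact this.symm⟩⟩ (fun a _ => by rw [pow_two]; exact h2 a)
  rw [Subgroup.card_top] at h16
  omega

end Cfsg.Agent.WreathEight
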