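import Cfsg.Agent.Lib.TwoGroups.WreathEightEmb

/-!
The normalizer of a distinguished elementary abelian subgroup of order sixteen of a wreath product of a
dihedral group of order eight.
-/

set_option autoImplicit false
set_option linter.style.haveILetI false

namespace Cfsg.Agent.WreathEight

open Cfsg.Agent.Harada

variable {S : Type*} [Group S] [Finite S]

/-- The base group of an embedded model. -/
def baseSub (f : M →* S) : Subgroup S := (SemidirectProduct.rightHom : M →* C).ker.map f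

theorem mem_base (f : M →* S) {m : M} (hm : m.right = 1) : f m ∈ baseSub f := ⟨m, hm, rfl⟩

theorem card_base (f : M →* S) (hf : Function.Injective f) : Nat.card (baseSub f) = 64 := by
  rw [baseSub, Subgroup.card_map_of_injective hf]
  change Nat.card {m : M // m.right = 1} = 64
  rw [Nat.card_eq_fintype_card]
  decide +kernel

/-- Elements outside the base group cannot act trivially modulo the centre of the base group. -/
theorem base_false (hr : Cfsg.SectionalPRankLE 2 4 S) (f : M →* S) (hf : Function.Injective f) {x : S}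
    (hxB : x ∉ baseSub f) (hx2 : x * x ∈ zb f) (hxz₁ : x * f z1 = f z1 * x) (hxz₂ : x * f z2 = f z2 * x)
    (hxa₁ : dev x (f a1) ∈ zb f) (hxa₂ : dev x (f a2) ∈ zb f)
    (hxb₁ : dev x (f b1) ∈ zb f) (hxb₂ : dev x (f b2) ∈ zb f) : False := by
  have hzbB : zb f ≤ baseSub f := by
    intro v hv
    obtain ⟨m, hm, rfl⟩ := zb_elems f hv
    exact mem_base f (by rcases hm with rfl | rfl | rfl | rfl <;> rfl)
  have hcen : ∀ z ∈ zb f, ∀ b ∈ baseSub f, z * b = b * z := by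
    intro z hz b hb
    obtain ⟨m, hm, rfl⟩ := zb_elems f hz
    obtain ⟨n, hn, rfl⟩ := hb
    rw [← map_mul, ← map_mul]
    obtain ⟨e1, e2⟩ := ZB_central_base n hn
    congr 1
    rcases hm with rfl | rfl | rfl | rfl
    · rw [one_mul, mul_one]
    · exact e1.symm
    · exact e2.symm
    · exact ((show Commute z1 n from e1.symm).mul_left (show Commute z2 n from e2.symm)).eq
  have hzx : ∀ z ∈ zb f, x * z = z * x := by
    intro z hz
    obtain ⟨m, hm, rfl⟩ := zb_elems f hz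
    rcases hm with rfl | rfl | rfl | rfl
    · rw [map_one, one_mul, mul_one]
    · exact hxz₁
    · exact hxz₂
    · rw [map_mul]
      exact ((show Commute x (f z1) from hxz₁).mul_right (show Commute x (f z2) from hxz₂)).eq
  refine section_false hr hzbB (by rw [card_base f hf, card_zb f hf]) hxB hx2 hcen hzx (fun b hb => ?_)
    fun b hb => ?_
  · have hmul : ∀ c ∈ baseSub f, ∀ d ∈ baseSub f, dev x c ∈ zb f → dev x d ∈ zb f → dev x (c * d) ∈ zb f := by
      intro c hc d _ h1 h2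
      rw [dev_mul_right, ← hcen _ h2 c hc, mul_inv_cancel_right]
      exact mul_mem h1 h2
    have hpow : ∀ c ∈ baseSub f, dev x c ∈ zb f → ∀ n : Fin 2, dev x (c ^ (n : ℕ)) ∈ zb f := by
      intro c _ h n
      fin_cases n
      · simp [dev, one_mem]
      · simpa using h
    obtain ⟨m, hm, rfl⟩ := hb
    obtain ⟨i, j, k, l, e, g, n, rfl⟩ := generated m
    have hn : n = 0 := by
      have : ∀ i j k l e g n : Fin 2,
          (mkV i j k l * b1 ^ (e : ℕ) * b2 ^ (g : ℕ) * gw ^ (n : ℕ)).right = 1 → n = 0 := by decide +kernel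
      exact this _ _ _ _ _ _ _ hm
    subst hn
    have hB : ∀ m : M, m.right = 1 → ∀ u : Fin 2, f m ^ (u : ℕ) ∈ baseSub f := fun m hm u =>
      pow_mem (mem_base f hm) _
    have hdz : ∀ z ∈ zb f, dev x z ∈ zb f := fun z hz => by
      rw [dev_eq_one.2 (hzx z hz)]; exact one_mem _
    simp only [mkV, Fin.val_zero, pow_zero, mul_one, map_mul, map_pow]
    have p1 := hB z1 rfl i
    have p2 := hB z2 rfl j
    have p3 := hB a1 rfl k
    have p4 := hB a2 rfl l
    have p5 := hB b1 rfl e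
    have p6 := hB b2 rfl g
    have d1 := hpow _ (mem_base f (m := z1) rfl) (hdz _ (mem_zb f (Or.inr (Or.inl rfl)))) i
    have d2 := hpow _ (mem_base f (m := z2) rfl) (hdz _ (mem_zb f (Or.inr (Or.inr (Or.inl rfl))))) j
    have d3 := hpow _ (mem_base f (m := a1) rfl) hxa₁ k
    have d4 := hpow _ (mem_base f (m := a2) rfl) hxa₂ l
    have d5 := hpow _ (mem_base f (m := b1) rfl) hxb₁ e
    have d6 := hpow _ (mem_base f (m := b2) rfl) hxb₂ g
    exact hmul _ (mul_mem (mul_mem (mul_mem (mul_mem p1 p2) p3) p4) p5) _ p6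
      (hmul _ (mul_mem (mul_mem (mul_mem p1 p2) p3) p4) _ p5
        (hmul _ (mul_mem (mul_mem p1 p2) p3) _ p4 (hmul _ (mul_mem p1 p2) _ p3 (hmul _ p1 _ p2 d1 d2) d3) d4) d5) d6
  · obtain ⟨m, hm, rfl⟩ := hb
    rw [← map_mul]
    exact mem_zb f (base_sq m hm)

/-- The displacements of the generators outside the subgroup are central in the base group. -/
theorem displacement_zb (f : M →* S) (hf : Function.Injective f) {x : S} {i j k l i' j' k' l' : Fin 2}
    (h1 : x * f b1 * x⁻¹ = f (b1 * mkV i j k l)) (h2 : x * f b2 * x⁻¹ = f (b2 * mkV i' j' k' l')) :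
    ZB (mkV i j k l) ∧ ZB (mkV i' j' k' l') := by
  have hbb : b1 * b1 = 1 ∧ b2 * b2 = 1 ∧ b1 * b2 = b2 * b1 := by decide
  have hinvol : ∀ v : M, v * v = 1 → ∀ i j k l : Fin 2, x * f v * x⁻¹ = f (v * mkV i j k l) →
      mkV i j k l * v = v * mkV i j k l := by
    intro v hv i j k l h
    have e : v * mkV i j k l * (v * mkV i j k l) = 1 := hf (by
      rw [map_mul, ← h, map_one, show x * f v * x⁻¹ * (x * f v * x⁻¹) = x * (f v * f v) * x⁻¹ by group,
        ← map_mul, hv, map_one, mul_one, mul_inv_cancel])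
    have hm : mkV i j k l * mkV i j k l = 1 :=
      (by decide +kernel : ∀ i j k l : Fin 2, mkV i j k l * mkV i j k l = 1) i j k l
    have e' := inv_eq_of_mul_eq_one_right e
    rw [mul_inv_rev, inv_eq_of_mul_eq_one_right hv, inv_eq_of_mul_eq_one_right hm] at e'
    exact e'
  refine comm_pair i j k l i' j' k' l' (hinvol _ hbb.1 _ _ _ _ h1) (hinvol _ hbb.2.1 _ _ _ _ h2) (hf ?_)
  rw [map_mul f (b1 * mkV i j k l), map_mul f (b2 * mkV i' j' k' l'), ← h1, ← h2,
    show x * f b1 * x⁻¹ * (x * f b2 * x⁻¹) = x * (f b1 * f b2) * x⁻¹ by group,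
    show x * f b2 * x⁻¹ * (x * f b1 * x⁻¹) = x * (f b2 * f b1) * x⁻¹ by group, ← map_mul f b1, ← map_mul f b2,
    hbb.2.2]

theorem dev_mem_zb (f : M →* S) {x : S} {v : M} {w : M} (hw : ZB w) (hv : v.right = 1)
    (h : x * f v * x⁻¹ = f (v * w)) : dev x (f v) ∈ zb f := by
  obtain ⟨e1, e2⟩ := ZB_central_base v hv
  have hc : v * w = w * v := by
    rcases hw with rfl | rfl | rfl | rfl
    · rw [one_mul, mul_one]
    · exact e1
    · exact e2
    · exact ((show Commute v z1 from e1).mul_right (show Commute v z2 from e2)).eq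
  rw [dev, h, hc, map_mul, mul_inv_cancel_right]
  exact mem_zb f hw

theorem centralizer_sub (h2 : IsPGroup 2 S) (hr : Cfsg.SectionalPRankLE 2 4 S) (f : M →* S)
    (hf : Function.Injective f) : Subgroup.centralizer (sub f : Set S) = sub f := by
  classical
  haveI : Fact (Nat.Prime 2) := ⟨Nat.prime_two⟩
  have habel : sub f ≤ Subgroup.centralizer (sub f : Set S) := by
    intro v hv w hw
    obtain ⟨i, j, k, l, rfl⟩ := mem_sub f hv
    obtain ⟨i', j', k', l', rfl⟩ := mem_sub f hw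
    rw [← map_mul, ← map_mul,
      (by decide +kernel : ∀ i j k l i' j' k' l' : Fin 2, mkV i' j' k' l' * mkV i j k l = mkV i j k l * mkV i' j' k' l')]
  refine le_antisymm ?_ habel
  by_contra hne
  set L := Subgroup.normalizer (sub f : Set S) with hL
  have hVL : sub f ≤ L := Subgroup.le_normalizer
  have hPL := range_le_normalizer f
  set C' := Subgroup.centralizer (sub f : Set S) with hC
  have hCL : C' ≤ L := fun c hc => Subgroup.mem_normalizer_iff.2 fun v => by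
    constructor
    · intro hv
      rw [← hc v hv, mul_inv_cancel_right]; exact hv
    · intro hv
      have h := hc _ hv
      have e : v = c⁻¹ * (c * v * c⁻¹) * c := by group
      rw [e, mul_assoc, h, inv_mul_cancel_left]; exact hv
  haveI hn1 : ((sub f).subgroupOf L).Normal := Subgroup.normal_in_normalizer
  haveI hn2 : (C'.subgroupOf L).Normal := ⟨fun c hc g => by
    rw [Subgroup.mem_subgroupOf] at hc ⊢
    simp only [Subgroup.coe_mul, InvMemClass.coe_inv]
    intro v hv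
    have hv' : (g : S)⁻¹ * v * g ∈ sub f := by
      have := (Subgroup.mem_normalizer_iff.1 (L.inv_mem g.2) v).1 hv
      rwa [inv_inv] at this
    have h := hc _ hv'
    calc v * ((g : S) * c * (g : S)⁻¹) = g * (((g : S)⁻¹ * v * g) * c) * (g : S)⁻¹ := by group
      _ = g * (c * ((g : S)⁻¹ * v * g)) * (g : S)⁻¹ := by rw [h]
      _ = g * c * (g : S)⁻¹ * v := by group⟩
  have hlt : (sub f).subgroupOf L < C'.subgroupOf L := by
    refine lt_of_le_of_ne (fun v hv => Subgroup.mem_subgroupOf.2 (habel (Subgroup.mem_subgroupOf.1 hv)))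
      fun he => hne fun c hc => ?_
    have hm : (⟨c, hCL hc⟩ : L) ∈ C'.subgroupOf L := Subgroup.mem_subgroupOf.2 hc
    rw [← he] at hm
    exact Subgroup.mem_subgroupOf.1 hm
  obtain ⟨U, hU, hVU, hUC, hUcard⟩ := PGroupBasics.exists_step (h2.to_subgroup L) _ _ hlt
  obtain ⟨x, hxU, hxV⟩ := SetLike.exists_of_lt (lt_of_le_of_ne hVU fun he => by
    rw [← he] at hUcard
    have : 0 < Nat.card ((sub f).subgroupOf L) := Nat.card_pos
    omega)
  have hdev : ∀ y : L, dev (x : S) (y : S) ∈ sub f := fun y => by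
    have := step_dev hn1 hU hVU hUcard hxU hxV y
    exact Subgroup.mem_subgroupOf.1 this
  have hxc : ∀ v ∈ sub f, v * (x : S) = x * v := Subgroup.mem_subgroupOf.1 (hUC hxU)
  have hxV' : (x : S) ∉ sub f := fun h => hxV (Subgroup.mem_subgroupOf.2 h)
  have hx2V : (x : S) * x ∈ sub f :=
    Subgroup.mem_subgroupOf.1 (mul_mem_of_card hVU hUcard hxU hxU hxV hxV)
  have hxzb : (x : S) * x ∈ zb f := by
    obtain ⟨i, j, k, l, he⟩ := mem_sub f hx2V
    have hfix : ∀ m : M, m * mkV i j k l = mkV i j k l * m := by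
      intro m
      apply hf
      rw [map_mul, map_mul, he]
      set g := f m with hg
      have hgL : g ∈ L := hPL ⟨m, rfl⟩
      have hd : dev g (x : S) ∈ sub f := by
        rw [← dev_inv]; exact Subgroup.inv_mem _ (hdev ⟨g, hgL⟩)
      have hd2 : dev g (x : S) * dev g (x : S) = 1 := by
        obtain ⟨i', j', k', l', e'⟩ := mem_sub f hd
        rw [← e', ← map_mul,
          (by decide +kernel : ∀ i j k l : Fin 2, mkV i j k l * mkV i j k l = 1), map_one]
      rw [← mul_inv_eq_iff_eq_mul]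
      have hc : Commute (dev g (x : S)) (x : S) := hxc _ hd
      calc g * ((x : S) * x) * g⁻¹ = (dev g (x : S) * x) * (dev g (x : S) * x) := by simp only [dev]; group
        _ = (x : S) * x := by rw [hc.symm.mul_mul_mul_comm, hd2, one_mul]
    rw [← he]
    rcases VA_fixed i j k l hfix with h | h <;> rw [h]
    exacts [mem_zb f (Or.inl rfl), mem_zb f (Or.inr (Or.inr (Or.inr rfl)))]
  have himg : ∀ b : M, ∃ i j k l : Fin 2, (x : S) * f b * (x : S)⁻¹ = f (b * mkV i j k l) := by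
    intro b
    have hb : f b ∈ L := hPL ⟨b, rfl⟩
    have hd : (f b)⁻¹ * dev (x : S) (f b) * f b ∈ sub f := by
      have := (Subgroup.mem_normalizer_iff.1 (L.inv_mem hb) _).1 (hdev ⟨f b, hb⟩)
      rwa [inv_inv] at this
    obtain ⟨i, j, k, l, he⟩ := mem_sub f hd
    refine ⟨i, j, k, l, ?_⟩
    rw [map_mul, he]; simp only [dev]; group
  obtain ⟨i, j, k, l, e1⟩ := himg b1
  obtain ⟨i', j', k', l', e2⟩ := himg b2
  obtain ⟨hz, hz'⟩ := displacement_zb f hf e1 e2
  have hxcomm : ∀ v : M, VA v → (x : S) * f v = f v * x := fun v hv => (hxc _ ⟨v, hv, rfl⟩).symm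
  obtain ⟨-, -, -, -, -, va1, va2, vz1, vz2, -⟩ := basics
  refine base_false hr f hf (x := (x : S)) ?_ hxzb (hxcomm _ vz1) (hxcomm _ vz2) ?_ ?_ (dev_mem_zb f hz rfl e1)
    (dev_mem_zb f hz' rfl e2)
  · rintro ⟨m, -, hm⟩
    refine hxV' ⟨m, VA_self m fun i j k l => hf ?_, hm⟩
    rw [map_mul, map_mul, hm]
    exact hxc _ (mkV_mem_sub f i j k l)
  · rw [dev_eq_one.2 (hxcomm _ va1)]; exact one_mem _
  · rw [dev_eq_one.2 (hxcomm _ va2)]; exact one_mem _

/-- Counting the points of the subgroup fixed by an element of the model. -/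
theorem card_fix_image (f : M →* S) (hf : Function.Injective f) (m : M) :
    Nat.card (sub f ⊓ Subgroup.centralizer ({f m} : Set S) : Subgroup S) = fixCount m := by
  classical
  have hinjV : ∀ t t' : Fin 2 × Fin 2 × Fin 2 × Fin 2,
      mkV t.1 t.2.1 t.2.2.1 t.2.2.2 = mkV t'.1 t'.2.1 t'.2.2.1 t'.2.2.2 → t = t' := by decide +kernel
  rw [fixCount, ← Nat.card_eq_finsetCard]
  refine (Nat.card_congr (Equiv.ofBijective
    (fun t => (⟨f (mkV t.1.1 t.1.2.1 t.1.2.2.1 t.1.2.2.2), mkV_mem_sub f _ _ _ _,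
      Subgroup.mem_centralizer_singleton_iff.2 (by
        rw [← map_mul, ← map_mul, (Finset.mem_filter.1 t.2).2])⟩ :
      (sub f ⊓ Subgroup.centralizer ({f m} : Set S) : Subgroup S))) ⟨?_, ?_⟩)).symm
  · intro t t' h
    exact Subtype.ext (hinjV _ _ (hf (congrArg Subtype.val h)))
  · rintro ⟨v, hv, hc⟩
    obtain ⟨i, j, k, l, rfl⟩ := mem_sub f hv
    refine ⟨⟨(i, j, k, l), Finset.mem_filter.2 ⟨Finset.mem_univ _, hf ?_⟩⟩, rfl⟩
    rw [map_mul, map_mul]
    exact (Subgroup.mem_centralizer_singleton_iff.1 hc).symm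

/-- The image of a reflection under an element mapping one distinguished subgroup to another. -/
theorem conj_b (f f' : M →* S) (hf : Function.Injective f) (hf' : Function.Injective f') {x : S}
    (hsub : ∀ v : S, v ∈ sub f ↔ x * v * x⁻¹ ∈ sub f') {b m : M} (hb : fixCount b = 8)
    (hm : x * f b * x⁻¹ = f' m) : VA (b1 * m) ∨ VA (b2 * m) := by
  refine fixCount_eight m ?_
  rw [← card_fix_image f' hf', ← hm, ← hb, ← card_fix_image f hf]
  refine (Nat.card_congr (Equiv.subtypeEquiv (MulAut.conj x).toEquiv fun v => ?_)).symm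
  show v ∈ sub f ⊓ Subgroup.centralizer ({f b} : Set S) ↔
    x * v * x⁻¹ ∈ sub f' ⊓ Subgroup.centralizer ({x * f b * x⁻¹} : Set S)
  rw [Subgroup.mem_inf, Subgroup.mem_inf, hsub, Subgroup.mem_centralizer_singleton_iff,
    Subgroup.mem_centralizer_singleton_iff]
  refine and_congr_right fun _ => ⟨fun h => ?_, fun h => ?_⟩
  · rw [show x * v * x⁻¹ * (x * f b * x⁻¹) = x * (v * f b) * x⁻¹ by group, h]; group
  · rw [show x * v * x⁻¹ * (x * f b * x⁻¹) = x * (v * f b) * x⁻¹ by group,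
      show x * f b * x⁻¹ * (x * v * x⁻¹) = x * (f b * v) * x⁻¹ by group] at h
    exact mul_left_cancel (mul_right_cancel h)

theorem commutator_image {f : M →* S} {x : S} {p q p' q' r : M} (hp : x * f p * x⁻¹ = f p')
    (hq : x * f q * x⁻¹ = f q') (hr : p * q * p⁻¹ * q⁻¹ = r) :
    x * f r * x⁻¹ = f (p' * q' * p'⁻¹ * q'⁻¹) := by
  rw [← hr]
  simp only [map_mul, map_inv, ← hp, ← hq]
  group

theorem normalizer_sub (h2 : IsPGroup 2 S) (hr : Cfsg.SectionalPRankLE 2 4 S) (f : M →* S)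
    (hf : Function.Injective f) : Subgroup.normalizer (sub f : Set S) = f.range := by
  classical
  haveI : Fact (Nat.Prime 2) := ⟨Nat.prime_two⟩
  have hC := centralizer_sub h2 hr f hf
  have hCmem : ∀ y : S, (∀ v ∈ sub f, y * v = v * y) → y ∈ sub f := fun y hy => by
    rw [← hC]; exact fun v hv => (hy v hv).symm
  refine le_antisymm ?_ (range_le_normalizer f)
  by_contra hne
  set L := Subgroup.normalizer (sub f : Set S) with hL
  have hPL := range_le_normalizer f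
  haveI := (h2.to_subgroup L).isNilpotent
  have hlt : f.range.subgroupOf L < ⊤ :=
    lt_top_iff_ne_top.2 fun h => hne (Subgroup.subgroupOf_eq_top.1 h)
  obtain ⟨x, hxN, hxP⟩ := SetLike.exists_of_lt (Group.normalizerCondition_of_isNilpotent (G := L) _ hlt)
  let Good : S → Prop := fun y => y ∉ f.range ∧ (∀ v : S, v ∈ sub f ↔ y * v * y⁻¹ ∈ sub f) ∧
    ∀ m : M, ∃ n : M, y * f m * y⁻¹ = f n
  have hgood : Good x := by
    refine ⟨fun h => hxP (Subgroup.mem_subgroupOf.2 h), Subgroup.mem_normalizer_iff.1 x.2, fun m => ?_⟩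
    obtain ⟨n, hn⟩ := Subgroup.mem_subgroupOf.1
      ((Subgroup.mem_normalizer_iff.1 hxN ⟨f m, hPL ⟨m, rfl⟩⟩).1 (Subgroup.mem_subgroupOf.2 ⟨m, rfl⟩))
    exact ⟨n, hn.symm⟩
  have hgmul : ∀ p : M, ∀ y : S, Good y → Good (f p * y) := by
    intro p y hy
    refine ⟨fun h => hy.1 ((Subgroup.mul_mem_cancel_left _ (⟨p, rfl⟩ : f p ∈ f.range)).1 h), fun v => ?_,
      fun m => ?_⟩
    · rw [hy.2.1 v, Subgroup.mem_normalizer_iff.1 (hPL ⟨p, rfl⟩) (y * v * y⁻¹),
        show f p * y * v * (f p * y)⁻¹ = f p * (y * v * y⁻¹) * (f p)⁻¹ by group]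
    · obtain ⟨n, hn⟩ := hy.2.2 m
      refine ⟨p * n * p⁻¹, ?_⟩
      rw [show f p * y * f m * (f p * y)⁻¹ = f p * (y * f m * y⁻¹) * (f p)⁻¹ by group, hn, map_mul, map_mul,
        map_inv]
  have hcases : ∀ y : S, Good y → ∀ b : M, fixCount b = 8 →
      ∃ i j k l : Fin 2, y * f b * y⁻¹ = f (b1 * mkV i j k l) ∨ y * f b * y⁻¹ = f (b2 * mkV i j k l) := by
    intro y hy b hb
    obtain ⟨n, hn⟩ := hy.2.2 b
    have hbb : b1 * b1 = 1 ∧ b2 * b2 = 1 := by decide
    rcases conj_b f f hf hf hy.2.1 hb hn with h | h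
    · obtain ⟨i, j, k, l, e⟩ := VA_form _ h
      exact ⟨i, j, k, l, Or.inl (by rw [hn, ← e, ← mul_assoc, hbb.1, one_mul])⟩
    · obtain ⟨i, j, k, l, e⟩ := VA_form _ h
      exact ⟨i, j, k, l, Or.inr (by rw [hn, ← e, ← mul_assoc, hbb.2, one_mul])⟩
  obtain ⟨hfix1, hfix2⟩ := fixCount_b
  obtain ⟨-, hc1, hc2, hz11, hz21, va1, va2, vz1, vz2, -, -, hb12, hna1, hna2, -, -⟩ := basics
  -- fix the two classes
  obtain ⟨y, hy, i, j, k, l, hy1⟩ : ∃ y, Good y ∧ ∃ i j k l : Fin 2, y * f b1 * y⁻¹ = f (b1 * mkV i j k l) := by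
    obtain ⟨i, j, k, l, h | h⟩ := hcases _ hgood b1 hfix1
    · exact ⟨x, hgood, i, j, k, l, h⟩
    · obtain ⟨i', j', k', l', e⟩ := VA_form _ (VA_normal gw i j k l)
      refine ⟨_, hgmul gw _ hgood, i', j', k', l', ?_⟩
      rw [show f gw * (x : S) * f b1 * (f gw * (x : S))⁻¹ = f gw * ((x : S) * f b1 * (x : S)⁻¹) * (f gw)⁻¹ by group,
        h, ← map_inv, ← map_mul, ← map_mul]
      congr 1
      rw [← e, show gw * (b2 * mkV i j k l) * gw⁻¹ = gw * b2 * gw⁻¹ * (gw * mkV i j k l * gw⁻¹) by group,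
        show gw * b2 * gw⁻¹ = b1 by decide]
  obtain ⟨i', j', k', l', hy2⟩ : ∃ i' j' k' l' : Fin 2, y * f b2 * y⁻¹ = f (b2 * mkV i' j' k' l') := by
    obtain ⟨i', j', k', l', h | h⟩ := hcases _ hy b2 hfix2
    · exfalso
      apply hb12
      have e : y * f (b1 * b2) * y⁻¹ = f (b1 * mkV i j k l * (b1 * mkV i' j' k' l')) := by
        rw [map_mul f b1 b2, map_mul f (b1 * mkV i j k l), ← hy1, ← h]; group
      have hV : VA (b1 * mkV i j k l * (b1 * mkV i' j' k' l')) :=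
        (by decide +kernel : ∀ i j k l i' j' k' l' : Fin 2, VA (b1 * mkV i j k l * (b1 * mkV i' j' k' l'))) _ _ _ _ _ _ _ _
      have hm : f (b1 * b2) ∈ sub f := (hy.2.1 _).2 (by rw [e]; exact ⟨_, hV, rfl⟩)
      obtain ⟨m, hm, he⟩ := hm
      rw [← hf he]; exact hm
    · exact ⟨i', j', k', l', h⟩
  -- action on the subgroup
  have himgV : ∀ y : S, Good y → ∀ v : M, VA v → ∃ w : M, VA w ∧ y * f v * y⁻¹ = f w := by
    intro y hy v hv
    obtain ⟨w, hw, e⟩ := (hy.2.1 _).1 (⟨v, hv, rfl⟩ : f v ∈ sub f)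
    exact ⟨w, hw, e.symm⟩
  have hkey : ∀ y : S, Good y → ∀ i j k l i' j' k' l' : Fin 2, y * f b1 * y⁻¹ = f (b1 * mkV i j k l) →
      y * f b2 * y⁻¹ = f (b2 * mkV i' j' k' l') → y * f z1 * y⁻¹ = f z1 ∧ y * f z2 * y⁻¹ = f z2 := by
    intro y hy i j k l i' j' k' l' e1 e2
    constructor
    · obtain ⟨w, hw, e⟩ := himgV y hy a1 va1
      obtain ⟨p, q, r, s, rfl⟩ := VA_form w hw
      have h := commutator_image e1 e hc1
      rcases comm_b1 i j k l p q r s with c | c <;> rw [c] at h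
      · exact absurd (hf ((conj_eq_one_iff.1 (h.trans (map_one f))).trans (map_one f).symm)) hz11
      · exact h
    · obtain ⟨w, hw, e⟩ := himgV y hy a2 va2
      obtain ⟨p, q, r, s, rfl⟩ := VA_form w hw
      have h := commutator_image e2 e hc2
      rcases comm_b2 i' j' k' l' p q r s with c | c <;> rw [c] at h
      · exact absurd (hf ((conj_eq_one_iff.1 (h.trans (map_one f))).trans (map_one f).symm)) hz21
      · exact h
  obtain ⟨hyz1, hyz2⟩ := hkey y hy i j k l i' j' k' l' hy1 hy2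
  have hzfix : ∀ y : S, y * f z1 * y⁻¹ = f z1 → y * f z2 * y⁻¹ = f z2 → ∀ m : M, ZB m → y * f m * y⁻¹ = f m := by
    intro y e1 e2 m hm
    rcases hm with rfl | rfl | rfl | rfl
    · rw [map_one, mul_one, mul_inv_cancel]
    · exact e1
    · exact e2
    · rw [map_mul, show y * (f z1 * f z2) * y⁻¹ = (y * f z1 * y⁻¹) * (y * f z2 * y⁻¹) by group, e1, e2]
  -- the images of `a1` and `a2`
  have hvv : ∀ v w : M, VA v → VA w → v * w = w * v := by
    intro v w hv hw
    obtain ⟨i, j, k, l, rfl⟩ := VA_form v hv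
    obtain ⟨i', j', k', l', rfl⟩ := VA_form w hw
    exact (by decide +kernel : ∀ i j k l i' j' k' l' : Fin 2,
      mkV i j k l * mkV i' j' k' l' = mkV i' j' k' l' * mkV i j k l) i j k l i' j' k' l'
  have hnb : ∀ v : M, ¬ ZB v → ∀ w : M, y * f v * y⁻¹ = f w → ¬ ZB w := by
    intro v hv w e hw
    refine hv ?_
    have e' : y * f v * y⁻¹ = y * f w * y⁻¹ := by rw [e, hzfix y hyz1 hyz2 w hw]
    rwa [hf (mul_left_cancel (mul_right_cancel e'))]
  have hcom : ∀ b v w : M, ∀ i j k l : Fin 2, VA w → b * v = v * b → y * f b * y⁻¹ = f (b * mkV i j k l) →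
      y * f v * y⁻¹ = f w → w * b = b * w := by
    intro b v w i j k l hw hbv e1 e2
    have e3 : b * mkV i j k l * w = w * (b * mkV i j k l) := hf (by
      rw [map_mul f (b * mkV i j k l) w, map_mul f w, ← e1, ← e2,
        show y * f b * y⁻¹ * (y * f v * y⁻¹) = y * (f b * f v) * y⁻¹ by group, ← map_mul, hbv, map_mul]
      group)
    rw [mul_assoc, hvv _ _ (VA_mkV i j k l) hw, ← mul_assoc, ← mul_assoc] at e3
    exact (mul_right_cancel e3).symm
  obtain ⟨w₁, hw₁, ew₁⟩ := himgV y hy a1 va1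
  obtain ⟨w₂, hw₂, ew₂⟩ := himgV y hy a2 va2
  obtain ⟨p, q, r, s, rfl⟩ := VA_form w₁ hw₁
  obtain ⟨p', q', r', s', rfl⟩ := VA_form w₂ hw₂
  have h1 := fixed_b2 p q r s (hcom b2 a1 _ i' j' k' l' hw₁ (by decide) hy2 ew₁) (hnb a1 hna1 _ ew₁)
  have h2' := fixed_b1 p' q' r' s' (hcom b1 a2 _ i j k l hw₂ (by decide) hy1 ew₂) (hnb a2 hna2 _ ew₂)
  -- remove the inner parts
  obtain ⟨c, hgc, hcb1, hcb2, hca1, hca2⟩ : ∃ c : M, (c * z1 * c⁻¹ = z1 ∧ c * z2 * c⁻¹ = z2) ∧
      (∀ i j k l : Fin 2, ∃ p q r s : Fin 2, c * (b1 * mkV i j k l) * c⁻¹ = b1 * mkV p q r s) ∧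
      (∀ i j k l : Fin 2, ∃ p q r s : Fin 2, c * (b2 * mkV i j k l) * c⁻¹ = b2 * mkV p q r s) ∧
      (c * mkV p q r s * c⁻¹ = a1 ∨ c * mkV p q r s * c⁻¹ = a1 * z2) ∧
      (c * mkV p' q' r' s' * c⁻¹ = a2 ∨ c * mkV p' q' r' s' * c⁻¹ = a2 * z1) := by
    have key : ∀ c : M, c = 1 ∨ c = b1 ∨ c = b2 ∨ c = b1 * b2 →
        (c * z1 * c⁻¹ = z1 ∧ c * z2 * c⁻¹ = z2) ∧
        (∀ i j k l : Fin 2, ∃ p q r s : Fin 2, c * (b1 * mkV i j k l) * c⁻¹ = b1 * mkV p q r s) ∧
        (∀ i j k l : Fin 2, ∃ p q r s : Fin 2, c * (b2 * mkV i j k l) * c⁻¹ = b2 * mkV p q r s) := by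
      rintro c (rfl | rfl | rfl | rfl) <;> decide +kernel
    rcases h1 with h1 | h1 | h1 | h1 <;> rcases h2' with g | g | g | g
    all_goals first
      | exact ⟨1, (key 1 (Or.inl rfl)).1, (key 1 (Or.inl rfl)).2.1, (key 1 (Or.inl rfl)).2.2,
          by simp only [one_mul, inv_one, mul_one]; first | exact Or.inl h1 | exact Or.inr h1,
          by simp only [one_mul, inv_one, mul_one]; first | exact Or.inl g | exact Or.inr g⟩
      | (refine ⟨b1, (key b1 (Or.inr (Or.inl rfl))).1, (key b1 (Or.inr (Or.inl rfl))).2.1,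
          (key b1 (Or.inr (Or.inl rfl))).2.2, ?_, ?_⟩
         · first | exact Or.inl h1 | exact Or.inr h1
         · rw [g]; decide)
      | (refine ⟨b2, (key b2 (Or.inr (Or.inr (Or.inl rfl)))).1, (key b2 (Or.inr (Or.inr (Or.inl rfl)))).2.1,
          (key b2 (Or.inr (Or.inr (Or.inl rfl)))).2.2, ?_, ?_⟩
         · rw [h1]; decide
         · first | exact Or.inl g | exact Or.inr g)
      | (refine ⟨b1 * b2, (key _ (Or.inr (Or.inr (Or.inr rfl)))).1, (key _ (Or.inr (Or.inr (Or.inr rfl)))).2.1,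
          (key _ (Or.inr (Or.inr (Or.inr rfl)))).2.2, ?_, ?_⟩
         · rw [show b1 * b2 * mkV p q r s * (b1 * b2)⁻¹ = b2 * (b1 * mkV p q r s * b1⁻¹) * b2⁻¹ by
             rw [show b1 * b2 = b2 * b1 by decide]; group, h1]
           decide
         · rw [show b1 * b2 * mkV p' q' r' s' * (b1 * b2)⁻¹ = b1 * (b2 * mkV p' q' r' s' * b2⁻¹) * b1⁻¹ by group, g]
           decide)
  set x' := f c * y with hx'
  have hx'g := hgmul c y hy
  have hconj : ∀ m n : M, y * f m * y⁻¹ = f n → x' * f m * x'⁻¹ = f (c * n * c⁻¹) := by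
    intro m n e
    rw [hx', show f c * y * f m * (f c * y)⁻¹ = f c * (y * f m * y⁻¹) * (f c)⁻¹ by group, e, map_mul, map_mul,
      map_inv]
  have ez1 : x' * f z1 * x'⁻¹ = f z1 := by rw [hconj _ _ hyz1, hgc.1]
  have ez2 : x' * f z2 * x'⁻¹ = f z2 := by rw [hconj _ _ hyz2, hgc.2]
  obtain ⟨p₁, q₁, r₁, s₁, hd1⟩ := hcb1 i j k l
  obtain ⟨p₂, q₂, r₂, s₂, hd2⟩ := hcb2 i' j' k' l'
  have eb1 : x' * f b1 * x'⁻¹ = f (b1 * mkV p₁ q₁ r₁ s₁) := by rw [hconj _ _ hy1, hd1]
  have eb2 : x' * f b2 * x'⁻¹ = f (b2 * mkV p₂ q₂ r₂ s₂) := by rw [hconj _ _ hy2, hd2]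
  obtain ⟨α, hα, ea1⟩ : ∃ α, (α = a1 ∨ α = a1 * z2) ∧ x' * f a1 * x'⁻¹ = f α := ⟨_, hca1, hconj _ _ ew₁⟩
  obtain ⟨β, hβ, ea2⟩ : ∃ β, (β = a2 ∨ β = a2 * z1) ∧ x' * f a2 * x'⁻¹ = f β := ⟨_, hca2, hconj _ _ ew₂⟩
  obtain ⟨σ, eσ⟩ : ∃ σ, x' * f gw * x'⁻¹ = f σ := hx'g.2.2 gw
  have hσz : σ * z1 = z2 * σ := hf (by
    have h : x' * f (gw * z1 * gw⁻¹) * x'⁻¹ = f (σ * z1 * σ⁻¹) := by
      simp only [map_mul, map_inv, ← eσ]
      conv_rhs => rw [← ez1]
      group
    rw [show gw * z1 * gw⁻¹ = z2 by decide, ez2] at h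
    rw [map_mul, map_mul, h]
    simp only [map_mul, map_inv]
    group)
  have hσa : σ * α * σ⁻¹ = β := hf (by
    rw [← ea2, ← show gw * a1 * gw⁻¹ = a2 by decide]
    simp only [map_mul, map_inv, ← eσ, ← ea1]
    group)
  have hTV : ∀ i j k l : Fin 2, x' * f (mkV i j k l) * x'⁻¹ =
      f (z1 ^ (i : ℕ) * z2 ^ (j : ℕ) * α ^ (k : ℕ) * β ^ (l : ℕ)) := by
    intro i j k l
    simp only [mkV, map_mul, map_pow, ← ea1, ← ea2, conj_pow]
    rw [show x' * (f z1 ^ (i : ℕ) * f z2 ^ (j : ℕ) * f a1 ^ (k : ℕ) * f a2 ^ (l : ℕ)) * x'⁻¹ =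
      (x' * f z1 * x'⁻¹) ^ (i : ℕ) * (x' * f z2 * x'⁻¹) ^ (j : ℕ) * (x' * f a1 ^ (k : ℕ) * x'⁻¹) *
        (x' * f a2 ^ (l : ℕ) * x'⁻¹) by simp only [conj_pow]; group, ez1, ez2]
  rcases hα with rfl | rfl <;> rcases hβ with rfl | rfl
  · -- trivial action
    refine hx'g.1 (sub_le_range f (hCmem x' fun v hv => ?_))
    obtain ⟨i, j, k, l, rfl⟩ := mem_sub f hv
    exact mul_inv_eq_iff_eq_mul.1 (hTV i j k l)
  · exact (transvection_ne σ hσz).1 hσa
  · exact (transvection_ne σ hσz).2 hσa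
  -- the remaining action gives a section of rank five
  have hfixV : ∀ v ∈ sub f, x' * v * x'⁻¹ = v → v ∈ zb f := by
    intro v hv e
    obtain ⟨i, j, k, l, rfl⟩ := mem_sub f hv
    rw [hTV] at e
    exact mem_zb f (transvection_fixed i j k l (hf e))
  have hxx : ∀ v ∈ sub f, x' * x' * v * (x' * x')⁻¹ = v := by
    intro v hv
    obtain ⟨i, j, k, l, rfl⟩ := mem_sub f hv
    rw [show x' * x' * f (mkV i j k l) * (x' * x')⁻¹ = x' * (x' * f (mkV i j k l) * x'⁻¹) * x'⁻¹ by group, hTV]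
    obtain ⟨p, q, r, s, e⟩ := VA_form _ ((by decide +kernel : ∀ i j k l : Fin 2,
      VA (z1 ^ (i : ℕ) * z2 ^ (j : ℕ) * (a1 * z2) ^ (k : ℕ) * (a2 * z1) ^ (l : ℕ))) i j k l)
    rw [e, hTV]
    congr 1
    exact (by decide +kernel : ∀ i j k l p q r s : Fin 2,
      z1 ^ (i : ℕ) * z2 ^ (j : ℕ) * (a1 * z2) ^ (k : ℕ) * (a2 * z1) ^ (l : ℕ) = mkV p q r s →
      z1 ^ (p : ℕ) * z2 ^ (q : ℕ) * (a1 * z2) ^ (r : ℕ) * (a2 * z1) ^ (s : ℕ) = mkV i j k l) i j k l p q r s e
  have hx2 : x' * x' ∈ zb f :=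
    hfixV _ (hCmem _ fun v hv => mul_inv_eq_iff_eq_mul.1 (hxx v hv)) (by group)
  obtain ⟨hd1', hd2'⟩ := displacement_zb f hf eb1 eb2
  refine base_false hr f hf (x := x') (fun h => ?_) hx2 (mul_inv_eq_iff_eq_mul.1 ez1) (mul_inv_eq_iff_eq_mul.1 ez2)
    (dev_mem_zb f (Or.inr (Or.inr (Or.inl rfl))) rfl ea1) (dev_mem_zb f (Or.inr (Or.inl rfl)) rfl ea2)
    (dev_mem_zb f hd1' rfl eb1) (dev_mem_zb f hd2' rfl eb2)
  obtain ⟨m, -, hm⟩ := h
  exact hx'g.1 ⟨m, hm⟩

end Cfsg.Agent.WreathEight
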