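import Cfsg.Agent.Lib.TwoGroups.WreathEightLocal

/-!
The normalizer of a wreath product of a dihedral group of order eight in a 2-group of sectional rank at most four.
-/

set_option autoImplicit false
set_option linter.style.haveILetI false

namespace Cfsg.Agent.WreathEight

open Cfsg.Agent.Harada

variable {S : Type*} [Group S] [Finite S]

/-- The embedding with the two classes of reflections exchanged. -/
def flip' (f : M →* S) : M →* S := f.comp theta

theorem flip_injective {f : M →* S} (hf : Function.Injective f) : Function.Injective (flip' f) :=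
  hf.comp theta_injective

theorem flip_range {f : M →* S} (hf : Function.Injective f) : (flip' f).range = f.range := by
  refine Subgroup.eq_of_le_of_card_ge (fun y ⟨m, hm⟩ => ⟨theta m, hm⟩) ?_
  rw [← Nat.card_congr (MonoidHom.ofInjective hf).toEquiv,
    ← Nat.card_congr (MonoidHom.ofInjective (flip_injective hf)).toEquiv]

theorem mem_sub_iff {f : M →* S} (hf : Function.Injective f) (m : M) : f m ∈ sub f ↔ VA m :=
  ⟨fun ⟨_, hn, he⟩ => hf he ▸ hn, fun h => ⟨m, h, rfl⟩⟩

theorem mem_flip_iff {f : M →* S} (hf : Function.Injective f) (m : M) : f m ∈ sub (flip' f) ↔ VB m := by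
  constructor
  · rintro ⟨n, hn, he⟩
    exact hf he ▸ theta_VA n hn
  · intro hm
    obtain ⟨n, hn, rfl⟩ := (by decide +kernel : ∀ m : M, VB m → ∃ n : M, VA n ∧ theta n = m) m hm
    exact ⟨n, hn, rfl⟩

theorem card_sub {f : M →* S} (hf : Function.Injective f) : Nat.card (sub f) = 16 := by
  rw [sub, Subgroup.card_map_of_injective hf, card_VAs]

theorem sub_le_range' {f : M →* S} (hf : Function.Injective f) : sub (flip' f) ≤ f.range :=
  (sub_le_range _).trans (flip_range hf).le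

/-- The normal elementary abelian subgroups of order sixteen. -/
theorem classify {f : M →* S} (hf : Function.Injective f) (E : Subgroup S) (hle : E ≤ f.range)
    (hn : ∀ g ∈ f.range, ∀ v ∈ E, g * v * g⁻¹ ∈ E) (hc : ∀ a ∈ E, ∀ b ∈ E, a * b = b * a)
    (hsq : ∀ a ∈ E, a * a = 1) (h16 : Nat.card E = 16) : E = sub f ∨ E = sub (flip' f) := by
  classical
  set E' := E.comap f with hE'
  have hmap : E'.map f = E := Subgroup.map_comap_eq_self hle
  have h16' : Nat.card E' = 16 := by rw [← Subgroup.card_map_of_injective hf, hmap, h16]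
  have hc' : ∀ a ∈ E', ∀ b ∈ E', a * b = b * a := fun a ha b hb => hf (by
    rw [map_mul, map_mul]; exact hc _ ha _ hb)
  have hsq' : ∀ a ∈ E', a * a = 1 := fun a ha => hf (by rw [map_mul, map_one]; exact hsq _ ha)
  have hn' : ∀ m : M, ∀ v ∈ E', m * v * m⁻¹ ∈ E' := fun m v hv => by
    show f (m * v * m⁻¹) ∈ E
    rw [map_mul, map_mul, map_inv]
    exact hn _ ⟨m, rfl⟩ _ hv
  have hbase : ∀ v ∈ E', v.right = 1 := by
    intro v hv
    by_contra hvr
    let Bs : Subgroup M := E' ⊓ (SemidirectProduct.rightHom : M →* C).ker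
    have hle8 : 16 ≤ 2 * Nat.card Bs := by
      have hsub : (E' : Set M) ⊆ (Bs : Set M) ∪ (fun u => v * u) '' (Bs : Set M) := by
        intro u hu
        by_cases hur : u.right = 1
        · exact Or.inl ⟨hu, hur⟩
        · refine Or.inr ⟨v * u, ⟨E'.mul_mem hv hu, ?_⟩, by
            show v * (v * u) = u
            rw [← mul_assoc, hsq' v hv, one_mul]⟩
          show (v * u).right = 1
          rw [SemidirectProduct.mul_right]
          exact (by decide : ∀ a b : C, a ≠ 1 → b ≠ 1 → a * b = 1) _ _ hvr hur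
      have h := (Set.ncard_le_ncard hsub (Set.toFinite _)).trans ((Set.ncard_union_le _ _).trans
        (Nat.add_le_add_left (Set.ncard_image_le (Set.toFinite _)) _))
      rw [← Nat.card_coe_set_eq, ← Nat.card_coe_set_eq] at h
      change Nat.card E' ≤ Nat.card Bs + Nat.card Bs at h
      omega
    let q : Bs → D := fun u => (u : M).left.1
    have hqinj : Function.Injective q := by
      intro u u' he
      have hm : (u : M) * (u' : M)⁻¹ ∈ Bs := Bs.mul_mem u.2 (Bs.inv_mem u'.2)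
      have hr : ((u : M) * (u' : M)⁻¹).right = 1 := hm.2
      have hl : ((u : M) * (u' : M)⁻¹).left.1 = 1 := by
        have hu : (u : M).right = 1 := u.2.2
        have hu' : (u' : M).right = 1 := u'.2.2
        have key : ∀ a b : M, a.right = 1 → b.right = 1 → (a * b⁻¹).left.1 = a.left.1 * (b.left.1)⁻¹ := by
          intro a b ha hb
          simp [SemidirectProduct.mul_left, SemidirectProduct.inv_left, ha, hb]
        rw [key _ _ hu hu', show (u : M).left.1 = (u' : M).left.1 from he, mul_inv_cancel]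
      have hd := hc' v hv _ hm.1
      have e : (u : M) * (u' : M)⁻¹ = ⟨(1, ((u : M) * (u' : M)⁻¹).left.2), 1⟩ :=
        SemidirectProduct.ext (Prod.ext hl rfl) hr
      rw [e] at hd
      have h0 := outside_centralizer v hvr _ hd
      have : (u : M) * (u' : M)⁻¹ = 1 := by rw [e, h0]; rfl
      exact Subtype.ext (mul_inv_eq_one.1 this)
    have hbij : Function.Bijective q := (Nat.bijective_iff_injective_and_card q).2 ⟨hqinj, by
      refine le_antisymm (Nat.card_le_card_of_injective q hqinj) ?_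
      rw [DihedralGroup.nat_card]
      omega⟩
    obtain ⟨u, hu⟩ := hbij.2 (DihedralGroup.r 1)
    have h1 := hsq' _ u.2.1
    have h2 : ((u : M) * (u : M)).left.1 = DihedralGroup.r 2 := by
      have hr : (u : M).right = 1 := u.2.2
      simp only [SemidirectProduct.mul_left, hr, map_one, MulAut.one_apply, Prod.fst_mul]
      rw [show (u : M).left.1 = DihedralGroup.r 1 from hu]
      decide
    rw [h1] at h2
    exact absurd h2 (by decide)
  have hp2 : ∀ v ∈ E', ∃ w ∈ E', w.left.1 = v.left.2 ∧ w.right = 1 := fun v hv =>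
    ⟨gw * v * gw⁻¹, hn' gw v hv, gw_swap v (hbase v hv), hbase _ (hn' gw v hv)⟩
  have hfst : ∀ v ∈ E', ∀ w ∈ E', v.left.1 * v.left.1 = 1 ∧ v.left.1 * w.left.1 = w.left.1 * v.left.1 := by
    intro v hv w hw
    have h1 := congrArg (fun m : M => m.left.1) (hsq' v hv)
    have h2 := congrArg (fun m : M => m.left.1) (hc' v hv w hw)
    simp only [SemidirectProduct.mul_left, hbase v hv, hbase w hw, map_one, MulAut.one_apply, Prod.fst_mul,
      SemidirectProduct.one_left, Prod.fst_one] at h1 h2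
    exact ⟨h1, h2⟩
  by_cases hall : ∀ v ∈ E', Ea v.left.1
  · left
    refine Subgroup.eq_of_le_of_card_ge (fun y hy => ?_) (by rw [card_sub hf, h16])
    obtain ⟨v, rfl⟩ := hle hy
    refine (mem_sub_iff hf v).2 ⟨hbase v hy, hall v hy, ?_⟩
    obtain ⟨w, hw, he, -⟩ := hp2 v hy
    exact he ▸ hall w hw
  · right
    push Not at hall
    obtain ⟨u, hu, hua⟩ := hall
    have hb : ∀ v ∈ E', Eb v.left.1 := fun v hv =>
      dihedral_four u.left.1 v.left.1 (hfst u hu v hv).1 (hfst v hv v hv).1 (hfst u hu v hv).2 hua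
    refine Subgroup.eq_of_le_of_card_ge (fun y hy => ?_) (by rw [card_sub (flip_injective hf), h16])
    obtain ⟨v, rfl⟩ := hle hy
    refine (mem_flip_iff hf v).2 ⟨hbase v hy, hb v hy, ?_⟩
    obtain ⟨w, hw, he, -⟩ := hp2 v hy
    exact he ▸ hb w hw

theorem center_iff (h2 : IsPGroup 2 S) (hr : Cfsg.SectionalPRankLE 2 4 S) {f : M →* S}
    (hf : Function.Injective f) (s : S) : s ∈ Subgroup.center S ↔ s = 1 ∨ s = f (z1 * z2) := by
  haveI : Fact (Nat.Prime 2) := ⟨Nat.prime_two⟩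
  have hsub : ∀ t ∈ Subgroup.center S, t = 1 ∨ t = f (z1 * z2) := by
    intro t ht
    have htc : t ∈ Subgroup.centralizer (sub f : Set S) := fun v _ => Subgroup.mem_center_iff.1 ht v
    rw [centralizer_sub h2 hr f hf] at htc
    obtain ⟨m, -, rfl⟩ := htc
    rcases center_eq m (fun n => hf (by rw [map_mul, map_mul]; exact Subgroup.mem_center_iff.1 ht _)) with h | h <;>
      rw [h]
    · exact Or.inl (map_one f)
    · exact Or.inr rfl
  refine ⟨hsub s, ?_⟩
  rintro (rfl | rfl)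
  · exact one_mem _
  · haveI : Nontrivial S := ⟨f z1, f 1, fun h => absurd (hf h) (by decide)⟩
    haveI := h2.center_nontrivial
    obtain ⟨⟨c, hc⟩, hc1⟩ := exists_ne (1 : Subgroup.center S)
    rcases hsub c hc with h | h
    · exact absurd (Subtype.ext h) hc1
    · exact h ▸ hc

theorem range_center {f : M →* S} (hf : Function.Injective f) (s : S) :
    s ∈ (Subgroup.center f.range).map f.range.subtype ↔ s = 1 ∨ s = f (z1 * z2) := by
  constructor
  · rintro ⟨⟨_, m, rfl⟩, hc, rfl⟩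
    rcases center_eq m (fun n => hf (by
      rw [map_mul, map_mul]
      exact congrArg Subtype.val (Subgroup.mem_center_iff.1 hc ⟨f n, n, rfl⟩))) with h | h <;>
      subst h
    · exact Or.inl (map_one f)
    · exact Or.inr rfl
  · rintro (rfl | rfl)
    · exact one_mem _
    · refine ⟨⟨_, z1 * z2, rfl⟩, Subgroup.mem_center_iff.2 ?_, rfl⟩
      rintro ⟨_, n, rfl⟩
      apply Subtype.ext
      show f n * f (z1 * z2) = f (z1 * z2) * f n
      rw [← map_mul, ← map_mul, Z_central]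

theorem card_center (h2 : IsPGroup 2 S) (hr : Cfsg.SectionalPRankLE 2 4 S) {f : M →* S}
    (hf : Function.Injective f) : Nat.card (Subgroup.center S) = 2 := by
  classical
  have hset : (Subgroup.center S : Set S) = {1, f (z1 * z2)} := by
    ext s; exact center_iff h2 hr hf s
  rw [← SetLike.coe_sort_coe, Nat.card_coe_set_eq, hset, Set.ncard_pair]
  rw [← map_one f]
  exact fun h => absurd (hf h) (by decide)

/-- The elements of the normalizer outside exchange the two subgroups. -/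
theorem exchange (h2 : IsPGroup 2 S) (hr : Cfsg.SectionalPRankLE 2 4 S) {f : M →* S} (hf : Function.Injective f)
    {x : S} (hx : x ∈ Subgroup.normalizer (f.range : Set S)) (hxP : x ∉ f.range) :
    (∀ v : S, v ∈ sub f ↔ x * v * x⁻¹ ∈ sub (flip' f)) ∧ ∀ v : S, v ∈ sub (flip' f) ↔ x * v * x⁻¹ ∈ sub f := by
  have key : ∀ g : M →* S, Function.Injective g → g.range = f.range →
      (sub g).map (MulAut.conj x).toMonoidHom ≠ sub g ∧
      ((sub g).map (MulAut.conj x).toMonoidHom = sub f ∨ (sub g).map (MulAut.conj x).toMonoidHom = sub (flip' f)) := by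
    intro g hg hgr
    refine ⟨fun he => hxP ?_, classify hf _ ?_ ?_ ?_ ?_ ?_⟩
    · rw [← hgr, ← normalizer_sub h2 hr g hg]
      refine Subgroup.mem_normalizer_iff.2 fun v => ?_
      constructor
      · intro hv; rw [← he]; exact ⟨v, hv, rfl⟩
      · intro hv
        rw [← he] at hv
        obtain ⟨w, hw, e⟩ := hv
        have : w = v := (MulAut.conj x).injective (e.trans (MulAut.conj_apply x v).symm)
        exact this ▸ hw
    · rintro _ ⟨v, hv, rfl⟩
      exact (Subgroup.mem_normalizer_iff.1 hx v).1 (hgr ▸ sub_le_range g hv)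
    · rintro y hy _ ⟨v, hv, rfl⟩
      have hy' : x⁻¹ * y * x ∈ f.range := by
        have := (Subgroup.mem_normalizer_iff.1 (Subgroup.inv_mem _ hx) y).1 hy
        rwa [inv_inv] at this
      refine ⟨(x⁻¹ * y * x) * v * (x⁻¹ * y * x)⁻¹, ?_, ?_⟩
      · exact (Subgroup.mem_normalizer_iff.1 (range_le_normalizer g (hgr ▸ hy')) v).1 hv
      · show x * _ * x⁻¹ = y * (x * v * x⁻¹) * y⁻¹
        group
    · rintro _ ⟨v, hv, rfl⟩ _ ⟨w, hw, rfl⟩
      rw [← map_mul, ← map_mul]
      congr 1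
      have := centralizer_sub h2 hr g hg
      rw [← this] at hv
      exact (hv w hw).symm
    · rintro _ ⟨v, hv, rfl⟩
      obtain ⟨i, j, k, l, rfl⟩ := mem_sub g hv
      rw [← map_mul, ← map_mul g, (by decide +kernel : ∀ i j k l : Fin 2, mkV i j k l * mkV i j k l = 1),
        map_one, map_one]
    · rw [Subgroup.card_map_of_injective (MulAut.conj x).injective, card_sub hg]
  obtain ⟨h1, h1'⟩ := key f hf rfl
  obtain ⟨g1, g1'⟩ := key (flip' f) (flip_injective hf) (flip_range hf)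
  have e1 := h1'.resolve_left h1
  have e2 := g1'.resolve_right g1
  have tr : ∀ (U W : Subgroup S), U.map (MulAut.conj x).toMonoidHom = W → ∀ v : S, v ∈ U ↔ x * v * x⁻¹ ∈ W := by
    intro U W h v
    rw [← h]
    exact ⟨fun hv => ⟨v, hv, rfl⟩, fun ⟨w, hw, e⟩ => (MulAut.conj x).injective e ▸ hw⟩
  exact ⟨tr _ _ e1, tr _ _ e2⟩

theorem mul_mem_range (h2 : IsPGroup 2 S) (hr : Cfsg.SectionalPRankLE 2 4 S) {f : M →* S}
    (hf : Function.Injective f) {x y : S} (hx : x ∈ Subgroup.normalizer (f.range : Set S)) (hxP : x ∉ f.range)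
    (hy : y ∈ Subgroup.normalizer (f.range : Set S)) (hyP : y ∉ f.range) : x * y ∈ f.range := by
  rw [← normalizer_sub h2 hr f hf]
  refine Subgroup.mem_normalizer_iff.2 fun v => ?_
  rw [(exchange h2 hr hf hy hyP).1 v, (exchange h2 hr hf hx hxP).2 (y * v * y⁻¹),
    show x * (y * v * y⁻¹) * x⁻¹ = x * y * v * (x * y)⁻¹ by group]

theorem exists_outside (h2 : IsPGroup 2 S) {f : M →* S} (hne : f.range ≠ ⊤) :
    ∃ x ∈ Subgroup.normalizer (f.range : Set S), x ∉ f.range := by
  haveI : Fact (Nat.Prime 2) := ⟨Nat.prime_two⟩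
  haveI := h2.isNilpotent
  obtain ⟨x, hx, hx'⟩ := SetLike.exists_of_lt
    (Group.normalizerCondition_of_isNilpotent (G := S) f.range (lt_top_iff_ne_top.2 hne))
  exact ⟨x, hx, hx'⟩

theorem relIndex_two (h2 : IsPGroup 2 S) (hr : Cfsg.SectionalPRankLE 2 4 S) {f : M →* S}
    (hf : Function.Injective f) (hne : f.range ≠ ⊤) :
    f.range.relIndex (Subgroup.normalizer (f.range : Set S)) = 2 := by
  obtain ⟨x, hx, hxP⟩ := exists_outside h2 hne
  rw [Subgroup.relIndex, Subgroup.index_eq_two_iff]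
  refine ⟨⟨x, hx⟩, fun b => ?_⟩
  rw [Subgroup.mem_subgroupOf, Subgroup.mem_subgroupOf]
  show Xor (((b : S) * x) ∈ f.range) ((b : S) ∈ f.range)
  by_cases hb : (b : S) ∈ f.range
  · exact Or.inr ⟨hb, fun h => hxP ((Subgroup.mul_mem_cancel_left _ hb).1 h)⟩
  · exact Or.inl ⟨mul_mem_range h2 hr hf b.2 hb hx hxP, hb⟩

/-- An exchanging element in standard position. -/
theorem exists_standard (h2 : IsPGroup 2 S) (hr : Cfsg.SectionalPRankLE 2 4 S) {f : M →* S}
    (hf : Function.Injective f) (hne : f.range ≠ ⊤) :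
    ∃ x ∈ Subgroup.normalizer (f.range : Set S), ∃ i j : Fin 2, x ∉ f.range ∧ x * f gw = f gw * x ∧
      x * f z1 = f z1 * x ∧ x * f z2 = f z2 * x ∧
      x * f a1 * x⁻¹ = f (b1 * z1 ^ (i : ℕ) * z2 ^ (j : ℕ)) ∧
      x * f (b1 * z1 ^ (i : ℕ) * z2 ^ (j : ℕ)) * x⁻¹ = f (a1 * z1) := by
  classical
  obtain ⟨x0, hx0, hx0P⟩ := exists_outside h2 hne
  set N := Subgroup.normalizer (f.range : Set S) with hN
  have hPN : f.range ≤ N := Subgroup.le_normalizer
  have himg : ∀ x ∈ N, ∀ m : M, ∃ n : M, x * f m * x⁻¹ = f n := fun x hx m => by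
    obtain ⟨n, hn⟩ := (Subgroup.mem_normalizer_iff.1 hx (f m)).1 ⟨m, rfl⟩
    exact ⟨n, hn.symm⟩
  have hout : ∀ p : M, ∀ x : S, x ∈ N → x ∉ f.range → f p * x ∈ N ∧ f p * x ∉ f.range := fun p x hx hxP =>
    ⟨N.mul_mem (hPN ⟨p, rfl⟩) hx, fun h => hxP ((Subgroup.mul_mem_cancel_left _ (⟨p, rfl⟩ : f p ∈ f.range)).1 h)⟩
  have hout' : ∀ p : M, ∀ x : S, x ∈ N → x ∉ f.range → x * f p ∈ N ∧ x * f p ∉ f.range := fun p x hx hxP =>
    ⟨N.mul_mem hx (hPN ⟨p, rfl⟩), fun h => hxP ((Subgroup.mul_mem_cancel_right _ (⟨p, rfl⟩ : f p ∈ f.range)).1 h)⟩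
  obtain ⟨x1, hx1, hx1P, i, j, hc⟩ : ∃ x ∈ N, x ∉ f.range ∧ ∃ i j : Fin 2,
      x * f a1 * x⁻¹ = f (b1 * z1 ^ (i : ℕ) * z2 ^ (j : ℕ)) := by
    obtain ⟨h12, h21⟩ := exchange h2 hr hf hx0 hx0P
    obtain ⟨n, hn⟩ := himg x0 hx0 a1
    have hnB : VB n := (mem_flip_iff hf n).1 (hn ▸ (h12 _).1 ((mem_sub_iff hf a1).2 (by decide)))
    have e : theta (b1 * z1) = a1 := by decide
    have hnA := conj_b (flip' f) f (flip_injective hf) hf h21 (b := b1 * z1) (m := n) (by decide +kernel)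
      (by show x0 * f (theta (b1 * z1)) * x0⁻¹ = f n; rw [e, hn])
    rcases hnA with h | h
    · obtain ⟨i, j, e⟩ := (by decide +kernel : ∀ n : M, VA (b1 * n) → VB n →
        ∃ i j : Fin 2, n = b1 * z1 ^ (i : ℕ) * z2 ^ (j : ℕ)) n h hnB
      exact ⟨x0, hx0, hx0P, i, j, by rw [hn, e]⟩
    · obtain ⟨i, j, e⟩ := (by decide +kernel : ∀ n : M, VA (b2 * n) → VB n →
        ∃ i j : Fin 2, gw * n * gw⁻¹ = b1 * z1 ^ (i : ℕ) * z2 ^ (j : ℕ)) n h hnB
      refine ⟨_, (hout gw x0 hx0 hx0P).1, (hout gw x0 hx0 hx0P).2, i, j, ?_⟩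
      rw [show f gw * x0 * f a1 * (f gw * x0)⁻¹ = f gw * (x0 * f a1 * x0⁻¹) * (f gw)⁻¹ by group, hn, ← e,
        map_mul, map_mul, map_inv]
  set c := b1 * z1 ^ (i : ℕ) * z2 ^ (j : ℕ) with hcdef
  obtain ⟨h12, h21⟩ := exchange h2 hr hf hx1 hx1P
  have hZ : x1 * f (z1 * z2) * x1⁻¹ = f (z1 * z2) := by
    have h := (center_iff h2 hr hf (f (z1 * z2))).2 (Or.inr rfl)
    rw [Subgroup.mem_center_iff.1 h x1, mul_inv_cancel_right]
  have hz1 : x1 * f z1 * x1⁻¹ = f z1 := by
    obtain ⟨w, hw⟩ := himg x1 hx1 b1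
    have hwA : VA w := (mem_sub_iff hf w).1 (hw ▸ (h21 _).1 ((mem_flip_iff hf b1).2 (by decide)))
    have h := commutator_image hw hc (show b1 * a1 * b1⁻¹ * a1⁻¹ = z1 by decide)
    obtain ⟨p, q, r, s, rfl⟩ := VA_form w hwA
    rcases (by decide +kernel : ∀ p q r s i j : Fin 2,
        mkV p q r s * (b1 * z1 ^ (i : ℕ) * z2 ^ (j : ℕ)) * (mkV p q r s)⁻¹ *
          (b1 * z1 ^ (i : ℕ) * z2 ^ (j : ℕ))⁻¹ = 1 ∨
        mkV p q r s * (b1 * z1 ^ (i : ℕ) * z2 ^ (j : ℕ)) * (mkV p q r s)⁻¹ *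
          (b1 * z1 ^ (i : ℕ) * z2 ^ (j : ℕ))⁻¹ = z1) p q r s i j with e | e
    · rw [e] at h
      exact absurd (hf ((conj_eq_one_iff.1 (h.trans (map_one f))).trans (map_one f).symm)) (by decide)
    · rw [e] at h; exact h
  have hz2 : x1 * f z2 * x1⁻¹ = f z2 := by
    have e : f z2 = f z1 * f (z1 * z2) := by
      rw [← map_mul, show z1 * (z1 * z2) = z2 by decide]
    rw [e, show x1 * (f z1 * f (z1 * z2)) * x1⁻¹ = (x1 * f z1 * x1⁻¹) * (x1 * f (z1 * z2) * x1⁻¹) by group,
      hz1, hZ]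
  -- the exchanging involution can be centralized
  obtain ⟨m, hm⟩ : ∃ m : M, x1⁻¹ * f gw * x1 = f m := by
    obtain ⟨m, hm⟩ := himg x1⁻¹ (N.inv_mem hx1) gw
    exact ⟨m, by rw [← hm, inv_inv]⟩
  have hmm : m * m = 1 := hf (by
    rw [map_mul, ← hm, map_one, show x1⁻¹ * f gw * x1 * (x1⁻¹ * f gw * x1) = x1⁻¹ * (f gw * f gw) * x1 by group,
      ← map_mul, show gw * gw = 1 by decide, map_one, mul_one, inv_mul_cancel])
  have hmr : m.right ≠ 1 := by
    intro h
    have h1 := ZB_central_base m h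
    have e : f gw = x1 * f m * x1⁻¹ := by rw [← hm]; group
    have hg : f gw * f z1 = f z1 * f gw := by
      rw [e]
      conv_lhs => rw [← hz1]
      conv_rhs => rw [← hz1]
      rw [show x1 * f m * x1⁻¹ * (x1 * f z1 * x1⁻¹) = x1 * (f m * f z1) * x1⁻¹ by group, ← map_mul, h1.1, map_mul]
      group
    rw [← map_mul, ← map_mul] at hg
    exact absurd (hf hg) (by decide)
  obtain ⟨p, q, hpa, hpm⟩ := swap_conjugate m hmr hmm
  set w : M := ⟨(p, q), 1⟩ with hw
  obtain ⟨hx2, hx2P⟩ := hout' w x1 hx1 hx1P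
  set x2 := x1 * f w with hx2def
  have hxgw : x2 * f gw = f gw * x2 := by
    have e : f w * f gw * (f w)⁻¹ = f m := by rw [← map_inv, ← map_mul, ← map_mul, hpm]
    rw [← hm] at e
    rw [← mul_inv_eq_iff_eq_mul,
      show x2 * f gw * x2⁻¹ = x1 * (f w * f gw * (f w)⁻¹) * x1⁻¹ by rw [hx2def]; group, e]
    group
  have hconj2 : ∀ n : M, x2 * f n * x2⁻¹ = x1 * f (w * n * w⁻¹) * x1⁻¹ := fun n => by
    rw [hx2def, map_mul, map_mul, map_inv]; group
  have hwz := ZB_central_base w rfl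
  have ez1 : x2 * f z1 = f z1 * x2 := by
    rw [← mul_inv_eq_iff_eq_mul, hconj2, hwz.1, mul_inv_cancel_right, hz1]
  have ez2 : x2 * f z2 = f z2 * x2 := by
    rw [← mul_inv_eq_iff_eq_mul, hconj2, hwz.2, mul_inv_cancel_right, hz2]
  have ec : x2 * f a1 * x2⁻¹ = f c := by rw [hconj2, hpa, mul_inv_cancel_right, hc]
  obtain ⟨d, hd⟩ := mul_mem_range h2 hr hf hx2 hx2P hx2 hx2P
  have hdz : d * z1 = z1 * d := hf (by
    rw [map_mul, map_mul, hd]
    exact ((show Commute x2 (f z1) from ez1).mul_left (show Commute x2 (f z1) from ez1)).eq)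
  have ev : x2 * f c * x2⁻¹ = f (d * a1 * d⁻¹) := by
    conv_rhs => rw [map_mul, map_mul, map_inv, hd]
    rw [← ec]; group
  rcases (by decide +kernel : ∀ d : M, d * z1 = z1 * d → d * a1 * d⁻¹ = a1 * z1 ∨ d * a1 * d⁻¹ = a1) d hdz
    with hv | hv
  · exact ⟨x2, hx2, i, j, hx2P, hxgw, ez1, ez2, ec, by rw [ev, hv]⟩
  · refine ⟨x2 * f (a1 * a2), (hout' (a1 * a2) x2 hx2 hx2P).1, i, j, (hout' (a1 * a2) x2 hx2 hx2P).2, ?_, ?_, ?_,
      ?_, ?_⟩
    · exact ((show Commute x2 (f gw) from hxgw).mul_left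
        ((show Commute (a1 * a2) gw from (by decide : (a1 * a2) * gw = gw * (a1 * a2))).map f)).eq
    · exact ((show Commute x2 (f z1) from ez1).mul_left
        ((show Commute (a1 * a2) z1 from (by decide : (a1 * a2) * z1 = z1 * (a1 * a2))).map f)).eq
    · exact ((show Commute x2 (f z2) from ez2).mul_left
        ((show Commute (a1 * a2) z2 from (by decide : (a1 * a2) * z2 = z2 * (a1 * a2))).map f)).eq
    · rw [show x2 * f (a1 * a2) * f a1 * (x2 * f (a1 * a2))⁻¹ =
        x2 * (f (a1 * a2) * f a1 * (f (a1 * a2))⁻¹) * x2⁻¹ by group, ← map_inv, ← map_mul, ← map_mul,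
        show a1 * a2 * a1 * (a1 * a2)⁻¹ = a1 by decide, ec]
    · rw [show x2 * f (a1 * a2) * f c * (x2 * f (a1 * a2))⁻¹ =
        x2 * (f (a1 * a2) * f c * (f (a1 * a2))⁻¹) * x2⁻¹ by group, ← map_inv, ← map_mul, ← map_mul,
        (by decide +kernel : ∀ i j : Fin 2, a1 * a2 * (b1 * z1 ^ (i : ℕ) * z2 ^ (j : ℕ)) * (a1 * a2)⁻¹ =
          b1 * z1 ^ (i : ℕ) * z2 ^ (j : ℕ) * z1) i j, map_mul, ← conj_mul, ev, hv,
        mul_inv_eq_iff_eq_mul.2 ez1, ← map_mul]

end Cfsg.Agent.WreathEight
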