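import Mathlib

/-!
The wreath product of the dihedral group of order eight by a group of order two, as a computable model.
-/

set_option autoImplicit false

namespace Cfsg.Agent.WreathEight

abbrev D := DihedralGroup 4

abbrev C := Multiplicative (ZMod 2)

/-- The exchange of the two factors. -/
def swapAut : C →* MulAut (D × D) where
  toFun e := if e = 1 then 1 else MulEquiv.prodComm
  map_one' := by simp
  map_mul' := by
    intro e e'
    have h : ∀ x : C, x = 1 ∨ x = Multiplicative.ofAdd 1 := by decide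
    rcases h e with rfl | rfl <;> rcases h e' with rfl | rfl <;>
      simp [show (Multiplicative.ofAdd (1 : ZMod 2)) * Multiplicative.ofAdd 1 = 1 from by decide] <;> rfl

/-- The model. -/
abbrev M := (D × D) ⋊[swapAut] C

instance : DecidableEq M := fun x y =>
  decidable_of_iff (x.left = y.left ∧ x.right = y.right) (by rw [SemidirectProduct.ext_iff])

instance : Fintype M := Fintype.ofEquiv _ SemidirectProduct.equivProd.symm

/-- Generators: an element of order four, a reflection and the exchange. -/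
def gr : M := ⟨(DihedralGroup.r 1, 1), 1⟩
def gt : M := ⟨(DihedralGroup.sr 0, 1), 1⟩
def gw : M := ⟨(1, 1), Multiplicative.ofAdd 1⟩

theorem card_M : Nat.card M = 128 := by
  rw [SemidirectProduct.card, Nat.card_prod, DihedralGroup.nat_card]
  simp [Nat.card_eq_fintype_card]

section Lift

variable {G : Type*} [Group G]

/-- The homomorphism from the dihedral group given by an inverted element. -/
def liftD (R T : G) (hR : R ^ 4 = 1) (hT : T * T = 1) (hinv : T * R * T = R⁻¹) : D →* G where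
  toFun
    | .r i => R ^ i.val
    | .sr i => T * R ^ i.val
  map_one' := pow_zero R
  map_mul' := by
    have hmod : ∀ n : ℕ, R ^ n = R ^ (n % 4) := fun n => pow_eq_pow_mod n hR
    have hTi : T⁻¹ = T := inv_eq_of_mul_eq_one_right hT
    have hconj : ∀ n : ℕ, R ^ n * T = T * (R ^ n)⁻¹ := by
      intro n
      rw [← inv_pow, ← hinv]
      have e : (T * R * T) ^ n = T * R ^ n * T := by
        have := conj_pow (i := n) (a := T) (b := R)
        rwa [hTi] at this
      rw [e, ← mul_assoc, ← mul_assoc, hT, one_mul]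
    have hsub : ∀ i j : ZMod 4, (R ^ i.val)⁻¹ * R ^ j.val = R ^ (j - i).val := by
      intro i j
      rw [inv_mul_eq_iff_eq_mul, ← pow_add, hmod (i.val + (j - i).val), ← ZMod.val_add, add_sub_cancel]
    have hadd : ∀ i j : ZMod 4, R ^ i.val * R ^ j.val = R ^ (i + j).val := by
      intro i j
      rw [← pow_add, hmod, ← ZMod.val_add]
    rintro (i | i) (j | j) <;>
      simp only [DihedralGroup.r_mul_r, DihedralGroup.r_mul_sr, DihedralGroup.sr_mul_r, DihedralGroup.sr_mul_sr]
    · exact (hadd i j).symm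
    · rw [← mul_assoc, hconj, mul_assoc, hsub]
    · rw [mul_assoc, hadd]
    · rw [mul_assoc, ← mul_assoc (R ^ i.val) T, hconj, mul_assoc T (R ^ i.val)⁻¹, hsub, ← mul_assoc, hT, one_mul]

/-- Elements with the defining relations give a homomorphism from the model. -/
theorem exists_hom (R T W : G) (hR : R ^ 4 = 1) (hT : T * T = 1) (hW : W * W = 1)
    (hinv : T * R * T = R⁻¹) (hrr : Commute R (W * R * W)) (hrt : Commute R (W * T * W))
    (htt : Commute T (W * T * W)) :
    ∃ F : M →* G, F gr = R ∧ F gt = T ∧ F gw = W := by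
  have hWi : W⁻¹ = W := inv_eq_of_mul_eq_one_right hW
  set φ := liftD R T hR hT hinv with hφ
  set ψ := (MulAut.conj W).toMonoidHom.comp φ with hψ
  have hWW : ∀ g : G, W * (W * g * W) * W = g := fun g => by
    rw [← mul_assoc, ← mul_assoc, hW, one_mul, mul_assoc, hW, mul_one]
  have htr : Commute T (W * R * W) := by
    have := hrt.map (MulAut.conj W).toMonoidHom
    simp only [MulEquiv.coe_toMonoidHom, MulAut.conj_apply, hWi, hWW] at this
    exact this.symm
  have hψr : ∀ d : D, ψ d = W * φ d * W := fun d => by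
    rw [hψ, MonoidHom.comp_apply, MulEquiv.coe_toMonoidHom, MulAut.conj_apply, hWi]
  have hcomm : ∀ c d : D, Commute (φ c) (ψ d) := by
    have hbase : ∀ d : D, Commute R (ψ d) ∧ Commute T (ψ d) := by
      intro d
      rw [hψr]
      have hp : ∀ n : ℕ, W * R ^ n * W = (W * R * W) ^ n := fun n => by
        have := conj_pow (i := n) (a := W) (b := R)
        rw [hWi] at this
        exact this.symm
      rcases d with i | i
      · show Commute R (W * R ^ i.val * W) ∧ Commute T (W * R ^ i.val * W)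
        rw [hp]
        exact ⟨hrr.pow_right _, htr.pow_right _⟩
      · show Commute R (W * (T * R ^ i.val) * W) ∧ Commute T (W * (T * R ^ i.val) * W)
        have e : W * (T * R ^ i.val) * W = (W * T * W) * (W * R ^ i.val * W) := by
          simp only [mul_assoc]; rw [← mul_assoc W W, hW, one_mul]
        rw [e, hp]
        exact ⟨hrt.mul_right (hrr.pow_right _), htt.mul_right (htr.pow_right _)⟩
    intro c d
    rcases c with i | i
    · exact (hbase d).1.pow_left _
    · exact ((hbase d).2).mul_left ((hbase d).1.pow_left _)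
  set fB := φ.noncommCoprod ψ hcomm with hfB
  let fC : C →* G :=
    { toFun := fun e => if e = 1 then 1 else W
      map_one' := by simp
      map_mul' := by
        intro e e'
        have h : ∀ x : C, x = 1 ∨ x = Multiplicative.ofAdd 1 := by decide
        rcases h e with rfl | rfl <;> rcases h e' with rfl | rfl <;>
          simp [show (Multiplicative.ofAdd (1 : ZMod 2)) * Multiplicative.ofAdd 1 = 1 from by decide, hW] }
  have hlift : ∀ e : C, fB.comp (swapAut e).toMonoidHom = (MulAut.conj (fC e)).toMonoidHom.comp fB := by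
    intro e
    have h : ∀ x : C, x = 1 ∨ x = Multiplicative.ofAdd 1 := by decide
    rcases h e with rfl | rfl
    · ext p <;> simp
    · refine MonoidHom.ext fun p => ?_
      show fB (MulEquiv.prodComm p) = W * fB p * W⁻¹
      simp only [hfB, MonoidHom.noncommCoprod_apply, MulEquiv.coe_prodComm, Prod.fst_swap, Prod.snd_swap, hψr, hWi]
      rw [show W * (φ p.1 * (W * φ p.2 * W)) * W = (W * φ p.1 * W) * φ p.2 by
        simp only [mul_assoc, hW, mul_one]]
      exact ((hψr p.1) ▸ (hcomm p.2 p.1)).eq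
  let F : M →* G := SemidirectProduct.lift fB fC hlift
  refine ⟨F, ?_, ?_, ?_⟩
  · show φ (DihedralGroup.r 1) * ψ 1 * fC 1 = R
    rw [map_one, map_one, mul_one, mul_one]
    exact pow_one R
  · show φ (DihedralGroup.sr 0) * ψ 1 * fC 1 = T
    rw [map_one, map_one, mul_one, mul_one]
    exact (congrArg (T * ·) (pow_zero R)).trans (mul_one T)
  · show φ 1 * ψ 1 * fC (Multiplicative.ofAdd 1) = W
    rw [map_one, map_one, one_mul, one_mul]
    show (if Multiplicative.ofAdd (1 : ZMod 2) = 1 then (1 : G) else W) = W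
    exact if_neg (by decide)

/-- Generators of a group of order 128 with the defining relations give an isomorphism with the model. -/
theorem exists_equiv [Finite G] (R T W : G) (hR : R ^ 4 = 1) (hT : T * T = 1) (hW : W * W = 1)
    (hinv : T * R * T = R⁻¹) (hrr : Commute R (W * R * W)) (hrt : Commute R (W * T * W))
    (htt : Commute T (W * T * W)) (hgen : Subgroup.closure {R, T, W} = (⊤ : Subgroup G))
    (hcard : Nat.card G = 128) : Nonempty (M ≃* G) := by
  obtain ⟨F, hr, ht, hw⟩ := exists_hom R T W hR hT hW hinv hrr hrt htt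
  have hsur : Function.Surjective F := by
    rw [← MonoidHom.range_eq_top, eq_top_iff, ← hgen, Subgroup.closure_le]
    rintro g (hg | hg | hg) <;> rw [hg]
    exacts [⟨gr, hr⟩, ⟨gt, ht⟩, ⟨gw, hw⟩]
  exact ⟨MulEquiv.ofBijective F ((Nat.bijective_iff_surjective_and_card F).2 ⟨hsur, by rw [card_M, hcard]⟩)⟩

end Lift

/-! ### The two normal elementary abelian subgroups of order sixteen -/

def z1 : M := ⟨(DihedralGroup.r 2, 1), 1⟩
def z2 : M := ⟨(1, DihedralGroup.r 2), 1⟩
def a1 : M := ⟨(DihedralGroup.sr 0, 1), 1⟩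
def a2 : M := ⟨(1, DihedralGroup.sr 0), 1⟩
def b1 : M := ⟨(DihedralGroup.sr 1, 1), 1⟩
def b2 : M := ⟨(1, DihedralGroup.sr 1), 1⟩

/-- The first four subgroup of the dihedral group. -/
def Ea (d : D) : Prop :=
  d = 1 ∨ d = DihedralGroup.r 2 ∨ d = DihedralGroup.sr 0 ∨ d = DihedralGroup.sr 2

/-- The second four subgroup of the dihedral group. -/
def Eb (d : D) : Prop :=
  d = 1 ∨ d = DihedralGroup.r 2 ∨ d = DihedralGroup.sr 1 ∨ d = DihedralGroup.sr 3

instance : DecidablePred Ea := fun _ => inferInstanceAs (Decidable (_ ∨ _ ∨ _ ∨ _))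
instance : DecidablePred Eb := fun _ => inferInstanceAs (Decidable (_ ∨ _ ∨ _ ∨ _))

abbrev VA (m : M) : Prop := m.right = 1 ∧ Ea m.left.1 ∧ Ea m.left.2
abbrev VB (m : M) : Prop := m.right = 1 ∧ Eb m.left.1 ∧ Eb m.left.2
abbrev ZB (m : M) : Prop := m = 1 ∨ m = z1 ∨ m = z2 ∨ m = z1 * z2

/-- The elements of the first subgroup. -/
def mkV (i j k l : Fin 2) : M := z1 ^ (i : ℕ) * z2 ^ (j : ℕ) * a1 ^ (k : ℕ) * a2 ^ (l : ℕ)

theorem VA_form : ∀ v : M, VA v → ∃ i j k l : Fin 2, v = mkV i j k l := by decide +kernel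

theorem VA_mkV : ∀ i j k l : Fin 2, VA (mkV i j k l) := by decide +kernel

/-- The first subgroup. -/
def VAs : Subgroup M where
  carrier := {m | VA m}
  one_mem' := by show VA 1; decide
  mul_mem' := by
    intro v w hv hw
    obtain ⟨i, j, k, l, rfl⟩ := VA_form v hv
    obtain ⟨i', j', k', l', rfl⟩ := VA_form w hw
    exact (by decide +kernel : ∀ i j k l i' j' k' l' : Fin 2, VA (mkV i j k l * mkV i' j' k' l')) i j k l i' j' k' l'
  inv_mem' := by
    intro v hv
    exact (by decide +kernel : ∀ v : M, VA v → VA v⁻¹) v hv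

theorem card_VAs : Nat.card VAs = 16 := by
  change Nat.card {m : M // VA m} = 16
  rw [Nat.card_eq_fintype_card]
  decide +kernel

theorem VA_normal : ∀ m : M, ∀ i j k l : Fin 2, VA (m * mkV i j k l * m⁻¹) := by decide +kernel

theorem VA_self : ∀ m : M, (∀ i j k l : Fin 2, mkV i j k l * m = m * mkV i j k l) → VA m := by decide +kernel

theorem VA_fixed : ∀ i j k l : Fin 2, (∀ m : M, m * mkV i j k l = mkV i j k l * m) →
    mkV i j k l = 1 ∨ mkV i j k l = z1 * z2 := by decide +kernel

theorem center_eq : ∀ v : M, (∀ m : M, m * v = v * m) → v = 1 ∨ v = z1 * z2 := by decide +kernel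

theorem Z_central : ∀ m : M, m * (z1 * z2) = z1 * z2 * m := by decide +kernel

/-- Exchanging the two classes of reflections. -/
def thetaD : D →* D where
  toFun
    | .r i => .r i
    | .sr i => .sr (i + 1)
  map_one' := by rfl
  map_mul' := by decide +kernel

/-- The automorphism exchanging the two subgroups. -/
def theta : M →* M where
  toFun m := ⟨(thetaD m.left.1, thetaD m.left.2), m.right⟩
  map_one' := by decide +kernel
  map_mul' := by
    intro x y
    have h : ∀ e : C, e = 1 ∨ e = Multiplicative.ofAdd 1 := by decide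
    ext
    · rcases h x.right with e | e
      · simp [SemidirectProduct.mul_left, e]
      · simp only [SemidirectProduct.mul_left, e, Prod.fst_mul]
        show thetaD (x.left.1 * y.left.2) = thetaD x.left.1 * thetaD y.left.2
        rw [map_mul]
    · rcases h x.right with e | e
      · simp [SemidirectProduct.mul_left, e]
      · simp only [SemidirectProduct.mul_left, e, Prod.snd_mul]
        show thetaD (x.left.2 * y.left.1) = thetaD x.left.2 * thetaD y.left.1
        rw [map_mul]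
    · rfl

theorem theta_injective : Function.Injective theta := by
  rw [injective_iff_map_eq_one]
  decide +kernel

theorem theta_VA : ∀ m : M, VA m → VB (theta m) := by decide +kernel

theorem exists_VA_not_VB : VA a1 ∧ ¬ VB a1 := by decide

theorem VA_inter_VB : ∀ m : M, VA m → VB m → ZB m := by decide +kernel

theorem dihedral_four : ∀ a b : D, a * a = 1 → b * b = 1 → a * b = b * a → ¬ Ea a → Eb b := by decide +kernel

theorem dihedral_involution : ∀ a : D, a * a = 1 → ¬ Ea a → Eb a := by decide +kernel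

theorem outside_centralizer : ∀ m : M, m.right ≠ 1 → ∀ d : D,
    m * ⟨(1, d), 1⟩ = ⟨(1, d), 1⟩ * m → d = 1 := by decide +kernel

theorem gw_swap : ∀ m : M, m.right = 1 → (gw * m * gw⁻¹).left.1 = m.left.2 := by decide +kernel

theorem generated : ∀ m : M, ∃ i j k l e f n : Fin 2,
    m = mkV i j k l * b1 ^ (e : ℕ) * b2 ^ (f : ℕ) * gw ^ (n : ℕ) := by decide +kernel

/-- The base group elements commuting with a given one on the first subgroup. -/
def fixCount (m : M) : ℕ :=
  ((Finset.univ : Finset (Fin 2 × Fin 2 × Fin 2 × Fin 2)).filter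
    fun t => m * mkV t.1 t.2.1 t.2.2.1 t.2.2.2 = mkV t.1 t.2.1 t.2.2.1 t.2.2.2 * m).card

theorem fixCount_eight : ∀ m : M, fixCount m = 8 → VA (b1 * m) ∨ VA (b2 * m) := by decide +kernel

theorem fixCount_b : fixCount b1 = 8 ∧ fixCount b2 = 8 := by decide +kernel

theorem comm_b1 : ∀ i j k l i' j' k' l' : Fin 2, b1 * mkV i j k l * (mkV i' j' k' l') * (b1 * mkV i j k l)⁻¹ *
    (mkV i' j' k' l')⁻¹ = 1 ∨ b1 * mkV i j k l * (mkV i' j' k' l') * (b1 * mkV i j k l)⁻¹ *
    (mkV i' j' k' l')⁻¹ = z1 := by decide +kernel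

theorem comm_b2 : ∀ i j k l i' j' k' l' : Fin 2, b2 * mkV i j k l * (mkV i' j' k' l') * (b2 * mkV i j k l)⁻¹ *
    (mkV i' j' k' l')⁻¹ = 1 ∨ b2 * mkV i j k l * (mkV i' j' k' l') * (b2 * mkV i j k l)⁻¹ *
    (mkV i' j' k' l')⁻¹ = z2 := by decide +kernel

theorem fixed_b1 : ∀ i j k l : Fin 2, mkV i j k l * b1 = b1 * mkV i j k l → ¬ ZB (mkV i j k l) →
    (mkV i j k l = a2 ∨ mkV i j k l = a2 * z1 ∨
      b2 * mkV i j k l * b2⁻¹ = a2 ∨ b2 * mkV i j k l * b2⁻¹ = a2 * z1) := by decide +kernel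

theorem fixed_b2 : ∀ i j k l : Fin 2, mkV i j k l * b2 = b2 * mkV i j k l → ¬ ZB (mkV i j k l) →
    (mkV i j k l = a1 ∨ mkV i j k l = a1 * z2 ∨
      b1 * mkV i j k l * b1⁻¹ = a1 ∨ b1 * mkV i j k l * b1⁻¹ = a1 * z2) := by decide +kernel

theorem comm_pair : ∀ i j k l i' j' k' l' : Fin 2, mkV i j k l * b1 = b1 * mkV i j k l →
    mkV i' j' k' l' * b2 = b2 * mkV i' j' k' l' →
    b1 * mkV i j k l * (b2 * mkV i' j' k' l') = b2 * mkV i' j' k' l' * (b1 * mkV i j k l) →
    ZB (mkV i j k l) ∧ ZB (mkV i' j' k' l') := by decide +kernel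

theorem transvection_ne : ∀ m : M, m * z1 = z2 * m →
    m * a1 * m⁻¹ ≠ a2 * z1 ∧ m * (a1 * z2) * m⁻¹ ≠ a2 := by decide +kernel

theorem transvection_fixed : ∀ i j k l : Fin 2,
    z1 ^ (i : ℕ) * z2 ^ (j : ℕ) * (a1 * z2) ^ (k : ℕ) * (a2 * z1) ^ (l : ℕ) = mkV i j k l →
    ZB (mkV i j k l) := by decide +kernel

theorem basics : a1 * z1 = z1 * a1 ∧ b1 * a1 * b1⁻¹ * a1⁻¹ = z1 ∧ b2 * a2 * b2⁻¹ * a2⁻¹ = z2 ∧ z1 ≠ 1 ∧ z2 ≠ 1 ∧
    VA a1 ∧ VA a2 ∧ VA z1 ∧ VA z2 ∧ ¬ VA b1 ∧ ¬ VA b2 ∧ ¬ VA (b1 * b2) ∧ ¬ ZB a1 ∧ ¬ ZB a2 ∧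
    gw * z1 * gw⁻¹ = z2 ∧ gw * a1 * gw⁻¹ = a2 := by decide +kernel

theorem ZB_central_base : ∀ m : M, m.right = 1 → m * z1 = z1 * m ∧ m * z2 = z2 * m := by decide +kernel

theorem base_sq : ∀ m : M, m.right = 1 → ZB (m * m) := by decide +kernel

/-- Involutions outside the base group are conjugate under the centralizer of `a1`. -/
theorem swap_conjugate : ∀ m : M, m.right ≠ 1 → m * m = 1 →
    ∃ c d : D, (⟨(c, d), 1⟩ : M) * a1 = a1 * ⟨(c, d), 1⟩ ∧ (⟨(c, d), 1⟩ : M) * gw * (⟨(c, d), 1⟩ : M)⁻¹ = m := by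
  decide +kernel

/-- The square of an adjusted exchanging element. -/
theorem square_adjusted : ∀ d : M, ∀ i j : Fin 2, d * gw = gw * d → d * z1 = z1 * d →
    d * a1 * d⁻¹ = a1 * z1 →
    (b1 * z1 ^ (i : ℕ) * z2 ^ (j : ℕ)) * (gw * (b1 * z1 ^ (i : ℕ) * z2 ^ (j : ℕ)) * gw⁻¹) * d * (a1 * a2) = 1 ∨
      (b1 * z1 ^ (i : ℕ) * z2 ^ (j : ℕ)) * (gw * (b1 * z1 ^ (i : ℕ) * z2 ^ (j : ℕ)) * gw⁻¹) * d * (a1 * a2) = z1 * z2 ∨
      ¬ d * (b1 * z1 ^ (i : ℕ) * z2 ^ (j : ℕ)) * d⁻¹ = b1 * z1 ^ (i : ℕ) * z2 ^ (j : ℕ) * z1 := by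
  decide +kernel

theorem square_order : ∀ d : M, d * gw = gw * d → d * a1 * d⁻¹ = a1 * z1 → d.right = 1 →
    d * d = 1 ∨ d * d = z1 * z2 := by decide +kernel

end Cfsg.Agent.WreathEight
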