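import Cfsg.Agent.Lib.TwoGroups.WreathEightMain

/-!
The quotient of the normalizer by the centre, and the Sylow subgroups of the symmetric group on eight points.
-/

set_option autoImplicit false
set_option linter.style.haveILetI false

namespace Cfsg.Agent.WreathEight

open Cfsg.Agent.Harada

/-- A Sylow 2-subgroup of the symmetric group on eight points is a copy of the model. -/
theorem sylow_equiv (T : Sylow 2 (Equiv.Perm (Fin 8))) : Nonempty (M ≃* (T : Subgroup (Equiv.Perm (Fin 8)))) := by
  classical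
  haveI : Fact (Nat.Prime 2) := ⟨Nat.prime_two⟩
  set R : Equiv.Perm (Fin 8) := Equiv.swap 0 1 * Equiv.swap 1 2 * Equiv.swap 2 3 with hR
  set U : Equiv.Perm (Fin 8) := Equiv.swap 1 3 with hU
  set W : Equiv.Perm (Fin 8) := Equiv.swap 0 4 * Equiv.swap 1 5 * Equiv.swap 2 6 * Equiv.swap 3 7 with hW
  obtain ⟨F, h1, h2, h3⟩ := exists_hom R U W (by decide) (by decide) (by decide) (by decide)
    (show _ = _ by decide) (show _ = _ by decide) (show _ = _ by decide)
  have hZ : F (z1 * z2) ≠ 1 := by
    rw [show z1 * z2 = (gr * gr) * (gw * (gr * gr) * gw) by decide]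
    simp only [map_mul, h1, h3]
    decide
  have hM : IsPGroup 2 M := IsPGroup.iff_card.2 ⟨7, by rw [card_M]; norm_num⟩
  have hinj : Function.Injective F := by
    rw [← MonoidHom.ker_eq_bot_iff]
    by_contra hne
    haveI := hM.isNilpotent
    obtain ⟨c, hc, hc1⟩ := (Subgroup.bot_or_exists_ne_one _).resolve_left
      (SolvStruct.inf_center_ne_bot (G := M) (N := F.ker) hne)
    rcases center_eq c (fun m => Subgroup.mem_center_iff.1 hc.2 m) with h | h
    · exact hc1 h
    · exact hZ (h ▸ hc.1)
  have hcard : Nat.card F.range = 2 ^ (Nat.card (Equiv.Perm (Fin 8))).factorization 2 := by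
    rw [← Nat.card_congr (MonoidHom.ofInjective hinj).toEquiv, card_M, Nat.card_perm, Nat.card_fin,
      show Nat.factorial 8 = 2 ^ 7 * 315 from rfl, Nat.factorization_mul (by norm_num) (by norm_num),
      Nat.Prime.factorization_pow Nat.prime_two, Finsupp.add_apply, Finsupp.single_eq_same,
      Nat.factorization_eq_zero_of_not_dvd (by norm_num)]
    norm_num
  exact ⟨(MonoidHom.ofInjective hinj).trans ((Sylow.ofCard F.range hcard).equiv T)⟩

variable {S : Type*} [Group S] [Finite S]

/-- The quotient of the normalizer by the centre is again a copy of the model. -/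
theorem quotient_equiv (h2 : IsPGroup 2 S) (hr : Cfsg.SectionalPRankLE 2 4 S) {f : M →* S}
    (hf : Function.Injective f) (hne : f.range ≠ ⊤)
    [((Subgroup.center S).subgroupOf (Subgroup.normalizer (f.range : Set S))).Normal] :
    Nonempty (M ≃* ↥(Subgroup.normalizer (f.range : Set S)) ⧸
      (Subgroup.center S).subgroupOf (Subgroup.normalizer (f.range : Set S))) := by
  classical
  set N := Subgroup.normalizer (f.range : Set S) with hN
  set Z' := (Subgroup.center S).subgroupOf N with hZ'
  obtain ⟨x, hxN, i, j, hxP, hgw, hz1, hz2, hc, hc2⟩ := exists_standard h2 hr hf hne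
  have hPN : f.range ≤ N := Subgroup.le_normalizer
  set c := b1 * z1 ^ (i : ℕ) * z2 ^ (j : ℕ) with hcdef
  let F : M → N := fun m => ⟨f m, hPN ⟨m, rfl⟩⟩
  have hFmul : ∀ m n, F m * F n = F (m * n) := fun m n => Subtype.ext (map_mul f m n).symm
  set X : N := ⟨x, hxN⟩ with hX
  set π := QuotientGroup.mk' Z' with hπ
  have hker : ∀ y : N, ((y : S) = 1 ∨ (y : S) = f (z1 * z2)) → π y = 1 := fun y hy => by
    rw [hπ, QuotientGroup.mk'_apply, QuotientGroup.eq_one_iff, hZ', Subgroup.mem_subgroupOf]
    exact (center_iff h2 hr hf _).2 hy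
  have hcZ : ∀ s : S, s * f (z1 * z2) = f (z1 * z2) * s :=
    Subgroup.mem_center_iff.1 ((center_iff h2 hr hf _).2 (Or.inr rfl))
  -- facts about the square
  obtain ⟨d, hd⟩ := mul_mem_range h2 hr hf hxN hxP hxN hxP
  have hdg : d * gw = gw * d := hf (by
    rw [map_mul, map_mul, hd]
    exact ((show Commute x (f gw) from hgw).mul_left (show Commute x (f gw) from hgw)).eq)
  have hdz : d * z1 = z1 * d := hf (by
    rw [map_mul, map_mul, hd]
    exact ((show Commute x (f z1) from hz1).mul_left (show Commute x (f z1) from hz1)).eq)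
  have hda : d * a1 * d⁻¹ = a1 * z1 := hf (by
    rw [map_mul f (d * a1), map_mul f d, map_inv, hd, ← hc2, ← hc]; group)
  have hdr : d.right = 1 :=
    (by decide +kernel : ∀ d : M, d * z1 = z1 * d → d.right = 1) d hdz
  have hdc : d * c * d⁻¹ = c * z1 := hf (by
    rw [map_mul f (d * c), map_mul f d, map_inv, hd,
      show x * x * f c * (x * x)⁻¹ = x * (x * f c * x⁻¹) * x⁻¹ by group, hc2, map_mul, ← conj_mul, hc,
      mul_inv_eq_iff_eq_mul.2 hz1, ← map_mul])
  have hxa2 : x * f a2 * x⁻¹ = f (gw * c * gw⁻¹) := by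
    rw [show a2 = gw * a1 * gw⁻¹ by decide]
    simp only [map_mul, map_inv, ← hc]
    rw [show x * (f gw * f a1 * (f gw)⁻¹) * x⁻¹ = (x * f gw) * f a1 * (x * f gw)⁻¹ by group, hgw]
    group
  -- the relations
  set A := a1 * a2 with hA
  have hxA : x * f A * (x * f A) = 1 ∨ x * f A * (x * f A) = f (z1 * z2) := by
    have e : x * f A * (x * f A) = f (c * (gw * c * gw⁻¹) * d * A) := by
      rw [map_mul f _ A, map_mul f _ d, map_mul f c, hd, ← hc, ← hxa2, hA, map_mul]
      group
    rw [e]
    rcases square_adjusted d i j hdg hdz hda with h | h | h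
    · left; rw [h, map_one]
    · right; rw [h]
    · exact absurd hdc h
  have hR4 : π X ^ 4 = 1 := by
    rw [← map_pow]
    refine hker _ ?_
    rw [SubgroupClass.coe_pow]
    show x ^ 4 = 1 ∨ x ^ 4 = f (z1 * z2)
    rw [show x ^ 4 = (x * x) * (x * x) by simp only [pow_succ, pow_zero, one_mul, mul_assoc], ← hd, ← map_mul]
    rcases square_order d hdg hda hdr with h | h <;> rw [h]
    exacts [Or.inl (map_one f), Or.inr rfl]
  have hone : π (F 1) = 1 := hker _ (Or.inl (map_one f))
  have hT2 : π (F (A * gw)) * π (F (A * gw)) = 1 := by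
    rw [← map_mul, hFmul, show A * gw * (A * gw) = 1 by decide, hone]
  have hW2 : π (F a1) * π (F a1) = 1 := by
    rw [← map_mul, hFmul, show a1 * a1 = 1 by decide, hone]
  have hinv : π (F (A * gw)) * π X * π (F (A * gw)) = (π X)⁻¹ := by
    rw [eq_inv_iff_mul_eq_one, ← map_mul, ← map_mul, ← map_mul]
    refine hker _ ?_
    show f (A * gw) * x * f (A * gw) * x = 1 ∨ f (A * gw) * x * f (A * gw) * x = f (z1 * z2)
    have hAg : Commute (f A) (f gw) := (show Commute A gw from (by decide : A * gw = gw * A)).map f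
    have hgg : f gw * f gw = 1 := by rw [← map_mul, show gw * gw = 1 by decide, map_one]
    have e : f (A * gw) * x * f (A * gw) * x = f A * (x * f A * (x * f A)) * (f A)⁻¹ := by
      rw [map_mul, mul_assoc (f A) (f gw) x, ← hgw]
      calc f A * (x * f gw) * (f A * f gw) * x = f A * x * (f gw * f A) * f gw * x := by group
        _ = f A * x * (f A * f gw) * f gw * x := by rw [hAg.eq]
        _ = f A * x * f A * (f gw * f gw) * x := by group
        _ = f A * (x * f A * (x * f A)) * (f A)⁻¹ := by rw [hgg]; group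
    rw [e]
    rcases hxA with h | h <;> rw [h]
    · left; group
    · right; rw [hcZ (f A), mul_inv_cancel_right]
  have hWT : f a1 * f (A * gw) * f a1 = f gw := by
    rw [← map_mul, ← map_mul, show a1 * (A * gw) * a1 = gw by decide]
  have hrr : Commute (π X) (π (F a1) * π X * π (F a1)) := by
    rw [← map_mul, ← map_mul]
    refine (show Commute X (F a1 * X * F a1) from Subtype.ext ?_).map π
    show x * (f a1 * x * f a1) = f a1 * x * f a1 * x
    have hwx : f a1 * x * f a1 = x * f (c * z1 * a1) := by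
      have e : x * f (c * z1) * x⁻¹ = f a1 := by
        rw [map_mul, ← conj_mul, hc2, mul_inv_eq_iff_eq_mul.2 hz1, ← map_mul]
        congr 1
      rw [map_mul f (c * z1) a1, ← mul_assoc, show x * f (c * z1) = f a1 * x from mul_inv_eq_iff_eq_mul.1 e]
    have hcw : x * f (c * z1 * a1) = f (c * z1 * a1) * x := by
      rw [← mul_inv_eq_iff_eq_mul, map_mul f _ a1, map_mul f c z1, ← conj_mul, ← conj_mul, hc2, hc,
        mul_inv_eq_iff_eq_mul.2 hz1, ← map_mul, ← map_mul, ← map_mul, ← map_mul]
      congr 1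
      exact (by decide +kernel : ∀ i j : Fin 2,
        a1 * z1 * z1 * (b1 * z1 ^ (i : ℕ) * z2 ^ (j : ℕ)) =
          b1 * z1 ^ (i : ℕ) * z2 ^ (j : ℕ) * z1 * a1) i j
    rw [hwx, mul_assoc x (f _), hcw]
  have hrt : Commute (π X) (π (F a1) * π (F (A * gw)) * π (F a1)) := by
    rw [← map_mul, ← map_mul]
    refine (show Commute X (F a1 * F (A * gw) * F a1) from Subtype.ext ?_).map π
    show x * (f a1 * f (A * gw) * f a1) = f a1 * f (A * gw) * f a1 * x
    rw [hWT, hgw]
  have htt : Commute (π (F (A * gw))) (π (F a1) * π (F (A * gw)) * π (F a1)) := by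
    rw [← map_mul, ← map_mul]
    refine (show Commute (F (A * gw)) (F a1 * F (A * gw) * F a1) from Subtype.ext ?_).map π
    show f (A * gw) * (f a1 * f (A * gw) * f a1) = f a1 * f (A * gw) * f a1 * f (A * gw)
    rw [hWT, ← map_mul, ← map_mul, show A * gw * gw = gw * (A * gw) by decide]
  -- generation
  have hgen : Subgroup.closure {π X, π (F (A * gw)), π (F a1)} = ⊤ := by
    set K := (Subgroup.closure {π X, π (F (A * gw)), π (F a1)}).comap π with hK
    suffices K = ⊤ by
      refine eq_top_iff.2 fun q _ => ?_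
      obtain ⟨y, rfl⟩ := QuotientGroup.mk'_surjective Z' q
      have hy : y ∈ K := this ▸ Subgroup.mem_top y
      exact hy
    have kX : X ∈ K := Subgroup.subset_closure (by simp)
    have kT : F (A * gw) ∈ K := Subgroup.subset_closure (by simp)
    have ka1 : F a1 ∈ K := Subgroup.subset_closure (by simp)
    let J : Subgroup M :=
      { carrier := {m | F m ∈ K}
        one_mem' := by
          show F 1 ∈ K
          rw [show F 1 = 1 from Subtype.ext (map_one f)]; exact K.one_mem
        mul_mem' := fun {m n} hm hn => by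
          show F (m * n) ∈ K
          rw [← hFmul]; exact K.mul_mem hm hn
        inv_mem' := fun {m} hm => by
          show F m⁻¹ ∈ K
          rw [show F m⁻¹ = (F m)⁻¹ from Subtype.ext (map_inv f m)]; exact K.inv_mem hm }
    have ja1 : a1 ∈ J := ka1
    have jT : A * gw ∈ J := kT
    have jgw : gw ∈ J := by
      rw [show gw = a1 * (A * gw) * a1 by decide]; exact J.mul_mem (J.mul_mem ja1 jT) ja1
    have jc : c ∈ J := by
      show F c ∈ K
      rw [show F c = X * F a1 * X⁻¹ from Subtype.ext hc.symm]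
      exact K.mul_mem (K.mul_mem kX ka1) (K.inv_mem kX)
    have ja2 : a2 ∈ J := by
      rw [show a2 = gw * a1 * gw by decide]; exact J.mul_mem (J.mul_mem jgw ja1) jgw
    have jz1 : z1 ∈ J := by
      rw [(by decide +kernel : ∀ i j : Fin 2, z1 = b1 * z1 ^ (i : ℕ) * z2 ^ (j : ℕ) * a1 *
        (b1 * z1 ^ (i : ℕ) * z2 ^ (j : ℕ))⁻¹ * a1⁻¹) i j]
      exact J.mul_mem (J.mul_mem (J.mul_mem jc ja1) (J.inv_mem jc)) (J.inv_mem ja1)
    have jz2 : z2 ∈ J := by
      rw [show z2 = gw * z1 * gw by decide]; exact J.mul_mem (J.mul_mem jgw jz1) jgw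
    have jb1 : b1 ∈ J := by
      rw [(by decide +kernel : ∀ i j : Fin 2,
        b1 = b1 * z1 ^ (i : ℕ) * z2 ^ (j : ℕ) * z1 ^ (i : ℕ) * z2 ^ (j : ℕ)) i j]
      exact J.mul_mem (J.mul_mem jc (J.pow_mem jz1 _)) (J.pow_mem jz2 _)
    have jb2 : b2 ∈ J := by
      rw [show b2 = gw * b1 * gw by decide]; exact J.mul_mem (J.mul_mem jgw jb1) jgw
    have jall : ∀ m : M, m ∈ J := by
      intro m
      obtain ⟨p, q, r, s, e, g, n, rfl⟩ := generated m
      exact J.mul_mem (J.mul_mem (J.mul_mem (J.mul_mem (J.mul_mem (J.mul_mem (J.pow_mem jz1 _) (J.pow_mem jz2 _))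
        (J.pow_mem ja1 _)) (J.pow_mem ja2 _)) (J.pow_mem jb1 _)) (J.pow_mem jb2 _)) (J.pow_mem jgw _)
    refine eq_top_iff.2 fun y _ => ?_
    by_cases hy : (y : S) ∈ f.range
    · obtain ⟨m, hm⟩ := hy
      rw [show y = F m from Subtype.ext hm.symm]
      exact jall m
    · obtain ⟨m, hm⟩ := mul_mem_range h2 hr hf hxN hxP y.2 hy
      rw [show y = X⁻¹ * F m from Subtype.ext (eq_inv_mul_of_mul_eq hm.symm)]
      exact K.mul_mem (K.inv_mem kX) (jall m)
  have hcard : Nat.card (↥N ⧸ Z') = 128 := by
    have h := Z'.card_eq_card_quotient_mul_card_subgroup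
    have hZ2 : Nat.card Z' = 2 := by
      rw [hZ', Nat.card_congr (Subgroup.subgroupOfEquivOfLe ?_).toEquiv, card_center h2 hr hf]
      intro z hz
      rcases (center_iff h2 hr hf z).1 hz with rfl | rfl
      · exact one_mem _
      · exact hPN ⟨_, rfl⟩
    have hN256 : Nat.card N = 256 := by
      have h' := (f.range.subgroupOf N).index_mul_card
      rw [Nat.card_congr (Subgroup.subgroupOfEquivOfLe hPN).toEquiv,
        ← Nat.card_congr (MonoidHom.ofInjective hf).toEquiv, card_M,
        show (f.range.subgroupOf N).index = 2 from relIndex_two h2 hr hf hne] at h'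
      omega
    rw [hN256, hZ2] at h
    omega
  exact exists_equiv (π X) (π (F (A * gw))) (π (F a1)) hR4 hT2 hW2 hinv hrr hrt htt hgen hcard

end Cfsg.Agent.WreathEight
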