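import Cfsg.Prelude.Def_CaseTheorems
import Cfsg.Agent.Lib.TwoGroups.Lifts
import Mathlib.GroupTheory.Abelianization.Defs
import Mathlib.GroupTheory.SpecificGroups.Cyclic
import Mathlib.GroupTheory.SpecificGroups.KleinFour
import Mathlib.Tactic.LinearCombination

/-!
Normal form `x ^ a * y ^ b * s ^ e` for wreathed 2-groups `Z_N ≀ Z_2`, `N = 2 h`.
-/

set_option autoImplicit false

namespace Cfsg.Agent.Wreath

open scoped commutatorElement

theorem isKleinFour_pair {G : Type*} [Group G] {c t : G} (hc : c * c = 1) (ht : t * t = 1)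
    (hcomm : t * c = c * t) (hc1 : c ≠ 1) (ht1 : t ≠ 1) (hne : c ≠ t) :
    IsKleinFour (Subgroup.closure ({c, t} : Set G)) := by
  have hmem : t ∉ Subgroup.zpowers c := by
    rintro ⟨k, hk⟩
    have hk' : c ^ k = t := hk
    rcases Int.even_or_odd' k with ⟨j, rfl | rfl⟩
    · rw [zpow_mul, zpow_two, hc, one_zpow] at hk'
      exact ht1 hk'.symm
    · rw [zpow_add, zpow_mul, zpow_two, hc, one_zpow, one_mul, zpow_one] at hk'
      exact hne hk'
  obtain ⟨e⟩ := TwoLift.dihedral_equiv (n := 2) (a := c) (g := t)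
    (orderOf_eq_prime (by rw [pow_two, hc]) hc1) ht
    (by rw [hcomm, mul_inv_cancel_right, inv_eq_of_mul_eq_one_right hc]) hmem rfl
  exact ⟨by rw [Nat.card_congr e.toEquiv, DihedralGroup.nat_card],
    by rw [Monoid.exponent_eq_of_mulEquiv e, DihedralGroup.exponent]; rfl⟩

theorem normal_closure_of_conj {G : Type*} [Group G] {A : Set G}
    (h : ∀ g : G, ∀ a ∈ A, g * a * g⁻¹ ∈ Subgroup.closure A) : (Subgroup.closure A).Normal := by
  refine ⟨fun n hn g => ?_⟩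
  have hle : Subgroup.closure A ≤ (Subgroup.closure A).comap (MulAut.conj g).toMonoidHom :=
    (Subgroup.closure_le _).mpr fun a ha => h g a ha
  exact hle hn

/-- A presentation of a wreathed group; `n = p + 2`. -/
structure Pres (S : Type*) [Group S] [Finite S] where
  p : ℕ
  x : S
  y : S
  s : S
  hx : orderOf x = 2 ^ (p + 2)
  hxy : x * y = y * x
  hdis : Subgroup.zpowers x ⊓ Subgroup.zpowers y = ⊥
  hs : orderOf s = 2
  hsx : s * x * s⁻¹ = y
  hcard : Nat.card S = 2 ^ (2 * p + 5)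

theorem exists_pres {S : Type*} [Group S] [Finite S] (hS : Cfsg.IsWreathed S) :
    ∃ _d : Pres S, True := by
  obtain ⟨n, hn, hc, x, y, z, hx, hxy, hdis, hz, h⟩ := hS
  obtain ⟨p, rfl⟩ : ∃ p, n = p + 2 := ⟨n - 2, by omega⟩
  exact ⟨⟨p, x, y, z, hx, hxy, hdis, hz, h, by rw [hc]; ring_nf⟩, trivial⟩

theorem exists_pres_card {S : Type*} [Group S] [Finite S] (hS : Cfsg.IsWreathed S) {n : ℕ}
    (hn : Nat.card S = 2 ^ (2 * n + 1)) : ∃ d : Pres S, n = d.p + 2 := by
  obtain ⟨d, -⟩ := exists_pres hS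
  refine ⟨d, ?_⟩
  have := Nat.pow_right_injective (le_refl 2) (hn.symm.trans d.hcard)
  omega

namespace Pres

variable {S : Type*} [Group S] [Finite S] (d : Pres S)

/-- Half of the order of `x`. -/
def h : ℤ := 2 ^ (d.p + 1)

theorem h_pos : 0 < d.h := by unfold h; positivity

theorem two_dvd_h : 2 ∣ d.h := dvd_pow_self 2 (by omega)

theorem cast_order : ((2 ^ (d.p + 2) : ℕ) : ℤ) = 2 * d.h := by
  push_cast; rw [h, pow_succ' (2 : ℤ) (d.p + 1)]

theorem x_zpow_eq_one (k : ℤ) : d.x ^ k = 1 ↔ 2 * d.h ∣ k := by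
  rw [← orderOf_dvd_iff_zpow_eq_one, d.hx, d.cast_order]

theorem ss : d.s * d.s = 1 := by rw [← pow_two, ← d.hs, pow_orderOf_eq_one]

theorem inv_s : d.s⁻¹ = d.s := inv_eq_of_mul_eq_one_right d.ss

theorem hsy : d.s * d.y * d.s⁻¹ = d.x := by
  nth_rewrite 1 [← d.hsx]
  rw [d.inv_s]
  simp only [mul_assoc, d.ss, mul_one]
  rw [← mul_assoc, d.ss, one_mul]

theorem y_zpow_eq_one (k : ℤ) : d.y ^ k = 1 ↔ 2 * d.h ∣ k := by
  rw [← d.hsx, conj_zpow, mul_inv_eq_one, mul_eq_left, x_zpow_eq_one]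

/-- The element `x ^ a * y ^ b`. -/
def u (a b : ℤ) : S := d.x ^ a * d.y ^ b

theorem u_zero : d.u 0 0 = 1 := by simp [u]

theorem uu (a b c e : ℤ) : d.u a b * d.u c e = d.u (a + c) (b + e) := by
  rw [u, u, u, zpow_add, zpow_add]
  calc d.x ^ a * d.y ^ b * (d.x ^ c * d.y ^ e) = d.x ^ a * (d.y ^ b * d.x ^ c) * d.y ^ e := by
        simp only [mul_assoc]
    _ = _ := by
      rw [((Commute.zpow_zpow (show Commute d.x d.y from d.hxy) c b)).symm.eq]
      simp only [mul_assoc]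

theorem u_inv (a b : ℤ) : (d.u a b)⁻¹ = d.u (-a) (-b) :=
  inv_eq_of_mul_eq_one_right (by rw [uu, add_neg_cancel, add_neg_cancel, u_zero])

theorem u_zpow (a b k : ℤ) : d.u a b ^ k = d.u (a * k) (b * k) := by
  rw [u, (Commute.zpow_zpow (show Commute d.x d.y from d.hxy) a b).mul_zpow, ← zpow_mul, ← zpow_mul, u]

theorem u_eq_one (a b : ℤ) : d.u a b = 1 ↔ 2 * d.h ∣ a ∧ 2 * d.h ∣ b := by
  refine ⟨fun h => ?_, fun ⟨h1, h2⟩ => ?_⟩
  · have h1 : d.x ^ a = d.y ^ (-b) := by rw [zpow_neg]; exact mul_eq_one_iff_eq_inv.mp h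
    have h2 : d.x ^ a ∈ Subgroup.zpowers d.x ⊓ Subgroup.zpowers d.y :=
      ⟨zpow_mem (Subgroup.mem_zpowers _) a, h1 ▸ zpow_mem (Subgroup.mem_zpowers _) _⟩
    rw [d.hdis, Subgroup.mem_bot] at h2
    refine ⟨(d.x_zpow_eq_one a).mp h2, ?_⟩
    rw [h2] at h1
    exact Int.dvd_neg.mp ((d.y_zpow_eq_one _).mp h1.symm)
  · rw [u, (d.x_zpow_eq_one a).mpr h1, (d.y_zpow_eq_one b).mpr h2, one_mul]

theorem u_eq_iff (a b c e : ℤ) : d.u a b = d.u c e ↔ 2 * d.h ∣ a - c ∧ 2 * d.h ∣ b - e := by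
  rw [← d.u_eq_one, ← mul_inv_eq_one, u_inv, uu]
  simp only [sub_eq_add_neg]

theorem su (a b : ℤ) : d.s * d.u a b = d.u b a * d.s := by
  rw [← mul_inv_eq_iff_eq_mul]
  calc d.s * d.u a b * d.s⁻¹ = (d.s * d.x * d.s⁻¹) ^ a * (d.s * d.y * d.s⁻¹) ^ b := by
        rw [conj_zpow, conj_zpow, u]; group
    _ = _ := by
      rw [d.hsx, d.hsy, u]
      exact ((Commute.zpow_zpow (show Commute d.x d.y from d.hxy) b a)).symm.eq

theorem u_mul_us (a b c e : ℤ) : d.u a b * (d.u c e * d.s) = d.u (a + c) (b + e) * d.s := by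
  rw [← mul_assoc, uu]

theorem us_mul_u (a b c e : ℤ) : d.u a b * d.s * d.u c e = d.u (a + e) (b + c) * d.s := by
  rw [mul_assoc, su, u_mul_us]

theorem us_mul_us (a b c e : ℤ) : d.u a b * d.s * (d.u c e * d.s) = d.u (a + e) (b + c) := by
  rw [← mul_assoc, us_mul_u, mul_assoc, d.ss, mul_one]

theorem us_inv (a b : ℤ) : (d.u a b * d.s)⁻¹ = d.u (-b) (-a) * d.s :=
  inv_eq_of_mul_eq_one_right (by rw [us_mul_us, add_neg_cancel, add_neg_cancel, u_zero])

/-- The map from `Z_N × Z_N` onto the abelian subgroup of index two. -/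
noncomputable def toU : Multiplicative (ZMod (2 ^ (d.p + 2)) × ZMod (2 ^ (d.p + 2))) →* S :=
  MonoidHom.mk'
    (fun m => Additive.toMul (TwoLift.pw (2 ^ (d.p + 2)) (a := d.x)
        (by rw [← d.hx]; exact pow_orderOf_eq_one d.x) m.toAdd.1) *
      Additive.toMul (TwoLift.pw (2 ^ (d.p + 2)) (a := d.y) (by
        rw [← zpow_natCast, d.y_zpow_eq_one, d.cast_order]) m.toAdd.2))
    (by
      intro m m'
      obtain ⟨a, ha⟩ := ZMod.intCast_surjective m.toAdd.1
      obtain ⟨b, hb⟩ := ZMod.intCast_surjective m.toAdd.2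
      obtain ⟨c, hc⟩ := ZMod.intCast_surjective m'.toAdd.1
      obtain ⟨e, he⟩ := ZMod.intCast_surjective m'.toAdd.2
      simp only [toAdd_mul, Prod.fst_add, Prod.snd_add, ← ha, ← hb, ← hc, ← he, ← Int.cast_add,
        TwoLift.pw_intCast]
      exact (d.uu a b c e).symm)

theorem toU_apply (a b : ℤ) :
    d.toU (Multiplicative.ofAdd ((a : ZMod (2 ^ (d.p + 2))), (b : ZMod (2 ^ (d.p + 2))))) = d.u a b := by
  simp [toU, u, TwoLift.pw_intCast]

/-- The abelian subgroup of index two. -/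
noncomputable def U : Subgroup S := d.toU.range

theorem mem_U {g : S} : g ∈ d.U ↔ ∃ a b : ℤ, g = d.u a b := by
  refine ⟨fun ⟨m, hm⟩ => ?_, fun ⟨a, b, h⟩ => ⟨_, (d.toU_apply a b).trans h.symm⟩⟩
  obtain ⟨a, ha⟩ := ZMod.intCast_surjective m.toAdd.1
  obtain ⟨b, hb⟩ := ZMod.intCast_surjective m.toAdd.2
  refine ⟨a, b, ?_⟩
  rw [← hm, ← d.toU_apply a b, ha, hb]
  rfl

theorem u_mem_U (a b : ℤ) : d.u a b ∈ d.U := d.mem_U.mpr ⟨a, b, rfl⟩

theorem toU_injective : Function.Injective d.toU := by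
  rw [injective_iff_map_eq_one]
  intro m hm
  obtain ⟨a, ha⟩ := ZMod.intCast_surjective m.toAdd.1
  obtain ⟨b, hb⟩ := ZMod.intCast_surjective m.toAdd.2
  have e : m = Multiplicative.ofAdd ((a : ZMod (2 ^ (d.p + 2))), (b : ZMod (2 ^ (d.p + 2)))) := by
    rw [ha, hb]; rfl
  rw [e, toU_apply, u_eq_one, ← d.cast_order, ← ZMod.intCast_zmod_eq_zero_iff_dvd,
    ← ZMod.intCast_zmod_eq_zero_iff_dvd] at hm
  rw [e, hm.1, hm.2]; rfl

theorem U_equiv :
    Nonempty (d.U ≃* Multiplicative (ZMod (2 ^ (d.p + 2)) × ZMod (2 ^ (d.p + 2)))) :=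
  ⟨(MonoidHom.ofInjective d.toU_injective).symm⟩

theorem card_U : Nat.card d.U = 2 ^ (2 * (d.p + 2)) := by
  obtain ⟨e⟩ := d.U_equiv
  rw [Nat.card_congr e.toEquiv, Nat.card_congr Multiplicative.toAdd, Nat.card_prod, Nat.card_zmod,
    ← pow_add, two_mul]

theorem U_comm : IsMulCommutative d.U := by
  refine ⟨⟨fun ⟨a, ha⟩ ⟨b, hb⟩ => Subtype.ext ?_⟩⟩
  obtain ⟨a, a', rfl⟩ := d.mem_U.mp ha
  obtain ⟨b, b', rfl⟩ := d.mem_U.mp hb
  show d.u a a' * d.u b b' = d.u b b' * d.u a a'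
  rw [uu, uu, add_comm a, add_comm a']

theorem index_U : d.U.index = 2 := by
  have h := d.U.card_mul_index
  rw [d.card_U, d.hcard, show 2 * d.p + 5 = 2 * (d.p + 2) + 1 by ring, pow_succ] at h
  exact Nat.eq_of_mul_eq_mul_left (by positivity) h

theorem s_not_mem : d.s ∉ d.U := by
  intro h
  obtain ⟨a, b, h⟩ := d.mem_U.mp h
  have h1 := d.su 1 0
  rw [h, uu, uu, u_eq_iff] at h1
  have := Int.le_of_dvd one_pos (by obtain ⟨h1, -⟩ := h1; ring_nf at h1 ⊢; exact h1)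
  linarith [d.h_pos]

theorem cases (g : S) : (∃ a b : ℤ, g = d.u a b) ∨ ∃ a b : ℤ, g = d.u a b * d.s := by
  by_cases h : g ∈ d.U
  · exact Or.inl (d.mem_U.mp h)
  · obtain ⟨a, b, hab⟩ := d.mem_U.mp
      ((Subgroup.mul_mem_iff_of_index_two d.index_U).mpr (iff_of_false h d.s_not_mem) : g * d.s ∈ d.U)
    refine Or.inr ⟨a, b, ?_⟩
    rw [← hab, mul_assoc, d.ss, mul_one]

theorem us_not_mem (a b : ℤ) : d.u a b * d.s ∉ d.U := fun h =>
  d.s_not_mem ((d.U.mul_mem_cancel_left (d.u_mem_U a b)).mp h)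

theorem u_ne_us (a b c e : ℤ) : d.u a b ≠ d.u c e * d.s := fun h =>
  d.us_not_mem c e (h ▸ d.u_mem_U a b)

theorem conj_u (g : S) (a b : ℤ) : g * d.u a b * g⁻¹ = d.u a b ∨ g * d.u a b * g⁻¹ = d.u b a := by
  rcases d.cases g with ⟨c, e, rfl⟩ | ⟨c, e, rfl⟩
  · left; rw [u_inv, uu, uu]; ring_nf
  · right; rw [us_inv, us_mul_u, us_mul_us]; ring_nf

theorem conj_us_u (c e a b : ℤ) :
    d.u c e * (d.u a b * d.s) * (d.u c e)⁻¹ = d.u (a + c - e) (b + e - c) * d.s := by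
  rw [u_mul_us, u_inv, us_mul_u]; ring_nf

theorem us_sq (a b : ℤ) : d.u a b * d.s * (d.u a b * d.s) = d.u (a + b) (a + b) := by
  rw [us_mul_us, add_comm b a]

theorem us_sq_eq_one (a b : ℤ) : d.u a b * d.s * (d.u a b * d.s) = 1 ↔ 2 * d.h ∣ a + b := by
  rw [us_sq, u_eq_one, and_self]

theorem u_sq_eq_one (a b : ℤ) : d.u a b * d.u a b = 1 ↔ d.h ∣ a ∧ d.h ∣ b := by
  rw [uu, u_eq_one, ← two_mul, ← two_mul, mul_dvd_mul_iff_left two_ne_zero,
    mul_dvd_mul_iff_left two_ne_zero]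

theorem commute_us (a b c e : ℤ) :
    d.u c e * d.s * d.u a b = d.u a b * (d.u c e * d.s) ↔ 2 * d.h ∣ a - b := by
  rw [us_mul_u, u_mul_us, mul_left_inj, u_eq_iff, show c + b - (a + c) = -(a - b) by ring,
    show e + a - (b + e) = a - b by ring, Int.dvd_neg, and_self]

theorem u_diag_central {a b : ℤ} (h : 2 * d.h ∣ a - b) : d.u a b ∈ Subgroup.center S := by
  rw [Subgroup.mem_center_iff]
  intro g
  rcases d.cases g with ⟨c, e, rfl⟩ | ⟨c, e, rfl⟩
  · rw [uu, uu, add_comm c, add_comm e]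
  · exact (d.commute_us a b c e).mpr h

theorem orderOf_u (b : ℤ) : orderOf (d.u 1 b) = 2 ^ (d.p + 2) := by
  refine Nat.dvd_antisymm (orderOf_dvd_of_pow_eq_one ?_) ?_
  · rw [← zpow_natCast, u_zpow, u_eq_one, d.cast_order]
    exact ⟨Dvd.intro_left _ rfl, Dvd.intro_left _ rfl⟩
  · have h := pow_orderOf_eq_one (d.u 1 b)
    rw [← zpow_natCast, u_zpow, u_eq_one, one_mul, ← d.cast_order] at h
    exact Int.natCast_dvd_natCast.mp h.1

theorem center_eq : Subgroup.center S = Subgroup.zpowers (d.u 1 1) := by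
  refine le_antisymm ?_ (Subgroup.zpowers_le.mpr (d.u_diag_central (by simp)))
  intro g hg
  rcases d.cases g with ⟨a, b, rfl⟩ | ⟨a, b, rfl⟩
  · have h := Subgroup.mem_center_iff.mp hg (d.u 0 0 * d.s)
    rw [commute_us] at h
    refine ⟨a, ?_⟩
    show d.u 1 1 ^ a = d.u a b
    rw [u_zpow, one_mul, u_eq_iff, sub_self]
    exact ⟨dvd_zero _, h⟩
  · exfalso
    have h := (Subgroup.mem_center_iff.mp hg (d.u 1 0)).symm
    rw [commute_us, sub_zero] at h
    have := Int.le_of_dvd one_pos h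
    linarith [d.h_pos]

theorem antidiag_mem {a b : ℤ} (h : 2 * d.h ∣ a + b) : d.u a b ∈ Subgroup.zpowers (d.u 1 (-1)) := by
  refine ⟨a, ?_⟩
  show d.u 1 (-1) ^ a = d.u a b
  rw [u_zpow, one_mul, u_eq_iff, sub_self, show -1 * a - b = -(a + b) by ring, Int.dvd_neg]
  exact ⟨dvd_zero _, h⟩

theorem commutator_eq : commutator S = Subgroup.zpowers (d.u 1 (-1)) := by
  refine le_antisymm ?_ (Subgroup.zpowers_le.mpr ?_)
  · rw [commutator_def, Subgroup.commutator_le]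
    intro A _ B _
    have key : ∀ c e : ℤ, 2 * d.h ∣ c + e → A * B = d.u c e * (B * A) →
        ⁅A, B⁆ ∈ Subgroup.zpowers (d.u 1 (-1)) := by
      intro c e hce h
      rw [commutatorElement_def, mul_assoc (A * B), ← mul_inv_rev, h, mul_inv_cancel_right]
      exact d.antidiag_mem hce
    rcases d.cases A with ⟨a, b, rfl⟩ | ⟨a, b, rfl⟩ <;> rcases d.cases B with ⟨c, e, rfl⟩ | ⟨c, e, rfl⟩
    · refine key 0 0 (by simp) ?_
      rw [uu, uu, u_zero, one_mul, add_comm a, add_comm b]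
    · refine key (a - b) (b - a) (by simp) ?_
      rw [u_mul_us, us_mul_u, u_mul_us]; ring_nf
    · refine key (e - c) (c - e) (by simp) ?_
      rw [u_mul_us, us_mul_u, u_mul_us]; ring_nf
    · refine key (a + e - c - b) (b + c - e - a) (by ring_nf; exact dvd_zero _) ?_
      rw [us_mul_us, us_mul_us, uu]; ring_nf
  · have h : ⁅d.u 1 0, d.u 0 0 * d.s⁆ ∈ commutator S :=
      Subgroup.commutator_mem_commutator (Subgroup.mem_top _) (Subgroup.mem_top _)
    rw [commutatorElement_def, u_mul_us, u_inv, us_mul_u, us_inv, us_mul_us] at h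
    norm_num at h
    exact h

theorem quot_equiv :
    Nonempty (S ⧸ Subgroup.center S ≃* DihedralGroup (2 ^ (d.p + 2))) := by
  set π := QuotientGroup.mk' (Subgroup.center S) with hπ
  have hone : ∀ g : S, π g = 1 ↔ g ∈ Subgroup.center S := fun g => QuotientGroup.eq_one_iff g
  have hxk : ∀ k : ℤ, d.u k 0 ∈ Subgroup.center S ↔ 2 * d.h ∣ k := by
    intro k
    refine ⟨fun h => ?_, fun h => d.u_diag_central (by simpa using h)⟩
    rw [center_eq] at h
    obtain ⟨c, hc⟩ := h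
    change d.u 1 1 ^ c = d.u k 0 at hc
    rw [u_zpow, one_mul, u_eq_iff, sub_zero] at hc
    simpa using dvd_sub hc.2 hc.1
  have ho : orderOf (π (d.u 1 0)) = 2 ^ (d.p + 2) := by
    refine Nat.dvd_antisymm (orderOf_dvd_of_pow_eq_one ?_) ?_
    · rw [← map_pow, hone, ← zpow_natCast, u_zpow, zero_mul, one_mul, hxk, d.cast_order]
    · have h := pow_orderOf_eq_one (π (d.u 1 0))
      rw [← map_pow, hone, ← zpow_natCast, u_zpow, zero_mul, one_mul, hxk, ← d.cast_order] at h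
      exact Int.natCast_dvd_natCast.mp h
  have hinv : π d.s * π (d.u 1 0) * (π d.s)⁻¹ = (π (d.u 1 0))⁻¹ := by
    rw [eq_inv_iff_mul_eq_one, ← map_inv, ← map_mul, ← map_mul, ← map_mul, hone, su,
      mul_inv_cancel_right, uu]
    exact d.u_diag_central (by simp)
  have hmem : π d.s ∉ Subgroup.zpowers (π (d.u 1 0)) := by
    rintro ⟨k, hk⟩
    change π (d.u 1 0) ^ k = π d.s at hk
    rw [← map_zpow, u_zpow, zero_mul, one_mul, ← inv_mul_eq_one, ← map_inv, ← map_mul, hone,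
      center_eq] at hk
    exact d.s_not_mem ((d.U.mul_mem_cancel_left (inv_mem (d.u_mem_U k 0))).mp
      ((Subgroup.zpowers_le.mpr (d.u_mem_U 1 1)) hk))
  have htop : (⊤ : Subgroup (S ⧸ Subgroup.center S)) =
      Subgroup.closure ({π (d.u 1 0), π d.s} : Set (S ⧸ Subgroup.center S)) := by
    refine (eq_top_iff.mpr fun q _ => ?_).symm
    obtain ⟨g, rfl⟩ := QuotientGroup.mk'_surjective _ q
    have hx : π (d.u 1 0) ∈ Subgroup.closure ({π (d.u 1 0), π d.s} : Set (S ⧸ Subgroup.center S)) :=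
      Subgroup.subset_closure (by simp)
    have hsm : π d.s ∈ Subgroup.closure ({π (d.u 1 0), π d.s} : Set (S ⧸ Subgroup.center S)) :=
      Subgroup.subset_closure (by simp)
    have key : ∀ a b : ℤ, π (d.u a b) = π (d.u 1 0) ^ (a - b) := by
      intro a b
      rw [← map_zpow, u_zpow, zero_mul, one_mul, ← mul_inv_eq_one, ← map_inv, ← map_mul, hone,
        u_inv, uu]
      exact d.u_diag_central (by ring_nf; exact dvd_zero _)
    rcases d.cases g with ⟨a, b, rfl⟩ | ⟨a, b, rfl⟩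
    · show π _ ∈ _
      rw [key a b]; exact zpow_mem hx _
    · show π _ ∈ _
      rw [map_mul, key a b]; exact mul_mem (zpow_mem hx _) hsm
  obtain ⟨e⟩ := TwoLift.dihedral_equiv ho (by rw [← map_mul, d.ss, map_one]) hinv hmem htop
  exact ⟨Subgroup.topEquiv.symm.trans e⟩

theorem unique_abelian {V : Subgroup S} (hV : IsMulCommutative V) (hc : Nat.card V = 2 ^ (2 * (d.p + 2))) :
    V = d.U := by
  refine Subgroup.eq_of_le_of_card_ge (fun g hg => ?_) (by rw [hc, d.card_U])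
  rcases d.cases g with ⟨a, b, rfl⟩ | ⟨a, b, rfl⟩
  · exact d.u_mem_U a b
  · exfalso
    have hi : V.index = 2 := by
      have h := V.card_mul_index
      rw [hc, d.hcard, show 2 * d.p + 5 = 2 * (d.p + 2) + 1 by ring, pow_succ] at h
      exact Nat.eq_of_mul_eq_mul_left (by positivity) h
    have h2 : d.u (1 + 1) (0 + 0) ∈ V := by
      rw [← uu]; exact Subgroup.mul_self_mem_of_index_two hi _
    have h := congrArg Subtype.val (hV.is_comm.comm ⟨_, hg⟩ ⟨_, h2⟩)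
    change d.u a b * d.s * d.u (1 + 1) (0 + 0) = d.u (1 + 1) (0 + 0) * (d.u a b * d.s) at h
    rw [commute_us] at h
    norm_num at h
    have h' := Int.le_of_dvd two_pos h
    linarith [Int.le_of_dvd d.h_pos d.two_dvd_h]

include d in
theorem center_le_of_noncomm {X : Subgroup S} (hX : ¬ IsMulCommutative X) :
    (Subgroup.center X).map X.subtype ≤ Subgroup.center S := by
  rintro _ ⟨⟨c, hcX⟩, hc, rfl⟩
  show c ∈ Subgroup.center S
  have hcomm : ∀ v ∈ X, v * c = c * v := fun v hv =>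
    congrArg Subtype.val (Subgroup.mem_center_iff.mp hc ⟨v, hv⟩)
  have hout : ∃ a b : ℤ, d.u a b * d.s ∈ X := by
    by_contra hno
    push Not at hno
    refine hX ⟨⟨fun ⟨v, hv⟩ ⟨w, hw⟩ => Subtype.ext ?_⟩⟩
    rcases d.cases v with ⟨a, b, rfl⟩ | ⟨a, b, rfl⟩
    · rcases d.cases w with ⟨a', b', rfl⟩ | ⟨a', b', rfl⟩
      · show d.u a b * d.u a' b' = d.u a' b' * d.u a b
        rw [uu, uu, add_comm a, add_comm b]
      · exact absurd hw (hno a' b')
    · exact absurd hv (hno a b)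
  rcases d.cases c with ⟨a, b, rfl⟩ | ⟨a, b, rfl⟩
  · obtain ⟨a', b', h'⟩ := hout
    exact d.u_diag_central ((d.commute_us a b a' b').mp (hcomm _ h'))
  · exfalso
    have hU : ∀ v ∈ X, v ∈ d.U → v ∈ Subgroup.center S := by
      intro v hv hvU
      obtain ⟨a', b', rfl⟩ := d.mem_U.mp hvU
      exact d.u_diag_central ((d.commute_us a' b' a b).mp (hcomm _ hv).symm)
    refine hX ⟨⟨fun ⟨v, hv⟩ ⟨w, hw⟩ => Subtype.ext ?_⟩⟩
    show v * w = w * v
    have hfac : ∀ v ∈ X, ∃ k ∈ Subgroup.center S, v = k ∨ v = k * (d.u a b * d.s) := by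
      intro v hv
      by_cases hvU : v ∈ d.U
      · exact ⟨v, hU v hv hvU, Or.inl rfl⟩
      · have h1 : v * (d.u a b * d.s)⁻¹ ∈ d.U :=
          (Subgroup.mul_mem_iff_of_index_two d.index_U).mpr
            (iff_of_false hvU (by rw [inv_mem_iff]; exact d.us_not_mem a b))
        exact ⟨_, hU _ (mul_mem hv (inv_mem hcX)) h1, Or.inr (inv_mul_cancel_right v _).symm⟩
    obtain ⟨k, hk, h1⟩ := hfac v hv
    obtain ⟨l, hl, h2⟩ := hfac w hw
    have hk' : ∀ g, g * k = k * g := Subgroup.mem_center_iff.mp hk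
    have hl' : ∀ g, g * l = l * g := Subgroup.mem_center_iff.mp hl
    rcases h1 with rfl | rfl
    · exact (hk' w).symm
    · rcases h2 with rfl | rfl
      · exact hl' _
      · exact Commute.mul_left (Commute.mul_right (hl' _) (hk' _).symm)
          (Commute.mul_right (hl' _) (Commute.refl _))

end Pres

end Cfsg.Agent.Wreath
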