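import Cfsg.Agent.Lib.TwoGroups.WreathedNormalizers
import Cfsg.Agent.Lib.TwoGroups.QDFusion

/-!
Fusion in groups with wreathed Sylow 2-subgroups.
-/

set_option autoImplicit false

namespace Cfsg.Agent.WrFus

open Cfsg.Agent.TwoFus

variable {G : Type*} [Group G] [Finite G] (S : Sylow 2 G) (d : Wreath.Pres (S : Subgroup G))

/-- The central involution, in `G`. -/
def zz : G := ((d.u d.h d.h : (S : Subgroup G)) : G)

/-- A noncentral involution of `UG`. -/
def tt : G := ((d.u d.h 0 : (S : Subgroup G)) : G)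

/-- An involution outside `UG`. -/
def ss : G := ((d.s : (S : Subgroup G)) : G)

theorem order_zz : orderOf (zz S d) = 2 :=
  orderOf_eq_prime (by rw [zz, pow_two, ← Subgroup.coe_mul, d.z_sq, Subgroup.coe_one])
    fun e => d.z_ne_one (Subtype.ext e)

theorem order_tt : orderOf (tt S d) = 2 := by
  refine orderOf_eq_prime ?_ fun e => d.not_dvd_h ((d.u_eq_one _ _).mp (Subtype.ext e)).1
  rw [tt, pow_two, ← Subgroup.coe_mul, (d.u_sq_eq_one _ _).mpr ⟨dvd_rfl, dvd_zero _⟩, Subgroup.coe_one]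

theorem order_ss : orderOf (ss S d) = 2 := by rw [ss, Subgroup.orderOf_coe]; exact d.hs

theorem zz_mem_ZG : zz S d ∈ ZG S := ⟨_, d.z_central, rfl⟩

theorem invol_classes {t : G} (ht : orderOf t = 2) :
    IsConj (zz S d) t ∨ IsConj (tt S d) t ∨ IsConj (ss S d) t := by
  obtain ⟨g, hg⟩ := exists_conj_mem S (k := 1) (a := t) (by rw [ht, pow_one])
  have hc : IsConj (g * t * g⁻¹) t := (isConj_iff.mpr ⟨g, rfl⟩).symm
  set v : (S : Subgroup G) := ⟨g * t * g⁻¹, hg⟩ with hv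
  have hvo : orderOf v = 2 := by
    rw [← Subgroup.orderOf_coe, hv]; show orderOf (g * t * g⁻¹) = 2
    rw [← MulAut.conj_apply, MulEquiv.orderOf_eq, ht]
  have hvv : v * v = 1 := by
    have := pow_orderOf_eq_one v
    rwa [hvo, pow_two] at this
  rcases d.invol_cases hvv (fun e => by rw [e, orderOf_one] at hvo; omega) with e | e | e
  · exact Or.inl (e ▸ hc : IsConj ((d.u d.h d.h : (S : Subgroup G)) : G) t)
  · exact Or.inr (Or.inl ((MonoidHom.map_isConj (S : Subgroup G).subtype e).trans hc))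
  · exact Or.inr (Or.inr ((MonoidHom.map_isConj (S : Subgroup G).subtype e).trans hc))

theorem conj_UG {s a : G} (hs : s ∈ (S : Subgroup G)) (ha : a ∈ UG S d) : s * a * s⁻¹ ∈ UG S d := by
  obtain ⟨v, hv, rfl⟩ := ha
  haveI := Subgroup.normal_of_index_eq_two d.index_U
  exact ⟨_, (inferInstance : d.U.Normal).conj_mem v hv ⟨s, hs⟩, rfl⟩

include d in
theorem conj_ZG {s c : G} (hs : s ∈ (S : Subgroup G)) (hc : c ∈ ZG S) : s * c * s⁻¹ = c :=
  mul_inv_eq_iff_eq_mul.mpr (Subgroup.mem_centralizer_iff.mp (ZG_le_centralizer S hs) c hc).symm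

/-- Without odd automorphisms of `UG`, no element of `Z(S)` fuses in `S` to another element. -/
theorem center_fixed (hU : idxU S d = 2) {c g : G} (hc : c ∈ ZG S)
    (hg : g * c * g⁻¹ ∈ (S : Subgroup G)) : g * c * g⁻¹ = c := by
  have hl := label_elem_centric S (fun v => v = c) (fun s hs v _ => propext ?_) (fun E hE hc' => ?_)
    (a := c) (g := g) (Subgroup.map_subtype_le _ hc) hg
  · exact of_eq_true (hl.trans (eq_self c))
  · refine ⟨fun e => ?_, fun e => by rw [e, conj_ZG S d hs hc]⟩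
    rw [← conj_ZG S d hs hc] at e; exact mul_left_cancel (mul_right_cancel e)
  · rcases steps S d hE hc' with h | h | ⟨f, h⟩
    · exact Or.inl h
    · exact Or.inl (h ▸ U_oddTrivial S d hU)
    · refine Or.inr fun x hx v _ => propext ?_
      rw [h] at hx
      refine ⟨fun e => ?_, fun e => by rw [e, V_central S d hx hc]⟩
      rw [← V_central S d hx hc] at e; exact mul_left_cancel (mul_right_cancel e)

include d in
theorem center_weaklyClosed (hU : idxU S d = 2) {Z₀ : Subgroup G} (hZ : Z₀ ≤ ZG S) :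
    Cfsg.IsWeaklyClosed Z₀ (S : Subgroup G) := by
  refine ⟨hZ.trans (Subgroup.map_subtype_le _), fun g hg => ?_⟩
  refine le_antisymm ?_ fun v hv => ⟨v, hv, center_fixed S d hU (hZ hv) (hg ⟨v, hv, rfl⟩)⟩
  rintro _ ⟨a, ha, rfl⟩
  show g * a * g⁻¹ ∈ Z₀
  rw [center_fixed S d hU (hZ ha) (hg ⟨a, ha, rfl⟩)]
  exact ha

/-- Without odd automorphisms of the `VG f`, the subgroup `UG` is invariant under fusion. -/
theorem UG_invariant (hV : ∀ f, idxV S d f = 2) {a g : G} (ha : a ∈ (S : Subgroup G))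
    (hg : g * a * g⁻¹ ∈ (S : Subgroup G)) : g * a * g⁻¹ ∈ UG S d ↔ a ∈ UG S d := by
  refine iff_of_eq (label_elem_centric S (fun v => v ∈ UG S d) (fun s hs v _ => propext ?_)
    (fun E hE hc => ?_) ha hg)
  · refine ⟨fun h => ?_, conj_UG S d hs⟩
    have := conj_UG S d (inv_mem hs) h
    rwa [show s⁻¹ * (s * v * s⁻¹) * s⁻¹⁻¹ = v by group] at this
  · rcases steps S d hE hc with h | h | ⟨f, h⟩
    · exact Or.inl h
    · refine Or.inr fun x hx v _ => propext ?_
      rw [h] at hx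
      exact (Subgroup.mem_normalizer_iff.mp hx v).symm
    · exact Or.inl (h ▸ V_oddTrivial S d (hV f))

theorem not_conj_tt_ss (hV : ∀ f, idxV S d f = 2) : ¬ IsConj (tt S d) (ss S d) := by
  intro h
  obtain ⟨g, hg⟩ := isConj_iff.mp h
  have h1 := UG_invariant S d hV (a := tt S d) (g := g) (d.u d.h 0).2 (hg.symm ▸ d.s.2)
  rw [hg] at h1
  exact d.s_not_mem ((mem_map_sub S).mp (h1.mpr ⟨_, d.u_mem_U _ _, rfl⟩))

theorem not_conj_zz_ss (hV : ∀ f, idxV S d f = 2) : ¬ IsConj (zz S d) (ss S d) := by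
  intro h
  obtain ⟨g, hg⟩ := isConj_iff.mp h
  have h1 := UG_invariant S d hV (a := zz S d) (g := g) (d.u d.h d.h).2 (hg.symm ▸ d.s.2)
  rw [hg] at h1
  exact d.s_not_mem ((mem_map_sub S).mp (h1.mpr ⟨_, d.u_mem_U _ _, rfl⟩))

theorem not_conj_zz (hU : idxU S d = 2) {v : (S : Subgroup G)} (hv : v ≠ d.u d.h d.h) :
    ¬ IsConj (zz S d) (v : G) := by
  intro h
  obtain ⟨g, hg⟩ := isConj_iff.mp h
  have h1 := center_fixed S d hU (zz_mem_ZG S d) (g := g) (hg.symm ▸ v.2)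
  rw [hg] at h1
  exact hv (Subtype.ext h1)

theorem zz_conj_tt (hU : idxU S d = 6) : IsConj (zz S d) (tt S d) := by
  obtain ⟨w, -, hw, -⟩ := U_transitive S d hU (a := zz S d) (b := tt S d)
    ⟨_, d.mem_T dvd_rfl dvd_rfl, rfl⟩ ⟨_, d.mem_T dvd_rfl (dvd_zero _), rfl⟩
    (fun e => by have := order_zz S d; rw [e, orderOf_one] at this; omega)
    (fun e => by have := order_tt S d; rw [e, orderOf_one] at this; omega)
  exact isConj_iff.mpr ⟨w, hw⟩

theorem ss_conj_tt (hV : ∀ f, idxV S d f = 6) : IsConj (ss S d) (tt S d) := by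
  obtain ⟨w, hwN, hw, -⟩ := V_transitive S d (hV 0) (a := ((d.t0 0 : (S : Subgroup G)) : G))
    (b := ((d.g0 : (S : Subgroup G)) : G)) ⟨_, d.t0_mem 0, rfl⟩ ⟨_, d.g0_mem 0, rfl⟩
    (by rw [Subgroup.orderOf_coe]; exact d.order_t0 0) (by rw [Subgroup.orderOf_coe]; exact d.order_g0)
  set c : (S : Subgroup G) := d.u (-d.q) (-d.q) with hc
  have hcZ : (c : G) ∈ ZG S := ⟨c, d.u_diag_central (by simp), rfl⟩
  have hs : d.s = d.t0 0 * c := by
    rw [Wreath.Pres.t0, hc, d.us_mul_u, show (0 : ℤ) + d.q + -d.q = 0 by ring,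
      show d.q - 0 + -d.q = 0 by ring, d.u_zero, one_mul]
  have e : w * ss S d * w⁻¹ = w * ((d.t0 0 : (S : Subgroup G)) : G) * w⁻¹ * (w * (c : G) * w⁻¹) := by
    rw [ss, hs, Subgroup.coe_mul]; group
  rw [V_central S d hwN hcZ] at e
  refine IsConj.trans (isConj_iff.mpr ⟨w, e⟩) ?_
  rcases hw with hw | hw <;> rw [hw]
  · rw [← Subgroup.coe_mul]
    have e2 : IsConj (d.g0 * c) (d.u d.h 0) := isConj_iff.mpr ⟨d.u 0 0 * d.s, by
      rw [Wreath.Pres.g0, hc, d.uu, d.conj_us, d.u_eq_iff, d.h_q]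
      exact ⟨⟨-1, by ring⟩, ⟨0, by ring⟩⟩⟩
    exact MonoidHom.map_isConj (S : Subgroup G).subtype e2
  · rw [← Subgroup.coe_inv, ← Subgroup.coe_mul, tt]
    have e2 : IsConj (d.g0⁻¹ * c) (d.u d.h 0) := isConj_iff.mpr ⟨1, by
      rw [one_mul, inv_one, mul_one, Wreath.Pres.g0, hc, d.u_inv, d.uu, d.u_eq_iff, d.h_q]
      exact ⟨⟨-1, by ring⟩, ⟨0, by ring⟩⟩⟩
    exact MonoidHom.map_isConj (S : Subgroup G).subtype e2

theorem card_classes_one (hU : idxU S d = 6) (hV : ∀ f, idxV S d f = 6) :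
    Nat.card {C : ConjClasses G // ∃ t : G, orderOf t = 2 ∧ ConjClasses.mk t = C} = 1 := by
  refine (TwoLift.card_classes (ι := Unit) (fun _ => tt S d) (fun _ => order_tt S d) (fun _ _ _ => rfl)
    fun t ht => ⟨(), ?_⟩).trans (by simp)
  rcases invol_classes S d ht with e | e | e
  · exact (zz_conj_tt S d hU).symm.trans e
  · exact e
  · exact (ss_conj_tt S d hV).symm.trans e

theorem card_classes_two_U (hU : idxU S d = 2) (hV : ∀ f, idxV S d f = 6) :
    Nat.card {C : ConjClasses G // ∃ t : G, orderOf t = 2 ∧ ConjClasses.mk t = C} = 2 := by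
  have hn : ¬ IsConj (zz S d) (tt S d) := not_conj_zz S d hU fun e => d.not_dvd_h
    (Wreath.dvd_congr ((d.u_eq_iff _ _ _ _).mp e).2.neg_right (by ring))
  refine (TwoLift.card_classes (ι := Bool) (fun b => bif b then zz S d else tt S d)
    (by rintro (_ | _); exacts [order_tt S d, order_zz S d]) ?_ fun t ht => ?_).trans (by simp)
  · rintro (_ | _) (_ | _) e
    · rfl
    · exact absurd e.symm hn
    · exact absurd e hn
    · rfl
  · rcases invol_classes S d ht with e | e | e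
    · exact ⟨true, e⟩
    · exact ⟨false, e⟩
    · exact ⟨false, (ss_conj_tt S d hV).symm.trans e⟩

theorem card_classes_two_V (hU : idxU S d = 6) (hV : ∀ f, idxV S d f = 2) :
    Nat.card {C : ConjClasses G // ∃ t : G, orderOf t = 2 ∧ ConjClasses.mk t = C} = 2 := by
  have hn := not_conj_tt_ss S d hV
  refine (TwoLift.card_classes (ι := Bool) (fun b => bif b then tt S d else ss S d)
    (by rintro (_ | _); exacts [order_ss S d, order_tt S d]) ?_ fun t ht => ?_).trans (by simp)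
  · rintro (_ | _) (_ | _) e
    · rfl
    · exact absurd e.symm hn
    · exact absurd e hn
    · rfl
  · rcases invol_classes S d ht with e | e | e
    · exact ⟨true, (zz_conj_tt S d hU).symm.trans e⟩
    · exact ⟨true, e⟩
    · exact ⟨false, e⟩

theorem card_classes_three (hU : idxU S d = 2) (hV : ∀ f, idxV S d f = 2) :
    Nat.card {C : ConjClasses G // ∃ t : G, orderOf t = 2 ∧ ConjClasses.mk t = C} = 3 := by
  have h1 : ¬ IsConj (zz S d) (tt S d) := not_conj_zz S d hU fun e => d.not_dvd_h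
    (Wreath.dvd_congr ((d.u_eq_iff _ _ _ _).mp e).2.neg_right (by ring))
  have h2 := not_conj_tt_ss S d hV
  have h3 := not_conj_zz_ss S d hV
  refine (TwoLift.card_classes (ι := Option Bool)
    (fun b => b.elim (zz S d) fun b => bif b then tt S d else ss S d)
    (by rintro (_ | _ | _); exacts [order_zz S d, order_ss S d, order_tt S d]) ?_ fun t ht => ?_).trans (by simp)
  · rintro (_ | _ | _) (_ | _ | _) e
    · rfl
    · exact absurd e h3
    · exact absurd e h1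
    · exact absurd e.symm h3
    · rfl
    · exact absurd e.symm h2
    · exact absurd e.symm h1
    · exact absurd e h2
    · rfl
  · rcases invol_classes S d ht with e | e | e
    · exact ⟨none, e⟩
    · exact ⟨some true, e⟩
    · exact ⟨some false, e⟩

include d in
theorem has_complement (hU : idxU S d = 2) (hV : ∀ f, idxV S d f = 2) :
    Cfsg.HasNormalPComplement 2 G := by
  haveI : Fact (Nat.Prime 2) := ⟨Nat.prime_two⟩
  refine Fusion.hasNormalPComplement_of_controlsFusion S fun x hx g hg => ?_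
  have hiff : ∀ (t a : G), t ∈ (S : Subgroup G) → ((∃ v ∈ (S : Subgroup G), v * x * v⁻¹ = t * a * t⁻¹) ↔
      ∃ v ∈ (S : Subgroup G), v * x * v⁻¹ = a) := by
    intro t a ht
    constructor
    · rintro ⟨v, hv, e⟩
      refine ⟨t⁻¹ * v, mul_mem (inv_mem ht) hv, ?_⟩
      calc t⁻¹ * v * x * (t⁻¹ * v)⁻¹ = t⁻¹ * (v * x * v⁻¹) * t := by group
        _ = a := by rw [e]; group
    · rintro ⟨v, hv, e⟩
      refine ⟨t * v, mul_mem ht hv, ?_⟩
      calc t * v * x * (t * v)⁻¹ = t * (v * x * v⁻¹) * t⁻¹ := by group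
        _ = t * a * t⁻¹ := by rw [e]
  have h1 := label_elem_centric S (fun a => ∃ v ∈ (S : Subgroup G), v * x * v⁻¹ = a)
    (fun s hs a _ => propext (hiff s a hs)) (fun E hE hc => Or.inl ?_) hx hg
  · exact h1 ▸ ⟨1, one_mem _, by group⟩
  · rcases steps S d hE hc with h | h | ⟨f, h⟩
    exacts [h, h ▸ U_oddTrivial S d hU, h ▸ V_oddTrivial S d (hV f)]

/-- With full automizer of `UG`, a subgroup `L` that is big enough contains `UG`. -/
theorem UG_le_of (hU : idxU S d = 6) {K L : Subgroup G} (hUK : UG S d ≤ K)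
    (hKw : ∀ w : G, (∀ H : Subgroup G, H.index = 2 → w ∈ H) → w ∈ K)
    (hmul : ∀ a b : G, a ∈ K → b ∈ K → a ∉ L → b ∉ L → a * b ∈ L)
    (hconj : ∀ w ∈ K, ∀ v ∈ L, w * v * w⁻¹ ∈ L) : UG S d ≤ L := by
  set ι : ℤ → ℤ → G := fun a b => ((d.u a b : (S : Subgroup G)) : G) with hι
  have hK : ∀ a b, ι a b ∈ K := fun a b => hUK ⟨_, d.u_mem_U a b, rfl⟩
  have hadd : ∀ a b c e, ι a b * ι c e = ι (a + c) (b + e) := fun a b c e => by
    rw [hι, ← Subgroup.coe_mul, d.uu]
  have hsq : ∀ a b, ι (2 * a) (2 * b) ∈ L := fun a b => by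
    rw [two_mul, two_mul, ← hadd]
    by_cases h : ι a b ∈ L
    · exact mul_mem h h
    · exact hmul _ _ (hK a b) (hK a b) h h
  have hpar : ∀ a b a' b', 2 ∣ a - a' → 2 ∣ b - b' → ι a b ∈ L → ι a' b' ∈ L := by
    rintro a b a' b' ⟨i, hi⟩ ⟨j, hj⟩ h
    have := mul_mem h (hsq (-i) (-j))
    rwa [hadd, show a + 2 * -i = a' by linarith, show b + 2 * -j = b' by linarith] at this
  have hmove : ∀ i j : ℤ, ι (i * d.h) (j * d.h) ≠ 1 → ∃ α β : ℤ, 2 ∣ α - i ∧ 2 ∣ β - j ∧
      (ι α β ∈ L ↔ ι 1 0 ∈ L) := by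
    intro i j hne
    obtain ⟨w, hwN, hw, hwK⟩ := U_transitive S d hU (a := ι d.h 0) (b := ι (i * d.h) (j * d.h))
      ⟨_, d.mem_T dvd_rfl (dvd_zero _), rfl⟩ ⟨_, d.mem_T (dvd_mul_left _ _) (dvd_mul_left _ _), rfl⟩
      (fun e => d.not_dvd_h ((d.u_eq_one _ _).mp (Subtype.ext e)).1) hne
    obtain ⟨v, hvU, hv⟩ := (Subgroup.mem_normalizer_iff.mp hwN (ι 1 0)).mp ⟨_, d.u_mem_U 1 0, rfl⟩
    obtain ⟨α, β, rfl⟩ := d.mem_U.mp hvU
    have hv' : ι α β = w * ι 1 0 * w⁻¹ := hv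
    have hp : ι (α * d.h) (β * d.h) = ι (i * d.h) (j * d.h) := by
      have e1 : ι α β ^ d.h = ι (α * d.h) (β * d.h) := by
        rw [hι, ← Subgroup.coe_zpow, d.u_zpow]
      have e2 : ι 1 0 ^ d.h = ι d.h 0 := by
        rw [hι, ← Subgroup.coe_zpow, d.u_zpow, one_mul, zero_mul]
      rw [← e1, hv', conj_zpow, e2, hw]
    obtain ⟨h1, h2⟩ := (d.u_eq_iff _ _ _ _).mp (Subtype.ext hp)
    refine ⟨α, β, ?_, ?_, ?_⟩
    · rw [← sub_mul, mul_comm, mul_comm _ d.h, mul_dvd_mul_iff_left d.h_pos.ne'] at h1; exact h1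
    · rw [← sub_mul, mul_comm, mul_comm _ d.h, mul_dvd_mul_iff_left d.h_pos.ne'] at h2; exact h2
    · rw [hv']
      refine ⟨fun h => ?_, hconj w (hKw w hwK) _⟩
      have := hconj w⁻¹ (inv_mem (hKw w hwK)) _ h
      rwa [show w⁻¹ * (w * ι 1 0 * w⁻¹) * w⁻¹⁻¹ = ι 1 0 by group] at this
  have hne01 : ι (0 * d.h) (1 * d.h) ≠ 1 := fun e => by
    have h := ((d.u_eq_one _ _).mp (Subtype.ext e)).2
    rw [one_mul] at h
    exact d.not_dvd_h h
  have hne11 : ι (1 * d.h) (1 * d.h) ≠ 1 := fun e => by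
    have h := ((d.u_eq_one _ _).mp (Subtype.ext e)).2
    rw [one_mul] at h
    exact d.not_dvd_h h
  obtain ⟨α, β, hα, hβ, h01⟩ := hmove 0 1 hne01
  obtain ⟨α', β', hα', hβ', h11⟩ := hmove 1 1 hne11
  have hx : ι 1 0 ∈ L := by
    by_contra hx
    have hy : ι 0 1 ∉ L := fun h => hx (h01.mp (hpar 0 1 α β (by omega) (by omega) h))
    have hxy := hmul _ _ (hK 1 0) (hK 0 1) hx hy
    rw [hadd, add_zero, zero_add] at hxy
    exact hx (h11.mp (hpar 1 1 α' β' (by omega) (by omega) hxy))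
  have hy : ι 0 1 ∈ L := hpar α β 0 1 (by omega) (by omega) (h01.mpr hx)
  rintro _ ⟨v, hv, rfl⟩
  obtain ⟨a, b, rfl⟩ := d.mem_U.mp hv
  show ι a b ∈ L
  have e : ι a b = ι 1 0 ^ a * ι 0 1 ^ b := by
    rw [hι, ← Subgroup.coe_zpow, ← Subgroup.coe_zpow, ← Subgroup.coe_mul, d.u_zpow, d.u_zpow, d.uu]
    ring_nf
  rw [e]
  exact mul_mem (zpow_mem hx a) (zpow_mem hy b)

include d in
theorem no_index_two (hU : idxU S d = 6) (hV : ∀ f, idxV S d f = 6) (H : Subgroup G) : H.index ≠ 2 := by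
  intro hH
  haveI := Subgroup.normal_of_index_eq_two hH
  have hUH : UG S d ≤ H := UG_le_of S d hU (K := ⊤) le_top (fun _ _ => Subgroup.mem_top _)
    (fun a b _ _ ha hb => (Subgroup.mul_mem_iff_of_index_two hH).mpr (iff_of_false ha hb))
    (fun w _ v hv => (inferInstance : H.Normal).conj_mem v hv w)
  obtain ⟨c, hc⟩ := isConj_iff.mp (ss_conj_tt S d hV).symm
  have hs : ss S d ∈ H := hc ▸ (inferInstance : H.Normal).conj_mem _
    (hUH ⟨_, d.u_mem_U d.h 0, rfl⟩) c
  refine not_le_of_index_two S hH fun v hv => ?_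
  rcases d.cases ⟨v, hv⟩ with ⟨a, b, e⟩ | ⟨a, b, e⟩
  · exact hUH ⟨_, d.u_mem_U a b, (congrArg Subtype.val e).symm⟩
  · rw [show v = ((d.u a b * d.s : (S : Subgroup G)) : G) from congrArg Subtype.val e, Subgroup.coe_mul]
    exact mul_mem (hUH ⟨_, d.u_mem_U a b, rfl⟩) hs

include d in
theorem exists_K_U (hU : idxU S d = 6) (hV : ∀ f, idxV S d f = 2) :
    ∃ K : Subgroup G, K.Normal ∧ K.index = 2 ∧ UG S d ≤ K ∧ ∀ H : Subgroup K, H.index ≠ 2 := by
  haveI : Fact (Nat.Prime 2) := ⟨Nat.prime_two⟩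
  have hidx : (UG S d).relIndex (S : Subgroup G) = 2 := by
    rw [Subgroup.relIndex, UG, Subgroup.subgroupOf, Subgroup.comap_map_eq_self_of_injective
      (S : Subgroup G).subtype_injective, d.index_U]
  obtain ⟨K, hKn, hK2, hKS⟩ := exists_index_two S (UG_le S d) hidx fun a g ha hg =>
    UG_invariant S d hV ha hg
  have hUK : UG S d ≤ K := hKS ▸ inf_le_left
  refine ⟨K, hKn, hK2, hUK, QDFus.no_index_two_sub (M' := UG S d) ?_ fun L hmul hconj =>
    UG_le_of S d hU hUK (fun w hw => hw K hK2) hmul hconj⟩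
  have h1 := ((UG S d).subgroupOf K).card_mul_index
  rw [Nat.card_congr (Subgroup.subgroupOfEquivOfLe hUK).toEquiv, UG,
    Subgroup.card_map_of_injective (S : Subgroup G).subtype_injective] at h1
  have h2 := K.card_mul_index
  rw [hK2, ← h1] at h2
  have h3 := (S : Subgroup G).card_mul_index
  have h4 := d.U.card_mul_index
  rw [d.index_U] at h4
  rw [← h4, ← h2] at h3
  have h5 : (S : Subgroup G).index = ((d.U.map (S : Subgroup G).subtype).subgroupOf K).index := by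
    refine Nat.eq_of_mul_eq_mul_left (Nat.mul_pos (Nat.card_pos (α := d.U)) two_pos) ?_
    rw [h3]; ring
  rw [UG, ← h5]
  exact S.not_dvd_index

open scoped Classical in
/-- The character `chi`, extended by one outside `S`. -/
noncomputable def chiLab (v : G) : Multiplicative (ZMod (2 ^ (d.p + 2))) :=
  if h : v ∈ (S : Subgroup G) then d.chi ⟨v, h⟩ else 1

theorem chiLab_apply (v : (S : Subgroup G)) : chiLab S d (v : G) = d.chi v := dif_pos v.2

theorem chi_invariant (hU : idxU S d = 2) {a g : G} (ha : a ∈ (S : Subgroup G))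
    (hg : g * a * g⁻¹ ∈ (S : Subgroup G)) : d.chi ⟨_, hg⟩ = d.chi ⟨a, ha⟩ := by
  have h := label_elem_centric S (chiLab S d) (fun s hs v hv => ?_) (fun E hE hc => ?_) ha hg
  · rwa [chiLab, chiLab, dif_pos hg, dif_pos ha] at h
  · rw [show s * v * s⁻¹ = ((⟨s, hs⟩ * ⟨v, hv⟩ * ⟨s, hs⟩⁻¹ : (S : Subgroup G)) : G) from rfl,
      chiLab_apply, map_mul, map_mul, map_inv, mul_inv_cancel_comm,
      show chiLab S d v = d.chi ⟨v, hv⟩ from chiLab_apply S d ⟨v, hv⟩]
  · rcases steps S d hE hc with h | h | ⟨f, h⟩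
    · exact Or.inl h
    · exact Or.inl (h ▸ U_oddTrivial S d hU)
    · refine Or.inr ?_
      subst h
      rintro x hx _ ⟨v, hv, rfl⟩
      obtain ⟨y, hy, c, hc', rfl⟩ := d.mem_Ve_decomp hv
      obtain ⟨y', hy', hyy⟩ := (Subgroup.mem_normalizer_iff.mp (normalizer_le S d f hx) _).mp
        (⟨y, hy, rfl⟩ : (y : G) ∈ QG S d f)
      have e : x * ((y * c : (S : Subgroup G)) : G) * x⁻¹ = ((y' * c : (S : Subgroup G)) : G) := by
        rw [Subgroup.coe_mul, Subgroup.coe_mul, show (y' : G) = x * (y : G) * x⁻¹ from hyy,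
          show x * ((y : G) * c) * x⁻¹ = x * (y : G) * x⁻¹ * (x * (c : G) * x⁻¹) by group,
          V_central S d hx (⟨c, hc', rfl⟩ : (c : G) ∈ ZG S)]
      rw [Subgroup.coe_subtype, e, chiLab_apply, chiLab_apply, map_mul, map_mul, d.chi_Qs hy,
        d.chi_Qs hy']

include d in
theorem exists_K_V (hU : idxU S d = 2) (hV : ∀ f, idxV S d f = 6) :
    ∃ K : Subgroup G, K.Normal ∧ K.index = 2 ^ (d.p + 2) ∧
      (∀ P : Sylow 2 K, Nonempty ((P : Subgroup K) ≃* QuaternionGroup (2 ^ (d.p + 1)))) ∧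
      ∀ H : Subgroup K, H.index ≠ 2 := by
  haveI : Fact (Nat.Prime 2) := ⟨Nat.prime_two⟩
  have hodd : Odd (S : Subgroup G).index := Nat.odd_iff.mpr (Nat.two_dvd_ne_zero.mp S.not_dvd_index)
  set φ : (S : Subgroup G) →* Multiplicative (ZMod (2 ^ (d.p + 2))) := d.chi with hφ
  have hT : ∀ v : (S : Subgroup G), φ.transfer (v : G) = φ v ^ (S : Subgroup G).index := fun v => by
    refine Small.transfer_eq_pow_of_control φ v.2 fun k a hk => ?_
    have h := chi_invariant S d hU (a := (v : G) ^ k) (g := a⁻¹) (pow_mem v.2 k)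
      (by rw [inv_inv]; exact hk)
    simp only [inv_inv] at h
    exact h
  have hcardA : Nat.card (Multiplicative (ZMod (2 ^ (d.p + 2)))) = 2 ^ (d.p + 2) := by
    rw [Nat.card_congr Multiplicative.toAdd, Nat.card_zmod]
  set K := φ.transfer.ker with hK
  have hKS : ∀ v : (S : Subgroup G), (v : G) ∈ K ↔ v ∈ d.Y := fun v => by
    rw [hK, MonoidHom.mem_ker, hT, ← d.chi_ker, MonoidHom.mem_ker]
    refine ⟨fun h => eq_one_of_odd_pow (p := d.p + 2) ?_ hodd h, fun h => by rw [h, one_pow]⟩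
    exact (orderOf_dvd_natCard _).trans (dvd_of_eq hcardA)
  have hKi : K.index = 2 ^ (d.p + 2) := by
    rw [hK, Subgroup.index_ker]
    refine Eq.trans ?_ ((Subgroup.card_top (G := Multiplicative (ZMod (2 ^ (d.p + 2))))).trans hcardA)
    refine congrArg (fun M : Subgroup (Multiplicative (ZMod (2 ^ (d.p + 2)))) => Nat.card M)
      (top_le_iff.mp fun m _ => ?_)
    obtain ⟨k, hk⟩ := (powCoprime (G := Multiplicative (ZMod (2 ^ (d.p + 2))))
      (n := (S : Subgroup G).index) (by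
        rw [hcardA]; exact (Nat.coprime_two_left.mpr hodd).pow_left _)).surjective m
    obtain ⟨v, hv⟩ := d.chi_surjective k
    exact ⟨v, by rw [hT, hφ, hv]; exact hk⟩
  set Y' := d.Y.map (S : Subgroup G).subtype with hY'
  have hYK : Y' ≤ K := by
    rintro _ ⟨v, hv, rfl⟩; exact (hKS v).mpr hv
  have hp : IsPGroup 2 (Y'.subgroupOf K) :=
    (S.isPGroup'.to_le (Subgroup.map_subtype_le _)).comap_subtype
  have hi : (Y'.subgroupOf K).index = (S : Subgroup G).index := by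
    have h1 := (Y'.subgroupOf K).card_mul_index
    rw [Nat.card_congr (Subgroup.subgroupOfEquivOfLe hYK).toEquiv, hY',
      Subgroup.card_map_of_injective (S : Subgroup G).subtype_injective, d.card_Y] at h1
    have h2 := K.card_mul_index
    rw [hKi, ← h1] at h2
    have h3 := (S : Subgroup G).card_mul_index
    rw [d.hcard, ← h2, show 2 * d.p + 5 = d.p + 3 + (d.p + 2) by ring, pow_add] at h3
    refine (Nat.eq_of_mul_eq_mul_left (n := 2 ^ (d.p + 3) * 2 ^ (d.p + 2)) (by positivity) ?_).symm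
    rw [h3]; ring
  set R : Sylow 2 K := hp.toSylow (hi ▸ S.not_dvd_index) with hR
  refine ⟨K, inferInstance, hKi, fun P => ?_, ?_⟩
  · obtain ⟨f⟩ := d.Y_equiv
    exact ⟨(P.equiv R).trans ((Subgroup.subgroupOfEquivOfLe hYK).trans
      ((d.Y.equivMapOfInjective _ (S : Subgroup G).subtype_injective).symm.trans f))⟩
  refine QDFus.no_index_two_sub (M' := Y') (hi ▸ S.not_dvd_index) fun L hmul hconj => ?_
  have hQY : ∀ f, d.Qs f ≤ d.Y := fun f x hx => by
    rw [← d.chi_ker, MonoidHom.mem_ker]; exact d.chi_Qs hx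
  have hwK : ∀ f, ∀ w ∈ Subgroup.normalizer (VG S d f : Set G), Odd (orderOf w) → w ∈ K := by
    intro f w _ ho
    rw [hK, MonoidHom.mem_ker]
    refine orderOf_eq_one_iff.mp (Nat.eq_one_of_dvd_coprimes
      ((Nat.coprime_two_left.mpr ho).pow_left (d.p + 2)) ((orderOf_dvd_natCard _).trans (dvd_of_eq hcardA))
      (orderOf_map_dvd φ.transfer w))
  have hkey : ∀ f, ∀ b ∈ QG S d f, orderOf b = 4 → b ∈ L := by
    intro f b hb hb4
    obtain ⟨eQ⟩ := QG_equiv S d f
    obtain ⟨g, h, dd⟩ := exists_gens eQ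
    have hQK : QG S d f ≤ K := (Subgroup.map_mono (hQY f)).trans hYK
    obtain ⟨c, hcE, hc4, hcL⟩ : ∃ c ∈ QG S d f, orderOf c = 4 ∧ c ∈ L := by
      by_cases hgL : g ∈ L
      · exact ⟨g, dd.hg, dd.og, hgL⟩
      by_cases hhL : h ∈ L
      · exact ⟨h, dd.hh, dd.oh, hhL⟩
      exact ⟨g * h, mul_mem dd.hg dd.hh, dd.ogh, hmul g h (hQK dd.hg) (hQK dd.hh) hgL hhL⟩
    obtain ⟨w, hwN, ho, hw⟩ := V_transitive_odd S d (hV f) hcE hb hc4 hb4
    have := hconj w (hwK f w hwN ho) c hcL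
    rcases hw with hw | hw <;> rw [hw] at this
    · exact this
    · exact inv_mem_iff.mp this
  have ht : ∀ f, ((d.t0 f : (S : Subgroup G)) : G) ∈ L := fun f => hkey f _ ⟨_, d.t0_mem f, rfl⟩
    (by rw [Subgroup.orderOf_coe]; exact d.order_t0 f)
  have hg : ((d.g0 : (S : Subgroup G)) : G) ∈ L := hkey 0 _ ⟨_, d.g0_mem 0, rfl⟩
    (by rw [Subgroup.orderOf_coe]; exact d.order_g0)
  rw [hY', Wreath.Pres.Y, MonoidHom.map_closure, Subgroup.closure_le]
  rintro _ ⟨v, rfl | rfl, rfl⟩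
  · have h := mul_mem (inv_mem (mul_mem (ht 0) (ht 1))) (mul_mem hg hg)
    rw [← Subgroup.coe_mul, ← Subgroup.coe_mul, ← Subgroup.coe_inv, ← Subgroup.coe_mul, d.z_eq,
      Wreath.Pres.t0, Wreath.Pres.t0, d.us_mul_us, d.u_inv, d.uu] at h
    rw [show d.u 1 (-1) = d.u (-(0 + d.q + (d.q - 1)) + d.h) (-(d.q - 0 + (1 + d.q)) + d.h) by
      rw [d.u_eq_iff, d.h_q]; exact ⟨⟨0, by ring⟩, ⟨0, by ring⟩⟩]
    exact h
  · have h := ht d.q
    rw [Wreath.Pres.t0, sub_self, ← two_mul, ← d.h_q] at h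
    exact h

end Cfsg.Agent.WrFus
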