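import Cfsg.Agent.Lib.TwoGroups.WreathedQuat
import Cfsg.Agent.Lib.TwoGroups.CentricLabel
import Cfsg.Agent.Lib.TwoGroups.ThreeAction
import Cfsg.Agent.Lib.TwoGroups.FusionData

/-!
The two local automizers in a group with wreathed Sylow 2-subgroups.
-/

set_option autoImplicit false

open scoped Pointwise

namespace Cfsg.Agent.WrFus

open Cfsg.Agent.TwoFus

variable {G : Type*} [Group G] [Finite G]

omit [Finite G] in
theorem centralizer_le_normalizer (V : Subgroup G) :
    Subgroup.centralizer (V : Set G) ≤ Subgroup.normalizer (V : Set G) := by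
  intro g hg
  rw [Subgroup.mem_normalizer_iff]
  intro a
  constructor
  · intro ha
    rw [← Subgroup.mem_centralizer_iff.mp hg a ha, mul_inv_cancel_right]
    exact ha
  · intro ha
    have h := Subgroup.mem_centralizer_iff.mp (inv_mem hg) _ ha
    have e : a = g * a * g⁻¹ := by
      calc a = g⁻¹ * (g * a * g⁻¹) * g := by group
        _ = g * a * g⁻¹ * g⁻¹ * g := by rw [h]
        _ = _ := by group
    rw [e]; exact ha

omit [Finite G] in
theorem conj_mem_centralizer {V : Subgroup G} {n v : G} (hn : n ∈ Subgroup.normalizer (V : Set G))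
    (hv : v ∈ Subgroup.centralizer (V : Set G)) : n * v * n⁻¹ ∈ Subgroup.centralizer (V : Set G) := by
  rw [Subgroup.mem_centralizer_iff] at hv ⊢
  intro a ha
  have h := hv (n⁻¹ * a * n) (by
    have := (Subgroup.mem_normalizer_iff.mp (inv_mem hn) a).mp ha
    rwa [inv_inv] at this)
  calc a * (n * v * n⁻¹) = n * (n⁻¹ * a * n * v) * n⁻¹ := by group
    _ = n * (v * (n⁻¹ * a * n)) * n⁻¹ := by rw [h]
    _ = n * v * n⁻¹ * a := by group

/-- If the 2-part and the odd elements of a normal subgroup `M` of `N` lie in `C`, then `M ≤ C`. -/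
theorem le_of_two_part (P : Sylow 2 G) {N M C : Subgroup G}
    (hfull : ¬ 2 ∣ ((P : Subgroup G) ⊓ N).relIndex N) (hMN : M ≤ N)
    (hM : ∀ n ∈ N, ∀ v ∈ M, n * v * n⁻¹ ∈ M) (hC : ∀ n ∈ N, ∀ v ∈ C, n * v * n⁻¹ ∈ C)
    (h1 : (P : Subgroup G) ⊓ M ≤ C) (h2 : ∀ w ∈ M, Odd (orderOf w) → w ∈ C) : M ≤ C := by
  haveI : Fact (Nat.Prime 2) := ⟨Nat.prime_two⟩
  intro w hw
  obtain ⟨a, m, hm, ho⟩ : ∃ a m, ¬ 2 ∣ m ∧ orderOf w = 2 ^ a * m :=
    Nat.exists_eq_pow_mul_and_not_dvd (orderOf_pos w).ne' 2 (by norm_num)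
  have hodd : Odd m := Nat.odd_iff.mpr (Nat.two_dvd_ne_zero.mp hm)
  have hb : w ^ 2 ^ a ∈ C := by
    refine h2 _ (pow_mem hw _) ?_
    rw [orderOf_pow' _ (by positivity), ho, Nat.gcd_eq_right (dvd_mul_right _ _),
      Nat.mul_div_cancel_left _ (by positivity)]
    exact hodd
  have ha : w ^ m ∈ C := by
    have hp : IsPGroup 2 (Subgroup.zpowers (w ^ m)) := IsPGroup.of_card (n := a) (by
      rw [Nat.card_zpowers, orderOf_pow' _ (by rintro rfl; exact hm (dvd_zero 2)), ho,
        Nat.gcd_eq_right (dvd_mul_left _ _),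
        Nat.mul_div_cancel _ (Nat.pos_of_ne_zero (by rintro rfl; exact hm (dvd_zero 2)))])
    obtain ⟨R, hR, hRi⟩ := Alperin.exists_sylow_inf N _ hp
      (Subgroup.zpowers_le.mpr (hMN (pow_mem hw m)))
    obtain ⟨n, hn, hnR⟩ := Alperin.exists_conj_sylow
      (R.isPGroup'.to_le inf_le_left : IsPGroup 2 ((R : Subgroup G) ⊓ N : Subgroup G))
      (P.isPGroup'.to_le inf_le_left) inf_le_right inf_le_right hRi hfull
    have h3 : n⁻¹ * w ^ m * n ∈ Alperin.cj n ((R : Subgroup G) ⊓ N) := by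
      rw [Alperin.mem_cj, show n * (n⁻¹ * w ^ m * n) * n⁻¹ = w ^ m by group]
      exact ⟨hR (Subgroup.mem_zpowers _), hMN (pow_mem hw m)⟩
    rw [hnR] at h3
    have h4 := hM n⁻¹ (inv_mem hn) _ (pow_mem hw m)
    rw [inv_inv] at h4
    have h5 := hC n hn _ (h1 ⟨h3.1, h4⟩)
    rwa [show n * (n⁻¹ * w ^ m * n) * n⁻¹ = w ^ m by group] at h5
  have hcop : Nat.Coprime m (2 ^ a) := (Nat.coprime_two_right.mpr hodd).pow_right a
  have e := Nat.gcd_eq_gcd_ab m (2 ^ a)
  rw [hcop, Nat.cast_one] at e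
  rw [← zpow_one w, e, zpow_add, zpow_mul, zpow_mul, zpow_natCast, zpow_natCast]
  exact mul_mem (zpow_mem ha _) (zpow_mem hb _)

omit [Finite G] in
theorem odd_eq_one {K : Type*} [Group K] (f : G →* K) {R : ℕ} {w : G} (hodd : Odd (orderOf w))
    (hR : f w ^ R = 1) (h2 : R ∣ 2) : f w = 1 := by
  refine orderOf_eq_one_iff.mp (Nat.eq_one_of_dvd_coprimes (Nat.coprime_two_left.mpr hodd)
    ((orderOf_dvd_of_pow_eq_one hR).trans h2) (orderOf_map_dvd f w))

theorem exists_odd_transitive {X : Type*} [Finite X] (hX : Nat.card X = 3) {N : Subgroup G}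
    (f : N →* Equiv.Perm X) (h3 : 3 ∣ Nat.card f.range) (a b : X) :
    ∃ v : N, Odd (orderOf (v : G)) ∧ f v a = b := by
  haveI : Fact (Nat.Prime 3) := ⟨by norm_num⟩
  obtain ⟨⟨σ, v, rfl⟩, hσ⟩ := exists_prime_orderOf_dvd_card' 3 h3
  have ho : orderOf (f v) = 3 := by rw [← hσ, ← Subgroup.orderOf_coe]
  obtain ⟨i, m, hm, hom⟩ : ∃ i m, ¬ 2 ∣ m ∧ orderOf (v : G) = 2 ^ i * m :=
    Nat.exists_eq_pow_mul_and_not_dvd (orderOf_pos (v : G)).ne' 2 (by norm_num)
  have hodd : Odd (orderOf ((v ^ 2 ^ i : N) : G)) := by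
    rw [Subgroup.coe_pow, orderOf_pow' _ (by positivity), hom, Nat.gcd_eq_right (dvd_mul_right _ _),
      Nat.mul_div_cancel_left _ (by positivity)]
    exact Nat.odd_iff.mpr (Nat.two_dvd_ne_zero.mp hm)
  set e : X ≃ Fin 3 := (Finite.equivFin X).trans (finCongr hX) with he
  have h1 : (e.permCongrHom (f (v ^ 2 ^ i))) ^ 3 = 1 := by
    rw [← map_pow, map_pow f, ← pow_mul, mul_comm, pow_mul,
      show f v ^ 3 = 1 by rw [← ho]; exact pow_orderOf_eq_one _, one_pow, map_one]
  have h2 : e.permCongrHom (f (v ^ 2 ^ i)) ≠ 1 := by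
    rw [Ne, map_eq_one_iff _ e.permCongrHom.injective, map_pow, ← orderOf_dvd_iff_pow_eq_one, ho]
    intro h
    have := (Nat.prime_three.dvd_of_dvd_pow h)
    norm_num at this
  obtain ⟨k, hk⟩ := perm_three_transitive _ h1 h2 (e a) (e b)
  refine ⟨(v ^ 2 ^ i) ^ (k : ℕ), ?_, e.injective ?_⟩
  · rw [Subgroup.coe_pow]
    exact Odd.of_dvd_nat hodd (orderOf_pow_dvd _)
  · rw [← hk, ← map_pow, map_pow f, Equiv.permCongrHom_coe, Equiv.permCongr_apply, Equiv.symm_apply_apply]

theorem eq_two_or_six {X : Type*} [Finite X] (hX : Nat.card X = 3) {N : Subgroup G}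
    (f : N →* Equiv.Perm X) {s : N} {k : ℕ} (hk : orderOf (s : G) = 2 ^ k) (hs : f s ≠ 1) :
    Nat.card f.range = 2 ∨ Nat.card f.range = 6 := by
  have h6 := range_dvd_six f hX
  have h2 : orderOf (f s) ∣ 2 ^ k := by
    have := orderOf_map_dvd f s
    rwa [← hk, Subgroup.orderOf_coe]
  obtain ⟨j, -, hj⟩ := (Nat.dvd_prime_pow Nat.prime_two).mp h2
  have hj0 : j ≠ 0 := fun e => hs (orderOf_eq_one_iff.mp (by rw [hj, e, pow_zero]))
  have h1 : orderOf (f s) ∣ Nat.card f.range := by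
    rw [← Subgroup.orderOf_mk (H := f.range) _ ⟨_, rfl⟩]; exact orderOf_dvd_natCard _
  rw [hj] at h1
  have h2' : 2 ∣ Nat.card f.range := (dvd_pow_self 2 hj0).trans h1
  have hle := Nat.le_of_dvd (by norm_num) h6
  generalize Nat.card f.range = r at *
  interval_cases r <;> omega

variable (S : Sylow 2 G) (d : Wreath.Pres (S : Subgroup G))

/-- The abelian maximal subgroup, in `G`. -/
noncomputable def UG : Subgroup G := d.U.map (S : Subgroup G).subtype

/-- The centre of `S`, in `G`. -/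
def ZG : Subgroup G := (Subgroup.center (S : Subgroup G)).map (S : Subgroup G).subtype

/-- `Qs f ⊔ Z(S)`, in `G`. -/
def VG (f : ℤ) : Subgroup G := (d.Ve (2 * f)).map (S : Subgroup G).subtype

/-- The quaternion subgroup, in `G`. -/
def QG (f : ℤ) : Subgroup G := (d.Qs f).map (S : Subgroup G).subtype

/-- The automizer order of `UG`. -/
noncomputable def idxU : ℕ :=
  (Subgroup.centralizer (UG S d : Set G)).relIndex (Subgroup.normalizer (UG S d : Set G))

/-- The outer automizer order of `VG f`. -/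
noncomputable def idxV (f : ℤ) : ℕ :=
  (VG S d f ⊔ Subgroup.centralizer (VG S d f : Set G)).relIndex (Subgroup.normalizer (VG S d f : Set G))

theorem UG_le : UG S d ≤ (S : Subgroup G) := Subgroup.map_subtype_le _

theorem VG_le (f : ℤ) : VG S d f ≤ (S : Subgroup G) := Subgroup.map_subtype_le _

omit [Finite G] in
theorem mem_map_sub {K : Subgroup (S : Subgroup G)} {v : (S : Subgroup G)} :
    (v : G) ∈ K.map (S : Subgroup G).subtype ↔ v ∈ K :=
  Subgroup.mem_map_iff_mem (S : Subgroup G).subtype_injective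

theorem ZG_le_centralizer {v : G} (hv : v ∈ (S : Subgroup G)) :
    v ∈ Subgroup.centralizer (ZG S : Set G) := by
  rw [Subgroup.mem_centralizer_iff]
  rintro _ ⟨c, hc, rfl⟩
  exact (congrArg Subtype.val (Subgroup.mem_center_iff.mp hc ⟨v, hv⟩)).symm

theorem VG_eq (f : ℤ) : VG S d f = QG S d f ⊔ ZG S := by
  rw [VG, QG, ZG, ← Subgroup.map_sup, d.Qs_sup]

theorem ZG_le_VG (f : ℤ) : ZG S ≤ VG S d f := Subgroup.map_mono (d.center_le_Ve _)

theorem U_full : ¬ 2 ∣ ((S : Subgroup G) ⊓ Subgroup.normalizer (UG S d : Set G)).relIndex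
    (Subgroup.normalizer (UG S d : Set G)) := by
  haveI : Fact (Nat.Prime 2) := ⟨Nat.prime_two⟩
  have hle : (S : Subgroup G) ≤ Subgroup.normalizer (UG S d : Set G) := by
    intro s hs
    haveI := Subgroup.normal_of_index_eq_two d.index_U
    rw [Subgroup.mem_normalizer_iff_map_conj_eq]
    refine Subgroup.eq_of_le_of_card_ge ?_
      (by rw [Subgroup.card_map_of_injective (MulAut.conj s).injective])
    rintro _ ⟨_, ⟨v, hv, rfl⟩, rfl⟩
    exact ⟨_, (inferInstance : d.U.Normal).conj_mem v hv ⟨s, hs⟩, rfl⟩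
  rw [inf_eq_left.mpr hle]
  exact fun h => S.not_dvd_index (h.trans (Subgroup.relIndex_dvd_index_of_le hle))

theorem VG_conj (f f' : ℤ) : ∃ s ∈ (S : Subgroup G),
    (VG S d f).map (MulAut.conj s).toMonoidHom = VG S d f' := by
  obtain ⟨s, hs⟩ := d.Ve_conj_all (dvd_mul_right 2 f) (dvd_mul_right 2 f')
  refine ⟨s, s.2, ?_⟩
  rw [VG, VG, ← map_subtype_conj, hs]

theorem idxV_eq (f f' : ℤ) : idxV S d f = idxV S d f' := by
  obtain ⟨s, -, hs⟩ := VG_conj S d f f'
  rw [idxV, idxV, ← hs, relIndex_sup_conj]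

/-- A subgroup `Q Z(S)` is some `VG f`. -/
theorem quat_VG {Q : Subgroup G} (hQS : Q ≤ (S : Subgroup G)) (eQ : Q ≃* QuaternionGroup 2) :
    ∃ f : ℤ, Q ⊔ ZG S = VG S d f := by
  obtain ⟨e, ⟨f, rfl⟩, h⟩ := d.quat_sup_center ((Subgroup.subgroupOfEquivOfLe hQS).trans eQ)
  refine ⟨f, ?_⟩
  rw [VG, ← h, Subgroup.map_sup, Subgroup.map_subgroupOf_eq_of_le hQS, ZG]

theorem VG_noncomm (f : ℤ) : ∃ a ∈ VG S d f, ∃ b ∈ VG S d f, a * b ≠ b * a := by
  by_contra hno
  push Not at hno
  exact d.Ve_noncomm (dvd_mul_right 2 f) ⟨⟨fun a b => Subtype.ext (Subtype.ext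
    (hno _ ⟨a.1, a.2, rfl⟩ _ ⟨b.1, b.2, rfl⟩))⟩⟩

/-- Elements central in a noncommutative subgroup of `S` lie in `Z(S)`. -/
theorem mem_ZG_of_central {X : Subgroup G} (hX : X ≤ (S : Subgroup G))
    (hnc : ∃ a ∈ X, ∃ b ∈ X, a * b ≠ b * a) {c : G} (hc : c ∈ X) (hcc : ∀ a ∈ X, a * c = c * a)
    (d : Wreath.Pres (S : Subgroup G)) : c ∈ ZG S := by
  have hn : ¬ IsMulCommutative (X.subgroupOf (S : Subgroup G)) := by
    intro h
    obtain ⟨a, ha, b, hb, hab⟩ := hnc
    exact hab (congrArg (fun v : X.subgroupOf (S : Subgroup G) => ((v : (S : Subgroup G)) : G))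
      (mul_comm' (⟨⟨a, hX ha⟩, ha⟩ : X.subgroupOf (S : Subgroup G)) ⟨⟨b, hX hb⟩, hb⟩))
  refine ⟨⟨c, hX hc⟩, d.center_le_of_noncomm hn ⟨⟨⟨c, hX hc⟩, hc⟩, ?_, rfl⟩, rfl⟩
  exact Subgroup.mem_center_iff.mpr fun a => Subtype.ext (Subtype.ext (hcc _ a.2))

/-- Every `VG f` is fully normalized. -/
theorem V_full (f : ℤ) : ¬ 2 ∣ ((S : Subgroup G) ⊓ Subgroup.normalizer (VG S d f : Set G)).relIndex
    (Subgroup.normalizer (VG S d f : Set G)) := by
  haveI : Fact (Nat.Prime 2) := ⟨Nat.prime_two⟩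
  set V := VG S d f with hV
  obtain ⟨R, hR, hRi⟩ := Alperin.exists_sylow_inf (p := 2) (Subgroup.normalizer (V : Set G)) V
    (S.isPGroup'.to_le (VG_le S d f)) Subgroup.le_normalizer
  obtain ⟨u, hu⟩ := MulAction.exists_smul_eq G R S
  have hRS : Alperin.cj u⁻¹ (R : Subgroup G) = (S : Subgroup G) := by
    rw [← Alperin.coe_smul_inv, inv_inv, hu]
  set E := Alperin.cj u⁻¹ V with hE
  have hES : E ≤ (S : Subgroup G) := hRS ▸ Alperin.cj_mono u⁻¹ hR
  have hfullE : ¬ 2 ∣ ((S : Subgroup G) ⊓ Subgroup.normalizer (E : Set G)).relIndex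
      (Subgroup.normalizer (E : Set G)) := by
    rw [← hRS, hE, ← Alperin.cj_normalizer, ← Alperin.cj_inf, Alperin.relIndex_cj]
    exact hRi
  obtain ⟨eQ⟩ := d.Qs_equiv f
  set Q' := (QG S d f).map (MulAut.conj u).toMonoidHom with hQ'
  have hEmap : E = V.map (MulAut.conj u).toMonoidHom := by
    show V.map (MulAut.conj u⁻¹⁻¹).toMonoidHom = _
    rw [inv_inv]
  have hQ'S : Q' ≤ (S : Subgroup G) := by
    refine le_trans ?_ hES
    rw [hEmap, hQ', hV, VG_eq S d f]
    exact Subgroup.map_mono le_sup_left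
  have eQ' : Q' ≃* QuaternionGroup 2 :=
    ((QG S d f).equivMapOfInjective _ (MulAut.conj u).injective).symm.trans
      (((d.Qs f).equivMapOfInjective _ (S : Subgroup G).subtype_injective).symm.trans eQ)
  obtain ⟨f', hf'⟩ := quat_VG S d hQ'S eQ'
  have hZ : (ZG S).map (MulAut.conj u).toMonoidHom = ZG S := by
    refine Subgroup.eq_of_le_of_card_ge ?_
      (by rw [Subgroup.card_map_of_injective (MulAut.conj u).injective])
    rintro _ ⟨c, hc, rfl⟩
    obtain ⟨a, ha, b, hb, hab⟩ := VG_noncomm S d f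
    refine mem_ZG_of_central S hES ?_ ?_ ?_ d
    · rw [hEmap]
      exact ⟨_, ⟨a, ha, rfl⟩, _, ⟨b, hb, rfl⟩, fun h => hab ((MulAut.conj u).injective
        (by rw [map_mul, map_mul]; exact h))⟩
    · rw [hEmap]; exact ⟨c, ZG_le_VG S d f hc, rfl⟩
    · rw [hEmap]
      rintro _ ⟨v, hv, rfl⟩
      rw [← map_mul, ← map_mul,
        Subgroup.mem_centralizer_iff.mp (ZG_le_centralizer S (VG_le S d f hv)) c hc]
  have hEf : E = VG S d f' := by
    rw [hEmap, hV, VG_eq S d f, Subgroup.map_sup, hZ, ← hf']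
  obtain ⟨s, hs, hsV⟩ := VG_conj S d f' f
  have hSs : Alperin.cj s⁻¹ (S : Subgroup G) = (S : Subgroup G) :=
    Alperin.cj_eq_of_mem_normalizer (Subgroup.le_normalizer (inv_mem hs))
  have hVs : V = Alperin.cj s⁻¹ (VG S d f') := by
    rw [hV, ← hsV]
    show _ = (VG S d f').map (MulAut.conj s⁻¹⁻¹).toMonoidHom
    rw [inv_inv]
  rw [hVs, ← hSs, ← Alperin.cj_normalizer, ← Alperin.cj_inf, Alperin.relIndex_cj, ← hEf]
  exact hfullE

/-- `N(VG f)` centralizes `Z(S)`. -/
theorem V_central {f : ℤ} {w : G} (hw : w ∈ Subgroup.normalizer (VG S d f : Set G)) {c : G}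
    (hc : c ∈ ZG S) : w * c * w⁻¹ = c := by
  have hZ : ∀ n ∈ Subgroup.normalizer (VG S d f : Set G), ∀ c ∈ ZG S, n * c * n⁻¹ ∈ ZG S := by
    intro n hn c hc
    refine mem_ZG_of_central S (VG_le S d f) (VG_noncomm S d f)
      ((Subgroup.mem_normalizer_iff.mp hn c).mp (ZG_le_VG S d f hc)) (fun a ha => ?_) d
    have ha' : n⁻¹ * a * n ∈ VG S d f := by
      have := (Subgroup.mem_normalizer_iff.mp (inv_mem hn) a).mp ha
      rwa [inv_inv] at this
    have h := Subgroup.mem_centralizer_iff.mp (ZG_le_centralizer S (VG_le S d f ha')) c hc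
    calc a * (n * c * n⁻¹) = n * (n⁻¹ * a * n * c) * n⁻¹ := by group
      _ = n * (c * (n⁻¹ * a * n)) * n⁻¹ := by rw [h]
      _ = n * c * n⁻¹ * a := by group
  have hle : Subgroup.normalizer (VG S d f : Set G) ≤ Subgroup.centralizer (ZG S : Set G) := by
    refine le_of_two_part S (V_full S d f) le_rfl (fun n hn v hv => mul_mem (mul_mem hn hv) (inv_mem hn))
      (fun n hn v hv => conj_mem_centralizer ?_ hv) (fun v hv => ZG_le_centralizer S hv.1) ?_
    · rw [Subgroup.mem_normalizer_iff_map_conj_eq]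
      refine Subgroup.eq_of_le_of_card_ge ?_
        (by rw [Subgroup.card_map_of_injective (MulAut.conj n).injective])
      rintro _ ⟨c, hc, rfl⟩
      exact hZ n hn c hc
    · intro v hv ho
      rw [Subgroup.mem_centralizer_iff]
      intro c hc
      have hzp : ZG S = Subgroup.zpowers ((d.u 1 1 : (S : Subgroup G)) : G) := by
        rw [ZG, d.center_eq, MonoidHom.map_zpowers]; rfl
      have h11 : ((d.u 1 1 : (S : Subgroup G)) : G) ∈ ZG S := hzp ▸ Subgroup.mem_zpowers _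
      have hfix : v * ((d.u 1 1 : (S : Subgroup G)) : G) * v⁻¹ = ((d.u 1 1 : (S : Subgroup G)) : G) := by
        refine conj_eq_of_odd (k := d.p + 2) ?_ ho (hzp ▸ hZ v hv _ h11)
        rw [Subgroup.orderOf_coe, d.orderOf_u]
      rw [hzp] at hc
      obtain ⟨i, rfl⟩ := hc
      exact ((Commute.zpow_right (mul_inv_eq_iff_eq_mul.mp hfix :
        Commute v ((d.u 1 1 : (S : Subgroup G)) : G)) i).eq).symm
  exact mul_inv_eq_iff_eq_mul.mpr (Subgroup.mem_centralizer_iff.mp (hle hw) c hc).symm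

/-- `N(VG f)` normalizes the quaternion subgroup. -/
theorem normalizer_le (f : ℤ) :
    Subgroup.normalizer (VG S d f : Set G) ≤ Subgroup.normalizer (QG S d f : Set G) := by
  intro w hw
  rw [Subgroup.mem_normalizer_iff_map_conj_eq]
  refine Subgroup.eq_of_le_of_card_ge ?_
    (by rw [Subgroup.card_map_of_injective (MulAut.conj w).injective])
  rw [QG, Wreath.Pres.Qs, MonoidHom.map_closure, MonoidHom.map_closure, Subgroup.closure_le]
  have key : ∀ v : (S : Subgroup G), v ∈ d.Ve (2 * f) → v * v = d.u d.h d.h →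
      v ∉ Subgroup.center (S : Subgroup G) → w * (v : G) * w⁻¹ ∈ QG S d f := by
    intro v hv hsq hnc
    obtain ⟨v', hv', hvv⟩ := (Subgroup.mem_normalizer_iff.mp hw _).mp
      (⟨v, hv, rfl⟩ : (v : G) ∈ VG S d f)
    refine ⟨v', d.mem_Qs hv' ?_ ?_, hvv⟩
    · refine Subtype.ext ?_
      show (v' : G) * v' = _
      rw [show (v' : G) = w * (v : G) * w⁻¹ from hvv,
        show w * (v : G) * w⁻¹ * (w * v * w⁻¹) = w * ((v * v : (S : Subgroup G)) : G) * w⁻¹ by
          rw [Subgroup.coe_mul]; group, hsq]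
      exact V_central S d hw ⟨_, d.z_central, rfl⟩
    · intro h
      refine hnc ?_
      have h1 := V_central S d (inv_mem hw) (⟨v', h, rfl⟩ : (v' : G) ∈ ZG S)
      rw [inv_inv, show (v' : G) = w * (v : G) * w⁻¹ from hvv,
        show w⁻¹ * (w * (v : G) * w⁻¹) * w = v by group] at h1
      have h2 : v' = v := Subtype.ext ((show (v' : G) = w * (v : G) * w⁻¹ from hvv).trans h1.symm)
      rwa [h2] at h
  rintro _ ⟨_, ⟨v, hv, rfl⟩, rfl⟩
  show w * (v : G) * w⁻¹ ∈ Subgroup.closure _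
  rw [← MonoidHom.map_closure]
  rcases hv with rfl | rfl
  · refine key _ (d.g0_mem_Ve _) d.z_eq fun h => ?_
    rw [Wreath.Pres.g0, d.center_mem, d.h_q] at h
    have := Int.le_of_dvd (by have := d.q_pos; linarith) h
    have := d.q_pos
    linarith
  · refine key _ (d.t0_mem_Ve f) (d.t0_sq f) fun h => ?_
    exact d.us_not_mem _ _ (d.center_le_U h)

theorem QG_equiv (f : ℤ) : Nonempty (QG S d f ≃* QuaternionGroup 2) :=
  (d.Qs_equiv f).map fun e =>
    ((d.Qs f).equivMapOfInjective _ (S : Subgroup G).subtype_injective).symm.trans e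

/-- The action of `N(VG f)` on the three cyclic subgroups of order four of `QG f`. -/
theorem V_action (f : ℤ) : ∃ (g h : G) (dd : Q8Gens (QG S d f) g h),
    (((actThree dd).comp (Subgroup.inclusion (normalizer_le S d f))).ker =
      (VG S d f ⊔ Subgroup.centralizer (VG S d f : Set G)).subgroupOf
        (Subgroup.normalizer (VG S d f : Set G))) := by
  obtain ⟨eQ⟩ := QG_equiv S d f
  obtain ⟨g, h, dd⟩ := exists_gens eQ
  refine ⟨g, h, dd, ?_⟩
  set V := VG S d f with hV
  set N := Subgroup.normalizer (V : Set G) with hN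
  set F := (actThree dd).comp (Subgroup.inclusion (normalizer_le S d f)) with hF
  set C := V ⊔ Subgroup.centralizer (V : Set G) with hC
  have hCN : C ≤ N := sup_le Subgroup.le_normalizer (centralizer_le_normalizer V)
  have hmemF : ∀ (x : G) (hx : x ∈ N), F ⟨x, hx⟩ = 1 ↔
      x ∈ QG S d f ⊔ Subgroup.centralizer (QG S d f : Set G) := by
    intro x hx
    show actThree dd _ = 1 ↔ _
    rw [← MonoidHom.mem_ker, actThree_ker, Subgroup.mem_subgroupOf]
    rfl
  have hQV : QG S d f ≤ V := by rw [hV, VG_eq]; exact le_sup_left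
  have hCK : C ≤ QG S d f ⊔ Subgroup.centralizer (QG S d f : Set G) := by
    refine sup_le ?_ (le_sup_of_le_right (Subgroup.centralizer_le hQV))
    rw [hV, VG_eq]
    refine sup_le le_sup_left fun c hc => Subgroup.mem_sup_right ?_
    rw [Subgroup.mem_centralizer_iff]
    intro a ha
    exact (Subgroup.mem_centralizer_iff.mp (ZG_le_centralizer S (VG_le S d f (hQV ha))) c hc).symm
  refine le_antisymm ?_ ?_
  rotate_left
  · rintro ⟨x, hx⟩ h; exact (hmemF x hx).mpr (hCK h)
  have hle : F.ker.map N.subtype ≤ C := by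
    refine le_of_two_part S (V_full S d f) (Subgroup.map_subtype_le _) ?_ ?_ ?_ ?_
    · rintro n hn _ ⟨v, hv, rfl⟩
      exact ⟨_, (inferInstance : F.ker.Normal).conj_mem v hv ⟨n, hn⟩, rfl⟩
    · intro n hn v hv
      refine ((Subgroup.map_le_iff_le_comap (f := (MulAut.conj n).toMonoidHom) (H := C)).mp ?_) hv
      rw [hC, Subgroup.map_sup]
      refine sup_le_sup (fun y => ?_) (fun y => ?_)
      · rintro ⟨a, ha, rfl⟩; exact (Subgroup.mem_normalizer_iff.mp hn a).mp ha
      · rintro ⟨a, ha, rfl⟩; exact conj_mem_centralizer hn ha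
    · rintro x ⟨hxS, ⟨⟨x', hxN⟩, hxk, rfl⟩⟩
      refine Subgroup.mem_sup_left ?_
      set v : (S : Subgroup G) := ⟨x', hxS⟩ with hv
      have hvN : v ∈ Subgroup.normalizer (d.Ve (2 * f) : Set (S : Subgroup G)) := by
        rw [Subgroup.mem_normalizer_iff]
        intro a
        rw [← mem_map_sub S, ← mem_map_sub S (v := v * a * v⁻¹)]
        exact Subgroup.mem_normalizer_iff.mp hxN a
      rcases d.normalizer_cases (dvd_mul_right 2 f) hvN with h1 | h1
      · exfalso
        have hu : ((d.u (2 ^ d.p) 0 : (S : Subgroup G)) : G) ∈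
            QG S d f ⊔ Subgroup.centralizer (QG S d f : Set G) := by
          rw [show ((d.u (2 ^ d.p) 0 : (S : Subgroup G)) : G) =
            x'⁻¹ * ((v * d.u (2 ^ d.p) 0 : (S : Subgroup G)) : G) by
              rw [Subgroup.coe_mul]; exact (inv_mul_cancel_left _ _).symm]
          exact mul_mem (inv_mem ((hmemF x' hxN).mp hxk))
            (hCK (Subgroup.mem_sup_left ⟨_, h1, rfl⟩))
        obtain ⟨a, ha, c, hc, hac⟩ : ((d.u (2 ^ d.p) 0 : (S : Subgroup G)) : G) ∈
            (QG S d f : Set G) * (Subgroup.centralizer (QG S d f : Set G) : Set G) := by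
          rw [← Subgroup.coe_mul_of_right_le_normalizer_left _ _ (centralizer_le_normalizer _)]
          exact hu
        have ht : ((d.t0 f : (S : Subgroup G)) : G) ∈ QG S d f := ⟨_, d.t0_mem f, rfl⟩
        have e : ((d.u (2 ^ d.p) 0 : (S : Subgroup G)) : G) * (d.t0 f : G) *
            ((d.u (2 ^ d.p) 0 : (S : Subgroup G)) : G)⁻¹ = a * (d.t0 f : G) * a⁻¹ := by
          rw [← hac, show a * c * (d.t0 f : G) * (a * c)⁻¹ = a * (c * (d.t0 f : G) * c⁻¹) * a⁻¹ by group,
            ← Subgroup.mem_centralizer_iff.mp hc _ ht, mul_inv_cancel_right]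
        obtain ⟨n1, n2⟩ := d.u_q_moves f
        rcases dd.conj a ha _ ht with r | r <;> rw [r] at e
        · exact n1 (Subtype.ext e)
        · exact n2 (Subtype.ext e)
      · exact ⟨v, h1, rfl⟩
    · rintro x ⟨⟨x', hxN⟩, hxk, rfl⟩ ho
      refine Subgroup.mem_sup_right (Subgroup.mem_centralizer_iff.mpr ?_)
      have hfix : ∀ a, a = g ∨ a = h → x' * a * x'⁻¹ = a := fun a ha => by
        refine conj_eq_of_odd (k := 2) (by rcases ha with rfl | rfl; exacts [dd.og, dd.oh]) ho ?_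
        rcases actThree_fix dd (w := ⟨x', normalizer_le S d f hxN⟩) hxk ha with r | r
        · exact r.symm ▸ Subgroup.mem_zpowers a
        · exact r.symm ▸ inv_mem (Subgroup.mem_zpowers a)
      intro v hv
      have hle : V ≤ Subgroup.centralizer ({x'} : Set G) := by
        rw [hV, VG_eq]
        refine sup_le (fun a ha => ?_) fun c hc => ?_
        · rw [Subgroup.mem_centralizer_singleton_iff]
          have cg : Commute g x' := (mul_inv_eq_iff_eq_mul.mp (hfix g (Or.inl rfl))).symm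
          have ch : Commute h x' := (mul_inv_eq_iff_eq_mul.mp (hfix h (Or.inr rfl))).symm
          rcases dd.forms a ha with r | r | r | r | r | r | r | r <;> subst r
          exacts [(Commute.one_left x').eq, (cg.mul_left cg).eq, cg.eq, cg.inv_left.eq, ch.eq,
            ch.inv_left.eq, (cg.mul_left ch).eq, (cg.mul_left ch).inv_left.eq]
        · rw [Subgroup.mem_centralizer_singleton_iff]
          exact (mul_inv_eq_iff_eq_mul.mp (V_central S d hxN hc)).symm
      exact Subgroup.mem_centralizer_singleton_iff.mp (hle hv)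
  exact fun x hx => hle ⟨x, hx, rfl⟩

theorem idxV_cases (f : ℤ) : idxV S d f = 2 ∨ idxV S d f = 6 := by
  obtain ⟨g, h, dd, hker⟩ := V_action S d f
  set F := (actThree dd).comp (Subgroup.inclusion (normalizer_le S d f)) with hF
  have hidx : idxV S d f = Nat.card F.range := by
    rw [← Subgroup.index_ker, hker]; rfl
  rw [hidx]
  have hN : ((d.u d.q 0 : (S : Subgroup G)) : G) ∈ Subgroup.normalizer (VG S d f : Set G) := by
    rw [Subgroup.mem_normalizer_iff_map_conj_eq]
    exact (map_subtype_conj _ _).symm.trans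
      (congrArg _ (Subgroup.mem_normalizer_iff_map_conj_eq.mp (d.u_q_mem f)))
  obtain ⟨k, hk⟩ := IsPGroup.iff_orderOf.mp S.isPGroup' (d.u d.q 0)
  refine eq_two_or_six (card_threeCyc dd) F (s := ⟨_, hN⟩) (k := k)
    ((Subgroup.orderOf_coe (d.u d.q 0)).trans hk) fun he => ?_
  rw [← MonoidHom.mem_ker, hker, Subgroup.mem_subgroupOf] at he
  obtain ⟨a, ha, c, hc, hac⟩ : ((d.u d.q 0 : (S : Subgroup G)) : G) ∈
      (VG S d f : Set G) * (Subgroup.centralizer (VG S d f : Set G) : Set G) := by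
    rw [← Subgroup.coe_mul_of_right_le_normalizer_left _ _ (centralizer_le_normalizer _)]
    exact he
  obtain ⟨v, hv, rfl⟩ := ha
  obtain ⟨x, hx, z, hz, rfl⟩ := d.mem_Ve_decomp hv
  obtain ⟨n1, n2⟩ := d.u_q_moves f
  have ht : ((d.t0 f : (S : Subgroup G)) : G) ∈ VG S d f := ⟨_, d.t0_mem_Ve f, rfl⟩
  have e : d.u d.q 0 * d.t0 f * (d.u d.q 0)⁻¹ = x * d.t0 f * x⁻¹ := by
    refine Subtype.ext ?_
    simp only [Subgroup.coe_mul, Subgroup.coe_inv]
    rw [← hac, Subgroup.coe_subtype, Subgroup.coe_mul]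
    have h1 := Subgroup.mem_centralizer_iff.mp hc _ ht
    have h2 : (z : G) * (d.t0 f : G) * (z : G)⁻¹ = (d.t0 f : G) := by
      have := congrArg Subtype.val (Subgroup.mem_center_iff.mp hz (d.t0 f))
      rw [Subgroup.coe_mul, Subgroup.coe_mul] at this
      rw [← this, mul_inv_cancel_right]
    calc (x : G) * z * c * (d.t0 f : G) * ((x : G) * z * c)⁻¹
        = (x : G) * z * (c * (d.t0 f : G) * c⁻¹) * (z : G)⁻¹ * (x : G)⁻¹ := by group
      _ = (x : G) * ((z : G) * (d.t0 f : G) * (z : G)⁻¹) * (x : G)⁻¹ := by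
          rw [← h1, mul_inv_cancel_right]; group
      _ = _ := by rw [h2]
  obtain ⟨eQ⟩ := d.Qs_equiv f
  obtain ⟨g', h', dd'⟩ := exists_gens eQ
  rcases dd'.conj x hx _ (d.t0_mem f) with r | r <;> rw [r] at e
  exacts [n1 e, n2 e]

theorem V_oddTrivial {f : ℤ} (h2 : idxV S d f = 2) : OddTrivial (VG S d f) := by
  obtain ⟨g, h, dd, hker⟩ := V_action S d f
  set F := (actThree dd).comp (Subgroup.inclusion (normalizer_le S d f)) with hF
  have hidx : idxV S d f = Nat.card F.range := by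
    rw [← Subgroup.index_ker, hker]; rfl
  intro w hw ho
  have hwo : Odd (orderOf (⟨w, hw⟩ : Subgroup.normalizer (VG S d f : Set G))) := by rwa [Subgroup.orderOf_mk]
  have h1 : F ⟨w, hw⟩ = 1 := by
    refine odd_eq_one F hwo (R := Nat.card F.range) ?_ (by rw [← hidx, h2])
    exact orderOf_dvd_iff_pow_eq_one.mp (by
      rw [← Subgroup.orderOf_mk (H := F.range) _ ⟨_, rfl⟩]; exact orderOf_dvd_natCard _)
  rw [Subgroup.mem_centralizer_iff]
  have hle : VG S d f ≤ Subgroup.centralizer ({w} : Set G) := by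
    rw [VG_eq]
    refine sup_le (fun a ha => ?_) fun c hc => ?_
    · rw [Subgroup.mem_centralizer_singleton_iff]
      have hfix : ∀ a, a = g ∨ a = h → w * a * w⁻¹ = a := fun a ha => by
        refine conj_eq_of_odd (k := 2) (by rcases ha with rfl | rfl; exacts [dd.og, dd.oh]) ho ?_
        rcases actThree_fix dd (w := ⟨w, normalizer_le S d f hw⟩) h1 ha with r | r
        · exact r.symm ▸ Subgroup.mem_zpowers a
        · exact r.symm ▸ inv_mem (Subgroup.mem_zpowers a)
      have cg : Commute g w := (mul_inv_eq_iff_eq_mul.mp (hfix g (Or.inl rfl))).symm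
      have ch : Commute h w := (mul_inv_eq_iff_eq_mul.mp (hfix h (Or.inr rfl))).symm
      rcases dd.forms a ha with r | r | r | r | r | r | r | r <;> subst r
      exacts [(Commute.one_left w).eq, (cg.mul_left cg).eq, cg.eq, cg.inv_left.eq, ch.eq,
        ch.inv_left.eq, (cg.mul_left ch).eq, (cg.mul_left ch).inv_left.eq]
    · rw [Subgroup.mem_centralizer_singleton_iff]
      exact (mul_inv_eq_iff_eq_mul.mp (V_central S d hw hc)).symm
  exact fun v hv => Subgroup.mem_centralizer_singleton_iff.mp (hle hv)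

/-- With full automizer, `N(VG f)` permutes the cyclic subgroups of order four of `QG f`
transitively. -/
theorem V_transitive {f : ℤ} (h6 : idxV S d f = 6) {a b : G} (ha : a ∈ QG S d f) (hb : b ∈ QG S d f)
    (ha4 : orderOf a = 4) (hb4 : orderOf b = 4) :
    ∃ w ∈ Subgroup.normalizer (VG S d f : Set G), (w * a * w⁻¹ = b ∨ w * a * w⁻¹ = b⁻¹) ∧
      ∀ H : Subgroup G, H.index = 2 → w ∈ H := by
  obtain ⟨g, h, dd, hker⟩ := V_action S d f
  set F := (actThree dd).comp (Subgroup.inclusion (normalizer_le S d f)) with hF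
  have hidx : idxV S d f = Nat.card F.range := by
    rw [← Subgroup.index_ker, hker]; rfl
  obtain ⟨v, k, hvk⟩ := exists_square_transitive F (card_threeCyc dd) (by rw [← hidx, h6]; norm_num)
    ⟨_, zpowers_mem_three dd ha ha4⟩ ⟨_, zpowers_mem_three dd hb hb4⟩
  refine ⟨(((v * v) ^ k : Subgroup.normalizer (VG S d f : Set G)) : G), ((v * v) ^ k).2, ?_, fun H hH => ?_⟩
  · have e' : (Subgroup.zpowers a).map
        (MulAut.conj (((v * v) ^ k : Subgroup.normalizer (VG S d f : Set G)) : G)).toMonoidHom =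
          Subgroup.zpowers b := congrArg Subtype.val hvk
    exact eq_or_inv_of_zpowers hb4 (by rw [← MulAut.conj_apply, MulEquiv.orderOf_eq, ha4])
      (e' ▸ ⟨a, Subgroup.mem_zpowers a, rfl⟩)
  · rw [Subgroup.coe_pow, Subgroup.coe_mul]
    exact mem_of_odd_pow hH _ k

theorem V_transitive_odd {f : ℤ} (h6 : idxV S d f = 6) {a b : G} (ha : a ∈ QG S d f) (hb : b ∈ QG S d f)
    (ha4 : orderOf a = 4) (hb4 : orderOf b = 4) :
    ∃ w ∈ Subgroup.normalizer (VG S d f : Set G), Odd (orderOf w) ∧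
      (w * a * w⁻¹ = b ∨ w * a * w⁻¹ = b⁻¹) := by
  obtain ⟨g, h, dd, hker⟩ := V_action S d f
  set F := (actThree dd).comp (Subgroup.inclusion (normalizer_le S d f)) with hF
  have hidx : idxV S d f = Nat.card F.range := by
    rw [← Subgroup.index_ker, hker]; rfl
  obtain ⟨v, hodd, hvk⟩ := exists_odd_transitive (card_threeCyc dd) F (by rw [← hidx, h6]; norm_num)
    ⟨_, zpowers_mem_three dd ha ha4⟩ ⟨_, zpowers_mem_three dd hb hb4⟩
  refine ⟨(v : G), v.2, hodd, ?_⟩
  have e' : (Subgroup.zpowers a).map (MulAut.conj (v : G)).toMonoidHom = Subgroup.zpowers b :=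
    congrArg Subtype.val hvk
  exact eq_or_inv_of_zpowers hb4 (by rw [← MulAut.conj_apply, MulEquiv.orderOf_eq, ha4])
    (e' ▸ ⟨a, Subgroup.mem_zpowers a, rfl⟩)

/-! ### the abelian maximal subgroup -/

/-- The four-subgroup of `UG`. -/
def TG : Subgroup G := d.T.map (S : Subgroup G).subtype

theorem TG_klein : IsKleinFour (TG S d) := map_klein d.T_klein

theorem TG_le_UG : TG S d ≤ UG S d := Subgroup.map_mono (by
  rw [Wreath.Pres.T, Subgroup.closure_le]
  rintro _ (rfl | rfl) <;> exact d.u_mem_U _ _)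

theorem mem_TG {v : G} (hv : v ∈ UG S d) (h : v * v = 1) : v ∈ TG S d := by
  obtain ⟨v, hvU, rfl⟩ := hv
  obtain ⟨a, b, rfl⟩ := d.mem_U.mp hvU
  have h' : d.u a b * d.u a b = 1 := Subtype.ext h
  exact ⟨_, d.mem_T ((d.u_sq_eq_one a b).mp h').1 ((d.u_sq_eq_one a b).mp h').2, rfl⟩

theorem normalizer_le_T :
    Subgroup.normalizer (UG S d : Set G) ≤ Subgroup.normalizer (TG S d : Set G) := by
  intro w hw
  rw [Subgroup.mem_normalizer_iff_map_conj_eq]
  refine Subgroup.eq_of_le_of_card_ge ?_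
    (by rw [Subgroup.card_map_of_injective (MulAut.conj w).injective])
  rintro _ ⟨v, hv, rfl⟩
  refine mem_TG S d ((Subgroup.mem_normalizer_iff.mp hw v).mp (TG_le_UG S d hv)) ?_
  show w * v * w⁻¹ * (w * v * w⁻¹) = 1
  have := congrArg Subtype.val ((TG_klein S d).mul_self (⟨v, hv⟩ : TG S d))
  rw [Subgroup.coe_mul, Subgroup.coe_one] at this
  rw [show w * v * w⁻¹ * (w * v * w⁻¹) = w * (v * v) * w⁻¹ by group, this]; group

theorem centralize_U {w : G} (hw : w ∈ Subgroup.normalizer (UG S d : Set G)) (ho : Odd (orderOf w))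
    (hT : ∀ v ∈ TG S d, w * v * w⁻¹ = v) : w ∈ Subgroup.centralizer (UG S d : Set G) := by
  haveI : Fact (Nat.Prime 2) := ⟨Nat.prime_two⟩
  set φ := (UG S d).normalizerMonoidHom ⟨w, hw⟩ with hφ
  have hφo : Odd (orderOf φ) := by
    refine Odd.of_dvd_nat ho ?_
    have := orderOf_map_dvd (UG S d).normalizerMonoidHom ⟨w, hw⟩
    rwa [Subgroup.orderOf_mk] at this
  have hp : IsPGroup 2 (UG S d) := S.isPGroup'.to_le (UG_le S d)
  have key : ∀ r : ℕ, ∀ v : UG S d, orderOf v = 2 ^ r → φ v = v := by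
    intro r
    induction r with
    | zero => intro v hv; rw [pow_zero, orderOf_eq_one_iff] at hv; rw [hv, map_one]
    | succ r ih =>
      intro v hv
      have hsq : φ (v * v) = v * v := ih _ (by
        rw [← pow_two, orderOf_pow' _ two_ne_zero, hv, Nat.gcd_eq_right (dvd_pow_self 2 r.succ_ne_zero),
          pow_succ, Nat.mul_div_cancel _ two_pos])
      have hcomm : ∀ a b : UG S d, a * b = b * a := by
        rintro ⟨_, ⟨a, ha, rfl⟩⟩ ⟨_, ⟨b, hb, rfl⟩⟩
        haveI := d.U_comm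
        exact Subtype.ext (congrArg (fun x : d.U => ((x : (S : Subgroup G)) : G))
          (mul_comm' (⟨a, ha⟩ : d.U) ⟨b, hb⟩))
      have hω : (v⁻¹ * φ v) * (v⁻¹ * φ v) = 1 := by
        rw [Commute.mul_mul_mul_comm (hcomm (φ v) v⁻¹), ← map_mul, hsq,
          show v⁻¹ * v⁻¹ = (v * v)⁻¹ from (mul_inv_rev v v).symm, inv_mul_cancel]
      refine Wreath.fixed_of_translate hp φ hφo (c := v⁻¹ * φ v) (by rw [mul_inv_cancel_left]) ?_
      refine Subtype.ext ?_
      exact hT _ (mem_TG S d (v⁻¹ * φ v).2 (by rw [← Subgroup.coe_mul, hω, Subgroup.coe_one]))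
  rw [Subgroup.mem_centralizer_iff]
  intro v hv
  obtain ⟨r, hr⟩ := IsPGroup.iff_orderOf.mp hp ⟨v, hv⟩
  have := congrArg Subtype.val (key r ⟨v, hv⟩ hr)
  exact (mul_inv_eq_iff_eq_mul.mp (this : w * v * w⁻¹ = v)).symm

/-- The action of `N(UG)` on the involutions of `TG`. -/
theorem U_ker :
    ((actNe (TG S d)).comp (Subgroup.inclusion (normalizer_le_T S d))).ker =
      (Subgroup.centralizer (UG S d : Set G)).subgroupOf (Subgroup.normalizer (UG S d : Set G)) := by
  set N := Subgroup.normalizer (UG S d : Set G) with hN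
  set F := (actNe (TG S d)).comp (Subgroup.inclusion (normalizer_le_T S d)) with hF
  have hmemF : ∀ (x : G) (hx : x ∈ N), F ⟨x, hx⟩ = 1 ↔ x ∈ Subgroup.centralizer (TG S d : Set G) := by
    intro x hx
    show actNe _ _ = 1 ↔ _
    rw [← MonoidHom.mem_ker, actNe_ker, Subgroup.mem_subgroupOf]
    rfl
  refine le_antisymm ?_ ?_
  rotate_left
  · rintro ⟨x, hx⟩ h; exact (hmemF x hx).mpr (Subgroup.centralizer_le (TG_le_UG S d) h)
  have hle : F.ker.map N.subtype ≤ Subgroup.centralizer (UG S d : Set G) := by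
    refine le_of_two_part S (U_full S d) (Subgroup.map_subtype_le _) ?_ ?_ ?_ ?_
    · rintro n hn _ ⟨v, hv, rfl⟩
      exact ⟨_, (inferInstance : F.ker.Normal).conj_mem v hv ⟨n, hn⟩, rfl⟩
    · exact fun n hn v hv => conj_mem_centralizer hn hv
    · rintro x ⟨hxS, ⟨⟨x', hxN⟩, hxk, rfl⟩⟩
      have hc := (hmemF x' hxN).mp hxk
      rw [Subgroup.mem_centralizer_iff]
      rintro _ ⟨v, hv, rfl⟩
      rcases d.cases ⟨x', hxS⟩ with ⟨a, b, e⟩ | ⟨a, b, e⟩
      · haveI := d.U_comm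
        have h1 := congrArg (fun x : d.U => ((x : (S : Subgroup G)) : G))
          (mul_comm' (⟨v, hv⟩ : d.U) ⟨⟨x', hxS⟩, e ▸ d.u_mem_U a b⟩)
        exact h1
      · exfalso
        have h1 : (⟨x', hxS⟩ : (S : Subgroup G)) * d.u d.h 0 = d.u d.h 0 * ⟨x', hxS⟩ :=
          Subtype.ext (Subgroup.mem_centralizer_iff.mp hc _
            ⟨_, d.mem_T dvd_rfl (dvd_zero _), rfl⟩).symm
        rw [e] at h1
        have h2 := (d.commute_us d.h 0 a b).mp h1
        rw [sub_zero] at h2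
        exact d.not_dvd_h h2
    · rintro x ⟨⟨x', hxN⟩, hxk, rfl⟩ ho
      exact centralize_U S d hxN ho fun v hv => mul_inv_eq_iff_eq_mul.mpr
        (Subgroup.mem_centralizer_iff.mp ((hmemF x' hxN).mp hxk) v hv).symm
  exact fun x hx => hle ⟨x, hx, rfl⟩

theorem idxU_card :
    idxU S d = Nat.card ((actNe (TG S d)).comp (Subgroup.inclusion (normalizer_le_T S d))).range := by
  rw [← Subgroup.index_ker, U_ker]; rfl

theorem idxU_cases : idxU S d = 2 ∨ idxU S d = 6 := by
  rw [idxU_card]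
  have hs : ((d.s : (S : Subgroup G)) : G) ∈ Subgroup.normalizer (UG S d : Set G) := by
    haveI := Subgroup.normal_of_index_eq_two d.index_U
    rw [Subgroup.mem_normalizer_iff_map_conj_eq]
    exact (map_subtype_conj _ _).symm.trans
      (congrArg _ (Subgroup.mem_normalizer_iff_map_conj_eq.mp (by rw [Subgroup.normalizer_eq_top]; trivial)))
  refine eq_two_or_six (card_ne_klein (TG_klein S d)) _ (s := ⟨_, hs⟩) (k := 1)
    ((Subgroup.orderOf_coe d.s).trans (d.hs.trans (pow_one 2).symm)) fun he => ?_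
  rw [← MonoidHom.mem_ker, U_ker, Subgroup.mem_subgroupOf] at he
  have h1 : d.u 0 0 * d.s * d.u d.h 0 = d.u d.h 0 * (d.u 0 0 * d.s) := by
    rw [d.u_zero, one_mul]
    exact Subtype.ext (Subgroup.mem_centralizer_iff.mp he _ ⟨_, d.u_mem_U _ _, rfl⟩).symm
  have h2 := (d.commute_us d.h 0 0 0).mp h1
  rw [sub_zero] at h2
  exact d.not_dvd_h h2

theorem U_oddTrivial (h2 : idxU S d = 2) : OddTrivial (UG S d) := by
  intro w hw ho
  set N := Subgroup.normalizer (UG S d : Set G)
  set F := (actNe (TG S d)).comp (Subgroup.inclusion (normalizer_le_T S d)) with hF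
  have hwo : Odd (orderOf (⟨w, hw⟩ : N)) := by rwa [Subgroup.orderOf_mk]
  have h1 : F ⟨w, hw⟩ = 1 := by
    refine odd_eq_one F hwo (R := Nat.card F.range) ?_ (by rw [hF, ← idxU_card, h2])
    exact orderOf_dvd_iff_pow_eq_one.mp (by
      rw [← Subgroup.orderOf_mk (H := F.range) _ ⟨_, rfl⟩]; exact orderOf_dvd_natCard _)
  rw [← MonoidHom.mem_ker, hF, U_ker, Subgroup.mem_subgroupOf] at h1
  exact h1

theorem U_transitive (h6 : idxU S d = 6) {a b : G} (ha : a ∈ TG S d) (hb : b ∈ TG S d)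
    (ha1 : a ≠ 1) (hb1 : b ≠ 1) :
    ∃ w ∈ Subgroup.normalizer (UG S d : Set G), w * a * w⁻¹ = b ∧
      ∀ H : Subgroup G, H.index = 2 → w ∈ H := by
  rw [idxU_card] at h6
  obtain ⟨v, k, hvk⟩ := exists_square_transitive _ (card_ne_klein (TG_klein S d))
    (by rw [h6]; norm_num) ⟨a, ha, ha1⟩ ⟨b, hb, hb1⟩
  refine ⟨(((v * v) ^ k : Subgroup.normalizer (UG S d : Set G)) : G), ((v * v) ^ k).2,
    congrArg Subtype.val hvk, fun H hH => ?_⟩
  rw [Subgroup.coe_pow, Subgroup.coe_mul]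
  exact mem_of_odd_pow hH _ k

/-- The only self-centralizing subgroups of `S` with odd automizers are `UG` and the `VG f`. -/
theorem steps {E : Subgroup G} (hE : E ≤ (S : Subgroup G)) (hc : SelfCent (S : Subgroup G) E) :
    OddTrivial E ∨ E = UG S d ∨ ∃ f, E = VG S d f := by
  by_cases h : OddTrivial E
  · exact Or.inl h
  right
  rw [OddTrivial] at h
  push Not at h
  obtain ⟨w, hwN, hwo, hwC⟩ := h
  set eE := Subgroup.subgroupOfEquivOfLe hE with heE
  set ψ := E.normalizerMonoidHom ⟨w, hwN⟩ with hψdef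
  set φ : MulAut (E.subgroupOf (S : Subgroup G)) := MulAut.congr eE.symm ψ with hφdef
  have hodd : Odd (orderOf φ) := by
    rw [hφdef, MulEquiv.orderOf_eq]
    refine Odd.of_dvd_nat hwo ?_
    have := orderOf_map_dvd E.normalizerMonoidHom ⟨w, hwN⟩
    rwa [Subgroup.orderOf_mk] at this
  have hne : φ ≠ 1 := by
    rw [hφdef, Ne, map_eq_one_iff _ (MulEquiv.injective _)]
    intro h1
    refine hwC ?_
    have h2 : (⟨w, hwN⟩ : Subgroup.normalizer (E : Set G)) ∈ E.normalizerMonoidHom.ker := h1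
    rwa [Subgroup.normalizerMonoidHom_ker, Subgroup.mem_subgroupOf] at h2
  have hC : Subgroup.centralizer ((E.subgroupOf (S : Subgroup G) : Subgroup (S : Subgroup G)) :
      Set (S : Subgroup G)) ≤ E.subgroupOf (S : Subgroup G) := fun v hv =>
    hc v.1 v.2 fun a ha => congrArg Subtype.val (Subgroup.mem_centralizer_iff.mp hv ⟨a, hE ha⟩ ha)
  have key := Subgroup.map_subgroupOf_eq_of_le hE
  rcases d.classify φ hodd hC hne with e | ⟨e', ⟨f, rfl⟩, e⟩
  · exact Or.inl (by rw [← key, e, UG])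
  · exact Or.inr ⟨f, by rw [← key, e, VG]⟩

end Cfsg.Agent.WrFus
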