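import Cfsg.Agent.Lib.TwoGroups.WreathedOdd

/-!
The quaternion subgroups of a wreathed group and the character with generalized quaternion kernel.
-/

set_option autoImplicit false

namespace Cfsg.Agent.Wreath

namespace Pres

variable {S : Type*} [Group S] [Finite S] (d : Pres S)

/-- `2^p`, half of `h`. -/
def q : ℤ := 2 ^ d.p

theorem h_q : d.h = 2 * d.q := d.h_eq

theorem q_pos : 0 < d.q := by unfold q; positivity

/-- The element of order four of every quaternion subgroup inside `U`. -/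
def g0 : S := d.u d.q (-d.q)

/-- An element of order four outside `U`. -/
def t0 (f : ℤ) : S := d.u (f + d.q) (d.q - f) * d.s

/-- The quaternion subgroup of order eight containing `t0 f`. -/
def Qs (f : ℤ) : Subgroup S := Subgroup.closure ({d.g0, d.t0 f} : Set S)

theorem g0_mem (f : ℤ) : d.g0 ∈ d.Qs f := Subgroup.subset_closure (by simp)

theorem t0_mem (f : ℤ) : d.t0 f ∈ d.Qs f := Subgroup.subset_closure (by simp)

theorem z_eq : d.g0 * d.g0 = d.u d.h d.h := by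
  rw [g0, d.uu, d.u_eq_iff, d.h_q]; exact ⟨⟨0, by ring⟩, ⟨-1, by ring⟩⟩

theorem t0_sq (f : ℤ) : d.t0 f * d.t0 f = d.u d.h d.h := by
  rw [t0, d.us_sq, d.u_eq_iff, d.h_q]; exact ⟨⟨0, by ring⟩, ⟨0, by ring⟩⟩

theorem z_central : d.u d.h d.h ∈ Subgroup.center S := d.u_diag_central (by simp)

theorem z_ne_one : d.u d.h d.h ≠ 1 := fun h => d.not_dvd_h ((d.u_eq_one _ _).mp h).1

theorem z_sq : d.u d.h d.h * d.u d.h d.h = 1 :=
  (d.u_sq_eq_one _ _).mpr ⟨dvd_rfl, dvd_rfl⟩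

theorem order_four {v : S} (h : v * v = d.u d.h d.h) : orderOf v = 4 := by
  refine orderOf_eq_prime_pow (p := 2) (n := 1) (hp := ⟨Nat.prime_two⟩) ?_ ?_
  · rw [pow_one, pow_two, h]; exact d.z_ne_one
  · rw [show 2 ^ (1 + 1) = 2 * 2 from rfl, pow_mul, pow_two, pow_two, h, d.z_sq]

theorem order_g0 : orderOf d.g0 = 4 := d.order_four d.z_eq

theorem order_t0 (f : ℤ) : orderOf (d.t0 f) = 4 := d.order_four (d.t0_sq f)

theorem Qs_equiv (f : ℤ) : Nonempty (d.Qs f ≃* QuaternionGroup 2) := by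
  refine TwoLift.quaternion_equiv (k := 2) d.order_g0 ?_ ?_
    (fun hm => d.us_not_mem _ _ ((Subgroup.zpowers_le.mpr (d.u_mem_U _ _)) hm)) rfl
  · rw [pow_two, d.z_eq]; exact d.t0_sq f
  · show d.u (f + d.q) (d.q - f) * d.s * d.g0 * (d.u (f + d.q) (d.q - f) * d.s)⁻¹ = d.g0⁻¹
    rw [g0, d.conj_us, d.u_inv, d.u_eq_iff]
    exact ⟨⟨0, by ring⟩, ⟨0, by ring⟩⟩

theorem t0_mem_Ve (f : ℤ) : d.t0 f ∈ d.Ve (2 * f) := by
  rw [t0, d.mem_Ve_us (dvd_mul_right 2 f)]; exact ⟨0, by ring⟩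

theorem g0_mem_Ve (e : ℤ) : d.g0 ∈ d.Ve e := by
  rw [g0, d.mem_Ve_u, d.h_q]; exact ⟨1, by ring⟩

theorem Qs_sup (f : ℤ) : d.Qs f ⊔ Subgroup.center S = d.Ve (2 * f) := by
  obtain ⟨eQ⟩ := d.Qs_equiv f
  obtain ⟨e', he', h'⟩ := d.quat_sup_center eQ
  rw [h']
  have h2 := (d.mem_Ve_us he').mp (h' ▸ Subgroup.mem_sup_left (d.t0_mem f) : d.t0 f ∈ d.Ve e')
  rw [show f + d.q - (d.q - f) - e' = 2 * f - e' by ring] at h2
  refine SetLike.ext fun g => ?_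
  rcases d.cases g with ⟨i, i', rfl⟩ | ⟨i, i', rfl⟩
  · rw [d.mem_Ve_u, d.mem_Ve_u]
  · rw [d.mem_Ve_us he', d.mem_Ve_us (dvd_mul_right 2 f),
      show i - i' - e' = i - i' - 2 * f + (2 * f - e') by ring, dvd_add_left h2]

theorem mem_Ve_decomp {f : ℤ} {v : S} (hv : v ∈ d.Ve (2 * f)) :
    ∃ x ∈ d.Qs f, ∃ c ∈ Subgroup.center S, x * c = v := by
  rw [← d.Qs_sup f, Subgroup.mem_sup_of_normal_right] at hv
  exact hv

/-- `Qs f` consists of the noncentral square roots of `z` in `Ve (2f)` and what they generate. -/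
theorem mem_Qs {f : ℤ} {v : S} (hv : v ∈ d.Ve (2 * f)) (hsq : v * v = d.u d.h d.h)
    (hnc : v ∉ Subgroup.center S) : v ∈ d.Qs f := by
  have hg0pow : ∀ i : ℤ, d.u (d.q * i) (-(d.q * i)) ∈ d.Qs f := fun i => by
    have := zpow_mem (d.g0_mem f) i
    rwa [g0, d.u_zpow, neg_mul] at this
  rcases d.cases v with ⟨a, b, rfl⟩ | ⟨a, b, rfl⟩
  · rw [d.mem_Ve_u] at hv
    rw [d.uu, d.u_eq_iff] at hsq
    rw [d.center_mem] at hnc
    obtain ⟨⟨j, hj⟩, -⟩ := hsq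
    obtain ⟨i, hi⟩ := hv
    obtain ⟨k, rfl⟩ : ∃ k, i = 2 * k + 1 := by
      rcases Int.even_or_odd' i with ⟨k, rfl | rfl⟩
      · exact absurd ⟨k, by rw [hi]; ring⟩ hnc
      · exact ⟨k, rfl⟩
    rw [d.h_q] at hi hj
    have ha : a = d.q * (2 * j + 1) := by linarith
    rw [show d.u a b = d.u (d.q * (2 * j + 1)) (-(d.q * (2 * j + 1))) by
      rw [d.u_eq_iff, d.h_q]
      exact ⟨⟨0, by rw [ha]; ring⟩, ⟨j - k, by linarith⟩⟩]
    exact hg0pow _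
  · rw [d.mem_Ve_us (dvd_mul_right 2 f)] at hv
    rw [d.us_sq, d.u_eq_iff] at hsq
    obtain ⟨⟨j, hj⟩, -⟩ := hsq
    obtain ⟨i, hi⟩ := hv
    rw [d.h_q] at hi hj
    have e : d.u a b * d.s = d.u (d.q * (i + 2 * j)) (-(d.q * (i + 2 * j))) * d.t0 f := by
      rw [t0, d.u_mul_us, mul_left_inj, d.u_eq_iff, d.h_q]
      exact ⟨⟨0, by linarith⟩, ⟨j, by linarith⟩⟩
    rw [e]
    exact mul_mem (hg0pow _) (d.t0_mem f)

theorem Qs_le (f : ℤ) : d.Qs f ≤ d.Ve (2 * f) := d.Qs_sup f ▸ le_sup_left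

theorem u_q_mem (f : ℤ) : d.u d.q 0 ∈ Subgroup.normalizer (d.Ve (2 * f) : Set S) :=
  d.u_mem_normalizer (dvd_mul_right 2 f) (by rw [sub_zero]; exact dvd_rfl)

theorem u_q_moves (f : ℤ) : d.u d.q 0 * d.t0 f * (d.u d.q 0)⁻¹ ≠ d.t0 f ∧
    d.u d.q 0 * d.t0 f * (d.u d.q 0)⁻¹ ≠ (d.t0 f)⁻¹ := by
  have hq : ¬ 2 * d.h ∣ d.q := fun h => by
    have h1 := Int.le_of_dvd d.q_pos h
    have := d.q_pos
    rw [d.h_q] at h1
    linarith
  rw [t0, d.us_inv, d.conj_us_u, Ne, Ne, mul_left_inj, mul_left_inj, d.u_eq_iff, d.u_eq_iff]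
  refine ⟨fun h => hq ?_, fun h => hq ?_⟩
  · exact dvd_congr h.1 (by ring)
  · exact dvd_congr (dvd_sub h.1.neg_right (⟨-1, by rw [d.h_q]; ring⟩ : 2 * d.h ∣ -(4 * d.q))) (by ring)

theorem center_conj_mem {g v : S} (hv : v ∈ Subgroup.center S) : g * v * g⁻¹ = v := by
  rw [Subgroup.mem_center_iff.mp hv g, mul_inv_cancel_right]

/-- The involution classes of `S`. -/
theorem invol_cases {v : S} (hv : v * v = 1) (h1 : v ≠ 1) :
    v = d.u d.h d.h ∨ IsConj (d.u d.h 0) v ∨ IsConj d.s v := by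
  rcases d.cases v with ⟨a, b, rfl⟩ | ⟨a, b, rfl⟩
  · obtain ⟨⟨i, hi⟩, ⟨j, hj⟩⟩ := (d.u_sq_eq_one a b).mp hv
    rcases Int.even_or_odd' i with ⟨i, rfl | rfl⟩ <;> rcases Int.even_or_odd' j with ⟨j, rfl | rfl⟩
    · exact absurd ((d.u_eq_one a b).mpr ⟨⟨i, by rw [hi]; ring⟩, ⟨j, by rw [hj]; ring⟩⟩) h1
    · refine Or.inr (Or.inl (isConj_iff.mpr ⟨d.u 0 0 * d.s, ?_⟩))
      rw [d.conj_us, d.u_eq_iff]
      exact ⟨⟨-i, by rw [hi]; ring⟩, ⟨-j, by rw [hj]; ring⟩⟩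
    · refine Or.inr (Or.inl (isConj_iff.mpr ⟨1, ?_⟩))
      rw [one_mul, inv_one, mul_one, d.u_eq_iff]
      exact ⟨⟨-i, by rw [hi]; ring⟩, ⟨-j, by rw [hj]; ring⟩⟩
    · refine Or.inl ?_
      rw [d.u_eq_iff]
      exact ⟨⟨i, by rw [hi]; ring⟩, ⟨j, by rw [hj]; ring⟩⟩
  · obtain ⟨k, hk⟩ := (d.us_sq_eq_one a b).mp hv
    refine Or.inr (Or.inr (isConj_iff.mpr ⟨d.u a 0, ?_⟩))
    have h := d.conj_us_u a 0 0 0
    rw [d.u_zero, one_mul] at h
    rw [h, mul_left_inj, d.u_eq_iff]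
    exact ⟨⟨0, by ring⟩, ⟨-k, by linarith⟩⟩

/-- The sum of the exponents of an element of `U`. -/
noncomputable def chiU (g : S) : ZMod (2 ^ (d.p + 2)) :=
  (Function.invFun d.toU g).toAdd.1 + (Function.invFun d.toU g).toAdd.2

theorem chiU_u (a b : ℤ) : d.chiU (d.u a b) = ((a + b : ℤ) : ZMod (2 ^ (d.p + 2))) := by
  rw [chiU, ← d.toU_apply a b, Function.leftInverse_invFun d.toU_injective]
  simp

open scoped Classical in
/-- The character with kernel `Y`, as a function. -/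
noncomputable def chiFun (g : S) : Multiplicative (ZMod (2 ^ (d.p + 2))) :=
  Multiplicative.ofAdd (if g ∈ d.U then d.chiU g else d.chiU (g * d.s) + (d.h : ZMod (2 ^ (d.p + 2))))

theorem chiFun_u (a b : ℤ) :
    d.chiFun (d.u a b) = Multiplicative.ofAdd ((a + b : ℤ) : ZMod (2 ^ (d.p + 2))) := by
  rw [chiFun, if_pos (d.u_mem_U a b), d.chiU_u]

theorem chiFun_us (a b : ℤ) :
    d.chiFun (d.u a b * d.s) = Multiplicative.ofAdd ((a + b + d.h : ℤ) : ZMod (2 ^ (d.p + 2))) := by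
  rw [chiFun, if_neg (d.us_not_mem a b), mul_assoc, d.ss, mul_one, d.chiU_u]
  push_cast
  rfl

/-- The character with kernel `Y`. -/
noncomputable def chi : S →* Multiplicative (ZMod (2 ^ (d.p + 2))) :=
  MonoidHom.mk' d.chiFun fun g g' => by
    rcases d.cases g with ⟨a, b, rfl⟩ | ⟨a, b, rfl⟩ <;> rcases d.cases g' with ⟨c, e, rfl⟩ | ⟨c, e, rfl⟩
    · rw [d.uu, d.chiFun_u, d.chiFun_u, d.chiFun_u, ← ofAdd_add, ← Int.cast_add]; ring_nf
    · rw [d.u_mul_us, d.chiFun_u, d.chiFun_us, d.chiFun_us, ← ofAdd_add, ← Int.cast_add]; ring_nf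
    · rw [d.us_mul_u, d.chiFun_u, d.chiFun_us, d.chiFun_us, ← ofAdd_add, ← Int.cast_add]; ring_nf
    · rw [d.us_mul_us, d.chiFun_u, d.chiFun_us, d.chiFun_us, ← ofAdd_add, ← Int.cast_add]
      refine congrArg Multiplicative.ofAdd ((ZMod.intCast_eq_intCast_iff_dvd_sub _ _ _).mpr ?_)
      rw [d.cast_order]
      exact ⟨1, by ring⟩

theorem chi_u (a b : ℤ) :
    d.chi (d.u a b) = Multiplicative.ofAdd ((a + b : ℤ) : ZMod (2 ^ (d.p + 2))) := d.chiFun_u a b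

theorem chi_us (a b : ℤ) :
    d.chi (d.u a b * d.s) = Multiplicative.ofAdd ((a + b + d.h : ℤ) : ZMod (2 ^ (d.p + 2))) :=
  d.chiFun_us a b

theorem chi_ker : d.chi.ker = d.Y := by
  refine SetLike.ext' (Set.Subset.antisymm (fun g hg => ?_) ?_)
  · rw [SetLike.mem_coe, MonoidHom.mem_ker] at hg
    rcases d.cases g with ⟨a, b, rfl⟩ | ⟨a, b, rfl⟩
    · rw [d.chi_u, ofAdd_eq_one, ZMod.intCast_zmod_eq_zero_iff_dvd, d.cast_order] at hg
      exact d.mem_Y_u hg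
    · rw [d.chi_us, ofAdd_eq_one, ZMod.intCast_zmod_eq_zero_iff_dvd, d.cast_order] at hg
      exact d.mem_Y_us (dvd_congr (dvd_sub hg (dvd_refl (2 * d.h))) (by ring))
  · have hle : d.Y ≤ d.chi.ker := by
      rw [Y, Subgroup.closure_le]
      rintro g (rfl | rfl) <;> rw [SetLike.mem_coe, MonoidHom.mem_ker]
      · rw [d.chi_u]; norm_num
      · rw [d.chi_us, ofAdd_eq_one, ZMod.intCast_zmod_eq_zero_iff_dvd, d.cast_order]
        exact ⟨1, by ring⟩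
    exact hle

theorem chi_surjective : Function.Surjective d.chi := fun m => by
  obtain ⟨a, ha⟩ := ZMod.intCast_surjective m.toAdd
  exact ⟨d.u a 0, by rw [d.chi_u, add_zero, ha]; rfl⟩

theorem chi_Qs {f : ℤ} {x : S} (hx : x ∈ d.Qs f) : d.chi x = 1 := by
  have hle : d.Qs f ≤ d.chi.ker := by
    rw [Qs, Subgroup.closure_le]
    rintro g (rfl | rfl) <;> rw [SetLike.mem_coe, MonoidHom.mem_ker]
    · rw [g0, d.chi_u]; norm_num
    · rw [t0, d.chi_us, ofAdd_eq_one, ZMod.intCast_zmod_eq_zero_iff_dvd, d.cast_order]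
      exact ⟨1, by rw [d.h_q]; ring⟩
  exact hle hx

end Pres

end Cfsg.Agent.Wreath
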