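/-
2-groups whose fourth centre has order sixteen: the centre chain, and the action on the third centre.
-/
import Mathlib
import Cfsg.Agent.Lib.Transfer.PGroup

set_option autoImplicit false

namespace Cfsg.Agent.ZFour

open Subgroup
open scoped commutatorElement

variable {T : Type*} [Group T]

/-- A normal subgroup not inside a normal subgroup contains an element outside, central modulo it. -/
theorem exists_layer [Finite T] [Group.IsNilpotent T] (F : Subgroup T) [F.Normal] {N : Subgroup T} (hN : N.Normal)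
    (h : ¬ N ≤ F) : ∃ x ∈ N, x ∉ F ∧ ∀ t : T, ⁅x, t⁆ ∈ F := by
  obtain ⟨n, hn⟩ := Group.IsNilpotent.nilpotent' (G := T)
  classical
  -- the first centre term meeting N outside F
  have hex : ∃ m, ∃ x ∈ N, x ∉ F ∧ x ∈ Subgroup.upperCentralSeries T m := by
    obtain ⟨x, hx, hxF⟩ := Set.not_subset.1 h
    exact ⟨n, x, hx, hxF, hn ▸ mem_top x⟩
  obtain ⟨x, hxN, hxF, hxm⟩ := Nat.find_spec hex
  refine ⟨x, hxN, hxF, fun t => ?_⟩
  rcases Nat.eq_zero_or_pos (Nat.find hex) with h0 | h0
  · rw [h0, Subgroup.upperCentralSeries_zero, mem_bot] at hxm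
    exact absurd (hxm ▸ F.one_mem) hxF
  · by_contra ht
    have hlt : Nat.find hex - 1 < Nat.find hex := by omega
    refine Nat.find_min hex hlt ⟨⁅x, t⁆, ?_, ht, ?_⟩
    · rw [commutatorElement_def, mul_assoc, mul_assoc]
      exact N.mul_mem hxN (by simpa [mul_assoc] using hN.conj_mem x⁻¹ (N.inv_mem hxN) t)
    · rw [show Nat.find hex = (Nat.find hex - 1) + 1 by omega] at hxm
      exact (Subgroup.mem_upperCentralSeries_succ_iff).1 hxm t

/-- A normal subgroup of order at most `2 ^ k` lies in the `k`-th centre. -/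
theorem le_ucs [Finite T] (hT : IsPGroup 2 T) :
    ∀ (k : ℕ) (N : Subgroup T), N.Normal → Nat.card N ≤ 2 ^ k → N ≤ Subgroup.upperCentralSeries T k := by
  have : Group.IsNilpotent T := hT.isNilpotent
  intro k
  induction k with
  | zero =>
    intro N _ hc
    rw [pow_zero] at hc
    rw [(Subgroup.card_le_one_iff_eq_bot N).1 hc]
    exact bot_le
  | succ k ih =>
    intro N hN hc x hx
    rw [Subgroup.mem_upperCentralSeries_succ_iff]
    intro t
    haveI := hN
    have hle : ⁅N, (⊤ : Subgroup T)⁆ ≤ N := commutator_le_left N ⊤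
    by_cases heq : ⁅N, (⊤ : Subgroup T)⁆ = N
    · have hall : ∀ m, N ≤ (Subgroup.upperCentralSeries T m) → N ≤ ⊥ := by
        intro m
        induction m with
        | zero => intro h; rwa [Subgroup.upperCentralSeries_zero] at h
        | succ m ihm =>
          intro h
          refine ihm ?_
          rw [← heq, commutator_le]
          exact fun g hg y _ => (Subgroup.mem_upperCentralSeries_succ_iff).1 (h hg) y
      obtain ⟨n, hn⟩ := Group.IsNilpotent.nilpotent' (G := T)
      have hb := hall n (hn ▸ le_top) hx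
      rw [mem_bot] at hb
      subst hb
      rw [commutatorElement_one_left]
      exact one_mem _
    · refine ih _ inferInstance ?_ (commutator_mem_commutator hx (mem_top t))
      have hd := Subgroup.card_dvd_of_le hle
      have hne : Nat.card ↥⁅N, (⊤ : Subgroup T)⁆ ≠ Nat.card N := fun h =>
        heq (Subgroup.eq_of_le_of_card_ge hle h.ge)
      have h2 : 2 * Nat.card ↥⁅N, (⊤ : Subgroup T)⁆ ≤ Nat.card N := by
        obtain ⟨c, hc'⟩ := hd
        rcases c with _ | _ | c
        · rw [mul_zero] at hc'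
          exact absurd hc' Nat.card_pos.ne'
        · rw [zero_add, mul_one] at hc'
          exact absurd hc'.symm hne
        · rw [hc', mul_comm]
          exact Nat.mul_le_mul_left _ (by omega)
      rw [pow_succ] at hc
      omega

/-- Standing hypotheses, with `F` the Frattini subgroup of `W`. -/
structure Hyp (T : Type*) [Group T] [Finite T] (W F : Subgroup T) : Prop where
  two : IsPGroup 2 T
  big : 2 ^ 14 ≤ Nat.card T
  z4 : Nat.card (Subgroup.upperCentralSeries T 4) = 16
  cW : W = centralizer (Subgroup.upperCentralSeries T 3 : Set T)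
  fle : F ≤ W
  fnormal : F.Normal
  fsq : ∀ x ∈ W, x * x ∈ F
  fcomm : ∀ x ∈ W, ∀ y ∈ W, ⁅x, y⁆ ∈ F
  fcard : Nat.card F ≤ 8
  frat : ∀ U : Subgroup T, U ≤ W → U.relIndex W ≤ 16 → F ≤ U

variable [Finite T] {W F : Subgroup T}

namespace Hyp

variable (h : Hyp T W F)
include h

theorem nilpotent : Group.IsNilpotent T := h.two.isNilpotent

theorem card_ucs : ∀ i ≤ 4, Nat.card (Subgroup.upperCentralSeries T i) = 2 ^ i := by
  have := h.nilpotent
  have step : ∀ i < 4, 2 * Nat.card (Subgroup.upperCentralSeries T i) ≤ Nat.card (Subgroup.upperCentralSeries T (i + 1)) := by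
    intro i hi
    have hne : ¬ (⊤ : Subgroup T) ≤ Subgroup.upperCentralSeries T i := by
      intro htop
      have h1 : Subgroup.upperCentralSeries T i ≤ Subgroup.upperCentralSeries T 4 := Subgroup.upperCentralSeries_mono T (by omega)
      have h2 := Subgroup.card_le_of_le (htop.trans h1)
      rw [Subgroup.card_top, h.z4] at h2
      have := h.big
      omega
    obtain ⟨x, -, hx, hc⟩ := exists_layer (Subgroup.upperCentralSeries T i) (N := ⊤) inferInstance hne
    have hle : Subgroup.upperCentralSeries T i ≤ Subgroup.upperCentralSeries T (i + 1) := Subgroup.upperCentralSeries_mono T (by omega)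
    have hxm : x ∈ Subgroup.upperCentralSeries T (i + 1) := Subgroup.mem_upperCentralSeries_succ_iff.2 hc
    obtain ⟨c, hc'⟩ := Subgroup.card_dvd_of_le hle
    rcases c with _ | _ | c
    · rw [mul_zero] at hc'
      exact absurd hc' Nat.card_pos.ne'
    · rw [zero_add, mul_one] at hc'
      exact absurd ((Subgroup.eq_of_le_of_card_ge hle hc'.le).symm ▸ hxm) hx
    · rw [hc', mul_comm]
      exact Nat.mul_le_mul_left _ (by omega)
  have h0 : Nat.card (Subgroup.upperCentralSeries T 0) = 1 := by rw [Subgroup.upperCentralSeries_zero]; exact Subgroup.card_bot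
  have a := step 0 (by omega)
  have b := step 1 (by omega)
  have c := step 2 (by omega)
  have d := step 3 (by omega)
  have h4 := h.z4
  simp only [Nat.reduceAdd] at a b c d
  intro i hi
  interval_cases i <;> omega

theorem f_le : F ≤ Subgroup.upperCentralSeries T 3 := le_ucs h.two 3 F h.fnormal h.fcard

theorem wnormal : W.Normal := by
  rw [h.cW]
  exact Subgroup.normal_centralizer

theorem z_comm {z w : T} (hz : z ∈ Subgroup.upperCentralSeries T 3) (hw : w ∈ W) : z * w = w * z := by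
  rw [h.cW] at hw
  exact (mem_centralizer_iff.1 hw z hz)

theorem f_comm {z w : T} (hz : z ∈ F) (hw : w ∈ W) : z * w = w * z := h.z_comm (h.f_le hz) hw

theorem exists_gens : ∃ z₂ z₃ : T, z₂ ∈ Subgroup.upperCentralSeries T 2 ∧ z₃ ∈ Subgroup.upperCentralSeries T 3 ∧
    z₃ ∉ Subgroup.upperCentralSeries T 2 ∧ z₂ ∉ Subgroup.upperCentralSeries T 1 ∧
    Subgroup.upperCentralSeries T 3 ≤ (Subgroup.upperCentralSeries T 1 ⊔ Subgroup.closure ({z₂, z₃} : Set T)) := by
  have c1 := h.card_ucs 1 (by omega)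
  have c2 := h.card_ucs 2 (by omega)
  have c3 := h.card_ucs 3 (by omega)
  obtain ⟨z₂, hz₂, hz₂'⟩ : ∃ z ∈ Subgroup.upperCentralSeries T 2, z ∉ Subgroup.upperCentralSeries T 1 := by
    by_contra hc
    push Not at hc
    have := Subgroup.card_le_of_le (show Subgroup.upperCentralSeries T 2 ≤ Subgroup.upperCentralSeries T 1 from fun z hz => hc z hz)
    omega
  obtain ⟨z₃, hz₃, hz₃'⟩ : ∃ z ∈ Subgroup.upperCentralSeries T 3, z ∉ Subgroup.upperCentralSeries T 2 := by
    by_contra hc
    push Not at hc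
    have := Subgroup.card_le_of_le (show Subgroup.upperCentralSeries T 3 ≤ Subgroup.upperCentralSeries T 2 from fun z hz => hc z hz)
    omega
  refine ⟨z₂, z₃, hz₂, hz₃, hz₃', hz₂', ?_⟩
  set S := Subgroup.upperCentralSeries T 1 ⊔ Subgroup.closure ({z₂, z₃} : Set T) with hS
  have m12 := Subgroup.upperCentralSeries_mono T (show 1 ≤ 2 by omega)
  have m23 := Subgroup.upperCentralSeries_mono T (show 2 ≤ 3 by omega)
  have hS3 : S ≤ Subgroup.upperCentralSeries T 3 := sup_le (m12.trans m23) ((Subgroup.closure_le _).2 (by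
    rintro z (rfl | rfl)
    exacts [m23 hz₂, hz₃]))
  set S2 := Subgroup.upperCentralSeries T 1 ⊔ Subgroup.closure ({z₂} : Set T) with hS2
  have hS22 : S2 ≤ Subgroup.upperCentralSeries T 2 := sup_le m12 ((Subgroup.closure_le _).2 (by rintro z rfl; exact hz₂))
  have grow : ∀ {A B : Subgroup T} {z : T}, A ≤ B → z ∈ B → z ∉ A → 2 * Nat.card A ≤ Nat.card B := by
    intro A B z hle hz hzn
    obtain ⟨c, hc'⟩ := Subgroup.card_dvd_of_le hle
    rcases c with _ | _ | c
    · rw [mul_zero] at hc'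
      exact absurd hc' Nat.card_pos.ne'
    · rw [zero_add, mul_one] at hc'
      exact absurd ((Subgroup.eq_of_le_of_card_ge hle hc'.le).symm ▸ hz) hzn
    · rw [hc', mul_comm]
      exact Nat.mul_le_mul_left _ (by omega)
  have g1 := grow (le_sup_left : Subgroup.upperCentralSeries T 1 ≤ S2)
    (Subgroup.mem_sup_right (Subgroup.subset_closure rfl)) hz₂'
  have g2 := grow (show S2 ≤ S from sup_le_sup_left (Subgroup.closure_mono (by simp)) _)
    (Subgroup.mem_sup_right (Subgroup.subset_closure (Or.inr rfl))) (fun hh => hz₃' (hS22 hh))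
  simp only [hS2, hS] at g1 g2 hS3 ⊢
  exact (Subgroup.eq_of_le_of_card_ge hS3 (by omega)).ge

/-- Two elements with the same action on generators differ by an element of `W`. -/
theorem mem_of_fix {z₂ z₃ t : T} (hgen : Subgroup.upperCentralSeries T 3 ≤ Subgroup.upperCentralSeries T 1 ⊔ Subgroup.closure ({z₂, z₃} : Set T))
    (h2 : z₂ * t = t * z₂) (h3 : z₃ * t = t * z₃) : t ∈ W := by
  rw [h.cW, mem_centralizer_iff]
  intro z hz
  have hsub : Subgroup.upperCentralSeries T 1 ⊔ Subgroup.closure ({z₂, z₃} : Set T) ≤ centralizer ({t} : Set T) := by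
    refine sup_le ?_ ((Subgroup.closure_le _).2 ?_)
    · rw [Subgroup.upperCentralSeries_one]
      intro z hz
      rw [mem_centralizer_singleton_iff]
      exact ((mem_center_iff).1 hz t).symm
    · rintro z (rfl | rfl) <;> rw [SetLike.mem_coe, mem_centralizer_singleton_iff] <;> assumption
  exact mem_centralizer_singleton_iff.1 (hsub (hgen hz))

theorem comm_z (t : T) {i : ℕ} {z : T} (hz : z ∈ Subgroup.upperCentralSeries T (i + 1)) :
    t * z * t⁻¹ * z⁻¹ ∈ Subgroup.upperCentralSeries T i := by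
  have := (Subgroup.upperCentralSeries T i).inv_mem (Subgroup.mem_upperCentralSeries_succ_iff.1 hz t)
  rw [commutatorElement_def] at this
  simpa [mul_assoc] using this

theorem index_le : W.index ≤ 8 ∧ (W.index = 8 → ∀ z₂ z₃ : T, z₂ ∈ Subgroup.upperCentralSeries T 2 →
    z₃ ∈ Subgroup.upperCentralSeries T 3 → Subgroup.upperCentralSeries T 3 ≤ Subgroup.upperCentralSeries T 1 ⊔ Subgroup.closure ({z₂, z₃} : Set T) →
    ∀ c₂ ∈ Subgroup.upperCentralSeries T 1, ∀ c₃ ∈ Subgroup.upperCentralSeries T 2,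
      ∃ t : T, t * z₂ * t⁻¹ = c₂ * z₂ ∧ t * z₃ * t⁻¹ = c₃ * z₃) := by
  have key : ∀ z₂ z₃ : T, z₂ ∈ Subgroup.upperCentralSeries T 2 →
      z₃ ∈ Subgroup.upperCentralSeries T 3 → Subgroup.upperCentralSeries T 3 ≤ Subgroup.upperCentralSeries T 1 ⊔ Subgroup.closure ({z₂, z₃} : Set T) →
      W.index ≤ 8 ∧ (W.index = 8 → ∀ c₂ ∈ Subgroup.upperCentralSeries T 1, ∀ c₃ ∈ Subgroup.upperCentralSeries T 2,
      ∃ t : T, t * z₂ * t⁻¹ = c₂ * z₂ ∧ t * z₃ * t⁻¹ = c₃ * z₃) := by
    intro z₂ z₃ hz₂ hz₃ hgen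
    let ψ : T ⧸ W → Subgroup.upperCentralSeries T 1 × Subgroup.upperCentralSeries T 2 := fun q =>
      (⟨q.out * z₂ * q.out⁻¹ * z₂⁻¹, h.comm_z _ hz₂⟩, ⟨q.out * z₃ * q.out⁻¹ * z₃⁻¹, h.comm_z _ hz₃⟩)
    have hinj : Function.Injective ψ := by
      intro q q' he
      have e2 : q.out * z₂ * q.out⁻¹ * z₂⁻¹ = q'.out * z₂ * q'.out⁻¹ * z₂⁻¹ :=
        congrArg (fun x => ((Prod.fst x : Subgroup.upperCentralSeries T 1) : T)) he
      have e3 : q.out * z₃ * q.out⁻¹ * z₃⁻¹ = q'.out * z₃ * q'.out⁻¹ * z₃⁻¹ :=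
        congrArg (fun x => ((Prod.snd x : Subgroup.upperCentralSeries T 2) : T)) he
      rw [← QuotientGroup.out_eq' q, ← QuotientGroup.out_eq' q', QuotientGroup.eq]
      refine h.mem_of_fix hgen ?_ ?_
      · have e := mul_right_cancel e2
        calc z₂ * (q.out⁻¹ * q'.out) = q.out⁻¹ * (q.out * z₂ * q.out⁻¹) * q'.out := by group
          _ = q.out⁻¹ * (q'.out * z₂ * q'.out⁻¹) * q'.out := by rw [e]
          _ = _ := by group
      · have e := mul_right_cancel e3
        calc z₃ * (q.out⁻¹ * q'.out) = q.out⁻¹ * (q.out * z₃ * q.out⁻¹) * q'.out := by group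
          _ = q.out⁻¹ * (q'.out * z₃ * q'.out⁻¹) * q'.out := by rw [e]
          _ = _ := by group
    have hcard : Nat.card (Subgroup.upperCentralSeries T 1 × Subgroup.upperCentralSeries T 2) = 8 := by
      rw [Nat.card_prod, h.card_ucs 1 (by omega), h.card_ucs 2 (by omega)]
      norm_num
    refine ⟨hcard ▸ Nat.card_le_card_of_injective ψ hinj, fun h8 c₂ hc₂ c₃ hc₃ => ?_⟩
    obtain ⟨q, hq⟩ := ((Nat.bijective_iff_injective_and_card ψ).2 ⟨hinj, by rw [hcard]; exact h8⟩).2
      (⟨c₂, hc₂⟩, ⟨c₃, hc₃⟩)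
    refine ⟨q.out, ?_, ?_⟩
    · have := congrArg (fun x => ((Prod.fst x : Subgroup.upperCentralSeries T 1) : T)) hq
      simp only [ψ] at this
      rw [← this, inv_mul_cancel_right]
    · have := congrArg (fun x => ((Prod.snd x : Subgroup.upperCentralSeries T 2) : T)) hq
      simp only [ψ] at this
      rw [← this, inv_mul_cancel_right]
  obtain ⟨z₂, z₃, hz₂, hz₃, -, -, hgen⟩ := h.exists_gens
  exact ⟨(key z₂ z₃ hz₂ hz₃ hgen).1, fun h8 a b ha hb hg => (key a b ha hb hg).2 h8⟩

/-- Some linear function on `W`, trivial on `F` and not on a given element. -/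
theorem exists_chi {r : T} (hr : r ∈ W) (hrF : r ∉ F) :
    ∃ χ : T → ZMod 2, (∀ x ∈ W, ∀ y ∈ W, χ (x * y) = χ x + χ y) ∧ (∀ x ∈ F, χ x = 0) ∧ χ r = 1 := by
  classical
  obtain ⟨K, hKle, hKmax⟩ := (Set.toFinite {K : Subgroup T | F ≤ K ∧ K ≤ W ∧ r ∉ K}).exists_le_maximal
    (show F ∈ {K : Subgroup T | F ≤ K ∧ K ≤ W ∧ r ∉ K} from ⟨le_rfl, h.fle, hrF⟩)
  obtain ⟨⟨hFK, hKW, hrK⟩, hmax⟩ := hKmax
  have hdich : ∀ x ∈ W, x ∉ K → x * r ∈ K := by
    intro x hx hxK
    have hxx : x * x ∈ K := hFK (h.fsq x hx)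
    let L : Subgroup T :=
      { carrier := {y | y ∈ K ∨ ∃ a ∈ K, y = a * x}
        one_mem' := Or.inl K.one_mem
        mul_mem' := by
          have swap : ∀ a ∈ K, ∃ a' ∈ K, x * a = a' * x := fun a ha =>
            ⟨⁅x, a⁆ * a, K.mul_mem (hFK (h.fcomm x hx a (hKW ha))) ha, by rw [commutatorElement_def]; group⟩
          rintro y z (hy | ⟨a, ha, rfl⟩) (hz | ⟨b, hb, rfl⟩)
          · exact Or.inl (K.mul_mem hy hz)
          · exact Or.inr ⟨y * b, K.mul_mem hy hb, by group⟩
          · obtain ⟨a', ha', he⟩ := swap z hz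
            exact Or.inr ⟨a * a', K.mul_mem ha ha', by rw [mul_assoc, he, ← mul_assoc]⟩
          · obtain ⟨b', hb', he⟩ := swap b hb
            refine Or.inl ?_
            rw [show a * x * (b * x) = a * (x * b) * x by group, he, show a * (b' * x) * x = a * b' * (x * x) by group]
            exact K.mul_mem (K.mul_mem ha hb') hxx
        inv_mem' := by
          rintro y (hy | ⟨a, ha, rfl⟩)
          · exact Or.inl (K.inv_mem hy)
          · refine Or.inr ⟨(x * x)⁻¹ * (⁅x, a⁻¹⁆ * a⁻¹), K.mul_mem (K.inv_mem hxx)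
              (K.mul_mem (hFK (h.fcomm x hx _ (hKW (K.inv_mem ha)))) (K.inv_mem ha)), ?_⟩
            rw [commutatorElement_def]
            group }
    have hKL : K ≤ L := fun y hy => Or.inl hy
    by_contra hxr
    refine hxK (hmax (show L ∈ {K : Subgroup T | F ≤ K ∧ K ≤ W ∧ r ∉ K} from ⟨hFK.trans hKL, ?_, ?_⟩) hKL
      (show x ∈ L from Or.inr ⟨1, K.one_mem, (one_mul x).symm⟩))
    · rintro y (hy | ⟨a, ha, rfl⟩)
      exacts [hKW hy, W.mul_mem (hKW ha) hx]
    · rintro (hy | ⟨a, ha, he⟩)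
      · exact hrK hy
      · refine hxr ?_
        rw [he, show x * (a * x) = ⁅x, a⁆ * a * (x * x) by rw [commutatorElement_def]; group]
        exact K.mul_mem (K.mul_mem (hFK (h.fcomm x hx a (hKW ha))) ha) hxx
  refine ⟨fun x => if x ∈ K then 0 else 1, ?_, fun x hx => if_pos (hFK hx), if_neg hrK⟩
  intro x hx y hy
  by_cases hxK : x ∈ K
  · simp only [if_pos hxK, K.mul_mem_cancel_left hxK, zero_add]
  by_cases hyK : y ∈ K
  · simp only [if_pos hyK, K.mul_mem_cancel_right hyK, add_zero]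
  have hm : x * y ∈ K := by
    have h1 := hdich x hx hxK
    have h2 := hdich y hy hyK
    have hrr : r * r ∈ K := hFK (h.fsq r hr)
    rw [show x * y = x * r * ((r * r)⁻¹ * ⁅r, y * r⁆ * (y * r)) by rw [commutatorElement_def]; group]
    · exact K.mul_mem h1 (K.mul_mem (K.mul_mem (K.inv_mem hrr) (hFK (h.fcomm r hr _ (hKW h2)))) h2)
  simp only [if_pos hm, if_neg hxK, if_neg hyK]
  decide

end Hyp

end Cfsg.Agent.ZFour
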