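/-
2-groups whose fourth centre has order sixteen: `W` modulo its Frattini subgroup is the regular module, and the
commutator with the fixed vector is onto.
-/
import Cfsg.Agent.Lib.TwoGroups.ZFourBasic

set_option autoImplicit false

namespace Cfsg.Agent.ZFour

open scoped commutatorElement

variable {T : Type*} [Group T] [Finite T]

/-- Covering by few cosets bounds the index. -/
theorem relIndex_le_of_cover {K W : Subgroup T} (s : Finset T)
    (hcov : ∀ w ∈ W, ∃ c ∈ s, w * c ∈ K) : K.relIndex W ≤ s.card := by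
  classical
  let f : W ⧸ K.subgroupOf W → s := fun q =>
    ⟨(hcov _ (q.out⁻¹ : W).2).choose, (hcov _ (q.out⁻¹ : W).2).choose_spec.1⟩
  have hf : Function.Injective f := by
    intro q q' he
    rw [← QuotientGroup.out_eq' q, ← QuotientGroup.out_eq' q', QuotientGroup.eq, Subgroup.mem_subgroupOf]
    have h1 := (hcov _ (q.out⁻¹ : W).2).choose_spec.2
    have h2 := (hcov _ (q'.out⁻¹ : W).2).choose_spec.2
    have hc : (hcov _ (q.out⁻¹ : W).2).choose = (hcov _ (q'.out⁻¹ : W).2).choose := congrArg Subtype.val he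
    rw [← hc] at h2
    have := K.mul_mem h1 (K.inv_mem h2)
    simpa [Subgroup.coe_mul, mul_assoc] using this
  have := Nat.card_le_card_of_injective f hf
  rwa [Nat.card_eq_finsetCard] at this

variable {W F : Subgroup T}

/-- The regular module model of `W` modulo `F`. -/
structure Model (T : Type*) [Group T] [Finite T] (W F : Subgroup T) where
  r : T
  χ : T → ZMod 2
  rW : r ∈ W
  rF : r ∉ F
  rfix : ∀ t : T, ⁅r, t⁆ ∈ F
  chi_add : ∀ x ∈ W, ∀ y ∈ W, χ (x * y) = χ x + χ y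
  chi_F : ∀ x ∈ F, χ x = 0
  chi_r : χ r = 1
  chi_conj : ∀ t : T, χ (t * r * t⁻¹) = 1
  chi_coset : ∀ t : T, ∀ u ∈ W, ∀ w ∈ W, χ (t * u * w * (t * u)⁻¹) = χ (t * w * t⁻¹)
  inj : ∀ w ∈ W, (∀ t, χ (t * w * t⁻¹) = 0) → w ∈ F
  surj : ∀ u : T ⧸ W → ZMod 2, ∃ w ∈ W, ∀ t : T, χ (t * w * t⁻¹) = u (QuotientGroup.mk t)
  fix : ∀ x ∈ W, (∀ t, ⁅x, t⁆ ∈ F) → x ∈ F ∨ x * r ∈ F

namespace Hyp

variable (h : Hyp T W F)
include h

theorem card_W_ge : 2 ^ 11 ≤ Nat.card W := by
  have := Subgroup.card_mul_index W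
  have h8 := h.index_le.1
  have hb := h.big
  have := Nat.mul_le_mul_left (Nat.card W) h8
  omega

theorem model : Nat.card F = 8 ∧ W.index = 8 ∧ Nat.card T = 2 ^ 14 ∧ Nat.card W = 2 ^ 11 ∧
    F = Subgroup.upperCentralSeries T 3 ∧ Subgroup.upperCentralSeries T 4 ≤ W ∧
    ∃ M : Model T W F, M.r ∈ Subgroup.upperCentralSeries T 4 := by
  classical
  have hnil := h.nilpotent
  haveI := h.fnormal
  haveI hWn := h.wnormal
  haveI : Fact (Nat.Prime 2) := ⟨Nat.prime_two⟩
  obtain ⟨k, hk⟩ := IsPGroup.iff_card.1 (h.two.to_subgroup F)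
  have hk3 : k ≤ 3 := by
    have := h.fcard
    rw [hk] at this
    exact (Nat.pow_le_pow_iff_right (show 1 < 2 by norm_num)).1 (this.trans_eq (by norm_num))
  have hFk : F = Subgroup.upperCentralSeries T k := Subgroup.eq_of_le_of_card_ge
    (le_ucs h.two k F h.fnormal hk.le) (by rw [hk, h.card_ucs k (by omega)])
  have hWF : ¬ W ≤ F := fun hle => by
    have := Subgroup.card_le_of_le hle
    have := h.card_W_ge
    have := h.fcard
    omega
  obtain ⟨r, hrW, hrF, hrfix⟩ := exists_layer F hWn hWF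
  have memk : ∀ x : T, (∀ t, ⁅x, t⁆ ∈ F) → x ∈ Subgroup.upperCentralSeries T (k + 1) := fun x hx =>
    Subgroup.mem_upperCentralSeries_succ_iff.2 fun t => hFk ▸ hx t
  have hle1 : F ≤ Subgroup.upperCentralSeries T (k + 1) := hFk ▸ Subgroup.upperCentralSeries_mono T (by omega)
  have hidx : (F.subgroupOf (Subgroup.upperCentralSeries T (k + 1))).index = 2 := by
    have h1 := Subgroup.card_mul_index (F.subgroupOf (Subgroup.upperCentralSeries T (k + 1)))
    rw [Nat.card_congr (Subgroup.subgroupOfEquivOfLe hle1).toEquiv, hk, h.card_ucs (k + 1) (by omega), pow_succ] at h1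
    exact Nat.eq_of_mul_eq_mul_left (by positivity) h1
  have dich : ∀ x ∈ Subgroup.upperCentralSeries T (k + 1), x ∈ F ∨ x * r ∈ F := by
    intro x hx
    by_cases hxF : x ∈ F
    · exact Or.inl hxF
    refine Or.inr ?_
    have := (Subgroup.mul_mem_iff_of_index_two hidx (a := ⟨x, hx⟩) (b := ⟨r, memk r hrfix⟩)).2
      ⟨fun hh => absurd (Subgroup.mem_subgroupOf.1 hh) hxF, fun hh => absurd (Subgroup.mem_subgroupOf.1 hh) hrF⟩
    exact Subgroup.mem_subgroupOf.1 this
  obtain ⟨χ, hadd, hχF, hχr⟩ := h.exists_chi hrW hrF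
  have hconjW : ∀ t w : T, w ∈ W → t * w * t⁻¹ ∈ W := fun t w hw => hWn.conj_mem w hw t
  have hconjr : ∀ t : T, χ (t * r * t⁻¹) = 1 := by
    intro t
    have hc : t * r * t⁻¹ = ⁅r, t⁆⁻¹ * r := by rw [commutatorElement_def]; group
    rw [hc, hadd _ (h.fle (F.inv_mem (hrfix t))) _ hrW, hχF _ (F.inv_mem (hrfix t)), hχr, zero_add]
  have hcoset : ∀ t : T, ∀ u ∈ W, ∀ w ∈ W, χ (t * u * w * (t * u)⁻¹) = χ (t * w * t⁻¹) := by
    intro t u hu w hw
    have hf : t * ⁅u, w⁆ * t⁻¹ ∈ F := h.fnormal.conj_mem _ (h.fcomm u hu w hw) t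
    rw [show t * u * w * (t * u)⁻¹ = t * ⁅u, w⁆ * t⁻¹ * (t * w * t⁻¹) by rw [commutatorElement_def]; group,
      hadd _ (h.fle hf) _ (hconjW t w hw), hχF _ hf, zero_add]
  have hinj : ∀ w ∈ W, (∀ t, χ (t * w * t⁻¹) = 0) → w ∈ F := by
    intro w hw hwz
    by_contra hwF
    let N : Subgroup T :=
      { carrier := {x | x ∈ W ∧ ∀ t, χ (t * x * t⁻¹) = 0}
        one_mem' := ⟨W.one_mem, fun t => by rw [mul_one, mul_inv_cancel]; exact hχF 1 F.one_mem⟩
        mul_mem' := by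
          rintro x y ⟨hx, hx'⟩ ⟨hy, hy'⟩
          refine ⟨W.mul_mem hx hy, fun t => ?_⟩
          rw [show t * (x * y) * t⁻¹ = (t * x * t⁻¹) * (t * y * t⁻¹) by group,
            hadd _ (hconjW t x hx) _ (hconjW t y hy), hx', hy', add_zero]
        inv_mem' := by
          rintro x ⟨hx, hx'⟩
          refine ⟨W.inv_mem hx, fun t => ?_⟩
          have := hadd _ (hconjW t x hx) _ (hconjW t _ (W.inv_mem hx))
          rw [show t * x * t⁻¹ * (t * x⁻¹ * t⁻¹) = 1 by group, hχF 1 F.one_mem, hx', zero_add] at this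
          exact this.symm }
    have hN : N.Normal := ⟨by
      rintro x ⟨hx, hx'⟩ s
      refine ⟨hconjW s x hx, fun t => ?_⟩
      rw [show t * (s * x * s⁻¹) * t⁻¹ = (t * s) * x * (t * s)⁻¹ by group]
      exact hx' _⟩
    obtain ⟨x, ⟨hxW, hxz⟩, hxF, hxfix⟩ := exists_layer F hN (fun hle => hwF (hle ⟨hw, hwz⟩))
    rcases dich x (memk x hxfix) with hh | hh
    · exact hxF hh
    · have h1 := hadd x hxW r hrW
      have h2 := hxz 1
      rw [one_mul, inv_one, mul_one] at h2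
      rw [hχF _ hh, h2, hχr, zero_add] at h1
      exact zero_ne_one h1
  -- the count
  let Φ : W ⧸ F.subgroupOf W → (T ⧸ W → ZMod 2) := fun w q => χ (q.out * ((w.out : W) : T) * q.out⁻¹)
  have hΦinj : Function.Injective Φ := by
    intro a b he
    rw [← QuotientGroup.out_eq' a, ← QuotientGroup.out_eq' b, QuotientGroup.eq, Subgroup.mem_subgroupOf]
    refine hinj _ (a.out⁻¹ * b.out).2 fun t => ?_
    obtain ⟨u, hu⟩ : ∃ u ∈ W, t = (QuotientGroup.mk t : T ⧸ W).out * u := by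
      refine ⟨(QuotientGroup.mk t : T ⧸ W).out⁻¹ * t, ?_, by group⟩
      rw [← QuotientGroup.eq, QuotientGroup.out_eq']
    obtain ⟨hu, hut⟩ := hu
    rw [hut, hcoset _ u hu _ (a.out⁻¹ * b.out).2]
    set g := (QuotientGroup.mk t : T ⧸ W).out
    have e := congrFun he (QuotientGroup.mk t : T ⧸ W)
    simp only [Φ] at e
    have hs := hadd _ (hconjW g _ a.out.2) _ (hconjW g _ (a.out⁻¹ * b.out).2)
    rw [show g * (a.out : T) * g⁻¹ * (g * ((a.out⁻¹ * b.out : W) : T) * g⁻¹) = g * (b.out : T) * g⁻¹ by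
      simp only [Subgroup.coe_mul, Subgroup.coe_inv]; group] at hs
    linear_combination -hs - e
  have hdom : Nat.card W = Nat.card F * Nat.card (W ⧸ F.subgroupOf W) := by
    rw [← Nat.card_congr (Subgroup.subgroupOfEquivOfLe h.fle).toEquiv]
    exact (Subgroup.card_mul_index _).symm
  have hfun : Nat.card (T ⧸ W → ZMod 2) = 2 ^ W.index := by
    rw [Nat.card_fun, Nat.card_zmod]; rfl
  have hbound := Nat.card_le_card_of_injective Φ hΦinj
  rw [hfun] at hbound
  have h8 := h.index_le.1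
  have hT := Subgroup.card_mul_index W
  have hb := h.big
  have hk2 : (2 : ℕ) ^ k ≤ 2 ^ 3 := Nat.pow_le_pow_right (by norm_num) hk3
  have hindex : W.index = 8 := by
    by_contra hne
    have h7 : (2 : ℕ) ^ W.index ≤ 2 ^ 7 := Nat.pow_le_pow_right (by norm_num) (by omega)
    have h1 : Nat.card W ≤ 2 ^ 3 * 2 ^ 7 := by
      rw [hdom]; exact Nat.mul_le_mul (hk ▸ hk2) (hbound.trans h7)
    have h2 := Nat.mul_le_mul h1 h8
    omega
  rw [hindex] at hbound hfun hT
  have hWle : Nat.card W ≤ 2 ^ k * 2 ^ 8 := by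
    rw [hdom, hk]; exact Nat.mul_le_mul le_rfl hbound
  have hk8 : k = 3 := by
    by_contra hne
    have : (2 : ℕ) ^ k ≤ 2 ^ 2 := Nat.pow_le_pow_right (by norm_num) (by omega)
    omega
  subst hk8
  have hWc : Nat.card W = 2 ^ 11 := by omega
  have hsurjc : Nat.card (W ⧸ F.subgroupOf W) = 2 ^ 8 := by
    rw [hk] at hdom
    omega
  have hsurj := ((Nat.bijective_iff_injective_and_card Φ).2 ⟨hΦinj, by rw [hsurjc, hfun]⟩).2
  have hr4 : r ∈ Subgroup.upperCentralSeries T 4 := memk r hrfix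
  refine ⟨by rw [hk]; norm_num, hindex, by omega, hWc, hFk, fun x hx => ?_,
    ⟨⟨r, χ, hrW, hrF, hrfix, hadd, hχF, hχr, hconjr, hcoset, hinj, fun u => ?_, fun x _ hx => dich x (memk x hx)⟩, hr4⟩⟩
  · rcases dich x hx with hh | hh
    · exact h.fle hh
    · exact (W.mul_mem_cancel_right hrW).1 (h.fle hh)
  · obtain ⟨w, hw⟩ := hsurj u
    refine ⟨(w.out : T), w.out.2, fun t => ?_⟩
    obtain ⟨v, hv, hvt⟩ : ∃ v ∈ W, t = (QuotientGroup.mk t : T ⧸ W).out * v := by
      refine ⟨(QuotientGroup.mk t : T ⧸ W).out⁻¹ * t, ?_, by group⟩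
      rw [← QuotientGroup.eq, QuotientGroup.out_eq']
    conv_lhs => rw [hvt, hcoset _ v hv _ w.out.2]
    exact congrFun hw _

/-- A large subgroup elementary modulo the second centre is impossible. -/
theorem no_elem {K : Subgroup T} (hKW : K ≤ W) (hFK : F ≤ K) (hidx : K.relIndex W ≤ 8)
    (hc : ∀ x ∈ K, ∀ y ∈ K, ⁅x, y⁆ ∈ Subgroup.upperCentralSeries T 2)
    (hs : ∀ x ∈ K, x * x ∈ Subgroup.upperCentralSeries T 2) : False := by
  classical
  set Z := Subgroup.upperCentralSeries T 2 with hZ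
  obtain ⟨hF8, -, -, -, hF3, -, -⟩ := h.model
  have hZF : Z ≤ F := hF3 ▸ Subgroup.upperCentralSeries_mono T (by omega)
  obtain ⟨z, hzF, hz⟩ : ∃ z ∈ F, z ∉ Z := by
    by_contra hn
    push Not at hn
    have := Subgroup.card_le_of_le (show F ≤ Z from hn)
    rw [hF8, hZ, h.card_ucs 2 (by omega)] at this
    omega
  obtain ⟨U, -, hUmax⟩ := (Set.toFinite {U : Subgroup T | Z ≤ U ∧ U ≤ K ∧ z ∉ U}).exists_le_maximal
    (show Z ∈ {U : Subgroup T | Z ≤ U ∧ U ≤ K ∧ z ∉ U} from ⟨le_rfl, hZF.trans hFK, hz⟩)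
  obtain ⟨⟨hZU, hUK, hzU⟩, hmax⟩ := hUmax
  have hd : ∀ x ∈ K, x ∉ U → x * z ∈ U := by
    intro x hx hxU
    have hxx : x * x ∈ U := hZU (hs x hx)
    have swap : ∀ a ∈ U, ∃ a' ∈ U, x * a = a' * x := fun a ha =>
      ⟨⁅x, a⁆ * a, U.mul_mem (hZU (hc x hx a (hUK ha))) ha, by rw [commutatorElement_def]; group⟩
    let L : Subgroup T :=
      { carrier := {y | y ∈ U ∨ ∃ a ∈ U, y = a * x}
        one_mem' := Or.inl U.one_mem
        mul_mem' := by
          rintro y w (hy | ⟨a, ha, rfl⟩) (hw | ⟨b, hb, rfl⟩)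
          · exact Or.inl (U.mul_mem hy hw)
          · exact Or.inr ⟨y * b, U.mul_mem hy hb, by group⟩
          · obtain ⟨a', ha', he⟩ := swap w hw
            exact Or.inr ⟨a * a', U.mul_mem ha ha', by rw [mul_assoc, he, ← mul_assoc]⟩
          · obtain ⟨b', hb', he⟩ := swap b hb
            refine Or.inl ?_
            rw [show a * x * (b * x) = a * (x * b) * x by group, he,
              show a * (b' * x) * x = a * b' * (x * x) by group]
            exact U.mul_mem (U.mul_mem ha hb') hxx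
        inv_mem' := by
          rintro y (hy | ⟨a, ha, rfl⟩)
          · exact Or.inl (U.inv_mem hy)
          · refine Or.inr ⟨(x * x)⁻¹ * (⁅x, a⁻¹⁆ * a⁻¹), U.mul_mem (U.inv_mem hxx)
              (U.mul_mem (hZU (hc x hx _ (hUK (U.inv_mem ha)))) (U.inv_mem ha)), ?_⟩
            rw [commutatorElement_def]
            group }
    have hUL : U ≤ L := fun y hy => Or.inl hy
    by_contra hxz
    refine hxU (hmax (show L ∈ {U : Subgroup T | Z ≤ U ∧ U ≤ K ∧ z ∉ U} from ⟨hZU.trans hUL, ?_, ?_⟩) hUL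
      (show x ∈ L from Or.inr ⟨1, U.one_mem, (one_mul x).symm⟩))
    · rintro y (hy | ⟨a, ha, rfl⟩)
      exacts [hUK hy, K.mul_mem (hUK ha) hx]
    · rintro (hy | ⟨a, ha, he⟩)
      · exact hzU hy
      · refine hxz ?_
        rw [he, show x * (a * x) = ⁅x, a⁆ * a * (x * x) by rw [commutatorElement_def]; group]
        exact U.mul_mem (U.mul_mem (hZU (hc x hx a (hUK ha))) ha) hxx
  have h2 : U.relIndex K ≤ ({1, z} : Finset T).card := relIndex_le_of_cover _ fun x hx => by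
    by_cases hxU : x ∈ U
    · exact ⟨1, by simp, by rwa [mul_one]⟩
    · exact ⟨z, by simp, hd x hx hxU⟩
  have h2' : U.relIndex K ≤ 2 := h2.trans Finset.card_le_two
  refine hzU (h.frat U (hUK.trans hKW) ?_ hzF)
  rw [← Subgroup.relIndex_mul_relIndex U K W hUK hKW]
  exact (Nat.mul_le_mul h2' hidx).trans (by norm_num)

/-- `F` is the derived subgroup of `W`. -/
theorem commutator_eq : ⁅W, W⁆ = F := by
  classical
  haveI := h.wnormal
  obtain ⟨hF8, -, -, -, hF3, -, -⟩ := h.model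
  set D := ⁅W, W⁆ with hD
  set Z := Subgroup.upperCentralSeries T 2 with hZ
  have hDF : D ≤ F := Subgroup.commutator_le.2 h.fcomm
  by_contra hne
  have hD4 : Nat.card D ≤ 4 := by
    obtain ⟨c, hc⟩ := Subgroup.card_dvd_of_le hDF
    rw [hF8] at hc
    rcases c with _ | _ | c
    · omega
    · exact absurd (Subgroup.eq_of_le_of_card_ge hDF (by omega)) hne
    · have : Nat.card D * 2 ≤ Nat.card D * (c + 1 + 1) := Nat.mul_le_mul_left _ (by omega)
      omega
  have hDZ : D ≤ Z := le_ucs h.two 2 D inferInstance hD4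
  have hZF : Z ≤ F := hF3 ▸ Subgroup.upperCentralSeries_mono T (by omega)
  have hidx : (Z.subgroupOf F).index = 2 := by
    have h1 := Subgroup.card_mul_index (Z.subgroupOf F)
    rw [Nat.card_congr (Subgroup.subgroupOfEquivOfLe hZF).toEquiv, hZ, h.card_ucs 2 (by omega), hF8] at h1
    rw [hZ]
    omega
  have hcomm : ∀ x ∈ W, ∀ y ∈ W, ⁅x, y⁆ ∈ Z := fun x hx y hy => hDZ (Subgroup.commutator_mem_commutator hx hy)
  haveI hZn : Z.Normal := inferInstance
  have hmul : ∀ x ∈ W, ∀ y ∈ W, (x * y) * (x * y) * ((x * x) * (y * y))⁻¹ ∈ Z := by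
    intro x hx y hy
    rw [show (x * y) * (x * y) * ((x * x) * (y * y))⁻¹ = x * ⁅y, x⁆ * x⁻¹ by rw [commutatorElement_def]; group]
    exact hZn.conj_mem _ (hcomm y hy x hx) x
  let K : Subgroup T :=
    { carrier := {w | w ∈ W ∧ w * w ∈ Z}
      one_mem' := ⟨W.one_mem, by rw [one_mul]; exact Z.one_mem⟩
      mul_mem' := fun {x y} hx hy => ⟨W.mul_mem hx.1 hy.1, by
        have := Z.mul_mem (hmul x hx.1 y hy.1) (Z.mul_mem hx.2 hy.2)
        rwa [inv_mul_cancel_right] at this⟩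
      inv_mem' := fun {x} hx => ⟨W.inv_mem hx.1, by rw [← mul_inv_rev]; exact Z.inv_mem hx.2⟩ }
  have hFK : F ≤ K := by
    intro f hf
    refine ⟨h.fle hf, ?_⟩
    have := (Subgroup.mul_mem_iff_of_index_two hidx (a := ⟨f, hf⟩) (b := ⟨f, hf⟩)).2 Iff.rfl
    exact Subgroup.mem_subgroupOf.1 this
  by_cases hall : W ≤ K
  · exact h.no_elem le_rfl h.fle (by rw [Subgroup.relIndex_self]; norm_num) hcomm (fun x hx => (hall hx).2)
  obtain ⟨c, hcW, hcK⟩ := Set.not_subset.1 hall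
  refine h.no_elem (K := K) (fun x hx => hx.1) hFK ?_ (fun x hx y hy => hcomm x hx.1 y hy.1) (fun x hx => hx.2)
  refine ((relIndex_le_of_cover ({1, c} : Finset T) fun x hx => ?_).trans Finset.card_le_two).trans (by norm_num)
  by_cases hxK : x ∈ K
  · exact ⟨1, by simp, by rwa [mul_one]⟩
  refine ⟨c, by simp, W.mul_mem hx hcW, ?_⟩
  have h1 : ¬ x * x ∈ Z := fun hh => hxK ⟨hx, hh⟩
  have h2 : ¬ c * c ∈ Z := fun hh => hcK ⟨hcW, hh⟩
  have h3 : (x * x) * (c * c) ∈ Z := Subgroup.mem_subgroupOf.1 ((Subgroup.mul_mem_iff_of_index_two hidx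
    (a := ⟨x * x, h.fsq x hx⟩) (b := ⟨c * c, h.fsq c hcW⟩)).2
      ⟨fun hh => absurd (Subgroup.mem_subgroupOf.1 hh) h1, fun hh => absurd (Subgroup.mem_subgroupOf.1 hh) h2⟩)
  have := Z.mul_mem (hmul x hx c hcW) h3
  rwa [inv_mul_cancel_right] at this

theorem f_elem {f : T} (hf : f ∈ F) : f * f = 1 := by
  have hf' := h.commutator_eq.ge hf
  rw [Subgroup.commutator_def] at hf'
  clear hf
  induction hf' using Subgroup.closure_induction with
  | mem x hx =>
    obtain ⟨a, ha, b, hb, rfl⟩ := hx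
    have hab := h.fcomm a ha b hb
    have : ⁅a * a, b⁆ = a * ⁅a, b⁆ * a⁻¹ * ⁅a, b⁆ := by simp only [commutatorElement_def]; group
    rw [← h.f_comm hab ha, mul_inv_cancel_right] at this
    rw [← this, commutatorElement_eq_one_iff_mul_comm, h.f_comm (h.fsq a ha) hb]
  | one => rw [one_mul]
  | mul x y hx hy ix iy =>
    have hxF : x ∈ F := h.commutator_eq.le (by rw [Subgroup.commutator_def]; exact hx)
    have hyF : y ∈ F := h.commutator_eq.le (by rw [Subgroup.commutator_def]; exact hy)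
    rw [show x * y * (x * y) = x * (y * x) * y by group, ← h.f_comm hxF (h.fle hyF),
      show x * (x * y) * y = (x * x) * (y * y) by group, ix, iy, one_mul]
  | inv x hx ix => rw [← mul_inv_rev, ix, inv_one]

end Hyp

end Cfsg.Agent.ZFour
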