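/-
2-groups whose fourth centre has order sixteen: the commutator pairing is non-degenerate at the fixed vector.
-/
import Cfsg.Agent.Lib.TwoGroups.ZFourModel
import Cfsg.Agent.Lib.TwoGroups.Lifts

set_option autoImplicit false

namespace Cfsg.Agent.ZFour

open scoped commutatorElement

variable {T : Type*} [Group T] [Finite T] {W F : Subgroup T}

open Classical in
/-- The coordinate of an element of `F` modulo the second centre. -/
noncomputable def gam (f : T) : ZMod 2 := if f ∈ Subgroup.upperCentralSeries T 2 then 0 else 1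

/-- The commutator pairing modulo the second centre. -/
noncomputable def beta (x y : T) : ZMod 2 := gam ⁅x, y⁆

/-- The square map modulo the second centre. -/
noncomputable def sq (x : T) : ZMod 2 := gam (x * x)

namespace Hyp

variable (h : Hyp T W F)
include h

theorem hidx2 : ((Subgroup.upperCentralSeries T 2).subgroupOf F).index = 2 := by
  obtain ⟨hF8, -, -, -, hF3, -, -⟩ := h.model
  have hZF : Subgroup.upperCentralSeries T 2 ≤ F := hF3 ▸ Subgroup.upperCentralSeries_mono T (by omega)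
  have h1 := Subgroup.card_mul_index ((Subgroup.upperCentralSeries T 2).subgroupOf F)
  rw [Nat.card_congr (Subgroup.subgroupOfEquivOfLe hZF).toEquiv, h.card_ucs 2 (by omega), hF8] at h1
  omega

theorem gam_mul {f g : T} (hf : f ∈ F) (hg : g ∈ F) : gam (f * g) = gam f + gam g := by
  classical
  have hiff : f * g ∈ Subgroup.upperCentralSeries T 2 ↔
      (f ∈ Subgroup.upperCentralSeries T 2 ↔ g ∈ Subgroup.upperCentralSeries T 2) :=
    Subgroup.mul_mem_iff_of_index_two h.hidx2 (a := ⟨f, hf⟩) (b := ⟨g, hg⟩)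
  unfold gam
  by_cases a : f ∈ Subgroup.upperCentralSeries T 2 <;> by_cases b : g ∈ Subgroup.upperCentralSeries T 2 <;>
    simp only [hiff, a, b, if_true, if_false, iff_self, iff_false, not_true, not_false_iff,
      false_iff, true_iff] <;> decide

theorem gam_one : gam (1 : T) = 0 := if_pos (one_mem _)

theorem gam_conj {f : T} (hf : f ∈ F) (t : T) : gam (t * f * t⁻¹) = gam f := by
  classical
  obtain ⟨-, -, -, -, hF3, -, -⟩ := h.model
  have hc := h.comm_z t (i := 2) (hF3 ▸ hf)
  have : t * f * t⁻¹ ∈ Subgroup.upperCentralSeries T 2 ↔ f ∈ Subgroup.upperCentralSeries T 2 := by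
    constructor
    · intro hh
      have := Subgroup.mul_mem _ (Subgroup.inv_mem _ hc) hh
      rwa [show (t * f * t⁻¹ * f⁻¹)⁻¹ * (t * f * t⁻¹) = f by group] at this
    · intro hh
      simpa using Subgroup.mul_mem _ hc hh
  unfold gam
  simp only [this]

theorem beta_add {x y w : T} (hx : x ∈ W) (hy : y ∈ W) (hw : w ∈ W) :
    beta (x * y) w = beta x w + beta y w := by
  have he : ⁅x * y, w⁆ = ⁅x, w⁆ * ⁅y, w⁆ := by
    rw [show ⁅x * y, w⁆ = x * ⁅y, w⁆ * x⁻¹ * ⁅x, w⁆ by simp only [commutatorElement_def]; group,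
      ← h.f_comm (h.fcomm y hy w hw) hx, mul_inv_cancel_right,
      h.f_comm (h.fcomm y hy w hw) (h.fle (h.fcomm x hx w hw))]
  rw [beta, he, h.gam_mul (h.fcomm x hx w hw) (h.fcomm y hy w hw)]
  rfl

theorem beta_symm {x y : T} (hx : x ∈ W) (hy : y ∈ W) : beta y x = beta x y := by
  rw [beta, beta, ← commutatorElement_inv, inv_eq_of_mul_eq_one_right (h.f_elem (h.fcomm x hx y hy))]

theorem beta_add' {x y w : T} (hx : x ∈ W) (hy : y ∈ W) (hw : w ∈ W) :
    beta w (x * y) = beta w x + beta w y := by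
  rw [← h.beta_symm hw (W.mul_mem hx hy), h.beta_add hx hy hw, h.beta_symm hw hx, h.beta_symm hw hy]

theorem beta_F {f w : T} (hf : f ∈ F) (hw : w ∈ W) : beta w f = 0 := by
  rw [beta, commutatorElement_eq_one_iff_mul_comm.2 (h.f_comm hf hw).symm, h.gam_one]

theorem beta_conj {x y : T} (hx : x ∈ W) (hy : y ∈ W) (t : T) :
    beta (t * x * t⁻¹) (t * y * t⁻¹) = beta x y := by
  rw [beta, show ⁅t * x * t⁻¹, t * y * t⁻¹⁆ = t * ⁅x, y⁆ * t⁻¹ by simp only [commutatorElement_def]; group,
    h.gam_conj (h.fcomm x hx y hy)]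
  rfl

/-- The conjugates by two elements congruent modulo `W` agree modulo `F` for the pairing. -/
theorem beta_twist {w x u : T} (hw : w ∈ W) (hx : x ∈ W) (hu : u ∈ W) :
    beta w (u * x * u⁻¹) = beta w x := by
  have hf : ⁅u, x⁆ ∈ F := h.fcomm u hu x hx
  rw [show u * x * u⁻¹ = ⁅u, x⁆ * x by rw [commutatorElement_def]; group,
    h.beta_add' (h.fle hf) hx hw, h.beta_F hf hw, zero_add]

theorem sq_mul {x y : T} (hx : x ∈ W) (hy : y ∈ W) : sq (x * y) = sq x + sq y + beta x y := by
  have hc : x * ⁅y, x⁆ * x⁻¹ = ⁅y, x⁆ := by rw [← h.f_comm (h.fcomm y hy x hx) hx, mul_inv_cancel_right]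
  have he : x * y * (x * y) = ⁅y, x⁆ * ((x * x) * (y * y)) := by
    rw [← hc]; simp only [commutatorElement_def]; group
  rw [sq, he, h.gam_mul (h.fcomm y hy x hx) (F.mul_mem (h.fsq x hx) (h.fsq y hy)),
    h.gam_mul (h.fsq x hx) (h.fsq y hy), ← h.beta_symm hx hy]
  simp only [sq, beta]
  ring

/-- The basic facts about the centraliser of the second centre. -/
theorem exists_E : ∃ E : Subgroup T, W ≤ E ∧ E.Normal ∧ E.index = 2 ∧ (∀ e ∈ E, e * e ∈ W) ∧
    ∀ e ∈ E, e ∉ W → ∀ f ∈ F, e * f * e⁻¹ = f → f ∈ Subgroup.upperCentralSeries T 2 := by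
  obtain ⟨hF8, hidx, -, -, hF3, -, -⟩ := h.model
  obtain ⟨z₂, z₃, hz₂, hz₃, hz₃', hz₂', hgen⟩ := h.exists_gens
  have m23 := Subgroup.upperCentralSeries_mono T (show 2 ≤ 3 by omega)
  set E := Subgroup.centralizer ({z₂} : Set T) with hE
  have hWE : W ≤ E := fun w hw => Subgroup.mem_centralizer_singleton_iff.2 (h.z_comm (m23 hz₂) hw).symm
  have hfix2 : ∀ e ∈ E, ∀ z ∈ Subgroup.upperCentralSeries T 2, e * z = z * e := by
    intro e he z hz
    have hS : Subgroup.upperCentralSeries T 2 ≤ Subgroup.upperCentralSeries T 1 ⊔ Subgroup.closure ({z₂} : Set T) := by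
      have m12 := Subgroup.upperCentralSeries_mono T (show 1 ≤ 2 by omega)
      set S := Subgroup.upperCentralSeries T 1 ⊔ Subgroup.closure ({z₂} : Set T) with hS
      have hle : S ≤ Subgroup.upperCentralSeries T 2 := sup_le m12 ((Subgroup.closure_le _).2 (by rintro _ rfl; exact hz₂))
      obtain ⟨c, hc⟩ := Subgroup.card_dvd_of_le (le_sup_left : Subgroup.upperCentralSeries T 1 ≤ S)
      have hcS := Nat.card_pos (α := S)
      refine (Subgroup.eq_of_le_of_card_ge hle ?_).ge
      change Nat.card S = _ at hc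
      rw [h.card_ucs 1 (by omega)] at hc
      rw [h.card_ucs 2 (by omega)]
      simp only [pow_one, Nat.reducePow] at hc ⊢
      rcases c with _ | _ | c
      · omega
      · refine absurd ?_ hz₂'
        have heq := Subgroup.eq_of_le_of_card_ge (le_sup_left : Subgroup.upperCentralSeries T 1 ≤ S)
          (by rw [h.card_ucs 1 (by omega)]; simp only [pow_one]; exact le_of_eq hc |>.trans (by omega))
        exact heq ▸ Subgroup.mem_sup_right (Subgroup.subset_closure rfl)
      · omega
    have hsub : Subgroup.upperCentralSeries T 1 ⊔ Subgroup.closure ({z₂} : Set T) ≤ Subgroup.centralizer ({e} : Set T) := by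
      refine sup_le ?_ ((Subgroup.closure_le _).2 ?_)
      · rw [Subgroup.upperCentralSeries_one]
        intro z hz
        rw [Subgroup.mem_centralizer_singleton_iff]
        exact (Subgroup.mem_center_iff.1 hz e).symm
      · rintro _ rfl
        exact Subgroup.mem_centralizer_singleton_iff.2 (Subgroup.mem_centralizer_singleton_iff.1 he).symm
    exact (Subgroup.mem_centralizer_singleton_iff.1 (hsub (hS hz))).symm
  obtain ⟨z₁, hz₁, hz₁'⟩ : ∃ z ∈ Subgroup.upperCentralSeries T 1, z ≠ 1 := by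
    by_contra hn
    push Not at hn
    have := Subgroup.card_le_one_iff_eq_bot (Subgroup.upperCentralSeries T 1) |>.2 ((Subgroup.eq_bot_iff_forall _).2 hn)
    rw [h.card_ucs 1 (by omega)] at this
    omega
  obtain ⟨a, ha, -⟩ := h.index_le.2 hidx z₂ z₃ hz₂ hz₃ hgen z₁ hz₁ 1 (one_mem _)
  have hmemE : ∀ t : T, t ∈ E ↔ t * z₂ * t⁻¹ = z₂ := fun t => by
    rw [hE, Subgroup.mem_centralizer_singleton_iff, mul_inv_eq_iff_eq_mul]
  have hidxE : E.index = 2 := by
    rw [Subgroup.index_eq_two_iff']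
    refine ⟨a⁻¹, fun b => ?_⟩
    have hZ1 : ∀ c ∈ Subgroup.upperCentralSeries T 1, c = 1 ∨ c = z₁ := by
      intro c hc
      by_contra hn
      push Not at hn
      have h1 := h.card_ucs 1 (by omega)
      rw [pow_one, Nat.card_eq_two_iff' (1 : Subgroup.upperCentralSeries T 1)] at h1
      obtain ⟨y, -, hy⟩ := h1
      have e1 := hy ⟨c, hc⟩ fun hh => hn.1 (congrArg Subtype.val hh)
      have e2 := hy ⟨z₁, hz₁⟩ fun hh => hz₁' (congrArg Subtype.val hh)
      exact hn.2 (congrArg Subtype.val (e1.trans e2.symm))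
    set c := b * z₂ * b⁻¹ * z₂⁻¹ with hc
    have hb : b * z₂ * b⁻¹ = c * z₂ := by rw [hc, inv_mul_cancel_right]
    have key : a⁻¹ * b * z₂ * (a⁻¹ * b)⁻¹ = c * (z₁⁻¹ * z₂) := by
      have hzc : ∀ u ∈ Subgroup.upperCentralSeries T 1, ∀ t : T, t * u = u * t := by
        intro u hu t
        rw [Subgroup.upperCentralSeries_one] at hu
        exact Subgroup.mem_center_iff.1 hu t
      have ha' : a⁻¹ * z₂ * a = z₁⁻¹ * z₂ := by
        have : a⁻¹ * (z₁ * z₂) * a = z₂ := by rw [← ha]; group
        rw [← mul_assoc, hzc z₁ hz₁ a⁻¹, mul_assoc z₁, mul_assoc z₁] at this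
        exact eq_inv_mul_of_mul_eq this
      rw [show a⁻¹ * b * z₂ * (a⁻¹ * b)⁻¹ = a⁻¹ * (b * z₂ * b⁻¹) * a by group, hb,
        show a⁻¹ * (c * z₂) * a = a⁻¹ * c * (z₂ * a) by group, hzc c (h.comm_z b hz₂) a⁻¹, ← ha']
      group
    rw [hmemE, hmemE, key, hb]
    rcases hZ1 c (h.comm_z b hz₂) with e | e <;> rw [e]
    · refine Or.inr ⟨one_mul _, fun hh => hz₁' ?_⟩
      rw [one_mul] at hh
      exact inv_eq_one.1 (mul_eq_right.1 hh)
    · refine Or.inl ⟨mul_inv_cancel_left _ _, fun hh => hz₁' (mul_eq_right.1 hh)⟩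
  refine ⟨E, hWE, Subgroup.normal_of_index_eq_two hidxE, hidxE, fun e he => ?_, fun e he heW f hf hef => ?_⟩
  · refine h.mem_of_fix hgen ?_ ?_
    · exact (Subgroup.mem_centralizer_singleton_iff.1 (E.mul_mem he he)).symm
    · set c := e * z₃ * e⁻¹ * z₃⁻¹ with hc
      have hcz : c ∈ Subgroup.upperCentralSeries T 2 := h.comm_z e hz₃
      have h1 : e * z₃ = c * z₃ * e := by rw [hc]; group
      have h2 : c * c = 1 := h.f_elem (hF3 ▸ m23 hcz)
      calc z₃ * (e * e) = (c * c) * z₃ * (e * e) := by rw [h2, one_mul]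
        _ = c * (c * z₃ * e) * e := by group
        _ = c * (e * z₃) * e := by rw [h1]
        _ = e * c * z₃ * e := by rw [← mul_assoc c e, ← hfix2 e he c hcz]
        _ = e * (c * z₃ * e) := by group
        _ = _ := by rw [← h1, mul_assoc]
  · by_contra hfn
    apply heW
    refine h.mem_of_fix hgen (Subgroup.mem_centralizer_singleton_iff.1 he).symm ?_
    have h3 : z₃ ∈ F := hF3 ▸ hz₃
    have hm : f * z₃ ∈ Subgroup.upperCentralSeries T 2 :=
      (Subgroup.mul_mem_iff_of_index_two h.hidx2 (a := ⟨f, hf⟩) (b := ⟨z₃, h3⟩)).2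
        ⟨fun hh => absurd hh hfn, fun hh => absurd hh hz₃'⟩
    have hef' : e * f = f * e := mul_inv_eq_iff_eq_mul.1 hef
    have := hfix2 e he _ hm
    rw [← mul_assoc, hef', mul_assoc, mul_assoc] at this
    exact (mul_left_cancel this).symm

/-- The fixed vector is not in the radical of the pairing modulo the second centre. -/
theorem radical_false {M : Model T W F}
    (hR : ∀ w ∈ W, ⁅M.r, w⁆ ∈ Subgroup.upperCentralSeries T 2) : False := by
  classical
  obtain ⟨hF8, hidx, -, -, hF3, -, -⟩ := h.model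
  haveI hWn := h.wnormal
  haveI := h.fnormal
  obtain ⟨E, hWE, hEn, hEidx, hEsq, hEfix⟩ := h.exists_E
  have : Fintype (T ⧸ W) := Fintype.ofFinite _
  have hconjW : ∀ t w : T, w ∈ W → t * w * t⁻¹ ∈ W := fun t w hw => hWn.conj_mem w hw t
  have hconjW' : ∀ t w : T, w ∈ W → t⁻¹ * w * t ∈ W := fun t w hw => by simpa using hconjW t⁻¹ w hw
  choose sel hselW hsel using M.surj
  let δ : T ⧸ W → (T ⧸ W → ZMod 2) := fun q p => if p = q then 1 else 0
  set x₀ := sel (δ (QuotientGroup.mk 1)) with hx₀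
  have hx₀W : x₀ ∈ W := hselW _
  let xc : T → T := fun t => t⁻¹ * x₀ * t
  have hxcW : ∀ t, xc t ∈ W := fun t => hconjW' t _ hx₀W
  let phi : T → ZMod 2 := fun k => beta x₀ (xc k)
  have hbe : ∀ g k, beta (xc g) (xc k) = phi (k * g⁻¹) := by
    intro g k
    rw [← h.beta_conj (hxcW g) (hxcW k) g]
    simp only [phi, xc]
    congr 1 <;> group
  have hphiR : ∀ k, ∀ u ∈ W, phi (k * u) = phi k := by
    intro k u hu
    simp only [phi, xc]
    rw [show (k * u)⁻¹ * x₀ * (k * u) = u⁻¹ * (k⁻¹ * x₀ * k) * u⁻¹⁻¹ by group,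
      h.beta_twist hx₀W (hxcW k) (W.inv_mem hu)]
  have hphiL : ∀ k, ∀ u ∈ W, phi (u * k) = phi k := by
    intro k u hu
    rw [show u * k = k * (k⁻¹ * u * k) by group, hphiR k _ (hconjW' k u hu)]
  have hphi1 : ∀ e ∈ E, phi e = 0 := by
    intro e he
    simp only [phi, xc]
    by_cases heW : e ∈ W
    · rw [show e⁻¹ * x₀ * e = e⁻¹ * x₀ * e⁻¹⁻¹ by group, h.beta_twist hx₀W hx₀W (W.inv_mem heW)]
      rw [beta, commutatorElement_self, h.gam_one]
    · set y := e⁻¹ * x₀ * e with hy
      have hyW : y ∈ W := hxcW e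
      have hf := h.fcomm x₀ hx₀W y hyW
      have hee := W.inv_mem (hEsq e he)
      have hcomm : ∀ {a b c : T}, a ∈ W → b ∈ W → c ∈ F → ⁅a, b * c⁆ = ⁅a, b⁆ := by
        intro a b c ha hb hc
        rw [show ⁅a, b * c⁆ = ⁅a, b⁆ * (b * ⁅a, c⁆ * b⁻¹) by simp only [commutatorElement_def]; group,
          commutatorElement_eq_one_iff_mul_comm.2 (h.f_comm hc ha).symm]
        group
      have h2 : e⁻¹ * ⁅x₀, y⁆ * e⁻¹⁻¹ = ⁅y, x₀⁆ := by
        rw [show e⁻¹ * ⁅x₀, y⁆ * e⁻¹⁻¹ = ⁅y, e⁻¹ * y * e⁆ by simp [hy, commutatorElement_def, mul_assoc],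
          show e⁻¹ * y * e = (e * e)⁻¹ * x₀ * (e * e) by simp [hy, mul_assoc],
          show (e * e)⁻¹ * x₀ * (e * e) = x₀ * ⁅x₀⁻¹, (e * e)⁻¹⁆ by simp [commutatorElement_def, mul_assoc],
          hcomm hyW hx₀W (h.fcomm _ (W.inv_mem hx₀W) _ hee)]
      rw [← commutatorElement_inv x₀ y, inv_eq_of_mul_eq_one_right (h.f_elem hf)] at h2
      exact if_pos (hEfix e⁻¹ (E.inv_mem he) (fun hh => heW (W.inv_mem_iff.1 hh)) _ hf h2)
  -- functions and elements
  have hsame : ∀ {a b : T}, a ∈ W → b ∈ W → (∀ t, M.χ (t * a * t⁻¹) = M.χ (t * b * t⁻¹)) → a⁻¹ * b ∈ F := by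
    intro a b ha hb hab
    refine M.inj _ (W.mul_mem (W.inv_mem ha) hb) fun t => ?_
    have := M.chi_add _ (hconjW t a ha) _ (hconjW t _ (W.mul_mem (W.inv_mem ha) hb))
    rw [show t * a * t⁻¹ * (t * (a⁻¹ * b) * t⁻¹) = t * b * t⁻¹ by group, ← hab t] at this
    exact left_eq_add.1 this
  have hchi : ∀ t g : T, M.χ (g * xc t * g⁻¹) = δ (QuotientGroup.mk t) (QuotientGroup.mk g) := by
    intro t g
    simp only [xc]
    rw [show g * (t⁻¹ * x₀ * t) * g⁻¹ = g * t⁻¹ * x₀ * (g * t⁻¹)⁻¹ by group, hx₀, hsel]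
    have hiff : (QuotientGroup.mk (g * t⁻¹) : T ⧸ W) = QuotientGroup.mk 1 ↔
        (QuotientGroup.mk g : T ⧸ W) = QuotientGroup.mk t := by
      rw [QuotientGroup.mk_mul, QuotientGroup.mk_inv, QuotientGroup.mk_one, mul_inv_eq_one]
    simp only [δ, hiff]
  -- the generated subgroup is W
  set L := Subgroup.closure (Set.range xc ∪ (F : Set T)) with hLdef
  have hLW : L ≤ W := (Subgroup.closure_le _).2 (by
    rintro z (⟨t, rfl⟩ | hz)
    exacts [hxcW t, h.fle hz])
  have hxL : ∀ t, xc t ∈ L := fun t => Subgroup.subset_closure (Or.inl ⟨t, rfl⟩)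
  have hFL : ∀ f ∈ F, f ∈ L := fun f hf => Subgroup.subset_closure (Or.inr hf)
  have hL : ∀ u, sel u ∈ L := by
    have hadd' : ∀ u v, sel u ∈ L → sel v ∈ L → sel (u + v) ∈ L := by
      intro u v hu hv
      have := hsame (W.mul_mem (hselW u) (hselW v)) (hselW (u + v)) fun t => by
        rw [show t * (sel u * sel v) * t⁻¹ = t * sel u * t⁻¹ * (t * sel v * t⁻¹) by group,
          M.chi_add _ (hconjW t _ (hselW u)) _ (hconjW t _ (hselW v)), hsel, hsel, hsel]
        rfl
      have h2 := L.mul_mem (L.mul_mem hu hv) (hFL _ this)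
      rwa [mul_inv_cancel_left] at h2
    have hd : ∀ q, sel (δ q) ∈ L := by
      intro q
      obtain ⟨t, rfl⟩ := QuotientGroup.mk_surjective q
      have := hsame (hxcW t) (hselW (δ (QuotientGroup.mk t))) fun g => by rw [hchi, hsel]
      have h2 := L.mul_mem (hxL t) (hFL _ this)
      rwa [mul_inv_cancel_left] at h2
    have h0 : sel 0 ∈ L := by
      refine hFL _ (M.inj _ (hselW 0) fun t => ?_)
      rw [hsel]; rfl
    intro u
    have hu : u = ∑ q ∈ Finset.univ.filter (fun q => u q = 1), δ q := by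
      funext p
      rw [Finset.sum_apply, Finset.sum_ite_eq]
      simp only [Finset.mem_filter, Finset.mem_univ, true_and]
      have : u p = 0 ∨ u p = 1 := (show ∀ a : ZMod 2, a = 0 ∨ a = 1 by decide) _
      rcases this with e | e <;> simp [e]
    rw [hu]
    refine Finset.sum_induction _ (fun w => sel w ∈ L) hadd' h0 fun q _ => hd q
  have hWL : W ≤ L := fun w hw => by
    have := hsame hw (hselW fun q => M.χ (q.out * w * q.out⁻¹)) fun t => by
      rw [hsel]
      obtain ⟨v, hv, hvt⟩ : ∃ v ∈ W, t = (QuotientGroup.mk t : T ⧸ W).out * v := by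
        refine ⟨(QuotientGroup.mk t : T ⧸ W).out⁻¹ * t, ?_, by group⟩
        rw [← QuotientGroup.eq, QuotientGroup.out_eq']
      conv_lhs => rw [hvt, M.chi_coset _ v hv _ hw]
    simpa using L.mul_mem (hL fun q => M.χ (q.out * w * q.out⁻¹)) (L.inv_mem (hFL _ this))
  -- the sum of phi over the complement of E vanishes
  have hphiq : ∀ k, phi (QuotientGroup.mk k : T ⧸ W).out = phi k := by
    intro k
    have hv : k⁻¹ * (QuotientGroup.mk k : T ⧸ W).out ∈ W := by
      rw [← QuotientGroup.eq, QuotientGroup.out_eq']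
    have := hphiR k _ hv
    rwa [mul_inv_cancel_left] at this
  let ell : (T ⧸ W → ZMod 2) →+ ZMod 2 :=
    { toFun := fun u => beta x₀ (sel u)
      map_zero' := h.beta_F (M.inj _ (hselW 0) fun t => by rw [hsel]; rfl) hx₀W
      map_add' := fun u v => by
        have hf := hsame (W.mul_mem (hselW u) (hselW v)) (hselW (u + v)) fun t => by
          rw [show t * (sel u * sel v) * t⁻¹ = t * sel u * t⁻¹ * (t * sel v * t⁻¹) by group,
            M.chi_add _ (hconjW t _ (hselW u)) _ (hconjW t _ (hselW v)), hsel, hsel, hsel]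
          rfl
        have := h.beta_add' (W.mul_mem (hselW u) (hselW v)) (h.fle hf) hx₀W
        rw [mul_inv_cancel_left, h.beta_F hf hx₀W, add_zero, h.beta_add' (hselW u) (hselW v) hx₀W] at this
        exact this }
  have hsum : ∑ q : T ⧸ W, phi q.out = 0 := by
    have h1 : ∀ q, ell (δ q) = phi q.out := by
      intro q
      have hf := hsame (hxcW q.out) (hselW (δ q)) fun g => by rw [hchi, hsel, QuotientGroup.out_eq']
      have := h.beta_add' (hxcW q.out) (h.fle hf) hx₀W
      rw [mul_inv_cancel_left, h.beta_F hf hx₀W, add_zero] at this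
      exact this
    simp only [← h1, ← map_sum]
    have hone : (∑ q : T ⧸ W, δ q) = fun _ => 1 := by
      funext p
      rw [Finset.sum_apply, Finset.sum_ite_eq]
      simp
    rw [hone]
    have hf := hsame M.rW (hselW fun _ => 1) fun t => by rw [hsel, M.chi_conj]
    have := h.beta_add' M.rW (h.fle hf) hx₀W
    rw [mul_inv_cancel_left, h.beta_F hf hx₀W, add_zero] at this
    refine this.trans ?_
    rw [← h.beta_symm hx₀W M.rW]
    exact if_pos (hR x₀ hx₀W)
  set E' := E.map (QuotientGroup.mk' W) with hE'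
  have hmemE' : ∀ t, (QuotientGroup.mk t : T ⧸ W) ∈ E' ↔ t ∈ E := by
    intro t
    constructor
    · rintro ⟨e, he, het⟩
      have := hWE (QuotientGroup.eq.1 het)
      simpa using E.mul_mem he this
    · exact fun ht => ⟨t, ht, rfl⟩
  set C := Finset.univ.filter (fun q : T ⧸ W => q ∉ E') with hC
  have hCcard : C.card = 4 := by
    have hi : E'.index = 2 := by
      rw [hE', Subgroup.index_map_eq _ (QuotientGroup.mk'_surjective W) (by rwa [QuotientGroup.ker_mk']), hEidx]
    have h1 := Subgroup.card_mul_index E'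
    rw [hi, show Nat.card (T ⧸ W) = 8 from hidx] at h1
    have h2 : Nat.card (T ⧸ W) = 8 := hidx
    have h3 := Finset.card_filter_add_card_filter_not (s := (Finset.univ : Finset (T ⧸ W))) (fun q => q ∈ E')
    rw [Finset.card_univ, ← Nat.card_eq_fintype_card, h2,
      show (Finset.univ.filter fun q => q ∈ E').card = Nat.card E' by
        rw [← Nat.card_eq_finsetCard]; exact Nat.card_congr (Equiv.subtypeEquivRight (by simp))] at h3
    rw [hC]
    omega
  have hCsum : ∑ q ∈ C, phi q.out = 0 := by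
    have h3 := Finset.sum_filter_add_sum_filter_not (Finset.univ : Finset (T ⧸ W)) (fun q => q ∈ E') fun q => phi q.out
    rw [hsum, Finset.sum_eq_zero (s := Finset.univ.filter fun q => q ∈ E'), zero_add] at h3
    · exact h3
    · intro q hq
      refine hphi1 _ ((hmemE' _).1 ?_)
      rw [QuotientGroup.out_eq']
      exact (Finset.mem_filter.1 hq).2
  have z2 : ∀ a : ZMod 2, a + a = 0 := by decide
  -- the key vanishing
  have key : ∀ k, ∀ e ∈ E, ∀ f ∈ E, phi k + phi (f * k) + (phi (k * e⁻¹) + phi (f * k * e⁻¹)) = 0 := by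
    intro k e he f hf
    by_cases hk : k ∈ E
    · rw [hphi1 _ hk, hphi1 _ (E.mul_mem hf hk), hphi1 _ (E.mul_mem hk (E.inv_mem he)),
        hphi1 _ (E.mul_mem (E.mul_mem hf hk) (E.inv_mem he))]
      rfl
    set e' := k * e⁻¹ * k⁻¹ with he'
    have he'E : e' ∈ E := hEn.conj_mem _ (E.inv_mem he) k
    rw [show k * e⁻¹ = e' * k by rw [he']; group, show f * k * e⁻¹ = f * e' * k by rw [he']; group]
    by_cases hfW : f ∈ W
    · rw [hphiL k f hfW, show f * e' * k = f * (e' * k) by group, hphiL _ f hfW, z2, z2, add_zero]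
    by_cases heW : e' ∈ W
    · rw [hphiL k e' heW, show f * e' * k = f * k * (k⁻¹ * e' * k) by group,
        hphiR _ _ (hconjW' k e' heW)]
      linear_combination z2 (phi k) + z2 (phi (f * k))
    by_cases hfe : f⁻¹ * e' ∈ W
    · rw [show e' * k = f * k * (k⁻¹ * (f⁻¹ * e') * k) by group, hphiR _ _ (hconjW' k _ hfe),
        hphiL k (f * e') (by rw [show f * e' = f * f * (f⁻¹ * e') by group]; exact W.mul_mem (hEsq f hf) hfe)]
      linear_combination z2 (phi k) + z2 (phi (f * k))
    have hnm : ∀ x, x ∈ E → (QuotientGroup.mk (x * k) : T ⧸ W) ∈ C := by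
      intro x hx
      rw [hC, Finset.mem_filter, hmemE']
      exact ⟨Finset.mem_univ _, fun hh => hk ((E.mul_mem_cancel_left hx).1 hh)⟩
    have hne : ∀ x y : T, x⁻¹ * y ∉ W → (QuotientGroup.mk (x * k) : T ⧸ W) ≠ QuotientGroup.mk (y * k) := by
      intro x y hxy hh
      apply hxy
      have := hconjW k _ (QuotientGroup.eq.1 hh)
      simpa [mul_assoc] using this
    have hfe' : f * e' ∉ W := fun hh => hfe (by
      rw [show f⁻¹ * e' = (f * f)⁻¹ * (f * e') by group]
      exact W.mul_mem (W.inv_mem (hEsq f hf)) hh)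
    have n1 := hne 1 f (by simpa using hfW)
    have n2 := hne 1 e' (by simpa using heW)
    have n3 := hne 1 (f * e') (by simpa using hfe')
    have n4 := hne f e' hfe
    have n5 := hne f (f * e') (by simpa using heW)
    have n6 := hne e' (f * e') (fun hh => hfW (by
      have := hconjW e' _ hh
      rw [show e' * (e'⁻¹ * (f * e')) * e'⁻¹ = f by group] at this
      exact this))
    rw [one_mul] at n1 n2 n3
    have hset : ({QuotientGroup.mk k, QuotientGroup.mk (f * k), QuotientGroup.mk (e' * k),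
        QuotientGroup.mk (f * e' * k)} : Finset (T ⧸ W)) = C := by
      refine Finset.eq_of_subset_of_card_le ?_ ?_
      · intro q hq
        simp only [Finset.mem_insert, Finset.mem_singleton] at hq
        rcases hq with rfl | rfl | rfl | rfl
        · simpa using hnm 1 E.one_mem
        · exact hnm f hf
        · exact hnm e' he'E
        · exact hnm _ (E.mul_mem hf he'E)
      · rw [hCcard, Finset.card_insert_of_notMem (by simp only [Finset.mem_insert, Finset.mem_singleton, not_or]; exact ⟨n1, n2, n3⟩),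
          Finset.card_insert_of_notMem (by simp only [Finset.mem_insert, Finset.mem_singleton, not_or]; exact ⟨n4, n5⟩), Finset.card_insert_of_notMem (by simp only [Finset.mem_singleton]; exact n6),
          Finset.card_singleton]
    rw [← hset, Finset.sum_insert (by simp only [Finset.mem_insert, Finset.mem_singleton, not_or]; exact ⟨n1, n2, n3⟩), Finset.sum_insert (by simp only [Finset.mem_insert, Finset.mem_singleton, not_or]; exact ⟨n4, n5⟩),
      Finset.sum_insert (by simp only [Finset.mem_singleton]; exact n6), Finset.sum_singleton, hphiq, hphiq, hphiq, hphiq] at hCsum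
    linear_combination hCsum
  -- the large subgroup
  set S : Set T := {z | ∃ g, ∃ e ∈ E, z = xc g * xc (e * g)} ∪ (F : Set T) with hSdef
  set K := Subgroup.closure S with hKdef
  have hSW : S ⊆ (W : Set T) := by
    rintro z (⟨g, e, he, rfl⟩ | hz)
    exacts [W.mul_mem (hxcW _) (hxcW _), h.fle hz]
  have hKW : K ≤ W := (Subgroup.closure_le _).2 hSW
  have hFK : F ≤ K := fun f hf => Subgroup.subset_closure (Or.inr hf)
  have hSS : ∀ a ∈ S, ∀ b ∈ S, beta a b = 0 := by
    rintro a (⟨g, e, he, rfl⟩ | ha) b (⟨k, f, hf, rfl⟩ | hb)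
    · rw [h.beta_add (hxcW _) (hxcW _) (W.mul_mem (hxcW _) (hxcW _)), h.beta_add' (hxcW _) (hxcW _) (hxcW _),
        h.beta_add' (hxcW _) (hxcW _) (hxcW _), hbe, hbe, hbe, hbe,
        show f * k * g⁻¹ = f * (k * g⁻¹) by group, show k * (e * g)⁻¹ = k * g⁻¹ * e⁻¹ by group,
        show f * k * (e * g)⁻¹ = f * (k * g⁻¹) * e⁻¹ by group]
      exact key _ e he f hf
    · exact h.beta_F hb (W.mul_mem (hxcW _) (hxcW _))
    · rw [← h.beta_symm (h.fle ha) (W.mul_mem (hxcW _) (hxcW _))]
      exact h.beta_F ha (W.mul_mem (hxcW _) (hxcW _))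
    · exact h.beta_F hb (h.fle ha)
  have hKK : ∀ a ∈ K, ∀ b ∈ K, beta a b = 0 := by
    intro a ha b hb
    induction ha, hb using Subgroup.closure_induction₂ with
    | mem x y hx hy => exact hSS x hx y hy
    | one_left x hx => rw [beta, commutatorElement_one_left, h.gam_one]
    | one_right x hx => rw [beta, commutatorElement_one_right, h.gam_one]
    | mul_left x y z hx hy hz ix iy => rw [h.beta_add (hKW hx) (hKW hy) (hKW hz), ix, iy, add_zero]
    | mul_right x y z hx hy hz ix iy => rw [h.beta_add' (hKW hx) (hKW hy) (hKW hz), ix, iy, add_zero]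
    | inv_left x y hx hy ih =>
      have := h.beta_add (hKW hx) (W.inv_mem (hKW hx)) (hKW hy)
      rw [mul_inv_cancel, beta, commutatorElement_one_left, h.gam_one, ih, zero_add] at this
      exact this.symm
    | inv_right x y hx hy ih =>
      have := h.beta_add' (hKW hy) (W.inv_mem (hKW hy)) (hKW hx)
      rw [mul_inv_cancel, beta, commutatorElement_one_right, h.gam_one, ih, zero_add] at this
      exact this.symm
  have hsqK : ∀ a ∈ K, sq a = 0 := by
    intro a ha
    induction ha using Subgroup.closure_induction with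
    | mem x hx =>
      rcases hx with ⟨g, e, he, rfl⟩ | hx
      · have hs : ∀ t, sq (xc t) = sq x₀ := by
          intro t
          simp only [sq, xc]
          rw [show t⁻¹ * x₀ * t * (t⁻¹ * x₀ * t) = t⁻¹ * (x₀ * x₀) * t⁻¹⁻¹ by group,
            h.gam_conj (h.fsq x₀ hx₀W)]
        rw [h.sq_mul (hxcW _) (hxcW _), hs, hs, z2, hbe, show e * g * g⁻¹ = e by group, hphi1 e he, add_zero]
      · rw [sq, h.f_elem hx, h.gam_one]
    | one => rw [sq, one_mul, h.gam_one]
    | mul x y hx hy ix iy => rw [h.sq_mul (hKW hx) (hKW hy), ix, iy, hKK x hx y hy]; rfl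
    | inv x hx ix =>
      have := h.sq_mul (hKW hx) (W.inv_mem (hKW hx))
      rw [mul_inv_cancel, hKK x hx _ (K.inv_mem hx), ix, sq, one_mul, h.gam_one, zero_add, add_zero] at this
      exact this.symm
  obtain ⟨a, ha⟩ : ∃ a, a ∉ E := by
    by_contra hn
    push Not at hn
    rw [(Subgroup.eq_top_iff' E).2 hn, Subgroup.index_top] at hEidx
    omega
  have hcov : K.relIndex W ≤ ({1, xc 1, xc a, xc 1 * xc a} : Finset T).card := by
    refine relIndex_le_of_cover _ fun w hw => ?_
    have hw' := hWL hw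
    -- products with the two representatives
    have hnorm : ∀ x ∈ W, ∀ y ∈ K, x * y * x⁻¹ ∈ K := fun x hx y hy => by
      rw [show x * y * x⁻¹ = ⁅x, y⁆ * y by rw [commutatorElement_def]; group]
      exact K.mul_mem (hFK (h.fcomm x hx y (hKW hy))) hy
    haveI hKn : (K.subgroupOf W).Normal := ⟨fun y hy x => by
      rw [Subgroup.mem_subgroupOf] at hy ⊢
      exact hnorm x x.2 y hy⟩
    let π := QuotientGroup.mk' (K.subgroupOf W)
    have hπ : ∀ {x : W}, π x = 1 ↔ (x : T) ∈ K := fun {x} => by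
      rw [QuotientGroup.mk'_apply, QuotientGroup.eq_one_iff, Subgroup.mem_subgroupOf]
    have hcm : ∀ x y : W ⧸ K.subgroupOf W, x * y = y * x := by
      intro x y
      obtain ⟨x, rfl⟩ := QuotientGroup.mk'_surjective _ x
      obtain ⟨y, rfl⟩ := QuotientGroup.mk'_surjective _ y
      rw [← commutatorElement_eq_one_iff_mul_comm, ← map_commutatorElement]
      exact hπ.2 (hFK (h.fcomm _ x.2 _ y.2))
    have hsq : ∀ x : W ⧸ K.subgroupOf W, x * x = 1 := by
      intro x
      obtain ⟨x, rfl⟩ := QuotientGroup.mk'_surjective _ x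
      rw [← map_mul]
      exact hπ.2 (hFK (h.fsq _ x.2))
    set A := π ⟨xc 1, hxcW 1⟩ with hA
    set B := π ⟨xc a, hxcW a⟩ with hB
    let P : Subgroup (W ⧸ K.subgroupOf W) :=
      { carrier := {x | x = 1 ∨ x = A ∨ x = B ∨ x = A * B}
        one_mem' := Or.inl rfl
        mul_mem' := by
          have hr : ∀ x y : W ⧸ K.subgroupOf W, x * (x * y) = y := fun x y => by rw [← mul_assoc, hsq, one_mul]
          have hl : ∀ x y : W ⧸ K.subgroupOf W, (x * y) * y = x := fun x y => by rw [mul_assoc, hsq, mul_one]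
          rintro x y (rfl | rfl | rfl | rfl) (rfl | rfl | rfl | rfl) <;>
            simp [hsq, hr, hl, hcm B A, hcm (A * B) A, hcm B (A * B)]
        inv_mem' := by
          intro x hx
          rwa [inv_eq_of_mul_eq_one_right (hsq x)] }
    have hP : ∀ x ∈ L, ∀ hxW : x ∈ W, π ⟨x, hxW⟩ ∈ P := by
      intro x hx
      induction hx using Subgroup.closure_induction with
      | mem x hx =>
        intro hxW
        rcases hx with ⟨t, rfl⟩ | hx
        · by_cases ht : t ∈ E
          · refine Or.inr (Or.inl ?_)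
            have hh : π ⟨xc 1, hxcW 1⟩ * π ⟨xc t, hxW⟩ = 1 := by
              rw [← map_mul]
              refine hπ.2 (Subgroup.subset_closure (Or.inl ⟨1, t, ht, ?_⟩))
              rw [mul_one]; rfl
            rw [← inv_eq_of_mul_eq_one_right hh, inv_eq_of_mul_eq_one_right (hsq _)]
          · refine Or.inr (Or.inr (Or.inl ?_))
            have hh : π ⟨xc a, hxcW a⟩ * π ⟨xc t, hxW⟩ = 1 := by
              rw [← map_mul]
              refine hπ.2 (Subgroup.subset_closure (Or.inl ⟨a, t * a⁻¹, ?_, ?_⟩))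
              · rw [Subgroup.mul_mem_iff_of_index_two hEidx, E.inv_mem_iff]
                exact ⟨fun hh => absurd hh ht, fun hh => absurd hh ha⟩
              · rw [inv_mul_cancel_right]; rfl
            rw [← inv_eq_of_mul_eq_one_right hh, inv_eq_of_mul_eq_one_right (hsq _)]
        · exact Or.inl (hπ.2 (hFK hx))
      | one => exact fun hxW => Or.inl (hπ.2 K.one_mem)
      | mul x y hx hy ix iy =>
        intro hxy
        rw [show (⟨x * y, hxy⟩ : W) = ⟨x, hLW hx⟩ * ⟨y, hLW hy⟩ from rfl, map_mul]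
        exact P.mul_mem (ix _) (iy _)
      | inv x hx ix =>
        intro hxi
        rw [show (⟨x⁻¹, hxi⟩ : W) = (⟨x, hLW hx⟩ : W)⁻¹ from rfl, map_inv]
        exact P.inv_mem (ix _)
    rcases hP w hw' hw with e | e | e | e
    · exact ⟨1, by simp, by rw [mul_one]; exact hπ.1 e⟩
    · refine ⟨xc 1, by simp, (hπ (x := ⟨w, hw⟩ * ⟨xc 1, hxcW 1⟩)).1 ?_⟩
      rw [map_mul, e, hsq]
    · refine ⟨xc a, by simp, (hπ (x := ⟨w, hw⟩ * ⟨xc a, hxcW a⟩)).1 ?_⟩
      rw [map_mul, e, hsq]
    · refine ⟨xc 1 * xc a, by simp, (hπ (x := ⟨w, hw⟩ * (⟨xc 1, hxcW 1⟩ * ⟨xc a, hxcW a⟩))).1 ?_⟩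
      rw [map_mul, map_mul, e, hsq]
  have hb0 : ∀ f ∈ F, gam f = 0 → f ∈ Subgroup.upperCentralSeries T 2 := by
    intro f _ hf
    by_contra hn
    rw [gam, if_neg hn] at hf
    exact one_ne_zero hf
  refine h.no_elem hKW hFK ?_ (fun x hx y hy => hb0 _ (h.fcomm x (hKW hx) y (hKW hy)) (hKK x hx y hy))
    (fun x hx => hb0 _ (h.fsq x (hKW hx)) (hsqK x hx))
  refine hcov.trans ((Finset.card_le_four).trans (by norm_num))

end Hyp

end Cfsg.Agent.ZFour
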