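/-
2-groups whose fourth centre has order sixteen: the structure theorem.
-/
import Cfsg.Agent.Lib.TwoGroups.ZFourForm
import Cfsg.Agent.Lib.Solvable.NilpotentFrattini

set_option autoImplicit false

namespace Cfsg.Agent.ZFour

open scoped commutatorElement

variable {T : Type*} [Group T] [Finite T] {W F : Subgroup T}

/-- The standing hypotheses from those on the Frattini subgroup of `W`. -/
theorem of_frattini (hT : IsPGroup 2 T) (ha : 2 ^ 14 ≤ Nat.card T)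
    (hb : Nat.card (Subgroup.upperCentralSeries T 4) = 16)
    (hW : W = Subgroup.centralizer (Subgroup.upperCentralSeries T 3 : Set T))
    (hc : Nat.card (frattini W) ≤ 8) (hd : ∀ U : Subgroup W, U.index ≤ 16 → frattini W ≤ U) :
    Hyp T W ((frattini W).map W.subtype) := by
  haveI : Fact (Nat.Prime 2) := ⟨Nat.prime_two⟩
  haveI : W.Normal := hW ▸ Subgroup.normal_centralizer
  have hWp := hT.to_subgroup W
  haveI : Group.IsNilpotent W := hWp.isNilpotent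
  refine ⟨hT, ha, hb, hW, Subgroup.map_subtype_le _, inferInstance, fun x hx => ?_, fun x hx y hy => ?_, ?_, fun U hU hi => ?_⟩
  · exact ⟨⟨x, hx⟩ ^ 2, Cfsg.Agent.PGroupBasics.pow_mem_frattini hWp _, by simp [pow_two]⟩
  · exact ⟨⁅(⟨x, hx⟩ : W), ⟨y, hy⟩⁆, Cfsg.Agent.SolvStruct.commutator_le_frattini W
      (Subgroup.commutator_mem_commutator (Subgroup.mem_top _) (Subgroup.mem_top _)), rfl⟩
  · exact (Subgroup.card_map_of_injective W.subtype_injective).trans_le hc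
  · exact (Subgroup.map_mono (hd (U.subgroupOf W) hi)).trans
      (by rw [Subgroup.subgroupOf_map_subtype]; exact inf_le_left)

/-- The elements of `W` fixed modulo `F` by a set. -/
def fixMod (h : Hyp T W F) (S : Set T) : Subgroup T where
  carrier := {x | x ∈ W ∧ ∀ t ∈ S, ⁅x, t⁆ ∈ F}
  one_mem' := ⟨W.one_mem, fun t _ => by rw [commutatorElement_one_left]; exact F.one_mem⟩
  mul_mem' {x y} hx hy := ⟨W.mul_mem hx.1 hy.1, fun t ht => by
    rw [show ⁅x * y, t⁆ = x * ⁅y, t⁆ * x⁻¹ * ⁅x, t⁆ by simp only [commutatorElement_def]; group]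
    exact F.mul_mem (h.fnormal.conj_mem _ (hy.2 t ht) x) (hx.2 t ht)⟩
  inv_mem' {x} hx := ⟨W.inv_mem hx.1, fun t ht => by
    rw [show ⁅x⁻¹, t⁆ = x⁻¹ * ⁅x, t⁆⁻¹ * x⁻¹⁻¹ by simp only [commutatorElement_def]; group]
    exact h.fnormal.conj_mem _ (F.inv_mem (hx.2 t ht)) _⟩

namespace Hyp

variable (h : Hyp T W F)
include h

/-- Commutators with the fixed vector multiply. -/
theorem comm_mul {x w v : T} (hx : x ∈ W) (hw : w ∈ W) (hv : v ∈ W) : ⁅x, w * v⁆ = ⁅x, w⁆ * ⁅x, v⁆ := by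
  rw [show ⁅x, w * v⁆ = ⁅x, w⁆ * (w * ⁅x, v⁆ * w⁻¹) by simp only [commutatorElement_def]; group,
    ← h.f_comm (h.fcomm x hx v hv) hw, mul_inv_cancel_right]

theorem f_inv {f : T} (hf : f ∈ F) : f⁻¹ = f := inv_eq_of_mul_eq_one_right (h.f_elem hf)

theorem onto (M : Model T W F) : ∀ f ∈ F, ∃ w ∈ W, ⁅M.r, w⁆ = f := by
  let I : Subgroup T :=
    { carrier := {f | ∃ w ∈ W, ⁅M.r, w⁆ = f}
      one_mem' := ⟨1, W.one_mem, commutatorElement_one_right _⟩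
      mul_mem' := by
        rintro _ _ ⟨w, hw, rfl⟩ ⟨v, hv, rfl⟩
        exact ⟨w * v, W.mul_mem hw hv, h.comm_mul M.rW hw hv⟩
      inv_mem' := by
        rintro _ ⟨w, hw, rfl⟩
        exact ⟨w, hw, (h.f_inv (h.fcomm _ M.rW w hw)).symm⟩ }
  have hIF : I ≤ F := by
    rintro _ ⟨w, hw, rfl⟩
    exact h.fcomm _ M.rW w hw
  have hIn : I.Normal := ⟨by
    rintro _ ⟨w, hw, rfl⟩ t
    have hw' : t * w * t⁻¹ ∈ W := h.wnormal.conj_mem w hw t
    refine ⟨t * w * t⁻¹, hw', ?_⟩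
    have hc := h.fle (F.inv_mem (M.rfix t))
    rw [show t * ⁅M.r, w⁆ * t⁻¹ = ⁅⁅M.r, t⁆⁻¹ * M.r, t * w * t⁻¹⁆ by simp only [commutatorElement_def]; group,
      show ⁅⁅M.r, t⁆⁻¹ * M.r, t * w * t⁻¹⁆ = ⁅M.r, t⁆⁻¹ * ⁅M.r, t * w * t⁻¹⁆ * ⁅M.r, t⁆⁻¹⁻¹ * ⁅⁅M.r, t⁆⁻¹, t * w * t⁻¹⁆ by
        simp only [commutatorElement_def]; group,
      commutatorElement_eq_one_iff_mul_comm.2 (h.f_comm (F.inv_mem (M.rfix t)) hw'), mul_one,
      h.f_comm (F.inv_mem (M.rfix t)) (h.fle (h.fcomm _ M.rW _ hw')), mul_inv_cancel_right]⟩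
  obtain ⟨hF8, -, -, -, -, -, -⟩ := h.model
  intro f hf
  by_contra hn
  have hne : I ≠ F := fun e => hn (e.ge hf)
  obtain ⟨c, hc⟩ := Subgroup.card_dvd_of_le hIF
  rw [hF8] at hc
  have h4 : Nat.card I ≤ 4 := by
    rcases c with _ | _ | c
    · omega
    · exact absurd (Subgroup.eq_of_le_of_card_ge hIF (by omega)) hne
    · have : Nat.card I * 2 ≤ Nat.card I * (c + 1 + 1) := Nat.mul_le_mul_left _ (by omega)
      omega
  exact h.radical_false (M := M) fun w hw => le_ucs h.two 2 I hIn h4 ⟨w, hw, rfl⟩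

theorem central_mem {x : T} (hx : x ∈ W) (hc : ∀ w ∈ W, x * w = w * x) : x ∈ F := by
  obtain ⟨-, -, -, -, -, -, M, -⟩ := h.model
  haveI := h.wnormal
  haveI := h.fnormal
  haveI := h.nilpotent
  by_contra hxF
  obtain ⟨y, ⟨hyW, hyC⟩, hyF, hyfix⟩ := exists_layer F (N := W ⊓ Subgroup.centralizer (W : Set T)) inferInstance
    (fun hle => hxF (hle ⟨hx, Subgroup.mem_centralizer_iff.2 fun w hw => (hc w hw).symm⟩))
  rcases M.fix y hyW hyfix with hh | hh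
  · exact hyF hh
  refine h.radical_false (M := M) fun w hw => ?_
  rw [commutatorElement_eq_one_iff_mul_comm.2]
  · exact one_mem _
  have h1 : y * w = w * y := (Subgroup.mem_centralizer_iff.1 hyC w hw).symm
  have h2 := h.f_comm hh hw
  apply mul_left_cancel (a := y)
  rw [← mul_assoc, h2, ← mul_assoc, ← mul_assoc, h1]

theorem center_map : (Subgroup.center W).map W.subtype = F := by
  refine le_antisymm ?_ fun f hf => ?_
  · rintro _ ⟨x, hx, rfl⟩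
    exact h.central_mem x.2 fun w hw => (congrArg Subtype.val (Subgroup.mem_center_iff.1 hx ⟨w, hw⟩)).symm
  · exact ⟨⟨f, h.fle hf⟩, Subgroup.mem_center_iff.2 fun w => Subtype.ext (h.f_comm hf w.2).symm, rfl⟩

theorem exists_dihedral [W.Normal] : ∃ x : T ⧸ W, orderOf x = 4 ∧
    Nonempty (T ⧸ W ≃* DihedralGroup 4) := by
  obtain ⟨hF8, hidx, -, -, hF3, -, -⟩ := h.model
  obtain ⟨z₂, z₃, hz₂, hz₃, hz₃', hz₂', hgen⟩ := h.exists_gens
  have m12 := Subgroup.upperCentralSeries_mono T (show 1 ≤ 2 by omega)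
  have m23 := Subgroup.upperCentralSeries_mono T (show 2 ≤ 3 by omega)
  obtain ⟨z₁, hz₁, hz₁'⟩ : ∃ z ∈ Subgroup.upperCentralSeries T 1, z ≠ 1 := by
    by_contra hn
    push Not at hn
    have := Subgroup.card_le_one_iff_eq_bot (Subgroup.upperCentralSeries T 1) |>.2 ((Subgroup.eq_bot_iff_forall _).2 hn)
    rw [h.card_ucs 1 (by omega)] at this
    omega
  obtain ⟨a, ha2, ha3⟩ := h.index_le.2 hidx z₂ z₃ hz₂ hz₃ hgen z₁ hz₁ 1 (one_mem _)
  obtain ⟨b, hb2, hb3⟩ := h.index_le.2 hidx z₂ z₃ hz₂ hz₃ hgen 1 (one_mem _) z₂ hz₂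
  rw [one_mul] at ha3 hb2
  have hz1c : ∀ t : T, t * z₁ * t⁻¹ = z₁ := fun t => by
    rw [Subgroup.upperCentralSeries_one] at hz₁
    rw [Subgroup.mem_center_iff.1 hz₁ t, mul_inv_cancel_right]
  have s1 : z₁ * z₁ = 1 := h.f_elem (hF3 ▸ m23 (m12 hz₁))
  have s2 : z₂ * z₂ = 1 := h.f_elem (hF3 ▸ m23 hz₂)
  have hcm : ∀ t x y : T, t * (x * y) * t⁻¹ = t * x * t⁻¹ * (t * y * t⁻¹) := fun t x y => by group
  have hcomp : ∀ s t x : T, s * t * x * (s * t)⁻¹ = s * (t * x * t⁻¹) * s⁻¹ := fun s t x => by group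
  have inW : ∀ t : T, t * z₂ * t⁻¹ = z₂ → t * z₃ * t⁻¹ = z₃ → t ∈ W := fun t e2 e3 =>
    h.mem_of_fix hgen (mul_inv_eq_iff_eq_mul.1 e2).symm (mul_inv_eq_iff_eq_mul.1 e3).symm
  have c12 : z₂ * z₁ = z₁ * z₂ := h.z_comm (m23 hz₂) (h.fle (by rw [hF3]; exact m23 (m12 hz₁)))
  have s12 : z₁ * (z₂ * (z₁ * z₂)) = 1 :=
    calc z₁ * (z₂ * (z₁ * z₂)) = z₁ * (z₂ * z₁) * z₂ := by group
      _ = z₁ * (z₁ * z₂) * z₂ := by rw [c12]
      _ = z₁ * z₁ * (z₂ * z₂) := by group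
      _ = 1 := by rw [s1, s2, one_mul]
  have haa : a * a ∈ W := inW _ (by rw [hcomp, ha2, hcm, hz1c, ha2, ← mul_assoc, s1, one_mul]) (by rw [hcomp, ha3, ha3])
  have hbb : b * b ∈ W := inW _ (by rw [hcomp, hb2, hb2]) (by rw [hcomp, hb3, hcm, hb2, hb3, ← mul_assoc, s2, one_mul])
  have hc2 : a * b * z₂ * (a * b)⁻¹ = z₁ * z₂ := by rw [hcomp, hb2, ha2]
  have hc3 : a * b * z₃ * (a * b)⁻¹ = z₁ * z₂ * z₃ := by rw [hcomp, hb3, hcm, ha2, ha3]
  have hd2 : a * b * (a * b) * z₂ * (a * b * (a * b))⁻¹ = z₂ := by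
    rw [hcomp, hc2, hcm, hz1c, hc2, ← mul_assoc, s1, one_mul]
  have hd3 : a * b * (a * b) * z₃ * (a * b * (a * b))⁻¹ = z₁ * z₃ := by
    rw [hcomp, hc3, hcm, hcm, hz1c, hc2, hc3]
    calc z₁ * (z₁ * z₂) * (z₁ * z₂ * z₃) = z₁ * (z₁ * (z₂ * (z₁ * z₂))) * z₃ := by group
      _ = _ := by rw [s12, mul_one]
  set π := QuotientGroup.mk' W with hπ
  have hker : ∀ t : T, π t = 1 ↔ t ∈ W := fun t => QuotientGroup.eq_one_iff t
  have hA : π a * π a = 1 := by rw [← map_mul]; exact (hker _).2 haa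
  have hB : π b * π b = 1 := by rw [← map_mul]; exact (hker _).2 hbb
  have hX2 : π (a * b) ^ (2 ^ 1) ≠ 1 := fun hh => by
    rw [pow_one, pow_two, ← map_mul, hker] at hh
    have := h.z_comm hz₃ hh
    rw [mul_inv_eq_iff_eq_mul.2 this.symm] at hd3
    exact hz₁' (mul_eq_right.1 hd3.symm)
  have hX4 : π (a * b) ^ (2 ^ 2) = 1 := by
    rw [show (2 : ℕ) ^ 2 = 2 + 2 from rfl, pow_add, pow_two, ← map_mul, ← map_mul, hker]
    refine inW _ (by rw [hcomp, hd2, hd2]) ?_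
    rw [hcomp, hd3, hcm, hz1c, hd3, ← mul_assoc, s1, one_mul]
  haveI : Fact (Nat.Prime 2) := ⟨Nat.prime_two⟩
  have hord : orderOf (π (a * b)) = 4 := orderOf_eq_prime_pow hX2 hX4
  have hinv : π a * π (a * b) * (π a)⁻¹ = (π (a * b))⁻¹ := by
    rw [map_mul, mul_inv_rev, inv_eq_of_mul_eq_one_right hA, inv_eq_of_mul_eq_one_right hB, ← mul_assoc (π a), hA, one_mul]
  have hmem : π a ∉ Subgroup.zpowers (π (a * b)) := by
    rintro ⟨k, hk⟩
    have hk' : π (a * b) ^ k = π a := hk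
    apply hX2
    rw [← hk', (Commute.zpow_self _ k).eq, mul_inv_cancel_right] at hinv
    rw [pow_one, pow_two]
    exact mul_eq_one_iff_eq_inv.2 hinv
  refine ⟨π (a * b), hord, ?_⟩
  obtain ⟨e⟩ := Cfsg.Agent.TwoLift.dihedral_equiv (H := Subgroup.closure {π (a * b), π a}) hord hA hinv hmem rfl
  have htop : Subgroup.closure {π (a * b), π a} = ⊤ := by
    refine Subgroup.eq_top_of_card_eq _ ?_
    rw [Nat.card_congr e.toEquiv, DihedralGroup.nat_card]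
    exact hidx.symm
  exact ⟨(Subgroup.topEquiv.symm.trans (MulEquiv.subgroupCongr htop.symm)).trans e⟩

theorem frat_map : Nat.card F = 8 ∧ F = Subgroup.upperCentralSeries T 3 := by
  obtain ⟨hF8, -, -, -, hF3, -, -⟩ := h.model
  exact ⟨hF8, hF3⟩

end Hyp

end Cfsg.Agent.ZFour
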