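/-
2-groups whose fourth centre has order sixteen: automorphisms of odd order are trivial.
-/
import Cfsg.Agent.Lib.TwoGroups.ZFourStructure

set_option autoImplicit false

namespace Cfsg.Agent.ZFour

open scoped commutatorElement

variable {T : Type*} [Group T] [Finite T] {W F : Subgroup T}

/-- An automorphism of order prime to the group cannot shift an element by a fixed one. -/
theorem eq_one_of_shift (α : T ≃* T) {n : ℕ} (hn : n.Coprime (Nat.card T)) (hα : ∀ x, α^[n] x = x)
    {x c : T} (hc : α c = c) (hx : α x = x * c) : c = 1 := by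
  have hk : ∀ k : ℕ, α^[k] x = x * c ^ k := by
    intro k
    induction k with
    | zero => rw [Function.iterate_zero_apply, pow_zero, mul_one]
    | succ k ih => rw [Function.iterate_succ_apply', ih, map_mul, map_pow, hc, hx, mul_assoc, pow_succ']
  have h1 := hk n
  rw [hα, eq_comm, mul_eq_left] at h1
  exact orderOf_eq_one_iff.1 (Nat.eq_one_of_dvd_coprimes hn (orderOf_dvd_of_pow_eq_one h1) (orderOf_dvd_natCard c))

namespace Hyp

variable (h : Hyp T W F)
include h

theorem auto_trivial (α : T ≃* T) {n : ℕ} (hn : n.Coprime (Nat.card T)) (hα : ∀ x, α^[n] x = x) :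
    ∀ t, α t = t := by
  obtain ⟨hF8, -, -, -, hF3, -, M, hr4⟩ := h.model
  haveI hWn := h.wnormal
  haveI := h.fnormal
  haveI := h.nilpotent
  -- terms of the upper central series are invariant
  have hchar : ∀ i, ∀ x ∈ Subgroup.upperCentralSeries T i, α x ∈ Subgroup.upperCentralSeries T i := by
    intro i
    induction i with
    | zero => intro x hx; rw [Subgroup.upperCentralSeries_zero, Subgroup.mem_bot] at hx ⊢; rw [hx, map_one]
    | succ i ih =>
      intro x hx
      rw [Subgroup.mem_upperCentralSeries_succ_iff] at hx ⊢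
      intro t
      obtain ⟨t, rfl⟩ := α.surjective t
      have := ih _ (hx t)
      simpa [commutatorElement_def] using this
  have hfix : ∀ i ≤ 4, ∀ x ∈ Subgroup.upperCentralSeries T i, α x = x := by
    intro i
    induction i with
    | zero => intro _ x hx; rw [Subgroup.upperCentralSeries_zero, Subgroup.mem_bot] at hx; rw [hx, map_one]
    | succ i ih =>
      intro hi x hx
      have hle : Subgroup.upperCentralSeries T i ≤ Subgroup.upperCentralSeries T (i + 1) :=
        Subgroup.upperCentralSeries_mono T (by omega)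
      have hidx : ((Subgroup.upperCentralSeries T i).subgroupOf (Subgroup.upperCentralSeries T (i + 1))).index = 2 := by
        have h1 := Subgroup.card_mul_index ((Subgroup.upperCentralSeries T i).subgroupOf (Subgroup.upperCentralSeries T (i + 1)))
        rw [Nat.card_congr (Subgroup.subgroupOfEquivOfLe hle).toEquiv, h.card_ucs i (by omega), h.card_ucs (i + 1) hi, pow_succ] at h1
        exact Nat.eq_of_mul_eq_mul_left (by positivity) h1
      by_cases hxi : x ∈ Subgroup.upperCentralSeries T i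
      · exact ih (by omega) x hxi
      have hαx : α x ∉ Subgroup.upperCentralSeries T i := fun hh =>
        hxi (α.injective (ih (by omega) _ hh) ▸ hh)
      have hc : x⁻¹ * α x ∈ Subgroup.upperCentralSeries T i :=
        Subgroup.mem_subgroupOf.1 ((Subgroup.mul_mem_iff_of_index_two hidx (a := ⟨x, hx⟩⁻¹) (b := ⟨α x, hchar _ x hx⟩)).2
          ⟨fun hh => absurd ((Subgroup.inv_mem_iff _).1 (Subgroup.mem_subgroupOf.1 hh)) hxi,
            fun hh => absurd (Subgroup.mem_subgroupOf.1 hh) hαx⟩)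
      have := eq_one_of_shift α hn hα (ih (by omega) _ hc) (mul_inv_cancel_left x (α x)).symm
      exact (inv_mul_eq_one.1 this).symm
  have hfF : ∀ f ∈ F, α f = f := fun f hf => hfix 3 (by omega) f (hF3 ▸ hf)
  have hαW : ∀ w ∈ W, α w ∈ W := by
    intro w hw
    rw [h.cW, Subgroup.mem_centralizer_iff] at hw ⊢
    intro z hz
    conv_lhs => rw [← hfix 3 (by omega) z hz]
    conv_rhs => rw [← hfix 3 (by omega) z hz]
    rw [← map_mul, ← map_mul, hw z hz]
  have htW : ∀ t : T, t⁻¹ * α t ∈ W := by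
    intro t
    rw [h.cW, Subgroup.mem_centralizer_iff]
    intro z hz
    have hn3 : (Subgroup.upperCentralSeries T 3).Normal := inferInstance
    have e := hfix 3 (by omega) _ (hn3.conj_mem z hz t)
    rw [map_mul, map_mul, map_inv, hfix 3 (by omega) z hz] at e
    calc z * (t⁻¹ * α t) = t⁻¹ * (t * z * t⁻¹) * α t := by group
      _ = t⁻¹ * (α t * z * (α t)⁻¹) * α t := by rw [e]
      _ = _ := by group
  have hdW : ∀ w ∈ W, w⁻¹ * α w ∈ W := fun w hw => W.mul_mem (W.inv_mem hw) (hαW w hw)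
  have hswap : ∀ {a b : T}, a ∈ W → b ∈ W → ∃ f ∈ F, a * b = b * a * f := fun {a b} ha hb =>
    ⟨a⁻¹ * b⁻¹ * a * b, by
      have := h.fcomm _ (W.inv_mem ha) _ (W.inv_mem hb)
      rwa [commutatorElement_def, inv_inv, inv_inv] at this, by group⟩
  -- the image of the displacement
  let N : Subgroup T :=
    { carrier := {x | x ∈ W ∧ ∃ w ∈ W, ∃ f ∈ F, x = w⁻¹ * α w * f}
      one_mem' := ⟨W.one_mem, 1, W.one_mem, 1, F.one_mem, by simp⟩
      mul_mem' := by
        rintro _ _ ⟨hx, w, hw, f, hf, rfl⟩ ⟨hy, v, hv, g, hg, rfl⟩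
        obtain ⟨k, hk, he⟩ := hswap (W.inv_mem hv) (hdW w hw)
        refine ⟨W.mul_mem hx hy, w * v, W.mul_mem hw hv, (α v)⁻¹ * k⁻¹ * α v * (f * g),
          F.mul_mem (by simpa using h.fnormal.conj_mem _ (F.inv_mem hk) (α v)⁻¹) (F.mul_mem hf hg), ?_⟩
        rw [map_mul, show (w * v)⁻¹ * (α w * α v) = v⁻¹ * (w⁻¹ * α w) * α v by group, he]
        have hc := h.f_comm hf (hdW v hv)
        calc w⁻¹ * α w * f * (v⁻¹ * α v * g) = w⁻¹ * α w * (f * (v⁻¹ * α v)) * g := by group
          _ = w⁻¹ * α w * (v⁻¹ * α v * f) * g := by rw [hc]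
          _ = _ := by group
      inv_mem' := by
        rintro _ ⟨hx, w, hw, f, hf, rfl⟩
        have hh := hdW w hw
        refine ⟨W.inv_mem hx, w, hw, (w⁻¹ * α w * (w⁻¹ * α w))⁻¹ * f⁻¹,
          F.mul_mem (F.inv_mem (h.fsq _ hh)) (F.inv_mem hf), ?_⟩
        have hc := h.f_comm (F.inv_mem hf) (W.inv_mem hh)
        rw [mul_inv_rev, hc]
        group }
  have hN : N.Normal := ⟨by
    rintro _ ⟨hx, w, hw, f, hf, rfl⟩ t
    refine ⟨hWn.conj_mem _ hx t, t * w * t⁻¹, hWn.conj_mem w hw t, ?_⟩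
    set u := t⁻¹ * α t with hu
    refine ⟨t * ((w⁻¹ * (u * α w * u⁻¹))⁻¹ * (w⁻¹ * α w)) * t⁻¹ * (t * f * t⁻¹), F.mul_mem
      (h.fnormal.conj_mem _ ?_ t) (h.fnormal.conj_mem f hf t), ?_⟩
    · rw [show (w⁻¹ * (u * α w * u⁻¹))⁻¹ * (w⁻¹ * α w) = ⁅u, (α w)⁻¹⁆ by rw [commutatorElement_def]; group]
      exact h.fcomm u (htW t) _ (W.inv_mem (hαW w hw))
    · rw [map_mul, map_mul, map_inv, show α t = t * u by rw [hu]; group]
      group⟩
  have hsmall : ∀ w ∈ W, w⁻¹ * α w ∈ F := by
    by_contra hn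
    push Not at hn
    obtain ⟨w, hw, hwF⟩ := hn
    obtain ⟨x, ⟨hxW, v, hv, f, hf, rfl⟩, hxF, hxfix⟩ := exists_layer F hN
      (fun hle => hwF (hle ⟨hdW w hw, w, hw, 1, F.one_mem, by rw [mul_one]⟩))
    rcases M.fix _ hxW hxfix with hh | hh
    · exact hxF hh
    set g := v⁻¹ * α v * f * M.r with hg
    have hd : v⁻¹ * α v = g * M.r⁻¹ * f⁻¹ := by rw [hg]; group
    have hαd : α (v⁻¹ * α v) = v⁻¹ * α v := by
      rw [hd, map_mul, map_mul, map_inv, map_inv, hfF g hh, hfix 4 le_rfl _ hr4, hfF f hf]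
    have h1 := eq_one_of_shift α hn hα hαd (mul_inv_cancel_left v (α v)).symm
    exact hxF (by rw [h1, one_mul]; exact hf)
  have hW1 : ∀ w ∈ W, α w = w := fun w hw => by
    have h1 := eq_one_of_shift α hn hα (hfF _ (hsmall w hw)) (mul_inv_cancel_left w (α w)).symm
    exact (inv_mul_eq_one.1 h1).symm
  intro t
  have h1 := eq_one_of_shift α hn hα (hW1 _ (htW t)) (mul_inv_cancel_left t (α t)).symm
  exact (inv_mul_eq_one.1 h1).symm

end Hyp

end Cfsg.Agent.ZFour
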