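/-
2-groups whose fourth centre has order sixteen: `W` is the only subgroup of its shape.
-/
import Cfsg.Agent.Lib.TwoGroups.ZFourStructure

set_option autoImplicit false

namespace Cfsg.Agent.ZFour

open scoped commutatorElement

variable {T : Type*} [Group T] [Finite T] {W F : Subgroup T}

/-- The orders of an image and of the intersection with the kernel multiply. -/
theorem card_map_mul (N K : Subgroup T) [N.Normal] :
    Nat.card (K.map (QuotientGroup.mk' N)) * Nat.card (N ⊓ K : Subgroup T) = Nat.card K := by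
  let f := (QuotientGroup.mk' N).comp K.subtype
  have hr : f.range = K.map (QuotientGroup.mk' N) := by
    simp only [f, MonoidHom.range_comp, Subgroup.range_subtype]
  have hk : f.ker = N.subgroupOf K := by
    rw [← MonoidHom.comap_ker, QuotientGroup.ker_mk']
    rfl
  have h1 := Subgroup.card_mul_index f.ker
  rw [Subgroup.index_ker, hr, hk] at h1
  rw [← Subgroup.subgroupOf_map_subtype, Subgroup.card_map_of_injective K.subtype_injective, mul_comm]
  exact h1

namespace Hyp

variable (h : Hyp T W F)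
include h

/-- The fixed elements inject into the functions on the cosets of the acting group. -/
theorem card_fix_le [W.Normal] [F.Normal] (S : Set T) (H : Subgroup (T ⧸ W))
    (hH : H ≤ Subgroup.closure (QuotientGroup.mk' W '' S)) :
    Nat.card ((fixMod h S).map (QuotientGroup.mk' F)) ≤ 2 ^ H.index := by
  obtain ⟨-, -, -, -, -, -, M, -⟩ := h.model
  have hWn := h.wnormal
  have hval : ∀ t : T, ∀ x ∈ W, M.χ (t * x * t⁻¹) =
      M.χ ((QuotientGroup.mk t : T ⧸ W).out * x * (QuotientGroup.mk t : T ⧸ W).out⁻¹) := by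
    intro t x hx
    obtain ⟨v, hv, hvt⟩ : ∃ v ∈ W, t = (QuotientGroup.mk t : T ⧸ W).out * v := by
      refine ⟨(QuotientGroup.mk t : T ⧸ W).out⁻¹ * t, ?_, by group⟩
      rw [← QuotientGroup.eq, QuotientGroup.out_eq']
    conv_lhs => rw [hvt, M.chi_coset _ v hv _ hx]
  let u : T → T ⧸ W → ZMod 2 := fun x q => M.χ (q.out * x * q.out⁻¹)
  have hinv : ∀ x ∈ fixMod h S, ∀ m ∈ H, ∀ q, u x (q * m) = u x q := by
    intro x hx m hm
    have hm' := hH hm
    clear hm
    induction hm' using Subgroup.closure_induction with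
    | mem m hm =>
      obtain ⟨s, hs, rfl⟩ := hm
      intro q
      have he : q * QuotientGroup.mk' W s = (QuotientGroup.mk (q.out * s) : T ⧸ W) := by
        rw [QuotientGroup.mk_mul, QuotientGroup.out_eq']; rfl
      have hf := h.fnormal.conj_mem _ (F.inv_mem (hx.2 s hs)) q.out
      rw [he]
      simp only [u]
      rw [← hval _ _ hx.1,
        show q.out * s * x * (q.out * s)⁻¹ = q.out * ⁅x, s⁆⁻¹ * q.out⁻¹ * (q.out * x * q.out⁻¹) by
          simp only [commutatorElement_def]; group,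
        M.chi_add _ (h.fle hf) _ (hWn.conj_mem x hx.1 q.out), M.chi_F _ hf, zero_add]
    | one => intro q; rw [mul_one]
    | mul a b _ _ ia ib => intro q; rw [← mul_assoc, ib, ia]
    | inv a _ ia => intro q; rw [← ia (q * a⁻¹), inv_mul_cancel_right]
  let Ψ : (fixMod h S).map (QuotientGroup.mk' F) → ((T ⧸ W) ⧸ H → ZMod 2) := fun y c => u y.2.choose c.out
  have hΨ : Function.Injective Ψ := by
    intro y y' he
    obtain ⟨hx, hxy⟩ := y.2.choose_spec
    obtain ⟨hx', hxy'⟩ := y'.2.choose_spec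
    apply Subtype.ext
    rw [← hxy, ← hxy']
    refine QuotientGroup.eq.2 (M.inj _ (W.mul_mem (W.inv_mem hx.1) hx'.1) fun t => ?_)
    set q : T ⧸ W := QuotientGroup.mk t with hq
    set c : (T ⧸ W) ⧸ H := QuotientGroup.mk q with hc
    have hm : c.out⁻¹ * q ∈ H := by rw [← QuotientGroup.eq, hc, QuotientGroup.out_eq']
    have e : u y.2.choose c.out = u y'.2.choose c.out := congrFun he c
    rw [← hinv _ hx _ hm, ← hinv _ hx' _ hm, mul_inv_cancel_left] at e
    simp only [u, hq] at e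
    rw [← hval _ _ hx.1, ← hval _ _ hx'.1] at e
    have hs := M.chi_add _ (hWn.conj_mem _ hx.1 t) _ (hWn.conj_mem _ (W.mul_mem (W.inv_mem hx.1) hx'.1) t)
    rw [show t * y.2.choose * t⁻¹ * (t * (y.2.choose⁻¹ * y'.2.choose) * t⁻¹) = t * y'.2.choose * t⁻¹ by group,
      ← e] at hs
    exact left_eq_add.1 hs
  refine (Nat.card_le_card_of_injective Ψ hΨ).trans_eq ?_
  rw [Nat.card_fun, Nat.card_zmod]
  rfl

/-- The only subgroup isomorphic to `W` is `W`. -/
theorem weak (φ : W →* T) (hφ : Function.Injective φ) : φ.range = W := by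
  obtain ⟨hF8, hidx, -, hW11, hF3, -, M, -⟩ := h.model
  haveI := h.wnormal
  haveI := h.fnormal
  haveI : Fact (Nat.Prime 2) := ⟨Nat.prime_two⟩
  set W₂ := φ.range with hW₂
  set F₂ := (F.subgroupOf W).map φ with hF₂
  have hc2 : Nat.card W₂ = 2 ^ 11 := by rw [hW₂, ← Nat.card_congr (MonoidHom.ofInjective hφ).toEquiv, hW11]
  have hcF2 : Nat.card F₂ = 8 := by
    rw [hF₂, Subgroup.card_map_of_injective hφ, Nat.card_congr (Subgroup.subgroupOfEquivOfLe h.fle).toEquiv, hF8]
  have hFW2 : F₂ ≤ W₂ := Subgroup.map_le_range _ _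
  have cent2 : ∀ f ∈ F₂, ∀ w ∈ W₂, f * w = w * f := by
    rintro _ ⟨f, hf, rfl⟩ _ ⟨w, rfl⟩
    rw [← map_mul, ← map_mul, (Subtype.ext (h.f_comm (Subgroup.mem_subgroupOf.1 hf) w.2) : f * w = w * f)]
  have comm2 : ∀ x ∈ W₂, ∀ y ∈ W₂, ⁅x, y⁆ ∈ F₂ := by
    rintro _ ⟨x, rfl⟩ _ ⟨y, rfl⟩
    exact ⟨⁅x, y⁆, Subgroup.mem_subgroupOf.2 (h.fcomm _ x.2 _ y.2), map_commutatorElement φ x y⟩
  have fr2 : ∀ U : Subgroup T, U.relIndex W₂ ≤ 16 → F₂ ≤ U := by
    intro U hU
    rw [hW₂, ← Subgroup.index_comap] at hU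
    have h1 : F ≤ (U.comap φ).map W.subtype := h.frat _ (Subgroup.map_subtype_le _) (by
      rwa [Subgroup.relIndex, Subgroup.subgroupOf, Subgroup.comap_map_eq_self_of_injective W.subtype_injective])
    rintro _ ⟨f, hf, rfl⟩
    obtain ⟨g, hg, hgf⟩ := h1 (Subgroup.mem_subgroupOf.1 hf)
    exact (Subtype.ext hgf : g = f) ▸ hg
  by_contra hne
  set π := QuotientGroup.mk' W with hπ
  set ρ := QuotientGroup.mk' F with hρ
  set D := W ⊓ W₂ with hD
  set d := Nat.card (W₂.map π) with hd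
  have hD2 : d * Nat.card D = 2 ^ 11 := (card_map_mul W W₂).trans hc2
  have hQ : Nat.card (T ⧸ W) = 8 := hidx
  have hd8 : d ∣ 8 := hQ ▸ Subgroup.card_subgroup_dvd_card _
  have hd1 : d ≠ 1 := fun e => by
    rw [e, one_mul] at hD2
    have h1 : D = W₂ := Subgroup.eq_of_le_of_card_ge inf_le_right (by rw [hc2, hD2])
    have h2 : D = W := Subgroup.eq_of_le_of_card_ge inf_le_left (by rw [hW11, hD2])
    exact hne (h1.symm.trans h2)
  have hrel : ∀ U : Subgroup T, D ≤ U → Nat.card U = 2 ^ 11 → D.relIndex U = d := by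
    intro U hU hcU
    have h1 := Subgroup.relIndex_mul_relIndex ⊥ D U bot_le hU
    rw [Subgroup.relIndex_bot_left, Subgroup.relIndex_bot_left, hcU, ← hD2, mul_comm d] at h1
    exact Nat.eq_of_mul_eq_mul_left Nat.card_pos h1
  have hd16 : d ≤ 16 := (Nat.le_of_dvd (by norm_num) hd8).trans (by norm_num)
  have hFD : F ≤ D := h.frat D inf_le_left ((hrel W inf_le_left hW11).trans_le hd16)
  have hF2D : F₂ ≤ D := fr2 D ((hrel W₂ inf_le_right hc2).trans_le hd16)
  obtain ⟨t, ht, htW⟩ : ∃ t ∈ W₂, t ∉ W := by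
    by_contra hn
    push Not at hn
    exact hne (Subgroup.eq_of_le_of_card_ge hn (by rw [hW11, hc2]))
  have hn2 : Nat.card (F₂.map ρ) ≤ 4 := by
    obtain ⟨f, hf, hft⟩ : ∃ f ∈ F, ⁅t, f⁆ ≠ 1 := by
      by_contra hn
      push Not at hn
      apply htW
      rw [h.cW, Subgroup.mem_centralizer_iff]
      exact fun z hz => (commutatorElement_eq_one_iff_mul_comm.1 (hn z (hF3 ▸ hz))).symm
    have hmem : ⁅t, f⁆ ∈ F ⊓ F₂ := by
      refine ⟨?_, comm2 t ht f (hFD hf).2⟩
      rw [commutatorElement_def]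
      exact F.mul_mem (h.fnormal.conj_mem f hf t) (F.inv_mem hf)
    have h1 := card_map_mul F F₂
    rw [hcF2] at h1
    change Nat.card (F₂.map ρ) * _ = _ at h1
    have h2 : 2 ≤ Nat.card (F ⊓ F₂ : Subgroup T) := by
      haveI : Nontrivial (F ⊓ F₂ : Subgroup T) := ⟨⟨⟨_, hmem⟩, 1, fun e => hft (congrArg Subtype.val e)⟩⟩
      exact Finite.one_lt_card
    have := Nat.mul_le_mul_left (Nat.card (F₂.map ρ)) h2
    omega
  -- the bound on the intersection
  have hbound : ∀ s ∈ W₂, Nat.card D ≤ 8 * 2 ^ (Subgroup.zpowers (π s)).index * Nat.card (F₂.map ρ) := by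
    intro s hs
    let f : D →* T ⧸ F := MonoidHom.mk' (fun v => ρ ⁅(v : T), s⁆) fun v w => by
      have e1 := cent2 _ (comm2 w w.2.2 s hs) v v.2.2
      have e2 := cent2 _ (comm2 w w.2.2 s hs) _ (hFW2 (comm2 v v.2.2 s hs))
      rw [← map_mul, Subgroup.coe_mul,
        show ⁅(v : T) * w, s⁆ = (v : T) * ⁅(w : T), s⁆ * (v : T)⁻¹ * ⁅(v : T), s⁆ by simp only [commutatorElement_def]; group,
        ← e1, mul_inv_cancel_right, e2]
    have hr : Nat.card f.range ≤ Nat.card (F₂.map ρ) := Subgroup.card_le_of_le (by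
      rintro _ ⟨v, rfl⟩
      exact ⟨_, comm2 v v.2.2 s hs, rfl⟩)
    have hk : Nat.card f.ker ≤ Nat.card (fixMod h {s}) := by
      refine (Subgroup.card_map_of_injective D.subtype_injective).symm.trans_le (Subgroup.card_le_of_le ?_)
      rintro _ ⟨v, hv, rfl⟩
      exact ⟨v.2.1, fun s' hs' => by rw [Set.mem_singleton_iff.1 hs']; exact (QuotientGroup.eq_one_iff _).1 hv⟩
    have hfix : Nat.card (fixMod h {s}) ≤ 8 * 2 ^ (Subgroup.zpowers (π s)).index := by
      rw [← card_map_mul F (fixMod h {s}), mul_comm]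
      refine Nat.mul_le_mul ((Subgroup.card_le_of_le inf_le_left).trans hF8.le) (h.card_fix_le {s} _ ?_)
      rw [Subgroup.zpowers_eq_closure, Set.image_singleton]
    have h1 := Subgroup.card_mul_index f.ker
    rw [Subgroup.index_ker] at h1
    rw [← h1]
    exact Nat.mul_le_mul (hk.trans hfix) hr
  have hzidx : ∀ x : T ⧸ W, (Subgroup.zpowers x).index * orderOf x = 8 := fun x => by
    rw [← Nat.card_zpowers, mul_comm, Subgroup.card_mul_index, hQ]
  have hi4 : (Subgroup.zpowers (π t)).index ≤ 4 := by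
    have h1 := hzidx (π t)
    have h2 : 2 ≤ orderOf (π t) := by
      by_contra hn
      have hp := orderOf_pos (π t)
      have h1' : orderOf (π t) = 1 := by omega
      exact htW ((QuotientGroup.eq_one_iff t).1 (orderOf_eq_one_iff.1 h1'))
    have := Nat.mul_le_mul_left (Subgroup.zpowers (π t)).index h2
    omega
  have hb := hbound t ht
  have hp4 : (2 : ℕ) ^ (Subgroup.zpowers (π t)).index ≤ 16 := (Nat.pow_le_pow_right (by norm_num) hi4).trans (by norm_num)
  have hb' : Nat.card D ≤ 8 * 16 * Nat.card (F₂.map ρ) :=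
    hb.trans (Nat.mul_le_mul_right _ (Nat.mul_le_mul_left _ hp4))
  obtain ⟨k, hk, hdk⟩ := (Nat.dvd_prime_pow Nat.prime_two).1 (show d ∣ 2 ^ 3 from hd8)
  interval_cases k
  · exact hd1 hdk
  · rw [hdk] at hD2; omega
  · -- index four
    rw [hdk] at hD2
    have hn4 : Nat.card (F₂.map ρ) = 4 := by omega
    have hle : Nat.card ((fixMod h (W₂ : Set T)).map ρ) ≤ 4 := by
      refine (h.card_fix_le (W₂ : Set T) (W₂.map π) ?_).trans ?_
      · rw [← Subgroup.coe_map, Subgroup.closure_eq]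
      · have := Subgroup.card_mul_index (W₂.map π)
        rw [hQ, ← hd, hdk] at this
        rw [show (W₂.map π).index = 2 by omega]
        norm_num
    have hsub : F₂ ≤ fixMod h (W₂ : Set T) := fun f hf => ⟨(hF2D hf).1, fun s hs => by
      rw [commutatorElement_eq_one_iff_mul_comm.2 (cent2 f hf s hs)]; exact F.one_mem⟩
    have hr : M.r ∈ fixMod h (W₂ : Set T) := ⟨M.rW, fun s _ => M.rfix s⟩
    obtain ⟨y, hy, hyr⟩ := (Subgroup.eq_of_le_of_card_ge (Subgroup.map_mono hsub (f := ρ)) (by omega)).ge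
      (Subgroup.mem_map_of_mem ρ hr)
    have hf : y⁻¹ * M.r ∈ F := QuotientGroup.eq.1 hyr
    have hcD : ∀ v ∈ D, ⁅M.r, v⁆ = 1 := by
      intro v hv
      rw [commutatorElement_eq_one_iff_mul_comm, show M.r = y * (y⁻¹ * M.r) by group, mul_assoc,
        h.f_comm hf hv.1, ← mul_assoc, cent2 y hy v hv.2, mul_assoc]
    let g : W →* T := MonoidHom.mk' (fun w => ⁅M.r, (w : T)⁆) fun w v => h.comm_mul M.rW w.2 v.2
    have hgr : g.range = F := by
      refine le_antisymm ?_ fun f hf => ?_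
      · rintro _ ⟨w, rfl⟩
        exact h.fcomm _ M.rW _ w.2
      · obtain ⟨w, hw, hwf⟩ := h.onto M f hf
        exact ⟨⟨w, hw⟩, hwf⟩
    have h1 := Subgroup.card_mul_index g.ker
    rw [Subgroup.index_ker, hgr, hF8, hW11] at h1
    have h2 : Nat.card D ≤ Nat.card g.ker := by
      rw [← Subgroup.card_map_of_injective W.subtype_injective (K := g.ker)]
      exact Subgroup.card_le_of_le fun v hv => ⟨⟨v, hv.1⟩, hcD v hv, rfl⟩
    omega
  · -- index eight
    rw [hdk] at hD2
    obtain ⟨x, hx, -⟩ := h.exists_dihedral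
    have htop : W₂.map π = ⊤ := Subgroup.eq_top_of_card_eq _ (by rw [← hd, hdk, hQ]; norm_num)
    obtain ⟨s, hs, hsx⟩ := htop.ge (Subgroup.mem_top x)
    have hi := hzidx (π s)
    rw [hsx, hx] at hi
    have := hbound s hs
    rw [hsx, show (Subgroup.zpowers x).index = 2 by omega] at this
    omega

end Hyp

end Cfsg.Agent.ZFour
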